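import Groth.Agent.Lib.Helper93.Reflexive5
import Groth.Prelude.Def_CAlg

set_option autoImplicit false
set_option linter.unusedSectionVars false
open scoped TensorProduct nonZeroDivisors Pointwise
namespace Groth.Agent.Lib.Helper93.ReflexiveDepth
universe u

open Groth.Agent.Lib.Helper93.Reflexive

/-! ### An elementary extension lemma (no duals) -/

section core
variable {A : Type*} [CommRing A] (I : Ideal A) {G H : Type*} [AddCommGroup G] [Module A G]
  [AddCommGroup H] [Module A H] (j : G →ₗ[A] H)

/-- One step: if `I • c ⊆ j(G)` with `x, y ∈ I` a regular pair on `G`, and `z ∈ I` regular on `H`,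
then `c ∈ j(G)`. -/
theorem mem_range_of_smul_mem (hj : Function.Injective j) (x y z : A) (hx : x ∈ I) (hy : y ∈ I)
    (hz : z ∈ I) (hxG : IsSMulRegular G x)
    (hyG : ∀ g g' : G, y • g = x • g' → ∃ g'' : G, g = x • g'')
    (hzH : IsSMulRegular H z) (c : H) (hc : ∀ a ∈ I, a • c ∈ LinearMap.range j) :
    c ∈ LinearMap.range j := by
  obtain ⟨g₁, hg₁⟩ := hc x hx
  obtain ⟨g₂, hg₂⟩ := hc y hy
  obtain ⟨g₃, hg₃⟩ := hc z hz
  have h1 : y • g₁ = x • g₂ := by
    apply hj
    rw [map_smul, map_smul, hg₁, hg₂, smul_smul, smul_smul, mul_comm]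
  obtain ⟨g', hg'⟩ := hyG g₁ g₂ h1
  -- `x • (c - j g') = 0`
  have h2 : x • (c - j g') = 0 := by
    rw [smul_sub, ← hg₁, hg', map_smul, sub_self]
  -- `z • (c - j g') = j (g₃ - z • g')`
  have h3 : z • (c - j g') = j (g₃ - z • g') := by
    rw [smul_sub, map_sub, map_smul, hg₃]
  have h4 : g₃ - z • g' = 0 := by
    apply hxG
    apply hj
    simp only [smul_zero, map_zero]
    rw [map_smul, ← h3, smul_smul, mul_comm, ← smul_smul, h2, smul_zero]
  have h5 : c - j g' = 0 := by
    apply hzH
    simp only [smul_zero]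
    rw [h3, h4, map_zero]
  exact ⟨g', (sub_eq_zero.mp h5).symm⟩

/-- If `I ^ n • c ⊆ j(G)` with `x, y ∈ I` a regular pair on `G`, and `z ∈ I` regular on `H`,
then `c ∈ j(G)`. -/
theorem mem_range_of_pow_smul_mem (hj : Function.Injective j) (x y z : A) (hx : x ∈ I) (hy : y ∈ I)
    (hz : z ∈ I) (hxG : IsSMulRegular G x)
    (hyG : ∀ g g' : G, y • g = x • g' → ∃ g'' : G, g = x • g'')
    (hzH : IsSMulRegular H z) (n : ℕ) (c : H) (hc : ∀ a ∈ I ^ n, a • c ∈ LinearMap.range j) :
    c ∈ LinearMap.range j := by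
  induction n generalizing c with
  | zero =>
    have := hc 1 (by simp)
    simpa using this
  | succ n ih =>
    apply ih
    intro a ha
    apply mem_range_of_smul_mem I j hj x y z hx hy hz hxG hyG hzH
    intro b hb
    rw [smul_smul]
    apply hc
    rw [pow_succ']
    exact Ideal.mul_mem_mul hb ha

end core

/-! ### Regular sequences from `idealDepth` -/

open RingTheory.Sequence in
theorem exists_regular_of_le_idealDepth {R : Type u} [CommRing R] (I : Ideal R) (N : Type u)
    [AddCommGroup N] [Module R N] (k : ℕ) (hk : (k : ℕ∞) ≤ LocCoh.idealDepth I N)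
    (hN : I • (⊤ : Submodule R N) ≠ ⊤) :
    ∃ rs : List R, IsWeaklyRegular N rs ∧ (∀ r ∈ rs, r ∈ I) ∧ k ≤ rs.length := by
  unfold LocCoh.idealDepth at hk
  rw [if_neg hN] at hk
  by_contra hcon
  push Not at hcon
  rcases Nat.eq_zero_or_pos k with rfl | hkpos
  · exact absurd (Nat.zero_le _) (not_le.mpr (hcon [] (IsWeaklyRegular.nil R N) (by simp)))
  have hle : (⨆ (rs : List R) (_ : IsWeaklyRegular N rs ∧ ∀ r ∈ rs, r ∈ I),
      (rs.length : ℕ∞)) ≤ ((k - 1 : ℕ) : ℕ∞) := by
    refine iSup₂_le fun rs hrs => ?_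
    have := hcon rs hrs.1 hrs.2
    exact_mod_cast Nat.le_sub_one_of_lt this
  have : (k : ℕ∞) ≤ ((k - 1 : ℕ) : ℕ∞) := hk.trans hle
  have h2 : k ≤ k - 1 := by exact_mod_cast this
  omega

open RingTheory.Sequence in
/-- A regular element in `I` from `1 ≤ depth`. -/
theorem exists_regular_one {R : Type u} [CommRing R] (I : Ideal R) (N : Type u)
    [AddCommGroup N] [Module R N] (hk : 1 ≤ LocCoh.idealDepth I N)
    (hN : I • (⊤ : Submodule R N) ≠ ⊤) :
    ∃ x ∈ I, IsSMulRegular N x := by
  obtain ⟨rs, hrs, hI, hlen⟩ := exists_regular_of_le_idealDepth I N 1 (by exact_mod_cast hk) hN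
  match rs, hrs, hI, hlen with
  | x :: rs', hrs, hI, _ =>
    rw [isWeaklyRegular_cons_iff] at hrs
    exact ⟨x, hI x (by simp), hrs.1⟩

open RingTheory.Sequence in
/-- A regular pair in `I` from `2 ≤ depth`, in elementary form. -/
theorem exists_regular_two {R : Type u} [CommRing R] (I : Ideal R) (N : Type u)
    [AddCommGroup N] [Module R N] (hk : 2 ≤ LocCoh.idealDepth I N)
    (hN : I • (⊤ : Submodule R N) ≠ ⊤) :
    ∃ x ∈ I, ∃ y ∈ I, IsSMulRegular N x ∧
      ∀ g g' : N, y • g = x • g' → ∃ g'' : N, g = x • g'' := by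
  obtain ⟨rs, hrs, hI, hlen⟩ := exists_regular_of_le_idealDepth I N 2 (by exact_mod_cast hk) hN
  match rs, hrs, hI, hlen with
  | x :: y :: rs', hrs, hI, _ =>
    rw [isWeaklyRegular_cons_iff] at hrs
    obtain ⟨hx, hrs'⟩ := hrs
    rw [isWeaklyRegular_cons_iff] at hrs'
    obtain ⟨hy, -⟩ := hrs'
    refine ⟨x, hI x (by simp), y, hI y (by simp), hx, ?_⟩
    intro g g' hgg'
    have h1 : y • (Submodule.Quotient.mk g : QuotSMulTop x N) = 0 := by
      rw [← Submodule.Quotient.mk_smul, hgg', Submodule.Quotient.mk_eq_zero]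
      exact Submodule.smul_mem_pointwise_smul g' x ⊤ Submodule.mem_top
    have h2 : (Submodule.Quotient.mk g : QuotSMulTop x N) = 0 := by
      apply hy
      simpa using h1
    rw [Submodule.Quotient.mk_eq_zero] at h2
    obtain ⟨g'', -, hg''⟩ := (Submodule.mem_smul_pointwise_iff_exists _ _ _).mp h2
    exact ⟨g'', hg''.symm⟩

/-! ### Localizing the evaluation map (no domain / Noetherian hypotheses) -/

section translate
variable {A : Type u} [CommRing A] (G : Type u) [AddCommGroup G] [Module A G]
  [Module.FinitePresentation A G] [Module.FinitePresentation A (Module.Dual A G)]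
  (S : Submonoid A)

theorem D₁_apply' (l : Module.Dual A G) (m : G) :
    D₁ G S l (LocalizedModule.mkLinearMap S G m) = algebraMap A (Localization S) (l m) := by
  rw [IsLocalizedModule.mapExtendScalars_apply_apply, IsLocalizedModule.map_apply]
  rfl

theorem D₂_apply' (ξ : Module.Dual A (Module.Dual A G)) (l : Module.Dual A G) :
    D₂ G S ξ (D₁ G S l) = algebraMap A (Localization S) (ξ l) := by
  rw [IsLocalizedModule.mapExtendScalars_apply_apply, IsLocalizedModule.map_apply]
  rfl

theorem map_eval_eq' :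
    IsLocalizedModule.map S (LocalizedModule.mkLinearMap S G) (D₂ G S) (Module.Dual.eval A G) =
      (Module.Dual.eval (Localization S) (LocalizedModule S G)).restrictScalars A := by
  apply IsLocalizedModule.ext S (LocalizedModule.mkLinearMap S G)
    (IsLocalizedModule.map_units (D₂ G S))
  refine LinearMap.ext fun m => ?_
  rw [LinearMap.comp_apply, LinearMap.comp_apply, IsLocalizedModule.map_apply,
    LinearMap.restrictScalars_apply]
  refine LinearMap.ext fun ψ => ?_
  obtain ⟨⟨l, s⟩, hls⟩ := IsLocalizedModule.surj S (D₁ G S) ψ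
  have hs : IsUnit (algebraMap A (Localization S) s) := IsLocalization.map_units _ s
  apply hs.mul_left_cancel
  have h1 : algebraMap A (Localization S) s * (D₂ G S (Module.Dual.eval A G m)) ψ =
      (D₂ G S (Module.Dual.eval A G m)) (s • ψ) := by
    rw [Submonoid.smul_def, ← algebraMap_smul (Localization S) (s : A) ψ, map_smul, smul_eq_mul]
  have h2 : algebraMap A (Localization S) s *
      (Module.Dual.eval (Localization S) (LocalizedModule S G)
        (LocalizedModule.mkLinearMap S G m)) ψ =
      (s • ψ) (LocalizedModule.mkLinearMap S G m) := by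
    rw [Module.Dual.eval_apply, Submonoid.smul_def, ← algebraMap_smul (Localization S) (s : A) ψ,
      LinearMap.smul_apply, smul_eq_mul]
  rw [h1, h2, hls, D₂_apply', D₁_apply', Module.Dual.eval_apply]

theorem eval_mk_eq (g : G) :
    Module.Dual.eval (Localization S) (LocalizedModule S G) (LocalizedModule.mkLinearMap S G g) =
      D₂ G S (Module.Dual.eval A G g) := by
  have h := LinearMap.congr_fun (map_eval_eq' G S) (LocalizedModule.mkLinearMap S G g)
  rw [IsLocalizedModule.map_apply, LinearMap.restrictScalars_apply] at h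
  exact h.symm

theorem exists_smul_eq_zero_of_eval_eq_zero
    [Module.IsReflexive (Localization S) (LocalizedModule S G)] (k : G)
    (hk : Module.Dual.eval A G k = 0) : ∃ t ∈ S, t • k = 0 := by
  have h1 : Module.Dual.eval (Localization S) (LocalizedModule S G)
      (LocalizedModule.mkLinearMap S G k) = 0 := by
    rw [eval_mk_eq, hk, map_zero]
  have h2 : LocalizedModule.mkLinearMap S G k = 0 := by
    apply (Module.bijective_dual_eval (Localization S) (LocalizedModule S G)).injective
    rw [h1, map_zero]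
  obtain ⟨t, ht⟩ := (IsLocalizedModule.eq_zero_iff S (LocalizedModule.mkLinearMap S G)).mp h2
  exact ⟨t, t.2, ht⟩

theorem exists_smul_mem_range_eval
    [Module.IsReflexive (Localization S) (LocalizedModule S G)]
    (c : Module.Dual A (Module.Dual A G)) :
    ∃ t ∈ S, t • c ∈ LinearMap.range (Module.Dual.eval A G) := by
  obtain ⟨ξ, hξ⟩ := (Module.bijective_dual_eval (Localization S) (LocalizedModule S G)).surjective
    (D₂ G S c)
  obtain ⟨⟨g, s⟩, hgs⟩ := IsLocalizedModule.surj S (LocalizedModule.mkLinearMap S G) ξ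
  have h1 : D₂ G S ((s : A) • c) = D₂ G S (Module.Dual.eval A G g) := by
    rw [← eval_mk_eq, ← hgs, map_smul, Submonoid.smul_def,
      ← algebraMap_smul (Localization S) (s : A) ξ, map_smul, hξ, algebraMap_smul]
  obtain ⟨t, ht⟩ := (IsLocalizedModule.eq_iff_exists S (D₂ G S)).mp h1
  refine ⟨t * s, S.mul_mem t.2 s.2, ⟨(t : A) • g, ?_⟩⟩
  rw [map_smul, ← smul_smul]
  exact ht.symm

end translate

end Groth.Agent.Lib.Helper93.ReflexiveDepth
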