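import Mathlib
import Groth.Prelude.Def_FlatCA
import Groth.Prelude.Def_EGA4b
import Groth.Prelude.Def_CAlg
import Groth.Agent.Lib.Helper62.FlatAdic
import Groth.Agent.Lib.Helper2.LocalCriterion
import Groth.Agent.Lib.Helper93.ReflexiveDepth

/-!
# Flatness from flatness off `V(J)` and `depth_J (M / m M) ≥ 1`

For a local homomorphism `A → B` of Noetherian local rings, an ideal `J` of `B` and a finite
`B`-module `M` that is `A`-flat at all primes not containing `J`: if some `x ∈ J` is a nonzerodivisor
on the closed fibre `M / m M`, then `M` is flat over `A`.  The proof: every element of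
`ker (M ⊗ 𝔞 → M)` is `J`-power torsion, and reducing modulo `m` with a minimal generating system of
`𝔞` shows that it comes from `M ⊗ m𝔞`; iterating and using Krull's intersection theorem gives
`ker (M ⊗ m → M) = 0`, and the local criterion of flatness (Helper2) concludes.
-/

set_option autoImplicit false
set_option linter.unusedSectionVars false
set_option linter.style.haveILetI false
universe u
open TensorProduct

namespace Groth.Agent.Lib.Helper93.QGorFlat

variable {A B : Type u} [CommRing A] [CommRing B] [Algebra A B]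
  (M : Type u) [AddCommGroup M] [Module B M] [Module A M] [IsScalarTower A B M]

/-- an ideal meeting the complement of every prime not containing `J` contains a power of `J`. -/
theorem exists_pow_le_of_forall_prime [IsNoetherianRing B] (J K : Ideal B)
    (h : ∀ p : PrimeSpectrum B, ¬ J ≤ p.asIdeal → ∃ t ∈ K, t ∉ p.asIdeal) : ∃ n : ℕ, J ^ n ≤ K := by
  apply Ideal.exists_pow_le_of_le_radical_of_fg _ (IsNoetherian.noetherian J)
  rw [Ideal.radical_eq_sInf]
  refine le_sInf fun p hp => ?_
  by_contra hIp
  have := hp.2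
  obtain ⟨t, htJ, htp⟩ := h ⟨p, hp.2⟩ hIp
  exact htp (hp.1 htJ)

/-- Elements of `ker (M ⊗ N' → M ⊗ N)` (for `N' → N` injective) are killed locally where `M` is
flat over `A`. -/
theorem exists_smul_eq_zero_of_flatAt {N' N : Type u} [AddCommGroup N'] [Module A N']
    [AddCommGroup N] [Module A N] (i : N' →ₗ[A] N) (hi : Function.Injective i)
    (q : Ideal B) [q.IsPrime] (hq : Module.Flat A (LocalizedModule q.primeCompl M))
    (t : M ⊗[A] N') (ht : AlgebraTensorModule.lTensor B M i t = 0) :
    ∃ s ∈ q.primeCompl, s • t = 0 := by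
  set g := LocalizedModule.mkLinearMap q.primeCompl M
  have h1 : AlgebraTensorModule.lTensor B (LocalizedModule q.primeCompl M) i
      (AlgebraTensorModule.rTensor A N' g t) = 0 := by
    have h2 : ∀ t : M ⊗[A] N', AlgebraTensorModule.lTensor B (LocalizedModule q.primeCompl M) i
        (AlgebraTensorModule.rTensor A N' g t) =
        AlgebraTensorModule.rTensor A N g (AlgebraTensorModule.lTensor B M i t) := by
      intro t
      induction t with
      | zero => simp
      | add x y hx hy => simp only [map_add, hx, hy]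
      | tmul m n => simp
    rw [h2, ht, map_zero]
  have hinj : Function.Injective
      (AlgebraTensorModule.lTensor B (LocalizedModule q.primeCompl M) i) := by
    have := Module.Flat.lTensor_preserves_injective_linearMap
      (M := LocalizedModule q.primeCompl M) i hi
    exact this
  have h3 : AlgebraTensorModule.rTensor A N' g t = 0 := hinj (by rw [h1, map_zero])
  obtain ⟨s, hs⟩ := (IsLocalizedModule.eq_zero_iff q.primeCompl
    (AlgebraTensorModule.rTensor A N' g)).mp h3
  exact ⟨s, s.2, hs⟩

/-- Elements of `ker (M ⊗ N' → M ⊗ N)` are `J`-power torsion when `M` is flat off `V(J)`. -/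
theorem exists_pow_smul_eq_zero [IsNoetherianRing B] (J : Ideal B)
    (hU : ∀ q : PrimeSpectrum B, ¬ J ≤ q.asIdeal → FlatCA.FlatAt A q.asIdeal M)
    {N' N : Type u} [AddCommGroup N'] [Module A N']
    [AddCommGroup N] [Module A N] (i : N' →ₗ[A] N) (hi : Function.Injective i)
    (t : M ⊗[A] N') (ht : AlgebraTensorModule.lTensor B M i t = 0) :
    ∃ n : ℕ, ∀ b ∈ J ^ n, b • t = 0 := by
  obtain ⟨n, hn⟩ := exists_pow_le_of_forall_prime J
    (LinearMap.ker (LinearMap.toSpanSingleton B (M ⊗[A] N') t)) (by
      intro q hq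
      obtain ⟨s, hs, hst⟩ := exists_smul_eq_zero_of_flatAt M i hi q.asIdeal (hU q hq) t ht
      exact ⟨s, by simpa using hst, hs⟩)
  exact ⟨n, fun b hb => by simpa using hn hb⟩

section claimS
variable [IsLocalRing A] [IsNoetherianRing A] [IsNoetherianRing B]

open IsLocalRing

/-- membership in `m • ⊤` (over `A`) versus `mB • ⊤` (over `B`). -/
theorem mem_smul_top_iff (y : M) :
    y ∈ (maximalIdeal A • (⊤ : Submodule A M)) ↔
      y ∈ ((maximalIdeal A).map (algebraMap A B) • (⊤ : Submodule B M)) := by
  have h := Ideal.smul_restrictScalars (maximalIdeal A) (⊤ : Submodule B M)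
  rw [Submodule.restrictScalars_top] at h
  rw [← h]
  rfl

/-- if `y ⊗ 1 = 0` in `M ⊗ A/m` then `y ∈ m M`. -/
theorem mem_smul_top_of_tmul_one_eq_zero (y : M)
    (hy : y ⊗ₜ[A] (1 : A ⧸ maximalIdeal A) = 0) :
    y ∈ (maximalIdeal A • (⊤ : Submodule A M)) := by
  have h := congrArg (tensorQuotEquivQuotSMul M (maximalIdeal A)) hy
  rw [map_zero, ← map_one (Ideal.Quotient.mk (maximalIdeal A)), tensorQuotEquivQuotSMul_tmul_mk,
    one_smul] at h
  exact (Submodule.Quotient.mk_eq_zero _).mp h

/-- tensors `y ⊗ a` with `y ∈ m M` come from `M ⊗ m𝔞`. -/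
theorem tmul_mem_range_of_mem_smul_top (𝔞 : Ideal A) (y : M)
    (hy : y ∈ (maximalIdeal A • (⊤ : Submodule A M))) (a : 𝔞) :
    y ⊗ₜ[A] a ∈ LinearMap.range (AlgebraTensorModule.lTensor B M
      (Submodule.inclusion (Ideal.mul_le_right : maximalIdeal A * 𝔞 ≤ 𝔞))) := by
  refine Submodule.smul_induction_on hy ?_ ?_
  · intro c hc z _
    refine ⟨z ⊗ₜ[A] ⟨c * a, Ideal.mul_mem_mul hc a.2⟩, ?_⟩
    simp only [AlgebraTensorModule.lTensor_tmul]
    rw [TensorProduct.smul_tmul]
    congr 1
  · intro y₁ y₂ h₁ h₂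
    rw [TensorProduct.add_tmul]
    exact Submodule.add_mem _ h₁ h₂

end claimS

section claimS2
variable [IsLocalRing A] [IsNoetherianRing A] [IsNoetherianRing B]

open IsLocalRing

/-- Key step: elements of `ker (M ⊗ 𝔞 → M ⊗ A)` come from `M ⊗ m𝔞`. -/
theorem mem_range_of_ker (J : Ideal B)
    (hU : ∀ q : PrimeSpectrum B, ¬ J ≤ q.asIdeal → FlatCA.FlatAt A q.asIdeal M)
    (x : B) (hxJ : x ∈ J)
    (hx : IsSMulRegular (M ⧸ ((maximalIdeal A).map (algebraMap A B) • (⊤ : Submodule B M))) x)
    (𝔞 : Ideal A) (t : M ⊗[A] 𝔞) (ht : AlgebraTensorModule.lTensor B M 𝔞.subtype t = 0) :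
    t ∈ LinearMap.range (AlgebraTensorModule.lTensor B M
      (Submodule.inclusion (Ideal.mul_le_right : maximalIdeal A * 𝔞 ≤ 𝔞))) := by
  classical
  letI : Field (A ⧸ maximalIdeal A) := Ideal.Quotient.field (maximalIdeal A)
  let W := ↥𝔞 ⧸ (maximalIdeal A • (⊤ : Submodule A ↥𝔞))
  haveI : Module.Finite (A ⧸ maximalIdeal A) W := Module.Finite.of_restrictScalars_finite A _ _
  let b := Module.Free.chooseBasis (A ⧸ maximalIdeal A) W
  let ι := Module.Free.ChooseBasisIndex (A ⧸ maximalIdeal A) W
  haveI : Fintype ι := Module.Free.ChooseBasisIndex.fintype _ _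
  -- lifts of the basis
  have hsurj : Function.Surjective (Submodule.mkQ (maximalIdeal A • (⊤ : Submodule A ↥𝔞))) :=
    Submodule.mkQ_surjective _
  choose a ha using fun i : ι => hsurj (b i)
  -- coordinate functionals
  let ℓ : ι → (↥𝔞 →ₗ[A] A ⧸ maximalIdeal A) := fun i =>
    ((b.coord i).restrictScalars A) ∘ₗ (Submodule.mkQ (maximalIdeal A • (⊤ : Submodule A ↥𝔞)))
  have hℓ : ∀ i l, ℓ i (a l) = if l = i then 1 else 0 := by
    intro i l
    change b.coord i (Submodule.mkQ _ (a l)) = _
    rw [ha l, Module.Basis.coord_apply, Module.Basis.repr_self, Finsupp.single_apply]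
  -- the lifts generate `𝔞`
  have hspan : Submodule.span A (Set.range a) = ⊤ := by
    rw [← IsLocalRing.map_mkQ_eq_top, Submodule.map_span, ← Set.range_comp]
    have h1 : (Submodule.mkQ (maximalIdeal A • (⊤ : Submodule A ↥𝔞))) ∘ a = b := by
      funext i; exact ha i
    rw [h1, ← Submodule.restrictScalars_span A (A ⧸ maximalIdeal A) Ideal.Quotient.mk_surjective,
      b.span_eq, Submodule.restrictScalars_top]
  -- decompose `t`
  have hdec : ∀ t : M ⊗[A] 𝔞, ∃ mm : ι → M, t = ∑ i, mm i ⊗ₜ[A] a i := by
    intro t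
    induction t with
    | zero => exact ⟨0, by simp⟩
    | add t₁ t₂ h₁ h₂ =>
      obtain ⟨m₁, rfl⟩ := h₁
      obtain ⟨m₂, rfl⟩ := h₂
      exact ⟨m₁ + m₂, by simp [TensorProduct.add_tmul, Finset.sum_add_distrib]⟩
    | tmul m y =>
      have hy : y ∈ Submodule.span A (Set.range a) := by rw [hspan]; exact Submodule.mem_top
      obtain ⟨c, hc⟩ := (Submodule.mem_span_range_iff_exists_fun A).mp hy
      refine ⟨fun i => c i • m, ?_⟩
      rw [← hc, TensorProduct.tmul_sum]
      apply Finset.sum_congr rfl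
      intro i _
      rw [TensorProduct.tmul_smul, TensorProduct.smul_tmul']
  obtain ⟨mm, rfl⟩ := hdec t
  -- `J`-power torsion
  obtain ⟨n, hn⟩ := exists_pow_smul_eq_zero M J hU 𝔞.subtype Subtype.val_injective _ ht
  have hxn : x ^ n • (∑ i, mm i ⊗ₜ[A] a i) = 0 := hn _ (Ideal.pow_mem_pow hxJ n)
  -- each coefficient lies in `m M`
  have hmm : ∀ i, mm i ∈ (maximalIdeal A • (⊤ : Submodule A M)) := by
    intro i
    have h1 := congrArg (AlgebraTensorModule.lTensor B M (ℓ i)) hxn
    rw [map_smul, map_zero, map_sum] at h1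
    simp only [AlgebraTensorModule.lTensor_tmul, hℓ] at h1
    rw [Finset.sum_eq_single i (fun l _ hl => by rw [if_neg hl, TensorProduct.tmul_zero])
      (fun h => absurd (Finset.mem_univ i) h), if_pos rfl, TensorProduct.smul_tmul'] at h1
    have h2 := mem_smul_top_of_tmul_one_eq_zero M _ h1
    rw [mem_smul_top_iff (B := B)] at h2 ⊢
    have h3 : x ^ n • (Submodule.Quotient.mk (mm i) :
        M ⧸ ((maximalIdeal A).map (algebraMap A B) • (⊤ : Submodule B M))) = 0 := by
      rw [← Submodule.Quotient.mk_smul, Submodule.Quotient.mk_eq_zero]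
      exact h2
    have h4 : (Submodule.Quotient.mk (mm i) :
        M ⧸ ((maximalIdeal A).map (algebraMap A B) • (⊤ : Submodule B M))) = 0 := by
      apply hx.pow n
      simp only [smul_zero]
      exact h3
    exact (Submodule.Quotient.mk_eq_zero _).mp h4
  exact Submodule.sum_mem _ fun i _ => tmul_mem_range_of_mem_smul_top M 𝔞 (mm i) (hmm i) (a i)

end claimS2

section final
variable [IsLocalRing A] [IsNoetherianRing A] [IsNoetherianRing B]

open IsLocalRing

/-- composition of inclusions under `lTensor`. -/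
theorem lTensor_inclusion_comp {P Q R' : Ideal A} (h1 : P ≤ Q) (h2 : Q ≤ R') (t : M ⊗[A] P) :
    AlgebraTensorModule.lTensor B M (Submodule.inclusion h2)
      (AlgebraTensorModule.lTensor B M (Submodule.inclusion h1) t) =
    AlgebraTensorModule.lTensor B M (Submodule.inclusion (h1.trans h2)) t := by
  induction t with
  | zero => simp
  | add x y hx hy => simp only [map_add, hx, hy]
  | tmul m n => rfl

theorem lTensor_subtype_inclusion {P Q : Ideal A} (h1 : P ≤ Q) (t : M ⊗[A] P) :
    AlgebraTensorModule.lTensor B M Q.subtype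
      (AlgebraTensorModule.lTensor B M (Submodule.inclusion h1) t) =
    AlgebraTensorModule.lTensor B M P.subtype t := by
  induction t with
  | zero => simp
  | add x y hx hy => simp only [map_add, hx, hy]
  | tmul m n => simp

theorem lTensor_inclusion_refl {P : Ideal A} (h : P ≤ P) (s : M ⊗[A] P) :
    AlgebraTensorModule.lTensor B M (Submodule.inclusion h) s = s := by
  induction s with
  | zero => exact map_zero _
  | add x y hx hy => rw [map_add, hx, hy]
  | tmul m n => rfl

/-- the chain `m, m*m, m*(m*m), …`. -/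
noncomputable def chain (A : Type u) [CommRing A] [IsLocalRing A] : ℕ → Ideal A
  | 0 => maximalIdeal A
  | j + 1 => maximalIdeal A * chain A j

theorem chain_le (j : ℕ) : chain A j ≤ maximalIdeal A := by
  induction j with
  | zero => exact le_rfl
  | succ j _ => exact Ideal.mul_le_left

theorem chain_eq (j : ℕ) : chain A j = maximalIdeal A ^ (j + 1) := by
  induction j with
  | zero => simp [chain]
  | succ j ih => rw [chain, ih, ← pow_succ']

/-- the image of `M ⊗ P → M ⊗ 𝔞` lies in `(I B) (M ⊗ 𝔞)` when `P ≤ I 𝔞`. -/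
theorem range_lTensor_inclusion_le (I 𝔞 P : Ideal A) (hP : P ≤ I * 𝔞) (hP𝔞 : P ≤ 𝔞) :
    LinearMap.range (AlgebraTensorModule.lTensor B M (Submodule.inclusion hP𝔞)) ≤
      (I.map (algebraMap A B)) • (⊤ : Submodule B (M ⊗[A] 𝔞)) := by
  rintro _ ⟨t, rfl⟩
  induction t with
  | zero => simp
  | add x y hx hy => rw [map_add]; exact Submodule.add_mem _ hx hy
  | tmul m' y' =>
    rw [AlgebraTensorModule.lTensor_tmul]
    -- `inclusion y' ∈ I • ⊤`
    have h1 : (y' : A) ∈ (I • (⊤ : Submodule A ↥𝔞)).map 𝔞.subtype := by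
      rw [Submodule.map_smul'', Submodule.map_top, Submodule.range_subtype]
      exact hP y'.2
    obtain ⟨z, hz, hzy⟩ := h1
    have h2 : Submodule.inclusion hP𝔞 y' = z := Subtype.ext hzy.symm
    rw [h2]
    refine Submodule.smul_induction_on hz ?_ ?_
    · intro c hc z' _
      rw [TensorProduct.tmul_smul, ← algebraMap_smul B c (m' ⊗ₜ[A] z')]
      exact Submodule.smul_mem_smul (Ideal.mem_map_of_mem _ hc) Submodule.mem_top
    · intro z₁ z₂ h₁ h₂
      rw [TensorProduct.tmul_add]
      exact Submodule.add_mem _ h₁ h₂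

variable [IsLocalRing B] [IsLocalHom (algebraMap A B)] [Module.Finite B M]

/-- the core: `m ⊗ M → M` is injective. -/
theorem lTensor_subtype_injective (J : Ideal B)
    (hU : ∀ q : PrimeSpectrum B, ¬ J ≤ q.asIdeal → FlatCA.FlatAt A q.asIdeal M)
    (x : B) (hxJ : x ∈ J)
    (hx : IsSMulRegular (M ⧸ ((maximalIdeal A).map (algebraMap A B) • (⊤ : Submodule B M))) x) :
    Function.Injective (AlgebraTensorModule.lTensor B M (maximalIdeal A).subtype) := by
  rw [injective_iff_map_eq_zero]
  intro t ht
  -- `t` comes from every `M ⊗ chain j`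
  have hstep : ∀ j : ℕ, ∃ tj : M ⊗[A] chain A j,
      AlgebraTensorModule.lTensor B M (Submodule.inclusion (chain_le j)) tj = t := by
    intro j
    induction j with
    | zero =>
      exact ⟨t, lTensor_inclusion_refl M (chain_le (A := A) 0) t⟩
    | succ j ih =>
      obtain ⟨tj, htj⟩ := ih
      have hker : AlgebraTensorModule.lTensor B M (chain A j).subtype tj = 0 := by
        rw [← lTensor_subtype_inclusion M (chain_le j), htj, ht]
      obtain ⟨t', ht'⟩ := mem_range_of_ker M J hU x hxJ hx (chain A j) tj hker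
      refine ⟨t', ?_⟩
      rw [← htj, ← ht']
      exact (lTensor_inclusion_comp M _ _ t').symm
  -- hence `t ∈ ⋂ (mB)^j X = 0`
  haveI : Module.Finite B (M ⊗[A] (maximalIdeal A)) := Groth.Agent.Lib.Helper62.finite_tensor_mixed
  have hjac : (maximalIdeal A).map (algebraMap A B) ≤ Ideal.jacobson ⊥ := by
    rw [IsLocalRing.jacobson_eq_maximalIdeal ⊥ bot_ne_top]
    exact IsLocalRing.map_maximalIdeal_le (algebraMap A B)   -- hmm name
  have hkrull := Ideal.iInf_pow_smul_eq_bot_of_le_jacobson
    (M := M ⊗[A] (maximalIdeal A)) ((maximalIdeal A).map (algebraMap A B)) hjac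
  have hmem : t ∈ ⨅ i : ℕ, ((maximalIdeal A).map (algebraMap A B)) ^ i •
      (⊤ : Submodule B (M ⊗[A] (maximalIdeal A))) := by
    rw [Submodule.mem_iInf]
    intro j
    obtain ⟨tj, htj⟩ := hstep j
    rw [← Ideal.map_pow]
    apply range_lTensor_inclusion_le M (maximalIdeal A ^ j) (maximalIdeal A) (chain A j)
      (by rw [chain_eq, pow_succ]) (chain_le j)
    exact ⟨tj, htj⟩
  rw [hkrull] at hmem
  exact (Submodule.mem_bot _).mp hmem

/-- flatness from a closed-fibre-regular element of `J`. -/
theorem flat_of_regular (J : Ideal B)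
    (hU : ∀ q : PrimeSpectrum B, ¬ J ≤ q.asIdeal → FlatCA.FlatAt A q.asIdeal M)
    (x : B) (hxJ : x ∈ J)
    (hx : IsSMulRegular (M ⧸ ((maximalIdeal A).map (algebraMap A B) • (⊤ : Submodule B M))) x) :
    Module.Flat A M := by
  have hinj := lTensor_subtype_injective M J hU x hxJ hx
  have hinj' : Function.Injective (LinearMap.lTensor M (maximalIdeal A).subtype) := hinj
  rw [LinearMap.lTensor_inj_iff_rTensor_inj] at hinj'
  have hjac : (maximalIdeal A).map (algebraMap A B) ≤ Ideal.jacobson ⊥ := by
    rw [IsLocalRing.jacobson_eq_maximalIdeal ⊥ bot_ne_top]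
    exact IsLocalRing.map_maximalIdeal_le (algebraMap A B)
  letI : Field (A ⧸ maximalIdeal A) := Ideal.Quotient.field (maximalIdeal A)
  exact Groth.Agent.Lib.Helper2.flat_of_rTensor_injective_of_flat_quotient (S := B)
    (maximalIdeal A) hjac hinj' inferInstance

/-- flatness at the closed point of a local ring is flatness. -/
theorem flat_of_flatAt_maximalIdeal
    (h : FlatCA.FlatAt A (maximalIdeal B) M) : Module.Flat A M := by
  have hS : (maximalIdeal B).primeCompl ≤ IsUnit.submonoid B := by
    intro s hs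
    have hs' : s ∉ maximalIdeal B := hs
    rw [IsLocalRing.mem_maximalIdeal, mem_nonunits_iff, not_not] at hs'
    exact hs'
  haveI : IsLocalization (maximalIdeal B).primeCompl B := IsLocalization.of_le_isUnit hS
  haveI := isLocalizedModule_id (maximalIdeal B).primeCompl M B
  let e : LocalizedModule (maximalIdeal B).primeCompl M ≃ₗ[B] M :=
    IsLocalizedModule.iso (maximalIdeal B).primeCompl (LinearMap.id : M →ₗ[B] M)
  haveI : Module.Flat A (LocalizedModule (maximalIdeal B).primeCompl M) := h
  exact Module.Flat.of_linearEquiv (e.restrictScalars A).symm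

/-- **Main theorem**: flat off `V(J)` and `depth_J (M / m M) ≥ 1` imply flat. -/
theorem flat_of_flatAt_off_of_one_le_idealDepth (J : Ideal B)
    (hU : ∀ q : PrimeSpectrum B, ¬ J ≤ q.asIdeal → FlatCA.FlatAt A q.asIdeal M)
    (h1 : 1 ≤ LocCoh.idealDepth J (EGA4.FibMod A B M)) : Module.Flat A M := by
  by_cases hJ : J ≤ maximalIdeal B
  · by_cases hJtop : J • (⊤ : Submodule B (EGA4.FibMod A B M)) = ⊤
    · -- Nakayama: the closed fibre vanishes, hence `M = 0`
      have hjac : J ≤ Ideal.jacobson ⊥ := by
        rw [IsLocalRing.jacobson_eq_maximalIdeal ⊥ bot_ne_top]; exact hJ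
      have htop : (⊤ : Submodule B (EGA4.FibMod A B M)) = ⊥ :=
        Submodule.eq_bot_of_le_smul_of_le_jacobson_bot J ⊤ Module.Finite.fg_top
          (le_of_eq hJtop.symm) hjac
      have hmM : (EGA4.mB A B) • (⊤ : Submodule B M) = ⊤ := by
        rw [eq_top_iff]
        intro y _
        have : (Submodule.Quotient.mk y : EGA4.FibMod A B M) ∈ (⊤ : Submodule B _) :=
          Submodule.mem_top
        rw [htop, Submodule.mem_bot, Submodule.Quotient.mk_eq_zero] at this
        exact this
      have hjac' : EGA4.mB A B ≤ Ideal.jacobson ⊥ := by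
        rw [IsLocalRing.jacobson_eq_maximalIdeal ⊥ bot_ne_top]
        exact IsLocalRing.map_maximalIdeal_le (algebraMap A B)
      have hM : (⊤ : Submodule B M) = ⊥ :=
        Submodule.eq_bot_of_le_smul_of_le_jacobson_bot (EGA4.mB A B) ⊤ Module.Finite.fg_top
          (le_of_eq hmM.symm) hjac'
      haveI : Subsingleton M := by
        refine ⟨fun a b => ?_⟩
        have ha : a ∈ (⊤ : Submodule B M) := Submodule.mem_top
        have hb : b ∈ (⊤ : Submodule B M) := Submodule.mem_top
        rw [hM, Submodule.mem_bot] at ha hb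
        rw [ha, hb]
      infer_instance
    · obtain ⟨x, hxJ, hx⟩ := Groth.Agent.Lib.Helper93.ReflexiveDepth.exists_regular_one J
        (EGA4.FibMod A B M) h1 hJtop
      exact flat_of_regular M J hU x hxJ hx
  · exact flat_of_flatAt_maximalIdeal M (hU ⟨maximalIdeal B, inferInstance⟩ hJ)

end final

end Groth.Agent.Lib.Helper93.QGorFlat
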