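import Mathlib
import Groth.Agent.Lib.Helper93.QGorFlat

/-!
# Flat modules and regular elements on the closed fibre

For a local homomorphism `A → B` of Noetherian local rings and a finite `B`-module `M` flat over
`A`: an element `x ∈ B` regular on `M / m M` is regular on every `M / m^(n+1) M`, and `M / x M` is
again flat over `A`.  Consequently `depth_J (M/mM) ≥ 2` propagates to all `M / m^(n+1) M`.
-/
set_option autoImplicit false
set_option linter.unusedSectionVars false
set_option linter.style.haveILetI false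
universe u
open TensorProduct

namespace Groth.Agent.Lib.Helper93.QGorFlat2
open Groth.Agent.Lib.Helper93.QGorFlat

variable {A B : Type u} [CommRing A] [CommRing B] [Algebra A B]
  (M : Type u) [AddCommGroup M] [Module B M] [Module A M] [IsScalarTower A B M]

/-- membership in `𝔞 • ⊤` (over `A`) versus `𝔞B • ⊤` (over `B`). -/
theorem mem_smul_top_iff' (𝔞 : Ideal A) (y : M) :
    y ∈ (𝔞 • (⊤ : Submodule A M)) ↔
      y ∈ (𝔞.map (algebraMap A B) • (⊤ : Submodule B M)) := by
  have h := Ideal.smul_restrictScalars 𝔞 (⊤ : Submodule B M)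
  rw [Submodule.restrictScalars_top] at h
  rw [← h]
  rfl

/-- the multiplication map `M ⊗ 𝔞 → M`. -/
noncomputable def mu (𝔞 : Ideal A) : M ⊗[A] 𝔞 →ₗ[B] M :=
  (AlgebraTensorModule.rid A B M).toLinearMap ∘ₗ AlgebraTensorModule.lTensor B M 𝔞.subtype

@[simp] theorem mu_tmul (𝔞 : Ideal A) (m : M) (a : 𝔞) :
    mu (B := B) M 𝔞 (m ⊗ₜ[A] a) = (a : A) • m := by
  simp [mu]

theorem mu_injective [Module.Flat A M] (𝔞 : Ideal A) : Function.Injective (mu (B := B) M 𝔞) := by
  unfold mu
  rw [LinearMap.coe_comp]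
  refine Function.Injective.comp (LinearEquiv.injective _) ?_
  exact Module.Flat.lTensor_preserves_injective_linearMap (M := M) 𝔞.subtype Subtype.val_injective

theorem range_mu (𝔞 : Ideal A) :
    LinearMap.range (mu (B := B) M 𝔞) = (𝔞.map (algebraMap A B)) • (⊤ : Submodule B M) := by
  apply le_antisymm
  · rintro _ ⟨t, rfl⟩
    induction t with
    | zero => simp
    | add x y hx hy => rw [map_add]; exact Submodule.add_mem _ hx hy
    | tmul m a =>
      rw [mu_tmul, ← algebraMap_smul B (a : A) m]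
      exact Submodule.smul_mem_smul (Ideal.mem_map_of_mem _ a.2) Submodule.mem_top
  · intro y hy
    rw [← mem_smul_top_iff'] at hy
    refine Submodule.smul_induction_on hy ?_ ?_
    · intro c hc z _
      exact ⟨z ⊗ₜ[A] ⟨c, hc⟩, by simp⟩
    · intro y₁ y₂ h₁ h₂
      exact Submodule.add_mem _ h₁ h₂

theorem mu_lTensor_inclusion {P Q : Ideal A} (h : P ≤ Q) (t : M ⊗[A] P) :
    mu (B := B) M Q (AlgebraTensorModule.lTensor B M (Submodule.inclusion h) t) =
      mu (B := B) M P t := by
  induction t with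
  | zero => simp
  | add x y hx hy => simp only [map_add, hx, hy]
  | tmul m n => simp

section coords
variable [IsLocalRing A] [IsNoetherianRing A]
open IsLocalRing

open scoped Classical in
/-- minimal generators of an ideal together with their dual coordinate functionals. -/
theorem exists_coords (𝔞 : Ideal A) : ∃ (ι : Type u) (_ : Fintype ι) (a : ι → 𝔞)
    (ℓ : ι → (↥𝔞 →ₗ[A] A ⧸ maximalIdeal A)),
    (∀ i l, ℓ i (a l) = if l = i then 1 else 0) ∧ Submodule.span A (Set.range a) = ⊤ := by
  classical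
  letI : Field (A ⧸ maximalIdeal A) := Ideal.Quotient.field (maximalIdeal A)
  let W := ↥𝔞 ⧸ (maximalIdeal A • (⊤ : Submodule A ↥𝔞))
  haveI : Module.Finite (A ⧸ maximalIdeal A) W := Module.Finite.of_restrictScalars_finite A _ _
  let b := Module.Free.chooseBasis (A ⧸ maximalIdeal A) W
  let ι := Module.Free.ChooseBasisIndex (A ⧸ maximalIdeal A) W
  haveI : Fintype ι := Module.Free.ChooseBasisIndex.fintype _ _
  have hsurj : Function.Surjective (Submodule.mkQ (maximalIdeal A • (⊤ : Submodule A ↥𝔞))) :=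
    Submodule.mkQ_surjective _
  choose a ha using fun i : ι => hsurj (b i)
  let ℓ : ι → (↥𝔞 →ₗ[A] A ⧸ maximalIdeal A) := fun i =>
    ((b.coord i).restrictScalars A) ∘ₗ (Submodule.mkQ (maximalIdeal A • (⊤ : Submodule A ↥𝔞)))
  have hℓ : ∀ i l, ℓ i (a l) = if l = i then 1 else 0 := by
    intro i l
    change b.coord i (Submodule.mkQ _ (a l)) = _
    rw [ha l, Module.Basis.coord_apply, Module.Basis.repr_self, Finsupp.single_apply]
  have hspan : Submodule.span A (Set.range a) = ⊤ := by
    rw [← IsLocalRing.map_mkQ_eq_top, Submodule.map_span, ← Set.range_comp]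
    have h1 : (Submodule.mkQ (maximalIdeal A • (⊤ : Submodule A ↥𝔞))) ∘ a = b := by
      funext i; exact ha i
    rw [h1, ← Submodule.restrictScalars_span A (A ⧸ maximalIdeal A) Ideal.Quotient.mk_surjective,
      b.span_eq, Submodule.restrictScalars_top]
  exact ⟨ι, inferInstance, a, ℓ, hℓ, hspan⟩

theorem exists_decomp {ι : Type u} [Fintype ι] (𝔞 : Ideal A) (a : ι → 𝔞)
    (hspan : Submodule.span A (Set.range a) = ⊤) (t : M ⊗[A] 𝔞) :
    ∃ mm : ι → M, t = ∑ i, mm i ⊗ₜ[A] a i := by
  induction t with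
  | zero => exact ⟨0, by simp⟩
  | add t₁ t₂ h₁ h₂ =>
    obtain ⟨m₁, rfl⟩ := h₁
    obtain ⟨m₂, rfl⟩ := h₂
    exact ⟨m₁ + m₂, by simp [TensorProduct.add_tmul, Finset.sum_add_distrib]⟩
  | tmul m y =>
    have hy : y ∈ Submodule.span A (Set.range a) := by rw [hspan]; exact Submodule.mem_top
    obtain ⟨c, hc⟩ := (Submodule.mem_span_range_iff_exists_fun A).mp hy
    refine ⟨fun i => c i • m, ?_⟩
    rw [← hc, TensorProduct.tmul_sum]
    apply Finset.sum_congr rfl
    intro i _
    rw [TensorProduct.tmul_smul, TensorProduct.smul_tmul']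

/-- a linear functional to the residue field kills `m𝔞`. -/
theorem map_inclusion_eq_zero (𝔞 : Ideal A) (ℓ : ↥𝔞 →ₗ[A] A ⧸ maximalIdeal A)
    (c : ↥(maximalIdeal A * 𝔞)) :
    ℓ (Submodule.inclusion (Ideal.mul_le_right : maximalIdeal A * 𝔞 ≤ 𝔞) c) = 0 := by
  have h1 : (c : A) ∈ (maximalIdeal A • (⊤ : Submodule A ↥𝔞)).map 𝔞.subtype := by
    rw [Submodule.map_smul'', Submodule.map_top, Submodule.range_subtype]
    exact c.2
  obtain ⟨z, hz, hzy⟩ := h1
  have h2 : Submodule.inclusion (Ideal.mul_le_right : maximalIdeal A * 𝔞 ≤ 𝔞) c = z :=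
    Subtype.ext hzy.symm
  rw [h2]
  refine Submodule.smul_induction_on hz ?_ ?_
  · intro r hr z' _
    rw [map_smul]
    obtain ⟨q, hq⟩ := Ideal.Quotient.mk_surjective (ℓ z')
    rw [← hq, Algebra.smul_def, Ideal.Quotient.algebraMap_eq, ← map_mul,
      Ideal.Quotient.eq_zero_iff_mem]
    exact Ideal.mul_mem_right _ _ hr
  · intro z₁ z₂ h₁ h₂
    rw [map_add, h₁, h₂, add_zero]

end coords

end Groth.Agent.Lib.Helper93.QGorFlat2

namespace Groth.Agent.Lib.Helper93.QGorFlat2
open Groth.Agent.Lib.Helper93.QGorFlat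

variable {A B : Type u} [CommRing A] [CommRing B] [Algebra A B]
  (M : Type u) [AddCommGroup M] [Module B M] [Module A M] [IsScalarTower A B M]

section R1
variable [IsLocalRing A] [IsNoetherianRing A] [Module.Flat A M]
open IsLocalRing

/-- for `M` flat over `A` and `x` regular on `M / m M`: `z ∈ 𝔞 M` and `x z ∈ m 𝔞 M` imply
`z ∈ m 𝔞 M`. -/
theorem mem_of_smul_mem (x : B)
    (hx : IsSMulRegular (M ⧸ ((maximalIdeal A).map (algebraMap A B) • (⊤ : Submodule B M))) x)
    (𝔞 : Ideal A) (z : M) (hz : z ∈ (𝔞.map (algebraMap A B)) • (⊤ : Submodule B M))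
    (hxz : x • z ∈ ((maximalIdeal A * 𝔞).map (algebraMap A B)) • (⊤ : Submodule B M)) :
    z ∈ ((maximalIdeal A * 𝔞).map (algebraMap A B)) • (⊤ : Submodule B M) := by
  classical
  obtain ⟨ι, _, a, ℓ, hℓ, hspan⟩ := exists_coords 𝔞
  rw [← range_mu] at hz hxz
  obtain ⟨t₀, rfl⟩ := hz
  obtain ⟨t₁, ht₁⟩ := hxz
  have hle : maximalIdeal A * 𝔞 ≤ 𝔞 := Ideal.mul_le_right
  have heq : x • t₀ = AlgebraTensorModule.lTensor B M (Submodule.inclusion hle) t₁ := by
    apply mu_injective (B := B) M 𝔞
    rw [map_smul, mu_lTensor_inclusion, ht₁]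
  obtain ⟨mm, rfl⟩ := exists_decomp M 𝔞 a hspan t₀
  have hmm : ∀ i, mm i ∈ (maximalIdeal A).map (algebraMap A B) • (⊤ : Submodule B M) := by
    intro i
    have h1 := congrArg (AlgebraTensorModule.lTensor B M (ℓ i)) heq
    have h0 : ∀ t₁ : M ⊗[A] ↥(maximalIdeal A * 𝔞), AlgebraTensorModule.lTensor B M (ℓ i)
        (AlgebraTensorModule.lTensor B M (Submodule.inclusion hle) t₁) = 0 := by
      intro t₁
      induction t₁ with
      | zero => simp
      | add x y hx hy => simp only [map_add, hx, hy, add_zero]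
      | tmul m c =>
        rw [AlgebraTensorModule.lTensor_tmul, AlgebraTensorModule.lTensor_tmul,
          map_inclusion_eq_zero, tmul_zero]
    rw [h0, map_smul, map_sum] at h1
    simp only [AlgebraTensorModule.lTensor_tmul, hℓ] at h1
    rw [Finset.sum_eq_single i (fun l _ hl => by rw [if_neg hl, TensorProduct.tmul_zero])
      (fun h => absurd (Finset.mem_univ i) h), if_pos rfl, TensorProduct.smul_tmul'] at h1
    have h2 := mem_smul_top_of_tmul_one_eq_zero M _ h1
    rw [mem_smul_top_iff' (B := B)] at h2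
    have h4 : (Submodule.Quotient.mk (mm i) :
        M ⧸ ((maximalIdeal A).map (algebraMap A B) • (⊤ : Submodule B M))) = 0 := by
      apply hx
      simp only [smul_zero]
      rw [← Submodule.Quotient.mk_smul, Submodule.Quotient.mk_eq_zero]
      exact h2
    exact (Submodule.Quotient.mk_eq_zero _).mp h4
  rw [map_sum]
  refine Submodule.sum_mem _ fun i _ => ?_
  rw [mu_tmul, ← algebraMap_smul B ((a i : A)) (mm i), Ideal.map_mul, mul_comm, Submodule.mul_smul]
  exact Submodule.smul_mem_smul (Ideal.mem_map_of_mem _ (a i).2) (hmm i)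

/-- for `M` flat over `A`, an `M / m M`-regular element is `M / m^(n+1) M`-regular. -/
theorem isSMulRegular_quot_pow (x : B)
    (hx : IsSMulRegular (M ⧸ ((maximalIdeal A).map (algebraMap A B) • (⊤ : Submodule B M))) x)
    (n : ℕ) :
    IsSMulRegular (M ⧸ (((maximalIdeal A).map (algebraMap A B)) ^ (n + 1) •
      (⊤ : Submodule B M))) x := by
  have key : ∀ z : M, x • z ∈ ((maximalIdeal A ^ (n + 1)).map (algebraMap A B)) •
      (⊤ : Submodule B M) → ∀ i, i ≤ n + 1 →
      z ∈ ((maximalIdeal A ^ i).map (algebraMap A B)) • (⊤ : Submodule B M) := by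
    intro z hz i
    induction i with
    | zero => intro _; rw [pow_zero, Ideal.one_eq_top, Ideal.map_top, Submodule.top_smul]; exact Submodule.mem_top
    | succ i ih =>
      intro hi
      have hzi := ih (by omega)
      rw [pow_succ']
      apply mem_of_smul_mem M x hx _ z hzi
      rw [← pow_succ']
      have : maximalIdeal A ^ (n + 1) ≤ maximalIdeal A ^ (i + 1) := Ideal.pow_le_pow_right hi
      exact Submodule.smul_mono_left (Ideal.map_mono this) hz
  rw [isSMulRegular_iff_right_eq_zero_of_smul]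
  intro q hq
  obtain ⟨z, rfl⟩ := Submodule.Quotient.mk_surjective _ q
  rw [← Submodule.Quotient.mk_smul, Submodule.Quotient.mk_eq_zero, ← Ideal.map_pow] at hq
  rw [Submodule.Quotient.mk_eq_zero, ← Ideal.map_pow]
  exact key z hq (n + 1) le_rfl

end R1

end Groth.Agent.Lib.Helper93.QGorFlat2

namespace Groth.Agent.Lib.Helper93.QGorFlat2
open Groth.Agent.Lib.Helper93.QGorFlat

variable {A B : Type u} [CommRing A] [CommRing B] [Algebra A B]
  (M : Type u) [AddCommGroup M] [Module B M] [Module A M] [IsScalarTower A B M]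

section R3
variable [IsLocalRing A] [IsNoetherianRing A] [IsNoetherianRing B] [IsLocalRing B]
  [IsLocalHom (algebraMap A B)] [Module.Finite B M] [Module.Flat A M]
open IsLocalRing Pointwise

/-- for `M` flat over `A` and `x` regular on `M / m M`, the quotient `M / x M` is flat over `A`. -/
theorem flat_quotSMulTop (x : B)
    (hx : IsSMulRegular (M ⧸ ((maximalIdeal A).map (algebraMap A B) • (⊤ : Submodule B M))) x) :
    Module.Flat A (QuotSMulTop x M) := by
  let π : M →ₗ[B] QuotSMulTop x M := Submodule.mkQ _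
  have hπ : Function.Surjective π := Submodule.mkQ_surjective _
  have hkill : ∀ s : QuotSMulTop x M ⊗[A] maximalIdeal A, x • s = 0 := by
    intro s
    induction s with
    | zero => simp
    | add a b ha hb => rw [smul_add, ha, hb, add_zero]
    | tmul n c =>
      rw [TensorProduct.smul_tmul']
      have : x • n = 0 := by
        obtain ⟨m, rfl⟩ := hπ n
        rw [← map_smul]
        exact (Submodule.Quotient.mk_eq_zero _).mpr
          (Submodule.smul_mem_pointwise_smul m x ⊤ Submodule.mem_top)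
      rw [this, zero_tmul]
  have hinj : Function.Injective
      (AlgebraTensorModule.lTensor B (QuotSMulTop x M) (maximalIdeal A).subtype) := by
    rw [injective_iff_map_eq_zero]
    intro t ht
    have hsurj : Function.Surjective (AlgebraTensorModule.rTensor A (maximalIdeal A) π) :=
      LinearMap.rTensor_surjective (maximalIdeal A) (g := π.restrictScalars A) hπ
    obtain ⟨t', rfl⟩ := hsurj t
    have hcomm : ∀ t' : M ⊗[A] maximalIdeal A,
        mu (B := B) (QuotSMulTop x M) _ (AlgebraTensorModule.rTensor A _ π t') =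
          π (mu (B := B) M _ t') := by
      intro t'
      induction t' with
      | zero => simp
      | add a b ha hb => simp only [map_add, ha, hb]
      | tmul m c => simp
    have h1 : π (mu (B := B) M _ t') = 0 := by
      rw [← hcomm]
      unfold mu
      rw [LinearMap.comp_apply, ht, map_zero]
    have h2 : mu (B := B) M _ t' ∈ x • (⊤ : Submodule B M) := (Submodule.Quotient.mk_eq_zero _).mp h1
    obtain ⟨w, -, hw⟩ := (Submodule.mem_smul_pointwise_iff_exists _ _ _).mp h2
    have h3 : x • w ∈ (maximalIdeal A).map (algebraMap A B) • (⊤ : Submodule B M) := by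
      rw [hw, ← range_mu]
      exact ⟨t', rfl⟩
    have h4 : w ∈ (maximalIdeal A).map (algebraMap A B) • (⊤ : Submodule B M) := by
      have h : (Submodule.Quotient.mk w :
          M ⧸ ((maximalIdeal A).map (algebraMap A B) • (⊤ : Submodule B M))) = 0 := by
        apply hx
        simp only [smul_zero]
        rw [← Submodule.Quotient.mk_smul, Submodule.Quotient.mk_eq_zero]
        exact h3
      exact (Submodule.Quotient.mk_eq_zero _).mp h
    rw [← range_mu] at h4
    obtain ⟨tw, rfl⟩ := h4
    have h5 : t' = x • tw := mu_injective (B := B) M _ (by rw [map_smul, hw])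
    rw [h5, map_smul, hkill]
  have hinj' : Function.Injective (LinearMap.lTensor (QuotSMulTop x M) (maximalIdeal A).subtype) :=
    hinj
  rw [LinearMap.lTensor_inj_iff_rTensor_inj] at hinj'
  have hjac : (maximalIdeal A).map (algebraMap A B) ≤ Ideal.jacobson ⊥ := by
    rw [IsLocalRing.jacobson_eq_maximalIdeal ⊥ bot_ne_top]
    exact IsLocalRing.map_maximalIdeal_le (algebraMap A B)
  letI : Field (A ⧸ maximalIdeal A) := Ideal.Quotient.field (maximalIdeal A)
  exact Groth.Agent.Lib.Helper2.flat_of_rTensor_injective_of_flat_quotient (S := B)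
    (maximalIdeal A) hjac hinj' inferInstance

end R3

end Groth.Agent.Lib.Helper93.QGorFlat2

namespace Groth.Agent.Lib.Helper93.QGorFlat2
open Groth.Agent.Lib.Helper93.QGorFlat

section swap
variable {R : Type u} [CommRing R] (M : Type u) [AddCommGroup M] [Module R M]
open Pointwise

/-- regularity on an iterated quotient, expressed in the base module. -/
theorem isSMulRegular_quot_quot_iff (P : Submodule R M) (Q : Submodule R (M ⧸ P)) (y : R) :
    IsSMulRegular ((M ⧸ P) ⧸ Q) y ↔ ∀ z : M, y • z ∈ Q.comap P.mkQ → z ∈ Q.comap P.mkQ := by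
  rw [isSMulRegular_iff_right_eq_zero_of_smul]
  constructor
  · intro h z hz
    have := h (Submodule.Quotient.mk (Submodule.Quotient.mk z)) (by
      rw [← Submodule.Quotient.mk_smul, Submodule.Quotient.mk_eq_zero, ← Submodule.Quotient.mk_smul]
      exact hz)
    rw [Submodule.Quotient.mk_eq_zero] at this
    exact this
  · intro h q hq
    obtain ⟨q', rfl⟩ := Submodule.Quotient.mk_surjective _ q
    obtain ⟨z, rfl⟩ := Submodule.Quotient.mk_surjective _ q'
    rw [← Submodule.Quotient.mk_smul, Submodule.Quotient.mk_eq_zero,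
      ← Submodule.Quotient.mk_smul] at hq
    rw [Submodule.Quotient.mk_eq_zero]
    exact h z hq

theorem isSMulRegular_swap (𝔟 : Ideal R) (x y : R) :
    IsSMulRegular (QuotSMulTop x (M ⧸ (𝔟 • (⊤ : Submodule R M)))) y ↔
      IsSMulRegular ((QuotSMulTop x M) ⧸ (𝔟 • (⊤ : Submodule R (QuotSMulTop x M)))) y := by
  have e1 : (x • (⊤ : Submodule R (M ⧸ (𝔟 • (⊤ : Submodule R M))))).comap
      (𝔟 • (⊤ : Submodule R M)).mkQ = 𝔟 • (⊤ : Submodule R M) ⊔ x • (⊤ : Submodule R M) := by
    rw [← Submodule.comap_map_mkQ, Submodule.map_pointwise_smul, Submodule.map_top,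
      Submodule.range_mkQ]
  have e2 : (𝔟 • (⊤ : Submodule R (QuotSMulTop x M))).comap
      (x • (⊤ : Submodule R M)).mkQ = x • (⊤ : Submodule R M) ⊔ 𝔟 • (⊤ : Submodule R M) := by
    rw [← Submodule.comap_map_mkQ, Submodule.map_smul'', Submodule.map_top,
      Submodule.range_mkQ]
  unfold QuotSMulTop
  rw [isSMulRegular_quot_quot_iff, isSMulRegular_quot_quot_iff, e1, e2, sup_comm]

end swap

end Groth.Agent.Lib.Helper93.QGorFlat2

namespace Groth.Agent.Lib.Helper93.QGorFlat2
open Groth.Agent.Lib.Helper93.QGorFlat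

variable {A B : Type u} [CommRing A] [CommRing B] [Algebra A B]
  (M : Type u) [AddCommGroup M] [Module B M] [Module A M] [IsScalarTower A B M]

section final
variable [IsLocalRing A] [IsNoetherianRing A] [IsNoetherianRing B] [IsLocalRing B]
  [IsLocalHom (algebraMap A B)] [Module.Finite B M]
open IsLocalRing Pointwise RingTheory.Sequence

/-- Nakayama: if `J` is a proper ideal and `J (M/mM) = M/mM` then `M = 0`. -/
theorem subsingleton_of_smul_top_eq_top (J : Ideal B) (hJ : J ≤ maximalIdeal B)
    (hJtop : J • (⊤ : Submodule B (EGA4.FibMod A B M)) = ⊤) : Subsingleton M := by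
  have hjac : J ≤ Ideal.jacobson ⊥ := by
    rw [IsLocalRing.jacobson_eq_maximalIdeal ⊥ bot_ne_top]; exact hJ
  have htop : (⊤ : Submodule B (EGA4.FibMod A B M)) = ⊥ :=
    Submodule.eq_bot_of_le_smul_of_le_jacobson_bot J ⊤ Module.Finite.fg_top
      (le_of_eq hJtop.symm) hjac
  have hmM : (EGA4.mB A B) • (⊤ : Submodule B M) = ⊤ := by
    rw [eq_top_iff]
    intro y _
    have : (Submodule.Quotient.mk y : EGA4.FibMod A B M) ∈ (⊤ : Submodule B _) :=
      Submodule.mem_top
    rw [htop, Submodule.mem_bot, Submodule.Quotient.mk_eq_zero] at this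
    exact this
  have hjac' : EGA4.mB A B ≤ Ideal.jacobson ⊥ := by
    rw [IsLocalRing.jacobson_eq_maximalIdeal ⊥ bot_ne_top]
    exact IsLocalRing.map_maximalIdeal_le (algebraMap A B)
  have hM : (⊤ : Submodule B M) = ⊥ :=
    Submodule.eq_bot_of_le_smul_of_le_jacobson_bot (EGA4.mB A B) ⊤ Module.Finite.fg_top
      (le_of_eq hmM.symm) hjac'
  refine ⟨fun a b => ?_⟩
  have ha : a ∈ (⊤ : Submodule B M) := Submodule.mem_top
  have hb : b ∈ (⊤ : Submodule B M) := Submodule.mem_top
  rw [hM, Submodule.mem_bot] at ha hb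
  rw [ha, hb]

/-- regular pair `x, y` on `M/mM` (with `M` flat) is a regular pair on `M/m^(n+1)M`. -/
theorem isWeaklyRegular_quot_pow [Module.Flat A M] (x y : B)
    (hx : IsSMulRegular (EGA4.FibMod A B M) x)
    (hy : IsSMulRegular (QuotSMulTop x (EGA4.FibMod A B M)) y) (n : ℕ) :
    IsWeaklyRegular (M ⧸ ((EGA4.mB A B) ^ (n + 1) • (⊤ : Submodule B M))) [x, y] := by
  rw [isWeaklyRegular_cons_iff, isWeaklyRegular_cons_iff]
  refine ⟨isSMulRegular_quot_pow M x hx n, ?_, IsWeaklyRegular.nil _ _⟩
  rw [isSMulRegular_swap]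
  haveI : Module.Flat A (QuotSMulTop x M) := flat_quotSMulTop M x hx
  apply isSMulRegular_quot_pow (QuotSMulTop x M) y _ n
  rw [← isSMulRegular_swap]
  exact hy

/-- **S18706**: `depth_J (M/mM) ≥ 2` and flatness off `V(J)` give `depth_J (M/m^(n+1)M) ≥ 2`. -/
theorem two_le_idealDepth_quot_pow (J : Ideal B)
    (hU : ∀ q : PrimeSpectrum B, ¬ J ≤ q.asIdeal → FlatCA.FlatAt A q.asIdeal M)
    (h2 : 2 ≤ LocCoh.idealDepth J (EGA4.FibMod A B M)) (n : ℕ) :
    2 ≤ LocCoh.idealDepth J (M ⧸ ((EGA4.mB A B) ^ (n + 1) • (⊤ : Submodule B M))) := by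
  by_cases hJtop' : J • (⊤ : Submodule B (M ⧸ ((EGA4.mB A B) ^ (n + 1) •
      (⊤ : Submodule B M)))) = ⊤
  · unfold LocCoh.idealDepth
    rw [if_pos hJtop']
    exact le_top
  · have hflat : Module.Flat A M :=
      flat_of_flatAt_off_of_one_le_idealDepth M J hU (le_trans (by norm_num) h2)
    have hJtop : J • (⊤ : Submodule B (EGA4.FibMod A B M)) ≠ ⊤ := by
      intro h
      apply hJtop'
      by_cases hJ : J ≤ maximalIdeal B
      · haveI := subsingleton_of_smul_top_eq_top M J hJ h
        exact Subsingleton.elim _ _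
      · have : J = ⊤ := by
          by_contra hne
          exact hJ (IsLocalRing.le_maximalIdeal hne)
        rw [this, Submodule.top_smul]
    obtain ⟨rs, hrs, hI, hlen⟩ := Groth.Agent.Lib.Helper93.ReflexiveDepth.exists_regular_of_le_idealDepth
      J (EGA4.FibMod A B M) 2 (by exact_mod_cast h2) hJtop
    match rs, hrs, hI, hlen with
    | x :: y :: rs', hrs, hI, _ =>
      rw [isWeaklyRegular_cons_iff] at hrs
      obtain ⟨hx, hrs'⟩ := hrs
      rw [isWeaklyRegular_cons_iff] at hrs'
      obtain ⟨hy, -⟩ := hrs'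
      have hreg := isWeaklyRegular_quot_pow M x y hx hy n
      have hmem : ∀ r ∈ [x, y], r ∈ J := by
        intro r hr
        simp only [List.mem_cons, List.not_mem_nil, or_false] at hr
        rcases hr with rfl | rfl
        · exact hI _ (by simp)
        · exact hI _ (by simp)
      unfold LocCoh.idealDepth
      rw [if_neg hJtop']
      exact le_iSup₂ (f := fun (rs : List B)
        (_ : IsWeaklyRegular (M ⧸ ((EGA4.mB A B) ^ (n + 1) • (⊤ : Submodule B M))) rs ∧
          ∀ r ∈ rs, r ∈ J) => (rs.length : ℕ∞)) [x, y] ⟨hreg, hmem⟩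

end final

end Groth.Agent.Lib.Helper93.QGorFlat2
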