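import Groth.Agent.Lib.Helper93.ReflexiveDepth2

set_option autoImplicit false
set_option linter.unusedSectionVars false
open scoped TensorProduct nonZeroDivisors Pointwise
namespace Groth.Agent.Lib.Helper93.ReflexiveDepth
universe u

open RingTheory.Sequence

variable {A : Type u} [CommRing A] [IsNoetherianRing A]

/-- Prime avoidance: if `I` lies in no associated prime of `M`, it contains an `M`-regular
element. -/
theorem exists_regular_of_forall_ass (I : Ideal A) (M : Type u) [AddCommGroup M] [Module A M]
    [Module.Finite A M] (h : ∀ p ∈ associatedPrimes A M, ¬ I ≤ p) :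
    ∃ x ∈ I, IsSMulRegular M x := by
  classical
  have hfin := associatedPrimes.finite A M
  have h1 : ¬ ((I : Set A) ⊆ ⋃ p ∈ (↑hfin.toFinset : Set (Ideal A)), ((fun q : Ideal A => q) p : Set A)) := by
    rw [Ideal.subset_union_prime (⊥ : Ideal A) (⊥ : Ideal A)]
    · rintro ⟨p, hp, hIp⟩
      exact h p (hfin.mem_toFinset.mp hp) hIp
    · intro p hp _ _
      exact IsAssociatedPrime.isPrime (hfin.mem_toFinset.mp hp)
  rw [Set.not_subset] at h1
  obtain ⟨x, hxI, hx⟩ := h1
  refine ⟨x, hxI, ?_⟩
  by_contra hreg
  apply hx
  have h2 := (Groth.Agent.Lib.Helper29.not_isSMulRegular_iff_mem_biUnion_ass A M x).mp hreg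
  simp only [Set.mem_iUnion] at h2 ⊢
  obtain ⟨p, hp, hxp⟩ := h2
  exact ⟨p, by simpa using hp, hxp⟩

/-- Global-to-local: `depth_I M ≤ depth M_p` for `I ≤ p`. -/
theorem le_depth_localizedModule_of_le_idealDepth (I : Ideal A) (M : Type u) [AddCommGroup M]
    [Module A M] [Module.Finite A M] (p : Ideal A) [p.IsPrime] (hIp : I ≤ p) (k : ℕ)
    (hk : (k : ℕ∞) ≤ LocCoh.idealDepth I M) :
    (k : ℕ∞) ≤ LocCoh.depth (Localization.AtPrime p) (LocalizedModule p.primeCompl M) := by
  classical
  by_cases htop : IsLocalRing.maximalIdeal (Localization.AtPrime p) •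
      (⊤ : Submodule (Localization.AtPrime p) (LocalizedModule p.primeCompl M)) = ⊤
  · unfold LocCoh.depth LocCoh.idealDepth
    rw [if_pos htop]
    exact le_top
  have hIM : I • (⊤ : Submodule A M) ≠ ⊤ := by
    intro hI
    apply htop
    -- `M = I M` implies `M_p = 0`
    obtain ⟨r, hr1, hr0⟩ := Submodule.exists_sub_one_mem_and_smul_eq_zero_of_fg_of_le_smul I
      (⊤ : Submodule A M) Module.Finite.fg_top (le_of_eq hI.symm)
    have hrp : r ∉ p := by
      intro hrp
      have h1 : (1 : A) ∈ p := by
        have := p.sub_mem hrp (hIp hr1)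
        simpa using this
      exact (inferInstance : p.IsPrime).ne_top ((Ideal.eq_top_iff_one _).2 h1)
    have hsub : Subsingleton (LocalizedModule p.primeCompl M) := by
      refine ⟨fun a b => ?_⟩
      have hz : ∀ c : LocalizedModule p.primeCompl M, c = 0 := by
        intro c
        induction c using LocalizedModule.induction_on with
        | h m s =>
          rw [← LocalizedModule.zero_mk s, LocalizedModule.mk_eq]
          refine ⟨⟨r, hrp⟩, ?_⟩
          rw [smul_zero, smul_zero, Submonoid.smul_def, Submonoid.smul_def, smul_comm]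
          change (s : A) • r • m = 0
          rw [hr0 m Submodule.mem_top, smul_zero]
      rw [hz a, hz b]
    exact Subsingleton.elim _ _
  obtain ⟨rs, hrs, hI, hlen⟩ := exists_regular_of_le_idealDepth I M k hk hIM
  have hrs' : IsWeaklyRegular (LocalizedModule p.primeCompl M)
      (rs.map (algebraMap A (Localization.AtPrime p))) :=
    hrs.of_isLocalizedModule (Localization.AtPrime p) p.primeCompl
      (LocalizedModule.mkLinearMap p.primeCompl M)
  have h3 := Groth.Agent.S6876.le_depth_of_regular (LocalizedModule p.primeCompl M) _ hrs' (by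
    intro r hr
    obtain ⟨a, ha, rfl⟩ := List.mem_map.mp hr
    exact (IsLocalization.AtPrime.to_map_mem_maximal_iff _ p a).mpr (hIp (hI a ha)))
  rw [List.length_map] at h3
  exact le_trans (by exact_mod_cast hlen) h3

/-- Local-to-global: if `depth M_p ≥ 2` at all primes `p ⊇ I` of the support, then
`depth_I M ≥ 2`. -/
theorem two_le_idealDepth_of_forall_localized (I : Ideal A) (M : Type u) [AddCommGroup M]
    [Module A M] [Module.Finite A M]
    (h : ∀ (p : Ideal A) [p.IsPrime], I ≤ p →
      (⟨p, inferInstance⟩ : PrimeSpectrum A) ∈ Module.support A M →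
      2 ≤ LocCoh.depth (Localization.AtPrime p) (LocalizedModule p.primeCompl M)) :
    2 ≤ LocCoh.idealDepth I M := by
  classical
  by_cases hIM : I • (⊤ : Submodule A M) = ⊤
  · unfold LocCoh.idealDepth
    rw [if_pos hIM]
    exact le_top
  -- first element
  obtain ⟨x, hxI, hx⟩ := exists_regular_of_forall_ass I M (by
    intro p hp hIp
    have := IsAssociatedPrime.isPrime hp
    have h1 := h p hIp (Groth.Agent.Lib.Helper49.Serre.mem_support_of_mem_associatedPrimes M p hp)
    rw [(Groth.Agent.Lib.Helper49.Serre.depth_localizedModule_eq_zero_iff M p).mpr hp] at h1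
    simp at h1)
  -- second element
  obtain ⟨y, hyI, hy⟩ := exists_regular_of_forall_ass I (QuotSMulTop x M) (by
    intro p hp hIp
    have := IsAssociatedPrime.isPrime hp
    have hsupp' := Groth.Agent.Lib.Helper49.Serre.mem_support_of_mem_associatedPrimes
      (QuotSMulTop x M) p hp
    have hsupp : (⟨p, inferInstance⟩ : PrimeSpectrum A) ∈ Module.support A M :=
      Module.support_subset_of_surjective (Submodule.mkQ _) (Submodule.mkQ_surjective _) hsupp'
    have hnt : Nontrivial (LocalizedModule p.primeCompl M) := (Module.mem_support_iff).1 hsupp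
    have hxp : x ∈ p := hIp hxI
    have hreg : IsSMulRegular (LocalizedModule p.primeCompl M)
        (algebraMap A (Localization.AtPrime p) x) :=
      hx.of_isLocalizedModule (Localization.AtPrime p) p.primeCompl
        (LocalizedModule.mkLinearMap p.primeCompl M)
    have h1 := h p hIp hsupp
    rw [(Groth.Agent.Lib.Helper49.Serre.mem_associatedPrimes_quotSMulTop_iff M p hxp hreg).mp hp]
      at h1
    norm_num at h1)
  have hreg : IsWeaklyRegular M [x, y] := by
    rw [isWeaklyRegular_cons_iff]
    refine ⟨hx, ?_⟩
    rw [isWeaklyRegular_cons_iff]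
    exact ⟨hy, IsWeaklyRegular.nil _ _⟩
  have h3 := Groth.Agent.Lib.Helper29.DepthLib.length_le_idealDepth I M hreg (by
    intro r hr
    simp only [List.mem_cons, List.not_mem_nil, or_false] at hr
    rcases hr with rfl | rfl
    · exact hxI
    · exact hyI)
  simpa using h3

end Groth.Agent.Lib.Helper93.ReflexiveDepth
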