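import Mathlib
import Groth.Agent.Lib.Helper93.QGorFlat2
import Groth.Agent.Lib.Helper65.FlatKer
import Groth.Agent.Lib.Helper2.LocalFlat3
import Groth.Agent.Lib.Helper93.ReflexiveDepth3
import Groth.Agent.Lib.Helper29.Depth
/-!
# The four-term sequence `0 → F → E⁰ → E¹ → G → 0` and flatness of `G`

For a local homomorphism `A → B` of Noetherian local rings and an exact sequence of finite
`B`-modules with `E⁰, E¹` flat over `A`, `G` flat off `V(J)`, `depth_J (E⁰/mE⁰) ≥ 2` and
`depth_J (E¹/mE¹) ≥ 1`:  `depth_J (F/mF) ≥ 2 ⇔ G` flat `⇔ depth_J (F/m^(n+1)F) ≥ 2` for all `n`.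
-/

set_option autoImplicit false
set_option linter.unusedSectionVars false
set_option linter.style.haveILetI false
universe u
open TensorProduct

namespace Groth.Agent.Lib.Helper93.QGorFlat3
open Groth.Agent.Lib.Helper93.QGorFlat Groth.Agent.Lib.Helper93.QGorFlat2

variable {A B : Type u} [CommRing A] [CommRing B] [Algebra A B]

section general

/-- the localization over `B` of an `A`-flat module is `A`-flat. -/
theorem flat_localizedModule (S : Submonoid B) (E : Type u) [AddCommGroup E] [Module B E]
    [Module A E] [IsScalarTower A B E] [Module.Flat A E] :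
    Module.Flat A (LocalizedModule S E) := by
  rw [Module.Flat.iff_lTensor_injective']
  intro I
  exact Groth.Agent.Lib.Helper2.lTensor_injective_of_isLocalizedModule S
    (LocalizedModule.mkLinearMap S E) I.subtype
    (Module.Flat.lTensor_preserves_injective_linearMap _ Subtype.val_injective)

theorem tmul_one_eq_zero_iff (M : Type u) [AddCommGroup M] [Module A M] (I : Ideal A) (y : M) :
    y ⊗ₜ[A] (1 : A ⧸ I) = 0 ↔ y ∈ I • (⊤ : Submodule A M) := by
  rw [← (tensorQuotEquivQuotSMul M I).map_eq_zero_iff, ← map_one (Ideal.Quotient.mk I),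
    tensorQuotEquivQuotSMul_tmul_mk, one_smul, Submodule.Quotient.mk_eq_zero]

/-- `N' ∩ I N = I N'` when `N / N'` is flat. -/
theorem mem_smul_top_of_flat_coker {N' N N'' : Type u} [AddCommGroup N'] [Module A N']
    [AddCommGroup N] [Module A N] [AddCommGroup N''] [Module A N'']
    (i : N' →ₗ[A] N) (p : N →ₗ[A] N'') (hi : Function.Injective i) (hp : Function.Surjective p)
    (H : Function.Exact i p) [Module.Flat A N''] (I : Ideal A) (n' : N')
    (h : i n' ∈ I • (⊤ : Submodule A N)) : n' ∈ I • (⊤ : Submodule A N') := by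
  have h1 := LinearMap.lTensor_injective_of_exact_of_flat p hp i hi H (A ⧸ I)
  rw [LinearMap.lTensor_inj_iff_rTensor_inj] at h1
  rw [← tmul_one_eq_zero_iff] at h ⊢
  apply h1
  rw [LinearMap.rTensor_tmul, h, map_zero]

end general

end Groth.Agent.Lib.Helper93.QGorFlat3

namespace Groth.Agent.Lib.Helper93.QGorFlat3
open Groth.Agent.Lib.Helper93.QGorFlat Groth.Agent.Lib.Helper93.QGorFlat2

variable {A B : Type u} [CommRing A] [CommRing B] [Algebra A B]

section loc
variable {N' N N'' : Type u} [AddCommGroup N'] [Module B N'] [Module A N'] [IsScalarTower A B N']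
  [AddCommGroup N] [Module B N] [Module A N] [IsScalarTower A B N]
  [AddCommGroup N''] [Module B N''] [Module A N''] [IsScalarTower A B N'']

/-- `N' ∩ I N ⊆ I N'` holds locally at a prime `q` of `B` where `N / N'` is `A`-flat. -/
theorem exists_smul_mem_of_flatAt_coker (i : N' →ₗ[B] N) (p : N →ₗ[B] N'')
    (hi : Function.Injective i) (hp : Function.Surjective p) (H : Function.Exact i p)
    (q : Ideal B) [q.IsPrime] (hq : Module.Flat A (LocalizedModule q.primeCompl N''))
    (I : Ideal A) (n' : N') (h : i n' ∈ I • (⊤ : Submodule A N)) :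
    ∃ s ∈ q.primeCompl, s • n' ∈ I • (⊤ : Submodule A N') := by
  set S := q.primeCompl
  let g' := LocalizedModule.mkLinearMap S N'
  let g := LocalizedModule.mkLinearMap S N
  let g'' := LocalizedModule.mkLinearMap S N''
  let iq : LocalizedModule S N' →ₗ[B] LocalizedModule S N := IsLocalizedModule.map S g' g i
  let pq : LocalizedModule S N →ₗ[B] LocalizedModule S N'' := IsLocalizedModule.map S g g'' p
  have hiq : Function.Injective iq := IsLocalizedModule.map_injective S g' g i hi
  have hpq : Function.Surjective pq := IsLocalizedModule.map_surjective S g g'' p hp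
  have Hq : Function.Exact iq pq := IsLocalizedModule.map_exact S g' g g'' i p H
  have h1 : iq (g' n') ∈ I • (⊤ : Submodule A (LocalizedModule S N)) := by
    have : iq (g' n') = g (i n') := IsLocalizedModule.map_apply S g' g i n'
    rw [this]
    have h2 : (I • (⊤ : Submodule A N)).map (g.restrictScalars A) ≤
        I • (⊤ : Submodule A (LocalizedModule S N)) := by
      rw [Submodule.map_smul'']
      exact Submodule.smul_mono le_rfl le_top
    exact h2 ⟨_, h, rfl⟩
  have h3 : g' n' ∈ I • (⊤ : Submodule A (LocalizedModule S N')) :=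
    mem_smul_top_of_flat_coker (iq.restrictScalars A) (pq.restrictScalars A) hiq hpq Hq I _ h1
  rw [← tmul_one_eq_zero_iff] at h3
  have h4 : AlgebraTensorModule.rTensor A (A ⧸ I) g' (n' ⊗ₜ[A] (1 : A ⧸ I)) = 0 := h3
  obtain ⟨s, hs⟩ := (IsLocalizedModule.eq_zero_iff S
    (AlgebraTensorModule.rTensor A (A ⧸ I) g')).mp h4
  refine ⟨s, s.2, ?_⟩
  rw [← tmul_one_eq_zero_iff]
  rw [← hs]
  rfl

/-- `N' ∩ I N` is `J`-power torsion modulo `I N'` when `N / N'` is `A`-flat off `V(J)`. -/
theorem exists_pow_smul_mem [IsNoetherianRing B] (J : Ideal B) (i : N' →ₗ[B] N) (p : N →ₗ[B] N'')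
    (hi : Function.Injective i) (hp : Function.Surjective p) (H : Function.Exact i p)
    (hU : ∀ q : PrimeSpectrum B, ¬ J ≤ q.asIdeal → FlatCA.FlatAt A q.asIdeal N'')
    (I : Ideal A) (n' : N') (h : i n' ∈ I • (⊤ : Submodule A N)) :
    ∃ n : ℕ, ∀ b ∈ J ^ n, b • n' ∈ (I.map (algebraMap A B)) • (⊤ : Submodule B N') := by
  obtain ⟨n, hn⟩ := exists_pow_le_of_forall_prime J
    (LinearMap.ker (LinearMap.toSpanSingleton B
      (N' ⧸ ((I.map (algebraMap A B)) • (⊤ : Submodule B N'))) (Submodule.Quotient.mk n'))) (by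
      intro q hq
      obtain ⟨s, hs, hst⟩ := exists_smul_mem_of_flatAt_coker i p hi hp H q.asIdeal (hU q hq) I n' h
      refine ⟨s, ?_, hs⟩
      rw [LinearMap.mem_ker, LinearMap.toSpanSingleton_apply, ← Submodule.Quotient.mk_smul,
        Submodule.Quotient.mk_eq_zero, ← mem_smul_top_iff']
      exact hst)
  refine ⟨n, fun b hb => ?_⟩
  have := hn hb
  rw [LinearMap.mem_ker, LinearMap.toSpanSingleton_apply, ← Submodule.Quotient.mk_smul,
    Submodule.Quotient.mk_eq_zero] at this
  exact this

omit [Algebra A B] in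
/-- a `J`-power torsion element of a module with a regular element in `J` vanishes. -/
theorem eq_zero_of_pow_smul_eq_zero {P : Type u} [AddCommGroup P] [Module B P] (J : Ideal B) (x : B)
    (hxJ : x ∈ J) (hx : IsSMulRegular P x) (z : P) (n : ℕ) (h : ∀ b ∈ J ^ n, b • z = 0) : z = 0 := by
  apply hx.pow n
  simp only [smul_zero]
  exact h _ (Ideal.pow_mem_pow hxJ n)

end loc

end Groth.Agent.Lib.Helper93.QGorFlat3

namespace Groth.Agent.Lib.Helper93.QGorFlat3
open Groth.Agent.Lib.Helper93.QGorFlat Groth.Agent.Lib.Helper93.QGorFlat2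

variable {A B : Type u} [CommRing A] [CommRing B] [Algebra A B]

section lker
variable [IsLocalRing A] [IsNoetherianRing A] [IsNoetherianRing B] [IsLocalRing B]
  [IsLocalHom (algebraMap A B)]
variable {N' N N'' : Type u} [AddCommGroup N'] [Module B N'] [Module A N'] [IsScalarTower A B N']
  [AddCommGroup N] [Module B N] [Module A N] [IsScalarTower A B N]
  [AddCommGroup N''] [Module B N''] [Module A N''] [IsScalarTower A B N'']
open IsLocalRing

/-- local criterion in the form: `M ⊗ m → M` injective implies flat. -/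
theorem flat_of_mu_injective (M : Type u) [AddCommGroup M] [Module B M] [Module A M]
    [IsScalarTower A B M] [Module.Finite B M]
    (h : Function.Injective (mu (B := B) M (maximalIdeal A))) : Module.Flat A M := by
  have hinj : Function.Injective (AlgebraTensorModule.lTensor B M (maximalIdeal A).subtype) := by
    unfold mu at h
    rw [LinearMap.coe_comp] at h
    exact Function.Injective.of_comp h
  have hinj' : Function.Injective (LinearMap.lTensor M (maximalIdeal A).subtype) := hinj
  rw [LinearMap.lTensor_inj_iff_rTensor_inj] at hinj'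
  have hjac : (maximalIdeal A).map (algebraMap A B) ≤ Ideal.jacobson ⊥ := by
    rw [IsLocalRing.jacobson_eq_maximalIdeal ⊥ bot_ne_top]
    exact IsLocalRing.map_maximalIdeal_le (algebraMap A B)
  letI : Field (A ⧸ maximalIdeal A) := Ideal.Quotient.field (maximalIdeal A)
  exact Groth.Agent.Lib.Helper2.flat_of_rTensor_injective_of_flat_quotient (S := B)
    (maximalIdeal A) hjac hinj' inferInstance

theorem mu_rTensor (𝔞 : Ideal A) (i : N' →ₗ[B] N) (t : N' ⊗[A] 𝔞) :
    mu (B := B) N 𝔞 (AlgebraTensorModule.rTensor A 𝔞 i t) = i (mu (B := B) N' 𝔞 t) := by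
  induction t with
  | zero => simp
  | add a b ha hb => simp only [map_add, ha, hb]
  | tmul m c => simp

/-- the cokernel of `N' → N` is flat if `N` is flat and `N' ∩ m N = m N'`. -/
theorem flat_of_exact_of_inter (i : N' →ₗ[B] N) (p : N →ₗ[B] N'')
    (hp : Function.Surjective p) (H : Function.Exact i p) [Module.Flat A N] [Module.Finite B N'']
    (h : ∀ n' : N', i n' ∈ ((maximalIdeal A).map (algebraMap A B)) • (⊤ : Submodule B N) →
      n' ∈ ((maximalIdeal A).map (algebraMap A B)) • (⊤ : Submodule B N')) :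
    Module.Flat A N'' := by
  apply flat_of_mu_injective (B := B)
  rw [injective_iff_map_eq_zero]
  intro t ht
  have hsurj : Function.Surjective (AlgebraTensorModule.rTensor A (maximalIdeal A) p) :=
    LinearMap.rTensor_surjective (maximalIdeal A) (g := p.restrictScalars A) hp
  obtain ⟨t', rfl⟩ := hsurj t
  rw [mu_rTensor] at ht
  obtain ⟨n', hn'⟩ := (H _).mp ht
  have h1 : i n' ∈ ((maximalIdeal A).map (algebraMap A B)) • (⊤ : Submodule B N) := by
    rw [hn', ← range_mu]
    exact ⟨t', rfl⟩
  have h2 := h n' h1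
  rw [← range_mu] at h2
  obtain ⟨s, rfl⟩ := h2
  have h3 : t' = AlgebraTensorModule.rTensor A (maximalIdeal A) i s := by
    apply mu_injective (B := B) N (maximalIdeal A)
    rw [mu_rTensor, hn']
  rw [h3]
  have h4 : ∀ s : N' ⊗[A] (maximalIdeal A), AlgebraTensorModule.rTensor A (maximalIdeal A) p
      (AlgebraTensorModule.rTensor A (maximalIdeal A) i s) = 0 := by
    intro s
    induction s with
    | zero => simp
    | add a b ha hb => simp only [map_add, ha, hb, add_zero]
    | tmul m c =>
      rw [AlgebraTensorModule.rTensor_tmul, AlgebraTensorModule.rTensor_tmul, H.apply_apply_eq_zero,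
        zero_tmul]
  exact h4 s

end lker

end Groth.Agent.Lib.Helper93.QGorFlat3

namespace Groth.Agent.Lib.Helper93.QGorFlat3
open Groth.Agent.Lib.Helper93.QGorFlat Groth.Agent.Lib.Helper93.QGorFlat2

section depthlemma
variable {B : Type u} [CommRing B] [IsNoetherianRing B] [IsLocalRing B]
open IsLocalRing RingTheory.Sequence Pointwise

/-- Nakayama. -/
theorem subsingleton_of_smul_top_eq_top' (J : Ideal B) (hJ : J ≤ maximalIdeal B) (P : Type u)
    [AddCommGroup P] [Module B P] [Module.Finite B P]
    (hJtop : J • (⊤ : Submodule B P) = ⊤) : Subsingleton P := by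
  have hjac : J ≤ Ideal.jacobson ⊥ := by
    rw [IsLocalRing.jacobson_eq_maximalIdeal ⊥ bot_ne_top]; exact hJ
  have htop : (⊤ : Submodule B P) = ⊥ :=
    Submodule.eq_bot_of_le_smul_of_le_jacobson_bot J ⊤ Module.Finite.fg_top
      (le_of_eq hJtop.symm) hjac
  refine ⟨fun a b => ?_⟩
  have ha : a ∈ (⊤ : Submodule B P) := Submodule.mem_top
  have hb : b ∈ (⊤ : Submodule B P) := Submodule.mem_top
  rw [htop, Submodule.mem_bot] at ha hb
  rw [ha, hb]

/-- a regular element in `J` from `1 ≤ depth_J`, without side condition (local case). -/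
theorem exists_regular_one' (J : Ideal B) (hJ : J ≤ maximalIdeal B) (P : Type u)
    [AddCommGroup P] [Module B P] [Module.Finite B P] (h1 : 1 ≤ LocCoh.idealDepth J P) :
    ∃ x ∈ J, IsSMulRegular P x := by
  by_cases hJtop : J • (⊤ : Submodule B P) = ⊤
  · haveI := subsingleton_of_smul_top_eq_top' J hJ P hJtop
    exact ⟨0, J.zero_mem, fun a b _ => Subsingleton.elim a b⟩
  · exact Groth.Agent.Lib.Helper93.ReflexiveDepth.exists_regular_one J P h1 hJtop

/-- a regular pair in `J` from `2 ≤ depth_J`, without side condition (local case). -/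
theorem exists_regular_two' (J : Ideal B) (hJ : J ≤ maximalIdeal B) (P : Type u)
    [AddCommGroup P] [Module B P] [Module.Finite B P] (h2 : 2 ≤ LocCoh.idealDepth J P) :
    ∃ x ∈ J, ∃ y ∈ J, IsSMulRegular P x ∧
      ∀ g g' : P, y • g = x • g' → ∃ g'' : P, g = x • g'' := by
  by_cases hJtop : J • (⊤ : Submodule B P) = ⊤
  · haveI := subsingleton_of_smul_top_eq_top' J hJ P hJtop
    exact ⟨0, J.zero_mem, 0, J.zero_mem, fun a b _ => Subsingleton.elim a b,
      fun g _ _ => ⟨0, Subsingleton.elim _ _⟩⟩
  · exact Groth.Agent.Lib.Helper93.ReflexiveDepth.exists_regular_two J P h2 hJtop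

theorem not_le_of_mem_associatedPrimes (J : Ideal B) (hJ : J ≤ maximalIdeal B) (P : Type u)
    [AddCommGroup P] [Module B P] [Module.Finite B P] (h1 : 1 ≤ LocCoh.idealDepth J P)
    (p : Ideal B) (hp : p ∈ associatedPrimes B P) : ¬ J ≤ p := by
  intro hJp
  obtain ⟨x, hxJ, hx⟩ := exists_regular_one' J hJ P h1
  obtain ⟨hprime, m, hm⟩ := isAssociatedPrime_iff.1 hp
  have hxp : x ∈ p := hJp hxJ
  rw [hm, Submodule.mem_colon_singleton, Submodule.mem_bot] at hxp
  have hm0 : m = 0 := by
    apply hx
    simp only [smul_zero]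
    exact hxp
  apply hprime.ne_top
  rw [hm, hm0, Ideal.eq_top_iff_one, Submodule.mem_colon_singleton, smul_zero]
  exact Submodule.zero_mem _

theorem exists_common_regular (J : Ideal B) (hJ : J ≤ maximalIdeal B) (P P'' : Type u)
    [AddCommGroup P] [Module B P] [Module.Finite B P]
    [AddCommGroup P''] [Module B P''] [Module.Finite B P'']
    (h1 : 1 ≤ LocCoh.idealDepth J P) (h1' : 1 ≤ LocCoh.idealDepth J P'') :
    ∃ x ∈ J, IsSMulRegular P x ∧ IsSMulRegular P'' x := by
  obtain ⟨x, hxJ, hx⟩ := Groth.Agent.Lib.Helper93.ReflexiveDepth.exists_regular_of_forall_ass J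
    (P × P'') (by
      rw [associatedPrimes.prod]
      rintro p (hp | hp)
      · exact not_le_of_mem_associatedPrimes J hJ P h1 p hp
      · exact not_le_of_mem_associatedPrimes J hJ P'' h1' p hp)
  refine ⟨x, hxJ, ?_, ?_⟩
  · intro a b hab
    have : x • ((a, 0) : P × P'') = x • ((b, 0) : P × P'') := by
      simp only [Prod.smul_mk, smul_zero]; exact congrArg (fun t => (t, (0 : P''))) hab
    exact congrArg Prod.fst (hx this)
  · intro a b hab
    have : x • ((0, a) : P × P'') = x • ((0, b) : P × P'') := by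
      simp only [Prod.smul_mk, smul_zero]; exact congrArg (fun t => ((0 : P), t)) hab
    exact congrArg Prod.snd (hx this)

end depthlemma

end Groth.Agent.Lib.Helper93.QGorFlat3

namespace Groth.Agent.Lib.Helper93.QGorFlat3

section depthlemma2
variable {B : Type u} [CommRing B] [IsNoetherianRing B] [IsLocalRing B]
open IsLocalRing RingTheory.Sequence Pointwise

/-- depth lemma (kernel form): `0 → P' → P → P''` exact, `depth_J P ≥ 2`, `depth_J P'' ≥ 1`
imply `depth_J P' ≥ 2`. -/
theorem two_le_idealDepth_of_exact (J : Ideal B) (hJ : J ≤ maximalIdeal B) {P' P P'' : Type u}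
    [AddCommGroup P'] [Module B P'] [Module.Finite B P']
    [AddCommGroup P] [Module B P] [Module.Finite B P]
    [AddCommGroup P''] [Module B P''] [Module.Finite B P'']
    (i : P' →ₗ[B] P) (p : P →ₗ[B] P'') (hi : Function.Injective i) (H : Function.Exact i p)
    (h2 : 2 ≤ LocCoh.idealDepth J P) (h1 : 1 ≤ LocCoh.idealDepth J P'') :
    2 ≤ LocCoh.idealDepth J P' := by
  by_cases hP' : J • (⊤ : Submodule B P') = ⊤
  · unfold LocCoh.idealDepth
    rw [if_pos hP']
    exact le_top
  have hP : J • (⊤ : Submodule B P) ≠ ⊤ := by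
    intro h
    apply hP'
    haveI := subsingleton_of_smul_top_eq_top' J hJ P h
    haveI : Subsingleton P' := hi.subsingleton
    exact Subsingleton.elim _ _
  obtain ⟨x, hxJ, hxP, hxP''⟩ := exists_common_regular J hJ P P''
    (le_trans (by norm_num) h2) h1
  have hxP' : IsSMulRegular P' x := by
    intro a b hab
    apply hi
    apply hxP
    change x • i a = x • i b
    rw [← map_smul, ← map_smul]
    exact congrArg i hab
  -- the second element
  have hd := Groth.Agent.Lib.Helper29.DepthLib.idealDepth_quotSMulTop_add_one J P hP hxJ hxP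
  have h1Q : 1 ≤ LocCoh.idealDepth J (QuotSMulTop x P) := by
    rw [← hd] at h2
    have h3 : (1 : ℕ∞) + 1 ≤ LocCoh.idealDepth J (QuotSMulTop x P) + 1 := by
      convert h2 using 1
      norm_num
    exact (ENat.add_le_add_iff_right (by norm_num)).mp h3
  obtain ⟨y, hyJ, hy⟩ := exists_regular_one' J hJ (QuotSMulTop x P) h1Q
  have hy' : IsSMulRegular (QuotSMulTop x P') y := by
    rw [isSMulRegular_iff_right_eq_zero_of_smul]
    intro q hq
    obtain ⟨g, rfl⟩ := Submodule.Quotient.mk_surjective _ q
    rw [← Submodule.Quotient.mk_smul, Submodule.Quotient.mk_eq_zero] at hq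
    obtain ⟨g', -, hg'⟩ := (Submodule.mem_smul_pointwise_iff_exists _ _ _).mp hq
    -- `y • i g = x • i g'`
    have h3 : y • (Submodule.Quotient.mk (i g) : QuotSMulTop x P) = 0 := by
      rw [← Submodule.Quotient.mk_smul, ← map_smul, ← hg', map_smul, Submodule.Quotient.mk_eq_zero]
      exact Submodule.smul_mem_pointwise_smul _ x ⊤ Submodule.mem_top
    have h4 : (Submodule.Quotient.mk (i g) : QuotSMulTop x P) = 0 := by
      apply hy
      simp only [smul_zero]
      exact h3
    rw [Submodule.Quotient.mk_eq_zero] at h4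
    obtain ⟨e, -, he⟩ := (Submodule.mem_smul_pointwise_iff_exists _ _ _).mp h4
    have h5 : p e = 0 := by
      apply hxP''
      simp only [smul_zero]
      rw [← map_smul, he, H.apply_apply_eq_zero]
    obtain ⟨g'', rfl⟩ := (H e).mp h5
    have h6 : g = x • g'' := by
      apply hi
      rw [map_smul, he]
    rw [Submodule.Quotient.mk_eq_zero, h6]
    exact Submodule.smul_mem_pointwise_smul _ x ⊤ Submodule.mem_top
  have hreg : IsWeaklyRegular P' [x, y] := by
    rw [isWeaklyRegular_cons_iff, isWeaklyRegular_cons_iff]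
    exact ⟨hxP', hy', IsWeaklyRegular.nil _ _⟩
  have hmem : ∀ r ∈ [x, y], r ∈ J := by
    intro r hr
    simp only [List.mem_cons, List.not_mem_nil, or_false] at hr
    rcases hr with rfl | rfl
    · exact hxJ
    · exact hyJ
  have := Groth.Agent.Lib.Helper29.DepthLib.length_le_idealDepth J P' hreg hmem
  exact_mod_cast this

end depthlemma2

end Groth.Agent.Lib.Helper93.QGorFlat3

namespace Groth.Agent.Lib.Helper93.QGorFlat3
open Groth.Agent.Lib.Helper93.QGorFlat Groth.Agent.Lib.Helper93.QGorFlat2

variable {A B : Type u} [CommRing A] [CommRing B] [Algebra A B]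

section fib
variable [IsLocalRing A]
variable {N' N N'' : Type u} [AddCommGroup N'] [Module B N']
  [AddCommGroup N] [Module B N] [AddCommGroup N''] [Module B N'']
open IsLocalRing

theorem map_smul_top_of_surjective (I : Ideal B) (g : N →ₗ[B] N'') (hg : Function.Surjective g) :
    (I • (⊤ : Submodule B N)).map g = I • (⊤ : Submodule B N'') := by
  rw [Submodule.map_smul'', Submodule.map_top, LinearMap.range_eq_top.mpr hg]

/-- the induced map on closed fibres. -/
noncomputable def fibMap (i : N' →ₗ[B] N) : EGA4.FibMod A B N' →ₗ[B] EGA4.FibMod A B N :=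
  Submodule.mapQ _ _ i (by
    rw [← Submodule.map_le_iff_le_comap, Submodule.map_smul'']
    exact Submodule.smul_mono le_rfl le_top)

theorem fibMap_mk (i : N' →ₗ[B] N) (n' : N') :
    fibMap (A := A) i (Submodule.Quotient.mk n') = Submodule.Quotient.mk (i n') := rfl

end fib

section fourterm
variable [IsLocalRing A] [IsNoetherianRing A] [IsNoetherianRing B] [IsLocalRing B]
  [IsLocalHom (algebraMap A B)]
variable {F E0 E1 G : Type u}
  [AddCommGroup F] [Module B F] [Module A F] [IsScalarTower A B F] [Module.Finite B F]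
  [AddCommGroup E0] [Module B E0] [Module A E0] [IsScalarTower A B E0] [Module.Finite B E0]
  [Module.Flat A E0]
  [AddCommGroup E1] [Module B E1] [Module A E1] [IsScalarTower A B E1] [Module.Finite B E1]
  [Module.Flat A E1]
  [AddCommGroup G] [Module B G] [Module A G] [IsScalarTower A B G] [Module.Finite B G]
  (f : F →ₗ[B] E0) (u : E0 →ₗ[B] E1) (v : E1 →ₗ[B] G)
open IsLocalRing

omit [IsLocalRing A] [IsNoetherianRing A] [IsNoetherianRing B] [IsLocalRing B]
  [IsLocalHom (algebraMap A B)] [Module.Finite B E0] [Module.Flat A E0] [Module.Finite B E1]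
  [Module.Flat A E1] [Module.Finite B G] [Module A E0] [IsScalarTower A B E0] [Module A E1]
  [IsScalarTower A B E1] [Module A G] [IsScalarTower A B G] [Algebra A B] in
theorem exact_subtype (huv : Function.Exact u v) :
    Function.Exact (LinearMap.range u).subtype v := by
  intro y
  rw [huv y]
  constructor
  · rintro ⟨e, rfl⟩
    exact ⟨⟨u e, e, rfl⟩, rfl⟩
  · rintro ⟨k, rfl⟩
    exact k.2

omit [IsLocalRing A] [IsNoetherianRing A] [IsNoetherianRing B] [IsLocalRing B]
  [IsLocalHom (algebraMap A B)] [Module.Finite B E0] [Module.Flat A E0] [Module.Finite B E1]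
  [Module.Flat A E1] [Module.Finite B F] [Module A E0] [IsScalarTower A B E0] [Module A E1]
  [IsScalarTower A B E1] [Module A F] [IsScalarTower A B F] [Algebra A B] in
theorem exact_rangeRestrict (hfu : Function.Exact f u) :
    Function.Exact f u.rangeRestrict := by
  intro y
  rw [← hfu y]
  constructor
  · intro h; exact congrArg Subtype.val h
  · intro h; exact Subtype.ext h

theorem flat_range_of_flat (huv : Function.Exact u v) (hv : Function.Surjective v)
    [Module.Flat A G] : Module.Flat A (LinearMap.range u) :=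
  Groth.Agent.Lib.Helper65.flat_of_exact_of_flat
    ((LinearMap.range u).subtype.restrictScalars A) (v.restrictScalars A)
    (Submodule.subtype_injective _) hv (exact_subtype u v huv)

theorem flat_of_flat_range (hf : Function.Injective f) (hfu : Function.Exact f u)
    [Module.Flat A (LinearMap.range u)] : Module.Flat A F :=
  Groth.Agent.Lib.Helper65.flat_of_exact_of_flat
    (f.restrictScalars A) (u.rangeRestrict.restrictScalars A)
    hf u.surjective_rangeRestrict (exact_rangeRestrict f u hfu)

end fourterm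

end Groth.Agent.Lib.Helper93.QGorFlat3

namespace Groth.Agent.Lib.Helper93.QGorFlat3
open Groth.Agent.Lib.Helper93.QGorFlat Groth.Agent.Lib.Helper93.QGorFlat2

variable {A B : Type u} [CommRing A] [CommRing B] [Algebra A B]

section fourterm2
variable [IsLocalRing A] [IsNoetherianRing A] [IsNoetherianRing B] [IsLocalRing B]
  [IsLocalHom (algebraMap A B)]
variable {F E0 E1 G : Type u}
  [AddCommGroup F] [Module B F] [Module A F] [IsScalarTower A B F] [Module.Finite B F]
  [AddCommGroup E0] [Module B E0] [Module A E0] [IsScalarTower A B E0] [Module.Finite B E0]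
  [Module.Flat A E0]
  [AddCommGroup E1] [Module B E1] [Module A E1] [IsScalarTower A B E1] [Module.Finite B E1]
  [Module.Flat A E1]
  [AddCommGroup G] [Module B G] [Module A G] [IsScalarTower A B G] [Module.Finite B G]
  (J : Ideal B) (f : F →ₗ[B] E0) (u : E0 →ₗ[B] E1) (v : E1 →ₗ[B] G)
open IsLocalRing

/-- `F ∩ m E⁰ = m F` when `im u` is flat. -/
theorem inter_of_flat_range (hf : Function.Injective f) (hfu : Function.Exact f u)
    [Module.Flat A (LinearMap.range u)] (n' : F)
    (h : f n' ∈ (EGA4.mB A B) • (⊤ : Submodule B E0)) :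
    n' ∈ (EGA4.mB A B) • (⊤ : Submodule B F) := by
  rw [← mem_smul_top_iff'] at h ⊢
  exact mem_smul_top_of_flat_coker (f.restrictScalars A) (u.rangeRestrict.restrictScalars A)
    hf u.surjective_rangeRestrict (exact_rangeRestrict f u hfu) _ n' h

/-- `im u ∩ m E¹ = m (im u)` when `G` is flat. -/
theorem inter_range_of_flat (huv : Function.Exact u v) (hv : Function.Surjective v)
    [Module.Flat A G] (k : LinearMap.range u)
    (h : (k : E1) ∈ (EGA4.mB A B) • (⊤ : Submodule B E1)) :
    k ∈ (EGA4.mB A B) • (⊤ : Submodule B (LinearMap.range u)) := by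
  rw [← mem_smul_top_iff'] at h ⊢
  exact mem_smul_top_of_flat_coker ((LinearMap.range u).subtype.restrictScalars A)
    (v.restrictScalars A) (Submodule.subtype_injective _) hv (exact_subtype u v huv) _ k h

theorem fibMap_injective_of_inter
    (h : ∀ n' : F, f n' ∈ (EGA4.mB A B) • (⊤ : Submodule B E0) →
      n' ∈ (EGA4.mB A B) • (⊤ : Submodule B F)) :
    Function.Injective (fibMap (A := A) f) := by
  rw [injective_iff_map_eq_zero]
  intro q hq
  obtain ⟨n', rfl⟩ := Submodule.Quotient.mk_surjective _ q
  rw [fibMap_mk, Submodule.Quotient.mk_eq_zero] at hq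
  rw [Submodule.Quotient.mk_eq_zero]
  exact h n' hq

/-- exactness of `F/mF → E⁰/mE⁰ → E¹/mE¹` when `im u ∩ m E¹ = m (im u)`. -/
theorem fibMap_exact (hfu : Function.Exact f u)
    (h : ∀ k : LinearMap.range u, (k : E1) ∈ (EGA4.mB A B) • (⊤ : Submodule B E1) →
      k ∈ (EGA4.mB A B) • (⊤ : Submodule B (LinearMap.range u))) :
    Function.Exact (fibMap (A := A) f) (fibMap (A := A) u) := by
  intro q
  obtain ⟨e, rfl⟩ := Submodule.Quotient.mk_surjective _ q
  constructor
  · intro hq
    rw [fibMap_mk, Submodule.Quotient.mk_eq_zero] at hq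
    have h1 := h ⟨u e, e, rfl⟩ hq
    rw [← map_smul_top_of_surjective _ u.rangeRestrict u.surjective_rangeRestrict] at h1
    obtain ⟨e', he', hee'⟩ := h1
    have h2 : u (e - e') = 0 := by
      rw [map_sub, sub_eq_zero]
      exact (congrArg Subtype.val hee').symm
    obtain ⟨n', hn'⟩ := (hfu _).mp h2
    refine ⟨Submodule.Quotient.mk n', ?_⟩
    rw [fibMap_mk, hn', Submodule.Quotient.mk_sub, sub_eq_self, Submodule.Quotient.mk_eq_zero]
    exact he'
  · rintro ⟨q', hq'⟩
    obtain ⟨n', rfl⟩ := Submodule.Quotient.mk_surjective _ q'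
    rw [← hq', fibMap_mk, fibMap_mk, hfu.apply_apply_eq_zero]
    rfl

/-- (c) ⇒ (b): if `G` is flat then `depth_J (F / m F) ≥ 2`. -/
theorem two_le_of_flat (hf : Function.Injective f) (hfu : Function.Exact f u)
    (huv : Function.Exact u v) (hv : Function.Surjective v)
    (h0 : 2 ≤ LocCoh.idealDepth J (EGA4.FibMod A B E0))
    (h1 : 1 ≤ LocCoh.idealDepth J (EGA4.FibMod A B E1)) [Module.Flat A G] :
    2 ≤ LocCoh.idealDepth J (EGA4.FibMod A B F) := by
  by_cases hJ : J ≤ maximalIdeal B
  · haveI := flat_range_of_flat (A := A) u v huv hv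
    exact two_le_idealDepth_of_exact J hJ (fibMap (A := A) f) (fibMap (A := A) u)
      (fibMap_injective_of_inter f (inter_of_flat_range f u hf hfu))
      (fibMap_exact f u hfu (inter_range_of_flat u v huv hv)) h0 h1
  · have : J = ⊤ := by
      by_contra hne
      exact hJ (IsLocalRing.le_maximalIdeal hne)
    unfold LocCoh.idealDepth
    rw [if_pos (by rw [this, Submodule.top_smul])]
    exact le_top

end fourterm2

end Groth.Agent.Lib.Helper93.QGorFlat3

namespace Groth.Agent.Lib.Helper93.QGorFlat3
open Groth.Agent.Lib.Helper93.QGorFlat Groth.Agent.Lib.Helper93.QGorFlat2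

variable {A B : Type u} [CommRing A] [CommRing B] [Algebra A B]

section fourterm3
variable [IsLocalRing A] [IsNoetherianRing A] [IsNoetherianRing B] [IsLocalRing B]
  [IsLocalHom (algebraMap A B)]
variable {F E0 E1 G : Type u}
  [AddCommGroup F] [Module B F] [Module A F] [IsScalarTower A B F] [Module.Finite B F]
  [AddCommGroup E0] [Module B E0] [Module A E0] [IsScalarTower A B E0] [Module.Finite B E0]
  [Module.Flat A E0]
  [AddCommGroup E1] [Module B E1] [Module A E1] [IsScalarTower A B E1] [Module.Finite B E1]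
  [Module.Flat A E1]
  [AddCommGroup G] [Module B G] [Module A G] [IsScalarTower A B G] [Module.Finite B G]
  (J : Ideal B) (f : F →ₗ[B] E0) (u : E0 →ₗ[B] E1) (v : E1 →ₗ[B] G)
open IsLocalRing

/-- `im u` is flat over `A` wherever `G` is. -/
theorem flatAt_range (huv : Function.Exact u v) (hv : Function.Surjective v)
    (q : Ideal B) [q.IsPrime] (hG : FlatCA.FlatAt A q G) :
    FlatCA.FlatAt A q (LinearMap.range u) := by
  unfold FlatCA.FlatAt at hG ⊢
  set S := q.primeCompl
  haveI : Module.Flat A (LocalizedModule S E1) := flat_localizedModule S E1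
  haveI : Module.Flat A (LocalizedModule S G) := hG
  let g' := LocalizedModule.mkLinearMap S (LinearMap.range u)
  let g := LocalizedModule.mkLinearMap S E1
  let g'' := LocalizedModule.mkLinearMap S G
  exact Groth.Agent.Lib.Helper65.flat_of_exact_of_flat
    ((IsLocalizedModule.map S g' g (LinearMap.range u).subtype).restrictScalars A)
    ((IsLocalizedModule.map S g g'' v).restrictScalars A)
    (IsLocalizedModule.map_injective S g' g _ (Submodule.subtype_injective _))
    (IsLocalizedModule.map_surjective S g g'' _ hv)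
    (IsLocalizedModule.map_exact S g' g g'' _ _ (exact_subtype u v huv))

/-- (b) ⇒ (c): if `depth_J (F / m F) ≥ 2` then `G` is flat. -/
theorem flat_of_two_le (hf : Function.Injective f) (hfu : Function.Exact f u)
    (huv : Function.Exact u v) (hv : Function.Surjective v)
    (hGU : ∀ q : PrimeSpectrum B, ¬ J ≤ q.asIdeal → FlatCA.FlatAt A q.asIdeal G)
    (h0 : 2 ≤ LocCoh.idealDepth J (EGA4.FibMod A B E0))
    (h2 : 2 ≤ LocCoh.idealDepth J (EGA4.FibMod A B F)) : Module.Flat A G := by
  by_cases hJ : J ≤ maximalIdeal B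
  · -- Step 2: `F ∩ m E⁰ = m F`
    have hinter : ∀ n' : F, f n' ∈ (EGA4.mB A B) • (⊤ : Submodule B E0) →
        n' ∈ (EGA4.mB A B) • (⊤ : Submodule B F) := by
      intro n' hn'
      obtain ⟨x, hxJ, hx⟩ := exists_regular_one' J hJ (EGA4.FibMod A B F)
        (le_trans (by norm_num) h2)
      rw [← mem_smul_top_iff'] at hn'
      obtain ⟨n, hn⟩ := exists_pow_smul_mem J f u.rangeRestrict hf u.surjective_rangeRestrict
        (exact_rangeRestrict f u hfu)
        (fun q hq => flatAt_range u v huv hv q.asIdeal (hGU q hq)) (maximalIdeal A) n' hn'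
      have := eq_zero_of_pow_smul_eq_zero J x hxJ hx
        (Submodule.Quotient.mk n' : EGA4.FibMod A B F) n (fun b hb => by
          rw [← Submodule.Quotient.mk_smul, Submodule.Quotient.mk_eq_zero]
          exact hn b hb)
      exact (Submodule.Quotient.mk_eq_zero _).mp this
    have hfbar := fibMap_injective_of_inter (A := A) f hinter
    -- Step 3: `im u` is flat
    haveI hK : Module.Flat A (LinearMap.range u) :=
      flat_of_exact_of_inter f u.rangeRestrict u.surjective_rangeRestrict
        (exact_rangeRestrict f u hfu) hinter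
    -- Steps 4–6
    refine flat_of_exact_of_inter (LinearMap.range u).subtype v hv (exact_subtype u v huv) ?_
    intro k hk
    have hk' : (k : E1) ∈ (EGA4.mB A B) • (⊤ : Submodule B E1) := hk
    rw [← mem_smul_top_iff'] at hk'
    obtain ⟨n, hn⟩ := exists_pow_smul_mem J (LinearMap.range u).subtype v
      (Submodule.subtype_injective _) hv (exact_subtype u v huv) hGU (maximalIdeal A) k hk'
    obtain ⟨e, he⟩ := u.surjective_rangeRestrict k
    obtain ⟨x, hxJ, y, hyJ, hx, hy⟩ := exists_regular_two' J hJ (EGA4.FibMod A B F) h2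
    obtain ⟨z, hzJ, hz⟩ := exists_regular_one' J hJ (EGA4.FibMod A B E0)
      (le_trans (by norm_num) h0)
    have hmem : (Submodule.Quotient.mk e : EGA4.FibMod A B E0) ∈
        LinearMap.range (fibMap (A := A) f) := by
      apply Groth.Agent.Lib.Helper93.ReflexiveDepth.mem_range_of_pow_smul_mem J
        (fibMap (A := A) f) hfbar x y z hxJ hyJ hzJ hx hy hz n
      intro b hb
      have h1 := hn b hb
      rw [← map_smul_top_of_surjective _ u.rangeRestrict u.surjective_rangeRestrict] at h1
      obtain ⟨e', he', hee'⟩ := h1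
      have h3 : u (b • e - e') = 0 := by
        have := congrArg Subtype.val hee'
        rw [← he] at this
        rw [map_sub, sub_eq_zero, map_smul]
        exact this.symm
      obtain ⟨n', hn'⟩ := (hfu _).mp h3
      refine ⟨Submodule.Quotient.mk n', ?_⟩
      rw [fibMap_mk, hn', Submodule.Quotient.mk_sub, ← Submodule.Quotient.mk_smul, sub_eq_self,
        Submodule.Quotient.mk_eq_zero]
      exact he'
    obtain ⟨q', hq'⟩ := hmem
    obtain ⟨n', rfl⟩ := Submodule.Quotient.mk_surjective _ q'
    rw [fibMap_mk, Submodule.Quotient.eq] at hq'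
    -- `f n' - e ∈ m E⁰`
    have h4 : u.rangeRestrict (f n' - e) ∈
        (EGA4.mB A B) • (⊤ : Submodule B (LinearMap.range u)) := by
      rw [← map_smul_top_of_surjective _ u.rangeRestrict u.surjective_rangeRestrict]
      exact ⟨_, hq', rfl⟩
    have h5 : u.rangeRestrict (f n' - e) = -k := by
      rw [map_sub, he]
      have : u.rangeRestrict (f n') = 0 := Subtype.ext (hfu.apply_apply_eq_zero n')
      rw [this, zero_sub]
    rw [h5] at h4
    have := Submodule.neg_mem _ h4
    rwa [neg_neg] at this
  · exact flat_of_flatAt_maximalIdeal G (hGU ⟨maximalIdeal B, inferInstance⟩ hJ)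

end fourterm3

end Groth.Agent.Lib.Helper93.QGorFlat3

namespace Groth.Agent.Lib.Helper93.QGorFlat3
open Groth.Agent.Lib.Helper93.QGorFlat Groth.Agent.Lib.Helper93.QGorFlat2

variable {A B : Type u} [CommRing A] [CommRing B] [Algebra A B]

section fourterm4
variable [IsLocalRing A] [IsNoetherianRing A] [IsNoetherianRing B] [IsLocalRing B]
  [IsLocalHom (algebraMap A B)]
variable {F E0 E1 G : Type u}
  [AddCommGroup F] [Module B F] [Module A F] [IsScalarTower A B F] [Module.Finite B F]
  [AddCommGroup E0] [Module B E0] [Module A E0] [IsScalarTower A B E0] [Module.Finite B E0]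
  [Module.Flat A E0]
  [AddCommGroup E1] [Module B E1] [Module A E1] [IsScalarTower A B E1] [Module.Finite B E1]
  [Module.Flat A E1]
  [AddCommGroup G] [Module B G] [Module A G] [IsScalarTower A B G] [Module.Finite B G]
  (J : Ideal B) (f : F →ₗ[B] E0) (u : E0 →ₗ[B] E1) (v : E1 →ₗ[B] G)
open IsLocalRing

theorem fourTerm_main (hf : Function.Injective f) (hfu : Function.Exact f u)
    (huv : Function.Exact u v) (hv : Function.Surjective v)
    (hGU : ∀ q : PrimeSpectrum B, ¬ J ≤ q.asIdeal → FlatCA.FlatAt A q.asIdeal G)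
    (h0 : 2 ≤ LocCoh.idealDepth J (EGA4.FibMod A B E0))
    (h1 : 1 ≤ LocCoh.idealDepth J (EGA4.FibMod A B E1)) :
    (2 ≤ LocCoh.idealDepth J (EGA4.FibMod A B F) ↔ Module.Flat A G) ∧
    (Module.Flat A G ↔ ∀ n : ℕ, 2 ≤ LocCoh.idealDepth J
      (F ⧸ ((EGA4.mB A B) ^ (n + 1) • (⊤ : Submodule B F)))) ∧
    (Module.Flat A G → Module.Flat A F) := by
  have hflatF : Module.Flat A G → Module.Flat A F := by
    intro hG
    haveI := flat_range_of_flat (A := A) u v huv hv
    exact flat_of_flat_range f u hf hfu
  have h12 : 2 ≤ LocCoh.idealDepth J (EGA4.FibMod A B F) → Module.Flat A G :=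
    flat_of_two_le J f u v hf hfu huv hv hGU h0
  have h21 : Module.Flat A G → 2 ≤ LocCoh.idealDepth J (EGA4.FibMod A B F) := fun hG =>
    two_le_of_flat J f u v hf hfu huv hv h0 h1
  refine ⟨⟨h12, h21⟩, ⟨?_, ?_⟩, hflatF⟩
  · intro hG n
    haveI := hflatF hG
    exact two_le_idealDepth_quot_pow F J
      (fun q _ => flat_localizedModule q.asIdeal.primeCompl F) (h21 hG) n
  · intro h
    apply h12
    have h' := h 0
    have key : ∀ (I I' : Ideal B), I = I' →
        LocCoh.idealDepth J (F ⧸ (I • (⊤ : Submodule B F))) =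
          LocCoh.idealDepth J (F ⧸ (I' • (⊤ : Submodule B F))) := by
      intro I I' hII'
      subst hII'
      rfl
    rw [key _ (EGA4.mB A B) (by rw [zero_add, pow_one])] at h'
    exact h'

end fourterm4

end Groth.Agent.Lib.Helper93.QGorFlat3
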