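import Mathlib
import Groth.Agent.Lib.Helper93.QGorFlat3
/-!
# Hartshorne's connectedness theorem (elementary form) and connectedness in codimension `d - 1`

* `hartshorne`: in a Noetherian local ring of depth `≥ 2`, two ideals with `I * J = 0` and
  `V(I) ∩ V(J) ⊆ {m}` cannot both be nonzero (idempotent argument with a regular pair).
* `main`: if `Spec A` is connected and `depth A_p ≥ 2` whenever `ht p ≥ d`, any two minimal primes
  are joined by a chain of minimal primes with consecutive members in a common prime of height `< d`.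
-/
set_option autoImplicit false
set_option linter.unusedSectionVars false
set_option linter.style.haveILetI false
universe u

namespace Groth.Agent.Lib.Helper93.Hartshorne
open IsLocalRing

section H
variable {B : Type u} [CommRing B]

/-- powers of an elementary regular pair. -/
theorem regular_pair_pow (x y : B) (hx : IsSMulRegular B x)
    (hy : ∀ g g' : B, y * g = x * g' → ∃ g'' : B, g = x * g'') (k l : ℕ) :
    ∀ g g' : B, y ^ l * g = x ^ k * g' → ∃ g'' : B, g = x ^ k * g'' := by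
  have h1 : ∀ k : ℕ, ∀ g g' : B, y * g = x ^ k * g' → ∃ g'' : B, g = x ^ k * g'' := by
    intro k
    induction k with
    | zero => intro g _ _; exact ⟨g, by rw [pow_zero, one_mul]⟩
    | succ k ih =>
      intro g g' h
      obtain ⟨g₁, rfl⟩ := hy g (x ^ k * g') (by rw [h, pow_succ']; ring)
      have h2 : y * g₁ = x ^ k * g' := by
        apply hx
        change x * (y * g₁) = x * (x ^ k * g')
        rw [← mul_assoc x (x ^ k), ← pow_succ', ← h]; ring
      obtain ⟨g₂, rfl⟩ := ih g₁ g' h2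
      exact ⟨g₂, by rw [pow_succ']; ring⟩
  induction l with
  | zero => intro g g' h; rw [pow_zero, one_mul] at h; exact ⟨g', h⟩
  | succ l ih =>
    intro g g' h
    obtain ⟨g₁, hg₁⟩ := h1 k (y ^ l * g) g' (by rw [← h, pow_succ']; ring)
    exact ih g g₁ hg₁

variable [IsNoetherianRing B] [IsLocalRing B]

/-- Hartshorne's connectedness lemma, elementary form. -/
theorem hartshorne (h2 : (2 : ℕ∞) ≤ LocCoh.depth B B) (I J : Ideal B) (hIJ : I * J = ⊥)
    (hV : ∀ P : Ideal B, P.IsPrime → I ≤ P → J ≤ P → P = maximalIdeal B) :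
    I = ⊥ ∨ J = ⊥ := by
  obtain ⟨x₀, hx₀m, y₀, hy₀m, hx₀, hy₀⟩ :=
    Groth.Agent.Lib.Helper93.QGorFlat3.exists_regular_two' (maximalIdeal B) le_rfl B h2
  have hrad : maximalIdeal B ≤ (I ⊔ J).radical := by
    rw [Ideal.radical_eq_sInf]
    apply le_sInf
    rintro P ⟨hP, hPprime⟩
    rw [hV P hPprime (le_sup_left.trans hP) (le_sup_right.trans hP)]
  obtain ⟨k, hk⟩ := hrad hx₀m
  obtain ⟨l, hl⟩ := hrad hy₀m
  obtain ⟨a, ha, b, hb, hab⟩ := Submodule.mem_sup.mp hk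
  obtain ⟨a', ha', b', hb', hab'⟩ := Submodule.mem_sup.mp hl
  have hzero : ∀ i ∈ I, ∀ j ∈ J, i * j = 0 := by
    intro i hi j hj
    have : i * j ∈ I * J := Ideal.mul_mem_mul hi hj
    rwa [hIJ, Ideal.mem_bot] at this
  have hxk : IsSMulRegular B (x₀ ^ k) := hx₀.pow k
  have hpair := regular_pair_pow x₀ y₀ hx₀ (fun g g' h => hy₀ g g' h) k l
  have h1 : y₀ ^ l * a = x₀ ^ k * a' := by
    rw [← hab, ← hab', add_mul, add_mul, mul_comm b' a, hzero a ha b' hb', mul_comm b a',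
      hzero a' ha' b hb, add_zero, add_zero, mul_comm]
  obtain ⟨e, he⟩ := hpair a a' h1
  have he2 : e * e = e := by
    apply hxk
    apply hxk
    change x₀ ^ k * (x₀ ^ k * (e * e)) = x₀ ^ k * (x₀ ^ k * e)
    have : a * a = x₀ ^ k * a := by
      rw [← hab, add_mul, mul_comm b a, hzero a ha b hb, add_zero]
    calc x₀ ^ k * (x₀ ^ k * (e * e)) = (x₀ ^ k * e) * (x₀ ^ k * e) := by ring
      _ = a * a := by rw [← he]
      _ = x₀ ^ k * a := this
      _ = x₀ ^ k * (x₀ ^ k * e) := by rw [he]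
  have he01 : e = 0 ∨ e = 1 := by
    have h : e * (1 - e) = 0 := by rw [mul_sub, mul_one, he2, sub_self]
    rcases IsLocalRing.isUnit_or_isUnit_one_sub_self e with hu | hu
    · right
      have := hu.mul_right_eq_zero.mp h
      rw [sub_eq_zero] at this
      exact this.symm
    · left
      exact hu.mul_left_eq_zero.mp h
  rcases he01 with rfl | rfl
  · left
    rw [mul_zero] at he
    rw [he, zero_add] at hab
    rw [eq_bot_iff]
    intro i hi
    rw [Ideal.mem_bot]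
    apply hxk
    change x₀ ^ k * i = x₀ ^ k * 0
    rw [mul_zero, ← hab, mul_comm]
    exact hzero i hi b hb
  · right
    rw [mul_one] at he
    rw [he] at hab
    have hb0 : b = 0 := by
      have := hab
      rwa [add_eq_left] at this
    rw [eq_bot_iff]
    intro j hj
    rw [Ideal.mem_bot]
    apply hxk
    change x₀ ^ k * j = x₀ ^ k * 0
    rw [mul_zero]
    exact hzero _ (he ▸ ha) j hj

end H
end Groth.Agent.Lib.Helper93.Hartshorne

namespace Groth.Agent.Lib.Helper93.Hartshorne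
variable {A : Type u} [CommRing A]

/-- connectedness of two minimal primes by a chain with consecutive members in a common prime
of height `< d`. -/
def Conn (d : ℕ) (p p'' : Ideal A) : Prop :=
  ∃ (n : ℕ) (c : Fin (n + 1) → Ideal A), c 0 = p ∧ c (Fin.last n) = p'' ∧
    (∀ i, c i ∈ minimalPrimes A) ∧
      ∀ i : Fin n, ∃ (q : Ideal A) (_ : q.IsPrime),
        c i.castSucc ≤ q ∧ c i.succ ≤ q ∧ q.height + 1 ≤ (d : ℕ∞)

theorem Conn.refl (d : ℕ) {p : Ideal A} (hp : p ∈ minimalPrimes A) : Conn d p p :=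
  ⟨0, fun _ => p, rfl, rfl, fun _ => hp, fun i => i.elim0⟩

theorem Conn.snoc (d : ℕ) {p p₁ p₂ : Ideal A} (h : Conn d p p₁) (hp₂ : p₂ ∈ minimalPrimes A)
    (q : Ideal A) (hq : q.IsPrime) (h1 : p₁ ≤ q) (h2 : p₂ ≤ q) (hht : q.height + 1 ≤ (d : ℕ∞)) :
    Conn d p p₂ := by
  obtain ⟨n, c, hc0, hcl, hcm, hstep⟩ := h
  refine ⟨n + 1, Fin.snoc (α := fun _ => Ideal A) c p₂, ?_, ?_, ?_, ?_⟩
  · have : (0 : Fin (n + 2)) = Fin.castSucc (0 : Fin (n + 1)) := rfl
    rw [this, Fin.snoc_castSucc, hc0]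
  · rw [Fin.snoc_last]
  · intro i
    refine Fin.lastCases ?_ (fun j => ?_) i
    · rw [Fin.snoc_last]; exact hp₂
    · rw [Fin.snoc_castSucc]; exact hcm j
  · intro i
    refine Fin.lastCases ?_ (fun j => ?_) i
    · refine ⟨q, hq, ?_, ?_, hht⟩
      · rw [Fin.snoc_castSucc, hcl]; exact h1
      · rw [Fin.succ_last, Fin.snoc_last]; exact h2
    · obtain ⟨q', hq', h1', h2', hht'⟩ := hstep j
      refine ⟨q', hq', ?_, ?_, hht'⟩
      · rw [Fin.snoc_castSucc]; exact h1'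
      · rw [← Fin.castSucc_succ, Fin.snoc_castSucc]; exact h2'

end Groth.Agent.Lib.Helper93.Hartshorne

namespace Groth.Agent.Lib.Helper93.Hartshorne
open IsLocalRing
variable {A : Type u} [CommRing A]

theorem main [IsNoetherianRing A] [ConnectedSpace (PrimeSpectrum A)] (d : ℕ)
    (h : ∀ (p : Ideal A) [p.IsPrime], (d : ℕ∞) ≤ p.height →
      (2 : ℕ∞) ≤ LocCoh.depth (Localization.AtPrime p) (Localization.AtPrime p))
    (p' p'' : Ideal A) (hp' : p' ∈ minimalPrimes A) (hp'' : p'' ∈ minimalPrimes A) :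
    Conn d p' p'' := by
  classical
  by_contra hcon
  have hfin : (minimalPrimes A).Finite := minimalPrimes.finite_of_isNoetherianRing A
  have hp'FC : p' ∈ hfin.toFinset.filter (fun p => Conn d p' p) :=
    Finset.mem_filter.mpr ⟨hfin.mem_toFinset.mpr hp', Conn.refl d hp'⟩
  have hp''FC' : p'' ∈ hfin.toFinset.filter (fun p => ¬ Conn d p' p) :=
    Finset.mem_filter.mpr ⟨hfin.mem_toFinset.mpr hp'', hcon⟩
  obtain ⟨𝔞, h𝔞⟩ : ∃ 𝔞 : Ideal A, 𝔞 = (hfin.toFinset.filter (fun p => Conn d p' p)).inf id :=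
    ⟨_, rfl⟩
  obtain ⟨𝔟, h𝔟⟩ : ∃ 𝔟 : Ideal A, 𝔟 = (hfin.toFinset.filter (fun p => ¬ Conn d p' p)).inf id :=
    ⟨_, rfl⟩
  have h𝔞le : ∀ p₀ ∈ minimalPrimes A, Conn d p' p₀ → 𝔞 ≤ p₀ := by
    intro p₀ hp₀ hc
    rw [h𝔞]
    exact Finset.inf_le (f := id) (Finset.mem_filter.mpr ⟨hfin.mem_toFinset.mpr hp₀, hc⟩)
  have h𝔟le : ∀ p₀ ∈ minimalPrimes A, ¬ Conn d p' p₀ → 𝔟 ≤ p₀ := by
    intro p₀ hp₀ hc
    rw [h𝔟]
    exact Finset.inf_le (f := id) (Finset.mem_filter.mpr ⟨hfin.mem_toFinset.mpr hp₀, hc⟩)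
  have h𝔞prime : ∀ P : Ideal A, P.IsPrime → 𝔞 ≤ P → ∃ p₀ ∈ minimalPrimes A, Conn d p' p₀ ∧ p₀ ≤ P := by
    intro P hP hle
    rw [h𝔞, Ideal.IsPrime.inf_le' hP] at hle
    obtain ⟨p₀, hp₀, hp₀P⟩ := hle
    rw [Finset.mem_filter] at hp₀
    exact ⟨p₀, hfin.mem_toFinset.mp hp₀.1, hp₀.2, hp₀P⟩
  have h𝔟prime : ∀ P : Ideal A, P.IsPrime → 𝔟 ≤ P →
      ∃ p₀ ∈ minimalPrimes A, ¬ Conn d p' p₀ ∧ p₀ ≤ P := by
    intro P hP hle
    rw [h𝔟, Ideal.IsPrime.inf_le' hP] at hle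
    obtain ⟨p₀, hp₀, hp₀P⟩ := hle
    rw [Finset.mem_filter] at hp₀
    exact ⟨p₀, hfin.mem_toFinset.mp hp₀.1, hp₀.2, hp₀P⟩
  -- every prime contains 𝔞 or 𝔟
  have hcover : ∀ P : Ideal A, P.IsPrime → 𝔞 ≤ P ∨ 𝔟 ≤ P := by
    intro P hP
    obtain ⟨p₀, hp₀, hp₀P⟩ := Ideal.exists_minimalPrimes_le (bot_le : (⊥ : Ideal A) ≤ P)
    by_cases hc : Conn d p' p₀
    · exact Or.inl ((h𝔞le p₀ hp₀ hc).trans hp₀P)
    · exact Or.inr ((h𝔟le p₀ hp₀ hc).trans hp₀P)
  have hnil : ∃ N : ℕ, (𝔞 * 𝔟) ^ N = ⊥ := by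
    have hle : 𝔞 * 𝔟 ≤ nilradical A := by
      rw [nilradical_eq_sInf]
      apply le_sInf
      intro P hP
      rcases hcover P hP with h | h
      · exact Ideal.mul_le_left.trans h
      · exact Ideal.mul_le_right.trans h
    obtain ⟨N, hN⟩ := IsNoetherianRing.isNilpotent_nilradical A
    refine ⟨N, le_bot_iff.mp ?_⟩
    have := Ideal.pow_right_mono hle N
    rwa [hN, Ideal.zero_eq_bot] at this
  obtain ⟨N, hN⟩ := hnil
  -- connectedness
  have hne : ∃ P : PrimeSpectrum A, 𝔞 ≤ P.asIdeal ∧ 𝔟 ≤ P.asIdeal := by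
    have hpre := isPreconnected_univ (α := PrimeSpectrum A)
    rw [isPreconnected_closed_iff] at hpre
    have := hpre (PrimeSpectrum.zeroLocus 𝔞) (PrimeSpectrum.zeroLocus 𝔟)
      (PrimeSpectrum.isClosed_zeroLocus _) (PrimeSpectrum.isClosed_zeroLocus _)
      (by
        intro P _
        rcases hcover P.asIdeal P.2 with h | h
        · exact Or.inl ((PrimeSpectrum.mem_zeroLocus _ _).mpr h)
        · exact Or.inr ((PrimeSpectrum.mem_zeroLocus _ _).mpr h))
      ⟨⟨p', hp'.1.1⟩, Set.mem_univ _, (PrimeSpectrum.mem_zeroLocus _ _).mpr (h𝔞le p' hp' (Conn.refl d hp'))⟩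
      ⟨⟨p'', hp''.1.1⟩, Set.mem_univ _, (PrimeSpectrum.mem_zeroLocus _ _).mpr (h𝔟le p'' hp'' hcon)⟩
    obtain ⟨P, -, hP1, hP2⟩ := this
    exact ⟨P, (PrimeSpectrum.mem_zeroLocus _ _).mp hP1, (PrimeSpectrum.mem_zeroLocus _ _).mp hP2⟩
  obtain ⟨P, hP1, hP2⟩ := hne
  haveI := P.2
  obtain ⟨q, hq, hqP⟩ := Ideal.exists_minimalPrimes_le (sup_le hP1 hP2)
  have hqprime : q.IsPrime := hq.1.1
  obtain ⟨p₁, hp₁, hc₁, hp₁q⟩ := h𝔞prime q hqprime (le_sup_left.trans hq.1.2)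
  obtain ⟨p₂, hp₂, hc₂, hp₂q⟩ := h𝔟prime q hqprime (le_sup_right.trans hq.1.2)
  have hht : (d : ℕ∞) ≤ q.height := by
    by_contra hlt
    apply hc₂
    refine Conn.snoc d hc₁ hp₂ q hqprime hp₁q hp₂q ?_
    rw [not_le] at hlt
    exact Order.add_one_le_of_lt hlt
  have hdepth := h q hht
  -- localize at `q`
  have hφ𝔞 : ∀ (p₀ : Ideal A), p₀.IsPrime → p₀ ≤ q →
      (𝔞.map (algebraMap A (Localization.AtPrime q))) ^ N = ⊥ → 𝔞 ≤ p₀ := by
    intro p₀ hp₀ hp₀q hI
    have hdisj : Disjoint (q.primeCompl : Set A) (p₀ : Set A) :=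
      Set.disjoint_left.mpr fun x hx hx' => hx (hp₀q hx')
    have hprime := IsLocalization.isPrime_of_isPrime_disjoint q.primeCompl
      (Localization.AtPrime q) p₀ hp₀ hdisj
    have h1 : 𝔞.map (algebraMap A (Localization.AtPrime q)) ≤
        p₀.map (algebraMap A (Localization.AtPrime q)) :=
      hprime.le_of_pow_le (n := N) (hI ▸ bot_le)
    have h2 := Ideal.map_le_iff_le_comap.mp h1
    have h3 := IsLocalization.under_map_of_isPrime_disjoint q.primeCompl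
      (Localization.AtPrime q) hp₀ hdisj
    rw [Ideal.under_def] at h3
    rwa [h3] at h2
  have hφ𝔟 : ∀ (p₀ : Ideal A), p₀.IsPrime → p₀ ≤ q →
      (𝔟.map (algebraMap A (Localization.AtPrime q))) ^ N = ⊥ → 𝔟 ≤ p₀ := by
    intro p₀ hp₀ hp₀q hI
    have hdisj : Disjoint (q.primeCompl : Set A) (p₀ : Set A) :=
      Set.disjoint_left.mpr fun x hx hx' => hx (hp₀q hx')
    have hprime := IsLocalization.isPrime_of_isPrime_disjoint q.primeCompl
      (Localization.AtPrime q) p₀ hp₀ hdisj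
    have h1 : 𝔟.map (algebraMap A (Localization.AtPrime q)) ≤
        p₀.map (algebraMap A (Localization.AtPrime q)) :=
      hprime.le_of_pow_le (n := N) (hI ▸ bot_le)
    have h2 := Ideal.map_le_iff_le_comap.mp h1
    have h3 := IsLocalization.under_map_of_isPrime_disjoint q.primeCompl
      (Localization.AtPrime q) hp₀ hdisj
    rw [Ideal.under_def] at h3
    rwa [h3] at h2
  have hIJ : (𝔞.map (algebraMap A (Localization.AtPrime q))) ^ N *
      (𝔟.map (algebraMap A (Localization.AtPrime q))) ^ N = ⊥ := by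
    rw [← mul_pow, ← Ideal.map_mul, ← Ideal.map_pow, hN, Ideal.map_bot]
  have hV : ∀ Q : Ideal (Localization.AtPrime q), Q.IsPrime →
      (𝔞.map (algebraMap A (Localization.AtPrime q))) ^ N ≤ Q →
      (𝔟.map (algebraMap A (Localization.AtPrime q))) ^ N ≤ Q →
      Q = maximalIdeal (Localization.AtPrime q) := by
    intro Q hQ h1 h2
    have h1' := Ideal.map_le_iff_le_comap.mp (hQ.le_of_pow_le h1)
    have h2' := Ideal.map_le_iff_le_comap.mp (hQ.le_of_pow_le h2)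
    have hQq : Q.comap (algebraMap A (Localization.AtPrime q)) ≤ q := by
      have h3 := IsLocalization.AtPrime.under_maximalIdeal (Localization.AtPrime q) q
      rw [Ideal.under_def] at h3
      exact (Ideal.comap_mono (IsLocalRing.le_maximalIdeal hQ.ne_top)).trans (le_of_eq h3)
    have hqQ : q ≤ Q.comap (algebraMap A (Localization.AtPrime q)) :=
      hq.2 ⟨Ideal.comap_isPrime _ _, sup_le h1' h2'⟩ hQq
    have heq : Q.comap (algebraMap A (Localization.AtPrime q)) = q := le_antisymm hQq hqQ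
    rw [← IsLocalization.map_under q.primeCompl (Localization.AtPrime q) Q, Ideal.under_def, heq,
      Localization.AtPrime.map_eq_maximalIdeal]
  rcases hartshorne hdepth _ _ hIJ hV with hI | hJ
  · -- `𝔞 ≤ p₂`
    have h1 := hφ𝔞 p₂ hp₂.1.1 hp₂q hI
    obtain ⟨p₀, hp₀, hc₀, hp₀le⟩ := h𝔞prime p₂ hp₂.1.1 h1
    have : p₀ = p₂ := le_antisymm hp₀le (hp₂.2 ⟨hp₀.1.1, bot_le⟩ hp₀le)
    exact hc₂ (this ▸ hc₀)
  · have h1 := hφ𝔟 p₁ hp₁.1.1 hp₁q hJ
    obtain ⟨p₀, hp₀, hc₀, hp₀le⟩ := h𝔟prime p₁ hp₁.1.1 h1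
    have : p₀ = p₁ := le_antisymm hp₀le (hp₁.2 ⟨hp₀.1.1, bot_le⟩ hp₀le)
    exact hc₀ (this ▸ hc₁)

end Groth.Agent.Lib.Helper93.Hartshorne
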