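import Mathlib
import Groth.Agent.Lib.Helper93.Hartshorne
import Groth.Prelude.Def_Found
/-!
# A catenary Noetherian local ring satisfying `(S₂)` is equidimensional

Uses Hartshorne connectedness in codimension one (`Helper93.Hartshorne.main` with `d = 2`) and the
chain form of catenarity: `coheight` drops by exactly one along coverings of primes.
-/
set_option autoImplicit false
set_option linter.unusedSectionVars false
set_option linter.style.haveILetI false
universe u
namespace Groth.Agent.Lib.Helper93.Equidim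
open IsLocalRing Order

variable {A : Type u} [CommRing A] [IsLocalRing A] [IsNoetherianRing A]

instance : ConnectedSpace (PrimeSpectrum A) where
  isPreconnected_univ := by
    rw [isPreconnected_closed_iff]
    intro t t' ht ht' _ ⟨x, _, hx⟩ ⟨y, _, hy⟩
    exact ⟨closedPoint A, Set.mem_univ _,
      (IsLocalRing.specializes_closedPoint x).mem_closed ht hx,
      (IsLocalRing.specializes_closedPoint y).mem_closed ht' hy⟩
  toNonempty := ⟨closedPoint A⟩

theorem coheight_lt_top' (r : PrimeSpectrum A) : coheight r < ⊤ := Order.coheight_lt_top r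

/-- a saturated chain from `r` to the closed point of length `coheight r`. -/
theorem exists_covBy_series (r : PrimeSpectrum A) (n : ℕ) (hn : coheight r = n) :
    ∃ t : RelSeries {(a, b) : PrimeSpectrum A × PrimeSpectrum A | a ⋖ b},
      t.head = r ∧ t.last = closedPoint A ∧ t.length = n := by
  haveI : WellFoundedLT (PrimeSpectrum A) :=
    ⟨SetRel.IsWellFounded.of_finiteDimensional
      (r := {(a, b) : PrimeSpectrum A × PrimeSpectrum A | a < b})⟩
  haveI : WellFoundedGT (PrimeSpectrum A) :=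
    ⟨SetRel.IsWellFounded.inv_of_finiteDimensional
      (r := {(a, b) : PrimeSpectrum A × PrimeSpectrum A | a < b})⟩
  obtain ⟨p, hp, hlen⟩ := exists_series_of_coheight_eq_coe r hn
  have hlast : p.last = closedPoint A := by
    by_contra hne
    have hlt : p.last < closedPoint A :=
      lt_of_le_of_ne (IsLocalRing.le_maximalIdeal p.last.2.ne_top) hne
    have h1 := Order.length_le_coheight_head (p := p.snoc (closedPoint A) hlt)
    rw [RelSeries.head_snoc, hp, hn, RelSeries.snoc_length, hlen] at h1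
    exact absurd h1 (by exact_mod_cast Nat.not_succ_le_self n)
  obtain ⟨t, i, hti, hi0, hil⟩ := p.exists_relSeries_covBy
  refine ⟨t, ?_, ?_, ?_⟩
  · rw [← hp, RelSeries.head, RelSeries.head, ← hi0, ← hti, Function.comp]
  · rw [← hlast, RelSeries.last, RelSeries.last, ← hil, ← hti, Function.comp]
  · apply le_antisymm
    · have hle : {(a, b) : PrimeSpectrum A × PrimeSpectrum A | a ⋖ b} ≤
          {(a, b) : PrimeSpectrum A × PrimeSpectrum A | a < b} := fun x hx => hx.lt
      have h1 := Order.length_le_coheight_head (p := t.ofLE hle)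
      have h2 : (t.ofLE hle).head = r := by
        change t.head = r
        rw [← hp, RelSeries.head, RelSeries.head, ← hi0, ← hti, Function.comp]
      rw [h2, hn] at h1
      exact_mod_cast h1
    · have := Fintype.card_le_of_embedding i
      simp only [Fintype.card_fin] at this
      omega

theorem covBy_le_lt : {(a, b) : PrimeSpectrum A × PrimeSpectrum A | a ⋖ b} ≤
    {(a, b) : PrimeSpectrum A × PrimeSpectrum A | a < b} := fun _ hx => hx.lt

/-- in a catenary local ring, `coheight` drops by exactly one along a covering. -/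
theorem coheight_eq_of_covBy (hc : CAlg.IsCatenary A) {p q : PrimeSpectrum A} (hpq : p ⋖ q) :
    coheight p = coheight q + 1 := by
  obtain ⟨k, hk⟩ := ENat.ne_top_iff_exists.mp (Order.coheight_lt_top p).ne
  obtain ⟨l, hl⟩ := ENat.ne_top_iff_exists.mp (Order.coheight_lt_top q).ne
  obtain ⟨s, hs0, hsl, hslen⟩ := exists_covBy_series p k hk.symm
  obtain ⟨t, ht0, htl, htlen⟩ := exists_covBy_series q l hl.symm
  let t' := t.cons p (by rw [ht0]; exact hpq)
  have h := hc.2 (s.ofLE covBy_le_lt) (t'.ofLE covBy_le_lt)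
    (by change s.head = t'.head; rw [hs0, RelSeries.head_cons])
    (by change s.last = t'.last; rw [hsl, RelSeries.last_cons, htl])
    (fun i => s.step i) (fun i => t'.step i)
  have h' : s.length = t'.length := h
  rw [hslen, RelSeries.cons_length, htlen] at h'
  rw [← hk, ← hl, h']
  rfl

open Classical in
/-- coheight of an ideal (`0` for non-prime ideals). -/
noncomputable def ch (I : Ideal A) : ℕ∞ := if h : I.IsPrime then coheight (⟨I, h⟩ : PrimeSpectrum A) else 0

theorem ch_eq (I : Ideal A) (h : I.IsPrime) : ch I = coheight (⟨I, h⟩ : PrimeSpectrum A) := by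
  unfold ch; rw [dif_pos h]

theorem ch_eq_of_common (hc : CAlg.IsCatenary A) {p₁ p₂ : Ideal A} (hp₁ : p₁ ∈ minimalPrimes A)
    (hp₂ : p₂ ∈ minimalPrimes A) (q : Ideal A) (hq : q.IsPrime) (h1 : p₁ ≤ q) (h2 : p₂ ≤ q)
    (hht : q.height + 1 ≤ ((2 : ℕ) : ℕ∞)) : ch p₁ = ch p₂ := by
  by_cases hne : p₁ = p₂
  · rw [hne]
  have hqtop : q.height ≠ ⊤ := by
    intro htop
    rw [htop, top_add, top_le_iff] at hht
    exact ENat.natCast_ne_top 2 hht
  have hqlt : q.height < 2 := by
    have := (ENat.add_one_le_iff hqtop).mp hht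
    exact_mod_cast this
  have key : ∀ (p₁ p₂ : Ideal A), p₁ ∈ minimalPrimes A → p₂ ∈ minimalPrimes A → p₁ ≠ p₂ →
      p₁ ≤ q → p₂ ≤ q → ch p₁ = coheight (⟨q, hq⟩ : PrimeSpectrum A) + 1 := by
    intro p₁ p₂ hp₁ hp₂ hne h1 h2
    have hp₁prime : p₁.IsPrime := hp₁.1.1
    rw [ch_eq p₁ hp₁prime]
    apply coheight_eq_of_covBy hc
    have hlt : (⟨p₁, hp₁prime⟩ : PrimeSpectrum A) < ⟨q, hq⟩ := by
      refine lt_of_le_of_ne h1 ?_
      intro heq
      have heq' : p₁ = q := congrArg PrimeSpectrum.asIdeal heq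
      apply hne
      have h21 : p₂ ≤ p₁ := heq' ▸ h2
      exact le_antisymm (hp₁.2 ⟨hp₂.1.1, bot_le⟩ h21) h21
    refine ⟨hlt, ?_⟩
    intro Z hZ1 hZ2
    have e1 := Order.height_add_one_le hZ1
    have e2 := Order.height_add_one_le hZ2
    have e3 : (2 : ℕ∞) ≤ Order.height (⟨q, hq⟩ : PrimeSpectrum A) := by
      calc (2 : ℕ∞) = 0 + 1 + 1 := by norm_num
        _ ≤ Order.height (⟨p₁, hp₁prime⟩ : PrimeSpectrum A) + 1 + 1 := by gcongr; exact zero_le
        _ ≤ Order.height Z + 1 := by gcongr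
        _ ≤ _ := e2
    have e4 : q.height = Order.height (⟨q, hq⟩ : PrimeSpectrum A) := by
      exact PrimeSpectrum.height_eq_orderHeight (⟨q, hq⟩ : PrimeSpectrum A)
    rw [e4] at hqlt
    exact absurd e3 (not_le.mpr hqlt)
  rw [key p₁ p₂ hp₁ hp₂ hne h1 h2, key p₂ p₁ hp₂ hp₁ (Ne.symm hne) h2 h1]

open Groth.Agent.Lib.Helper93.Hartshorne in
theorem ch_eq_of_conn (hc : CAlg.IsCatenary A) {p₁ p₂ : Ideal A} (h : Conn 2 p₁ p₂) :
    ch p₁ = ch p₂ := by
  obtain ⟨n, c, hc0, hcl, hcm, hstep⟩ := h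
  have key : ∀ i : Fin (n + 1), ch (c i) = ch (c 0) := by
    intro i
    induction i using Fin.induction with
    | zero => rfl
    | succ j ih =>
      obtain ⟨q, hq, h1, h2, hht⟩ := hstep j
      rw [← ih]
      exact (ch_eq_of_common hc (hcm _) (hcm _) q hq h1 h2 hht).symm
  rw [← hc0, ← hcl, key (Fin.last n)]

open Groth.Agent.Lib.Helper93.Hartshorne in
theorem main (hc : CAlg.IsCatenary A)
    (h : ∀ p : PrimeSpectrum A, (2 : ℕ∞) ≤ p.asIdeal.height →
      (2 : ℕ∞) ≤ LocCoh.depth (Localization.AtPrime p.asIdeal) (Localization.AtPrime p.asIdeal))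
    (p : Ideal A) (hp : p ∈ minimalPrimes A) : ringKrullDim (A ⧸ p) = ringKrullDim A := by
  have hpprime : p.IsPrime := hp.1.1
  have hconn : ∀ p₁ ∈ minimalPrimes A, ch p₁ = ch p := by
    intro p₁ hp₁
    exact ch_eq_of_conn hc (Groth.Agent.Lib.Helper93.Hartshorne.main 2
      (fun q hq hht => h ⟨q, hq⟩ (by exact_mod_cast hht)) p₁ p hp₁ hp)
  have h1 : ringKrullDim (A ⧸ p) = ((ch p : ℕ∞) : WithBot ℕ∞) := by
    rw [ringKrullDim_quotient, ch_eq p hpprime, Order.coheight_eq_krullDim_Ici]
    congr 1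
  rw [h1]
  apply le_antisymm
  · rw [ch_eq p hpprime]
    exact Order.coheight_le_krullDim _
  · rw [ringKrullDim, Order.krullDim_eq_iSup_coheight]
    apply iSup_le
    intro x
    obtain ⟨p₀, hp₀, hp₀x⟩ := Ideal.exists_minimalPrimes_le (bot_le : (⊥ : Ideal A) ≤ x.asIdeal)
    rw [← hconn p₀ hp₀, ch_eq p₀ hp₀.1.1]
    exact_mod_cast Order.coheight_anti (show (⟨p₀, hp₀.1.1⟩ : PrimeSpectrum A) ≤ x from hp₀x)

end Groth.Agent.Lib.Helper93.Equidim
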