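import Groth.Agent.Lib.Helper93.Reflexive4

set_option autoImplicit false
set_option linter.unusedSectionVars false
open scoped TensorProduct nonZeroDivisors
namespace Groth.Agent.Lib.Helper93.Reflexive
universe u

variable {R : Type u} [CommRing R] [IsDomain R] [IsNoetherianRing R]

theorem isReflexive_localizedModule (M : Type u) [AddCommGroup M] [Module R M]
    [Module.Finite R M] [Module.IsReflexive R M] (p : Ideal R) [p.IsPrime] :
    Module.IsReflexive (Localization.AtPrime p) (LocalizedModule p.primeCompl M) := by
  have h : Module.IsReflexive (Localization.AtPrime p) (Localization.AtPrime p ⊗[R] M) :=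
    isReflexive_baseChange (Localization.AtPrime p) M
  exact Module.equiv (LocalizedModule.equivTensorProduct p.primeCompl M).symm

section
variable (M : Type u) [AddCommGroup M] [Module R M] [Module.FinitePresentation R M]
  [Module.FinitePresentation R (Module.Dual R M)]
variable (S : Submonoid R)

/-- first dual localization map -/
noncomputable abbrev D₁ : Module.Dual R M →ₗ[R] Module.Dual (Localization S) (LocalizedModule S M) :=
  IsLocalizedModule.mapExtendScalars S (LocalizedModule.mkLinearMap S M)
    (Algebra.linearMap R (Localization S)) (Localization S)

noncomputable abbrev D₂ : Module.Dual R (Module.Dual R M) →ₗ[R]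
    Module.Dual (Localization S) (Module.Dual (Localization S) (LocalizedModule S M)) :=
  IsLocalizedModule.mapExtendScalars S (D₁ M S)
    (Algebra.linearMap R (Localization S)) (Localization S)

theorem D₁_apply (l : Module.Dual R M) (m : M) :
    D₁ M S l (LocalizedModule.mkLinearMap S M m) = algebraMap R (Localization S) (l m) := by
  rw [IsLocalizedModule.mapExtendScalars_apply_apply, IsLocalizedModule.map_apply]
  rfl

theorem D₂_apply (ξ : Module.Dual R (Module.Dual R M)) (l : Module.Dual R M) :
    D₂ M S ξ (D₁ M S l) = algebraMap R (Localization S) (ξ l) := by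
  rw [IsLocalizedModule.mapExtendScalars_apply_apply, IsLocalizedModule.map_apply]
  rfl

theorem map_eval_eq :
    IsLocalizedModule.map S (LocalizedModule.mkLinearMap S M) (D₂ M S) (Module.Dual.eval R M) =
      (Module.Dual.eval (Localization S) (LocalizedModule S M)).restrictScalars R := by
  apply IsLocalizedModule.ext S (LocalizedModule.mkLinearMap S M)
    (IsLocalizedModule.map_units (D₂ M S))
  refine LinearMap.ext fun m => ?_
  rw [LinearMap.comp_apply, LinearMap.comp_apply, IsLocalizedModule.map_apply,
    LinearMap.restrictScalars_apply]
  -- compare two functionals on Dual (M_S)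
  refine LinearMap.ext fun ψ => ?_
  obtain ⟨⟨l, s⟩, hls⟩ := IsLocalizedModule.surj S (D₁ M S) ψ
  have hs : IsUnit (algebraMap R (Localization S) s) := IsLocalization.map_units _ s
  apply hs.mul_left_cancel
  have h1 : algebraMap R (Localization S) s * (D₂ M S (Module.Dual.eval R M m)) ψ =
      (D₂ M S (Module.Dual.eval R M m)) (s • ψ) := by
    rw [Submonoid.smul_def, ← algebraMap_smul (Localization S) (s : R) ψ, map_smul, smul_eq_mul]
  have h2 : algebraMap R (Localization S) s *
      (Module.Dual.eval (Localization S) (LocalizedModule S M) (LocalizedModule.mkLinearMap S M m)) ψ =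
      (s • ψ) (LocalizedModule.mkLinearMap S M m) := by
    rw [Module.Dual.eval_apply, Submonoid.smul_def, ← algebraMap_smul (Localization S) (s : R) ψ,
      LinearMap.smul_apply, smul_eq_mul]
  rw [h1, h2, hls, D₂_apply, D₁_apply, Module.Dual.eval_apply]

end

theorem isReflexive_of_forall_maximal (M : Type u) [AddCommGroup M] [Module R M]
    [Module.Finite R M]
    (h : ∀ (m : Ideal R) [m.IsMaximal],
      Module.IsReflexive (Localization.AtPrime m) (LocalizedModule m.primeCompl M)) :
    Module.IsReflexive R M := by
  have hfp : Module.FinitePresentation R M := Module.finitePresentation_of_finite R M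
  have hfp' : Module.FinitePresentation R (Module.Dual R M) := Module.finitePresentation_of_finite R _
  constructor
  refine bijective_of_isLocalized_maximal
    (fun P _ => LocalizedModule P.primeCompl M) (fun P _ => LocalizedModule.mkLinearMap P.primeCompl M)
    (fun P _ => Module.Dual (Localization P.primeCompl)
      (Module.Dual (Localization P.primeCompl) (LocalizedModule P.primeCompl M)))
    (fun P _ => D₂ M P.primeCompl) (Module.Dual.eval R M) ?_
  intro P hP
  rw [map_eval_eq]
  exact Module.bijective_dual_eval (Localization.AtPrime P) (LocalizedModule P.primeCompl M)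

end Groth.Agent.Lib.Helper93.Reflexive
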