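import Groth.Agent.Lib.Helper93.ReflexiveDepth
import Groth.Agent.S6876
import Groth.Agent.S6880
import Groth.Agent.S18539
import Groth.Agent.Lib.Helper49.Serre2

set_option autoImplicit false
set_option linter.unusedSectionVars false
open scoped TensorProduct nonZeroDivisors Pointwise
namespace Groth.Agent.Lib.Helper93.ReflexiveDepth
universe u

open Groth.Agent.Lib.Helper93.Reflexive

/-- Localization of a reflexive module is reflexive (no domain hypothesis). -/
theorem isReflexive_localizedModule' {A : Type u} [CommRing A] (G : Type u) [AddCommGroup G]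
    [Module A G] [Module.FinitePresentation A G] [Module.FinitePresentation A (Module.Dual A G)]
    [Module.IsReflexive A G] (S : Submonoid A) :
    Module.IsReflexive (Localization S) (LocalizedModule S G) := by
  constructor
  have h := map_eval_eq' G S
  have hb : Function.Bijective (IsLocalizedModule.map S (LocalizedModule.mkLinearMap S G) (D₂ G S)
      (Module.Dual.eval A G)) :=
    ⟨IsLocalizedModule.map_injective _ _ _ _ (Module.bijective_dual_eval A G).injective,
      IsLocalizedModule.map_surjective _ _ _ _ (Module.bijective_dual_eval A G).surjective⟩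
  rw [h] at hb
  exact hb

/-- Depth of a reflexive module over a Noetherian local ring is at least `min 2 (depth B)`. -/
theorem le_depth_of_isReflexive {B : Type u} [CommRing B] [IsNoetherianRing B] [IsLocalRing B]
    (N : Type u) [AddCommGroup N] [Module B N] [Module.Finite B N] [Module.IsReflexive B N]
    (j : ℕ) (hj : j ≤ 2) (h : (j : ℕ∞) ≤ LocCoh.depth B B) : (j : ℕ∞) ≤ LocCoh.depth B N := by
  rw [Groth.Agent.S6880.depth_congr (Module.evalEquiv B N)]
  have h12 := Groth.Agent.S6876.result B (Module.Dual B N) B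
  interval_cases j
  · exact zero_le
  · exact_mod_cast h12.1 (by exact_mod_cast h)
  · exact_mod_cast h12.2 (by exact_mod_cast h)

/-- Arithmetic in `WithBot ℕ∞` for Serre's conditions. -/
theorem min_le_of_forall_le (k : ℕ) (s h : WithBot ℕ∞) (δ γ : ℕ∞) (hsh : s ≤ h)
    (hA : min (k : WithBot ℕ∞) h ≤ (δ : WithBot ℕ∞))
    (hmono : ∀ j : ℕ, j ≤ k → (j : ℕ∞) ≤ δ → (j : ℕ∞) ≤ γ) :
    min (k : WithBot ℕ∞) s ≤ (γ : WithBot ℕ∞) := by
  have ht : min (k : WithBot ℕ∞) s ≤ (k : WithBot ℕ∞) := min_le_left _ _
  have ht2 : min (k : WithBot ℕ∞) s ≤ (δ : WithBot ℕ∞) :=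
    le_trans (min_le_min_left _ hsh) hA
  generalize min (k : WithBot ℕ∞) s = t at ht ht2
  induction t using WithBot.recBotCoe with
  | bot => exact bot_le
  | coe a =>
    have ha : a ≤ (k : ℕ∞) := by exact_mod_cast ht
    have ha2 : a ≤ δ := by exact_mod_cast ht2
    obtain ⟨j, rfl⟩ : ∃ j : ℕ, a = j := by
      have : a ≠ ⊤ := ne_top_of_le_ne_top (ENat.natCast_ne_top k) ha
      exact ⟨a.toNat, (ENat.natCast_toNat this).symm⟩
    have hjk : j ≤ k := by exact_mod_cast ha
    exact_mod_cast hmono j hjk ha2

end Groth.Agent.Lib.Helper93.ReflexiveDepth
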