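import Mathlib
/-!
# Integral modules and parameters

`IsIntegralMod A M`: `M` has a single associated prime, at which its localization has length one.
`step`: over a Noetherian local ring, if `x ∈ 𝔪` drops `dim Supp M` by one and `M/xM` is integral,
then `M` is integral and `x` is `M`-regular.  (`M_𝔮` is cyclic with `𝔮 M_𝔮 = x M_𝔮`; by Krull's
intersection theorem every nonzero element is `xⁿ · unit · generator`; the dimension hypothesis
makes `x` a nonzerodivisor on `M_𝔮`; `M → M_𝔮` is injective because `Ass (M/xM) = {𝔮}`.)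
`main`: the version for a sequence of parameters.
-/
set_option autoImplicit false
set_option linter.unusedSectionVars false
set_option linter.style.haveILetI false
universe u
open IsLocalRing Pointwise

namespace Groth.Agent.Lib.Helper93.IntegralMod

section loc
variable {A : Type u} [CommRing A] (M : Type u) [AddCommGroup M] [Module A M] (x : A)

theorem map_lsmul (S : Submonoid A) (y : LocalizedModule S M) :
    LocalizedModule.map S (LinearMap.lsmul A M x) y = x • y := by
  induction y using LocalizedModule.induction_on with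
  | h m s => rw [LocalizedModule.map_mk, LocalizedModule.smul'_mk]; rfl

theorem exact_lsmul_mkQ :
    Function.Exact (LinearMap.lsmul A M x) (Submodule.mkQ (x • (⊤ : Submodule A M))) := by
  intro m
  rw [Submodule.mkQ_apply, Submodule.Quotient.mk_eq_zero, Submodule.mem_smul_pointwise_iff_exists]
  constructor
  · rintro ⟨m', -, rfl⟩; exact ⟨m', rfl⟩
  · rintro ⟨m', rfl⟩; exact ⟨m', trivial, rfl⟩

/-- the kernel of `M_S → (M/xM)_S` is `x M_S`. -/
theorem map_mkQ_eq_zero_iff (S : Submonoid A) (y : LocalizedModule S M) :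
    LocalizedModule.map S (Submodule.mkQ (x • (⊤ : Submodule A M))) y = 0 ↔
      ∃ y' : LocalizedModule S M, x • y' = y := by
  have h : LocalizedModule.map S (Submodule.mkQ (x • (⊤ : Submodule A M))) y = 0 ↔
      y ∈ Set.range (LocalizedModule.map S (LinearMap.lsmul A M x)) :=
    LocalizedModule.map_exact S _ _ (exact_lsmul_mkQ M x) y
  rw [h]
  constructor
  · rintro ⟨y', rfl⟩; exact ⟨y', (map_lsmul M x S y').symm⟩
  · rintro ⟨y', rfl⟩; exact ⟨y', map_lsmul M x S y'⟩

end loc

theorem smul_eq_zero_of_isSimpleModule {R V : Type*} [CommRing R] [IsLocalRing R]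
    [AddCommGroup V] [Module R V] [IsSimpleModule R V] (c : R) (hc : c ∈ maximalIdeal R) (v : V) :
    c • v = 0 := by
  obtain ⟨I, hI, ⟨e⟩⟩ := isSimpleModule_iff_quot_maximal.mp ‹IsSimpleModule R V›
  have hIm := IsLocalRing.eq_maximalIdeal hI
  apply e.injective
  rw [map_smul, map_zero]
  obtain ⟨a, ha⟩ := Submodule.Quotient.mk_surjective _ (e v)
  rw [← ha, ← Submodule.Quotient.mk_smul, Submodule.Quotient.mk_eq_zero, hIm, smul_eq_mul]
  exact Ideal.mul_mem_right _ _ hc

section key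
variable {A : Type u} [CommRing A] [IsNoetherianRing A] [IsLocalRing A]
  (M : Type u) [AddCommGroup M] [Module A M] [Module.Finite A M]
  (x : A) (𝔮 : Ideal A) [𝔮.IsPrime]
  [hs : IsSimpleModule (Localization.AtPrime 𝔮)
    (LocalizedModule 𝔮.primeCompl (M ⧸ x • (⊤ : Submodule A M)))]

/-- `𝔮 M_𝔮 ⊆ x M_𝔮`. -/
theorem max_smul_mem (c : Localization.AtPrime 𝔮) (hc : c ∈ maximalIdeal (Localization.AtPrime 𝔮))
    (y : LocalizedModule 𝔮.primeCompl M) : ∃ y' : LocalizedModule 𝔮.primeCompl M, x • y' = c • y := by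
  rw [← map_mkQ_eq_zero_iff, map_smul]
  exact smul_eq_zero_of_isSimpleModule (V := LocalizedModule 𝔮.primeCompl
    (M ⧸ x • (⊤ : Submodule A M))) c hc _

theorem exists_mk_one_ne_zero : ∃ m₀ : M, LocalizedModule.mk
    (Submodule.mkQ (x • (⊤ : Submodule A M)) m₀) (1 : 𝔮.primeCompl) ≠ 0 := by
  haveI : Nontrivial (LocalizedModule 𝔮.primeCompl (M ⧸ x • (⊤ : Submodule A M))) :=
    IsSimpleModule.nontrivial (Localization.AtPrime 𝔮) _
  obtain ⟨v, hv⟩ := exists_ne (0 : LocalizedModule 𝔮.primeCompl (M ⧸ x • (⊤ : Submodule A M)))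
  induction v using LocalizedModule.induction_on with
  | h n s =>
    obtain ⟨m₀, rfl⟩ := Submodule.mkQ_surjective _ n
    refine ⟨m₀, fun h0 => hv ?_⟩
    rw [← LocalizedModule.zero_mk 1, LocalizedModule.mk_eq] at h0
    obtain ⟨u, hu⟩ := h0
    rw [← LocalizedModule.zero_mk s, LocalizedModule.mk_eq]
    refine ⟨u, ?_⟩
    rw [one_smul, one_smul, smul_zero] at hu
    rw [smul_zero, smul_zero, smul_comm, hu, smul_zero]

theorem algebraMap_mem_max (a : A) (ha : a ∈ 𝔮) :
    algebraMap A (Localization.AtPrime 𝔮) a ∈ maximalIdeal (Localization.AtPrime 𝔮) :=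
  (IsLocalization.AtPrime.to_map_mem_maximal_iff (Localization.AtPrime 𝔮) 𝔮 a).mpr ha

/-- `M_𝔮` is generated by the image of one element of `M`. -/
theorem exists_gen (hx𝔮 : x ∈ 𝔮) : ∃ m₀ : M, ∀ y : LocalizedModule 𝔮.primeCompl M,
    ∃ c : Localization.AtPrime 𝔮, y = c • LocalizedModule.mkLinearMap 𝔮.primeCompl M m₀ := by
  obtain ⟨m₀, hm₀⟩ := exists_mk_one_ne_zero M x 𝔮
  refine ⟨m₀, ?_⟩
  set g := LocalizedModule.mkLinearMap 𝔮.primeCompl M m₀ with hg
  have hπg : LocalizedModule.map 𝔮.primeCompl (Submodule.mkQ (x • (⊤ : Submodule A M))) g =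
      LocalizedModule.mk (Submodule.mkQ (x • (⊤ : Submodule A M)) m₀) 1 := by
    rw [hg, LocalizedModule.mkLinearMap_apply, LocalizedModule.map_mk]
  have hsurj := (isSimpleModule_iff_toSpanSingleton_surjective.mp hs).2 _ hm₀
  have key : (⊤ : Submodule (Localization.AtPrime 𝔮) (LocalizedModule 𝔮.primeCompl M)) ≤
      Submodule.span (Localization.AtPrime 𝔮) {g} := by
    apply Submodule.le_of_le_smul_of_le_jacobson_bot (I := maximalIdeal (Localization.AtPrime 𝔮))
      Module.Finite.fg_top (by rw [IsLocalRing.jacobson_eq_maximalIdeal ⊥ bot_ne_top])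
    intro y _
    obtain ⟨c, hc⟩ := hsurj (LocalizedModule.map 𝔮.primeCompl
      (Submodule.mkQ (x • (⊤ : Submodule A M))) y)
    rw [LinearMap.toSpanSingleton_apply] at hc
    have h0 : LocalizedModule.map 𝔮.primeCompl (Submodule.mkQ (x • (⊤ : Submodule A M)))
        (y - c • g) = 0 := by
      rw [map_sub, map_smul, hπg, hc, sub_self]
    obtain ⟨y', hy'⟩ := (map_mkQ_eq_zero_iff M x _ _).mp h0
    rw [Submodule.mem_sup]
    refine ⟨c • g, Submodule.smul_mem _ _ (Submodule.mem_span_singleton_self g), x • y', ?_,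
      by rw [hy']; abel⟩
    rw [← algebraMap_smul (Localization.AtPrime 𝔮) x y']
    exact Submodule.smul_mem_smul (algebraMap_mem_max 𝔮 x hx𝔮) Submodule.mem_top
  intro y
  obtain ⟨c, hc⟩ := Submodule.mem_span_singleton.mp (key (Submodule.mem_top : y ∈ ⊤))
  exact ⟨c, hc.symm⟩

/-- every nonzero element of `M_𝔮` is `xⁿ · unit · g`. -/
theorem exists_eq_pow_smul (hx𝔮 : x ∈ 𝔮) (m₀ : M)
    (hgen : ∀ y : LocalizedModule 𝔮.primeCompl M,
      ∃ c : Localization.AtPrime 𝔮, y = c • LocalizedModule.mkLinearMap 𝔮.primeCompl M m₀)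
    (y : LocalizedModule 𝔮.primeCompl M) (hy : y ≠ 0) :
    ∃ (n : ℕ) (c : Localization.AtPrime 𝔮), IsUnit c ∧
      y = x ^ n • c • LocalizedModule.mkLinearMap 𝔮.primeCompl M m₀ := by
  by_contra hno
  push Not at hno
  have hall : ∀ k : ℕ, ∃ yk : LocalizedModule 𝔮.primeCompl M, y = x ^ k • yk := by
    intro k
    induction k with
    | zero => exact ⟨y, by rw [pow_zero, one_smul]⟩
    | succ k ih =>
      obtain ⟨yk, hyk⟩ := ih
      obtain ⟨c, hc⟩ := hgen yk
      have hcm : c ∈ maximalIdeal (Localization.AtPrime 𝔮) := by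
        by_contra hcu
        rw [IsLocalRing.notMem_maximalIdeal] at hcu
        exact hno k c hcu (by rw [hyk, hc])
      obtain ⟨y', hy'⟩ := max_smul_mem M x 𝔮 c hcm
        (LocalizedModule.mkLinearMap 𝔮.primeCompl M m₀)
      exact ⟨y', by rw [hyk, hc, ← hy', pow_succ, mul_smul]⟩
  apply hy
  have hI : Ideal.span {algebraMap A (Localization.AtPrime 𝔮) x} ≠ ⊤ := by
    intro h
    rw [Ideal.span_singleton_eq_top] at h
    exact (IsLocalRing.notMem_maximalIdeal.mpr h) (algebraMap_mem_max 𝔮 x hx𝔮)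
  have hkr := Ideal.iInf_pow_smul_eq_bot_of_isLocalRing
    (M := LocalizedModule 𝔮.primeCompl M) _ hI
  rw [← Submodule.mem_bot (Localization.AtPrime 𝔮), ← hkr, Submodule.mem_iInf]
  intro k
  obtain ⟨yk, hyk⟩ := hall k
  rw [Ideal.span_singleton_pow, Submodule.ideal_span_singleton_smul, hyk, ← map_pow,
    ← algebraMap_smul (Localization.AtPrime 𝔮) (x ^ k) yk]
  exact Submodule.smul_mem_pointwise_smul _ _ _ Submodule.mem_top

/-- `x` is a nonzerodivisor on `M_𝔮`, given a prime of the support inside `𝔮` avoiding `x`. -/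
theorem smul_regular_loc (hx𝔮 : x ∈ 𝔮) (m₀ : M)
    (hgen : ∀ y : LocalizedModule 𝔮.primeCompl M,
      ∃ c : Localization.AtPrime 𝔮, y = c • LocalizedModule.mkLinearMap 𝔮.primeCompl M m₀)
    (m₁ : M) (𝔭₀ : Ideal A) [𝔭₀.IsPrime] (h𝔭₀ : 𝔭₀ ≤ 𝔮) (hx𝔭₀ : x ∉ 𝔭₀)
    (hann : ∀ a : A, a • m₁ = 0 → a ∈ 𝔭₀)
    (y : LocalizedModule 𝔮.primeCompl M) (hxy : x • y = 0) : y = 0 := by
  by_contra hy
  obtain ⟨n, c, hc, rfl⟩ := exists_eq_pow_smul M x 𝔮 hx𝔮 m₀ hgen y hy
  have h1 : x ^ (n + 1) • LocalizedModule.mkLinearMap 𝔮.primeCompl M m₀ = 0 := by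
    have h2 : c • (x ^ (n + 1) • LocalizedModule.mkLinearMap 𝔮.primeCompl M m₀) = 0 := by
      rw [smul_comm, pow_succ', mul_smul]; exact hxy
    exact hc.smul_eq_zero.mp h2
  obtain ⟨c₁, hc₁⟩ := hgen (LocalizedModule.mkLinearMap 𝔮.primeCompl M m₁)
  have h3 : LocalizedModule.mkLinearMap 𝔮.primeCompl M (x ^ (n + 1) • m₁) = 0 := by
    rw [map_smul, hc₁, smul_comm, h1, smul_zero]
  obtain ⟨s, hs0⟩ := (IsLocalizedModule.eq_zero_iff 𝔮.primeCompl
    (LocalizedModule.mkLinearMap 𝔮.primeCompl M)).mp h3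
  have h4 : (s.1 * x ^ (n + 1)) ∈ 𝔭₀ := hann _ (by rw [mul_smul]; exact hs0)
  rcases Ideal.IsPrime.mem_or_mem ‹𝔭₀.IsPrime› h4 with h5 | h5
  · exact s.2 (h𝔭₀ h5)
  · exact hx𝔭₀ (Ideal.IsPrime.mem_of_pow_mem ‹𝔭₀.IsPrime› _ h5)

omit hs in
/-- `M → M_𝔮` is injective when `x` is regular on `M_𝔮` and `Ass(M/xM) = {𝔮}`. -/
theorem mkLinearMap_injective (hxm : x ∈ maximalIdeal A)
    (hAss : associatedPrimes A (M ⧸ x • (⊤ : Submodule A M)) = {𝔮})
    (hreg : ∀ y : LocalizedModule 𝔮.primeCompl M, x • y = 0 → y = 0) :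
    Function.Injective (LocalizedModule.mkLinearMap 𝔮.primeCompl M) := by
  rw [← LinearMap.ker_eq_bot]
  by_contra hTne
  set T := LinearMap.ker (LocalizedModule.mkLinearMap 𝔮.primeCompl M) with hT
  have hle : x • (⊤ : Submodule A T) ≤ Submodule.comap T.subtype (x • (⊤ : Submodule A M)) := by
    intro t ht
    rw [Submodule.mem_smul_pointwise_iff_exists] at ht
    obtain ⟨t', -, rfl⟩ := ht
    rw [Submodule.mem_comap, map_smul]
    exact Submodule.smul_mem_pointwise_smul _ _ _ Submodule.mem_top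
  let ι : (T ⧸ x • (⊤ : Submodule A T)) →ₗ[A] (M ⧸ x • (⊤ : Submodule A M)) :=
    Submodule.mapQ _ _ T.subtype hle
  have hι : Function.Injective ι := by
    rw [injective_iff_map_eq_zero]
    intro tb htb
    obtain ⟨t, rfl⟩ := Submodule.mkQ_surjective _ tb
    rw [Submodule.mkQ_apply, Submodule.mapQ_apply, Submodule.Quotient.mk_eq_zero,
      Submodule.mem_smul_pointwise_iff_exists] at htb
    obtain ⟨m, -, hm⟩ := htb
    have hmT : m ∈ T := by
      rw [hT, LinearMap.mem_ker]
      apply hreg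
      rw [← map_smul, hm]
      exact t.2
    rw [Submodule.mkQ_apply, Submodule.Quotient.mk_eq_zero, Submodule.mem_smul_pointwise_iff_exists]
    exact ⟨⟨m, hmT⟩, Submodule.mem_top, Subtype.ext hm⟩
  haveI : Nontrivial (T ⧸ x • (⊤ : Submodule A T)) := by
    rw [Submodule.Quotient.nontrivial_iff]
    intro htop
    have h1 : (⊤ : Submodule A T) ≤ Ideal.span {x} • (⊤ : Submodule A T) := by
      rw [Submodule.ideal_span_singleton_smul, htop]
    have h2 := Submodule.eq_bot_of_le_smul_of_le_jacobson_bot _ _ Module.Finite.fg_top h1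
      (by rw [IsLocalRing.jacobson_eq_maximalIdeal ⊥ bot_ne_top, Ideal.span_singleton_le_iff_mem]
          exact hxm)
    apply hTne
    rw [eq_bot_iff]
    intro t ht
    have : (⟨t, ht⟩ : T) ∈ (⊤ : Submodule A T) := Submodule.mem_top
    rw [h2, Submodule.mem_bot] at this
    rw [Submodule.mem_bot]
    exact congrArg Subtype.val this
  obtain ⟨p, hp⟩ := associatedPrimes.nonempty A (T ⧸ x • (⊤ : Submodule A T))
  have hp' := associatedPrimes.subset_of_injective hι hp
  rw [hAss, Set.mem_singleton_iff] at hp'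
  subst hp'
  obtain ⟨-, tb, htb⟩ := isAssociatedPrime_iff.mp hp
  obtain ⟨t, rfl⟩ := Submodule.mkQ_surjective _ tb
  obtain ⟨s, hs0⟩ := (IsLocalizedModule.eq_zero_iff p.primeCompl
    (LocalizedModule.mkLinearMap p.primeCompl M)).mp t.2
  apply s.2
  have hmem : s.1 ∈ (⊥ : Submodule A (T ⧸ x • (⊤ : Submodule A T))).colon
      {Submodule.mkQ (x • (⊤ : Submodule A T)) t} := by
    rw [Submodule.mem_colon_singleton, Submodule.mem_bot, ← map_smul]
    have : s.1 • t = 0 := Subtype.ext hs0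
    rw [this, map_zero]
  rw [← htb] at hmem
  exact hmem

omit hs in
theorem le_of_mem_support_quot
    (hAss : associatedPrimes A (M ⧸ x • (⊤ : Submodule A M)) = {𝔮})
    (r : PrimeSpectrum A) (hr : r ∈ Module.support A (M ⧸ x • (⊤ : Submodule A M))) :
    𝔮 ≤ r.asIdeal := by
  rw [Module.mem_support_iff_of_finite] at hr
  obtain ⟨p, hp, hpr⟩ := Ideal.exists_minimalPrimes_le hr
  have := Module.associatedPrimes.minimalPrimes_annihilator_subset_associatedPrimes A _ hp
  rw [hAss, Set.mem_singleton_iff] at this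
  rw [← this]
  exact hpr

omit hs in
theorem mem_support_quot
    (hAss : associatedPrimes A (M ⧸ x • (⊤ : Submodule A M)) = {𝔮}) :
    (⟨𝔮, inferInstance⟩ : PrimeSpectrum A) ∈ Module.support A (M ⧸ x • (⊤ : Submodule A M)) := by
  rw [Module.mem_support_iff_of_finite]
  have h𝔮 : 𝔮 ∈ associatedPrimes A (M ⧸ x • (⊤ : Submodule A M)) := by rw [hAss]; rfl
  have := IsAssociatedPrime.annihilator_le h𝔮
  rwa [Submodule.annihilator_top] at this

omit hs in
theorem mem_support_quot_iff (r : PrimeSpectrum A) :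
    r ∈ Module.support A (M ⧸ x • (⊤ : Submodule A M)) ↔
      r ∈ Module.support A M ∧ x ∈ r.asIdeal := by
  have := Module.support_quotSMulTop (M := M) x
  unfold QuotSMulTop at this
  rw [this, Set.mem_inter_iff, PrimeSpectrum.mem_zeroLocus, Set.singleton_subset_iff]
  rfl

end key

theorem le_of_succ_le_succ' (d : ℕ) (s : WithBot ℕ∞)
    (h : ((d + 1 : ℕ) : WithBot ℕ∞) ≤ s + 1) : (d : WithBot ℕ∞) ≤ s := by
  induction s using WithBot.recBotCoe with
  | bot => simp at h
  | coe t =>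
    induction t using ENat.recTopCoe with
    | top => exact le_top
    | coe n =>
      have h' : ((d + 1 : ℕ) : WithBot ℕ∞) ≤ ((n + 1 : ℕ) : WithBot ℕ∞) := by
        push_cast; exact h
      have h'' : d + 1 ≤ n + 1 := by exact_mod_cast h'
      exact_mod_cast (by omega : d ≤ n)

section key2
variable {A : Type u} [CommRing A] [IsNoetherianRing A] [IsLocalRing A]
  (M : Type u) [AddCommGroup M] [Module A M] [Module.Finite A M]
  (x : A) (𝔮 : Ideal A) [𝔮.IsPrime]

theorem mem_support_ring_quot (I : Ideal A) (r : PrimeSpectrum A) :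
    r ∈ Module.support A (A ⧸ I) ↔ I ≤ r.asIdeal := by
  rw [Module.support_eq_zeroLocus, Ideal.annihilator_quotient, PrimeSpectrum.mem_zeroLocus]
  rfl

theorem mem_support_quotSMulTop_quot (I : Ideal A) (r : PrimeSpectrum A) :
    r ∈ Module.support A (QuotSMulTop x (A ⧸ I)) ↔ I ≤ r.asIdeal ∧ x ∈ r.asIdeal := by
  rw [Module.support_quotSMulTop, Set.mem_inter_iff, mem_support_ring_quot,
    PrimeSpectrum.mem_zeroLocus, Set.singleton_subset_iff]
  rfl

/-- dimension input: a prime of `Supp M` inside `𝔮` avoiding `x`. -/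
theorem exists_prime_support (hxm : x ∈ maximalIdeal A)
    (hAss : associatedPrimes A (M ⧸ x • (⊤ : Submodule A M)) = {𝔮})
    (hdim : Module.supportDim A (M ⧸ x • (⊤ : Submodule A M)) + 1 = Module.supportDim A M) :
    ∃ 𝔭₀ : PrimeSpectrum A, 𝔭₀ ∈ Module.support A M ∧ 𝔭₀.asIdeal ≤ 𝔮 ∧ x ∉ 𝔭₀.asIdeal := by
  haveI : Nontrivial (M ⧸ x • (⊤ : Submodule A M)) := by
    by_contra hnt
    rw [not_nontrivial_iff_subsingleton] at hnt
    have := associatedPrimes.eq_empty_of_subsingleton (R := A) (M := M ⧸ x • (⊤ : Submodule A M))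
    rw [hAss] at this
    exact Set.singleton_ne_empty _ this
  have h1 : Module.supportDim A (M ⧸ x • (⊤ : Submodule A M)) ≠ ⊥ :=
    Module.supportDim_ne_bot_of_nontrivial A _
  have h2 : Module.supportDim A (M ⧸ x • (⊤ : Submodule A M)) ≠ ⊤ :=
    ne_top_of_le_ne_top ringKrullDim_ne_top (Module.supportDim_le_ringKrullDim A _)
  obtain ⟨e, he⟩ := WithBot.ne_bot_iff_exists.mp h1
  have he' : e ≠ ⊤ := by rintro rfl; exact h2 he.symm
  obtain ⟨d', rfl⟩ := ENat.ne_top_iff_exists.mp he'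
  have hM : ((d' + 1 : ℕ) : WithBot ℕ∞) ≤ Module.supportDim A M := by
    rw [← hdim, ← he]; push_cast; rfl
  obtain ⟨l, hl⟩ := Order.le_krullDim_iff.mp hM
  have hxhead : x ∉ l.head.1.asIdeal := by
    intro hxh
    let l' : LTSeries (Module.support A (M ⧸ x • (⊤ : Submodule A M))) :=
      { length := l.length
        toFun := fun i => ⟨(l i).1, (mem_support_quot_iff M x _).mpr
          ⟨(l i).2, (l.head_le i) hxh⟩⟩
        step := fun i => l.step i }
    have h3 := Order.LTSeries.length_le_krullDim l'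
    change ((l.length : ℕ) : WithBot ℕ∞) ≤ Module.supportDim A (M ⧸ x • (⊤ : Submodule A M)) at h3
    rw [← he, hl] at h3
    have h4 : d' + 1 ≤ d' := by exact_mod_cast h3
    omega
  refine ⟨l.head.1, l.head.2, ?_, hxhead⟩
  let l₁ : LTSeries (Module.support A (A ⧸ l.head.1.asIdeal)) :=
    { length := l.length
      toFun := fun i => ⟨(l i).1, (mem_support_ring_quot _ _).mpr (l.head_le i)⟩
      step := fun i => l.step i }
  have h3 : ((d' + 1 : ℕ) : WithBot ℕ∞) ≤ Module.supportDim A (A ⧸ l.head.1.asIdeal) := by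
    have := Order.LTSeries.length_le_krullDim l₁
    change ((l.length : ℕ) : WithBot ℕ∞) ≤ _ at this
    rw [hl] at this
    exact this
  have h4 := Module.supportDim_le_supportDim_quotSMulTop_succ (M := A ⧸ l.head.1.asIdeal) hxm
  have h5 := le_of_succ_le_succ' d' _ (h3.trans h4)
  obtain ⟨l₂, hl₂⟩ := Order.le_krullDim_iff.mp h5
  have hmem : ∀ i, (l₂ i).1 ∈ Module.support A (M ⧸ x • (⊤ : Submodule A M)) := by
    intro i
    have h6 := (mem_support_quotSMulTop_quot x _ _).mp (l₂ i).2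
    rw [mem_support_quot_iff]
    exact ⟨Module.mem_support_mono (show l.head.1 ≤ (l₂ i).1 from h6.1) l.head.2,
      h6.2⟩
  have h𝔮le : 𝔮 ≤ (l₂.head).1.asIdeal := le_of_mem_support_quot M x 𝔮 hAss _ (hmem 0)
  have h𝔮eq : (l₂.head).1.asIdeal = 𝔮 := by
    by_contra hne
    let l₃ : LTSeries (Module.support A (M ⧸ x • (⊤ : Submodule A M))) :=
      { length := l₂.length
        toFun := fun i => ⟨(l₂ i).1, hmem i⟩
        step := fun i => l₂.step i }
    have hlt : (⟨⟨𝔮, inferInstance⟩, mem_support_quot M x 𝔮 hAss⟩ :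
        Module.support A (M ⧸ x • (⊤ : Submodule A M))) < l₃.head :=
      lt_of_le_of_ne h𝔮le (fun h => hne (by
        have := congrArg (fun z => z.1.asIdeal) h
        exact this.symm))
    have h7 := Order.LTSeries.length_le_krullDim (l₃.cons _ hlt)
    change (((l₃.cons _ hlt).length : ℕ) : WithBot ℕ∞) ≤
      Module.supportDim A (M ⧸ x • (⊤ : Submodule A M)) at h7
    rw [← he, RelSeries.cons_length] at h7
    have h8 : l₃.length = d' := hl₂
    rw [h8] at h7
    have h9 : d' + 1 ≤ d' := by exact_mod_cast h7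
    omega
  rw [← h𝔮eq]
  exact ((mem_support_quotSMulTop_quot x _ _).mp (l₂.head).2).1

end key2

section concl
variable {A : Type u} [CommRing A] [IsNoetherianRing A] [IsLocalRing A]
  (M : Type u) [AddCommGroup M] [Module A M] [Module.Finite A M]
  (x : A) (𝔮 : Ideal A) [𝔮.IsPrime] (m₀ : M)
  (hinj : Function.Injective (LocalizedModule.mkLinearMap 𝔮.primeCompl M))
  (hregL : ∀ y : LocalizedModule 𝔮.primeCompl M, x • y = 0 → y = 0)
  (hgen : ∀ y : LocalizedModule 𝔮.primeCompl M,
      ∃ c : Localization.AtPrime 𝔮, y = c • LocalizedModule.mkLinearMap 𝔮.primeCompl M m₀)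

include hinj hregL in
theorem isSMulRegular_of : IsSMulRegular M x := by
  rw [isSMulRegular_iff_right_eq_zero_of_smul]
  intro m hm
  apply hinj
  rw [map_zero]
  apply hregL
  rw [← map_smul, hm, map_zero]

include hinj in
/-- elements outside `𝔮` are nonzerodivisors on `M`. -/
theorem eq_zero_of_smul_eq_zero (s : A) (hs : s ∉ 𝔮) (m : M) (h : s • m = 0) : m = 0 := by
  apply hinj
  rw [map_zero]
  have h1 : s • LocalizedModule.mkLinearMap 𝔮.primeCompl M m = 0 := by
    rw [← map_smul, h, map_zero]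
  have hu : IsUnit (algebraMap A (Localization.AtPrime 𝔮) s) :=
    IsLocalization.map_units (Localization.AtPrime 𝔮) (⟨s, hs⟩ : 𝔮.primeCompl)
  rw [← algebraMap_smul (Localization.AtPrime 𝔮) s] at h1
  exact hu.smul_eq_zero.mp h1

include hinj hgen in
theorem exists_smul_eq (m : M) : ∃ s : A, s ∉ 𝔮 ∧ ∃ a : A, s • m = a • m₀ := by
  obtain ⟨c, hc⟩ := hgen (LocalizedModule.mkLinearMap 𝔮.primeCompl M m)
  obtain ⟨a, s, rfl⟩ := IsLocalization.exists_mk'_eq 𝔮.primeCompl c
  refine ⟨s.1, s.2, a, hinj ?_⟩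
  rw [map_smul, map_smul, hc, ← algebraMap_smul (Localization.AtPrime 𝔮) s.1, smul_smul,
    IsLocalization.mk'_spec', algebraMap_smul]

include hinj hgen in
theorem exists_smul_eq_pow [hs : IsSimpleModule (Localization.AtPrime 𝔮)
    (LocalizedModule 𝔮.primeCompl (M ⧸ x • (⊤ : Submodule A M)))] (hx𝔮 : x ∈ 𝔮)
    (m : M) (hm : m ≠ 0) :
    ∃ (n : ℕ) (s a : A), s ∉ 𝔮 ∧ a ∉ 𝔮 ∧ s • m = (x ^ n * a) • m₀ := by
  have hfm : LocalizedModule.mkLinearMap 𝔮.primeCompl M m ≠ 0 := by
    intro h; exact hm (hinj (h.trans (map_zero _).symm))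
  obtain ⟨n, c, hcu, hc⟩ := exists_eq_pow_smul M x 𝔮 hx𝔮 m₀ hgen _ hfm
  obtain ⟨a, s, rfl⟩ := IsLocalization.exists_mk'_eq 𝔮.primeCompl c
  have ha : a ∈ 𝔮.primeCompl :=
    (IsLocalization.AtPrime.isUnit_mk'_iff (Localization.AtPrime 𝔮) 𝔮 a s).mp hcu
  refine ⟨n, s.1, a, s.2, ha, hinj ?_⟩
  rw [map_smul, map_smul, hc, mul_smul, smul_comm s.1 (x ^ n),
    ← algebraMap_smul (Localization.AtPrime 𝔮) s.1, smul_smul,
    IsLocalization.mk'_spec', algebraMap_smul]

include hinj hgen hregL in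
/-- an element killing one nonzero element of `M` kills `M`. -/
theorem smul_eq_zero_of_smul_eq_zero [hs : IsSimpleModule (Localization.AtPrime 𝔮)
    (LocalizedModule 𝔮.primeCompl (M ⧸ x • (⊤ : Submodule A M)))] (hx𝔮 : x ∈ 𝔮)
    (m : M) (hm : m ≠ 0) (a : A) (ha : a • m = 0) (m' : M) : a • m' = 0 := by
  obtain ⟨n, s, b, hs', hb, h⟩ := exists_smul_eq_pow M x 𝔮 m₀ hinj hgen hx𝔮 m hm
  have hreg := isSMulRegular_of M x 𝔮 hinj hregL
  have h1 : (x ^ n * b) • (a • m₀) = 0 := by
    rw [smul_comm, ← h, smul_comm, ha, smul_zero]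
  have h2 : a • m₀ = 0 := by
    rw [mul_smul] at h1
    have h3 := (hreg.pow n).right_eq_zero_of_smul h1
    exact eq_zero_of_smul_eq_zero M 𝔮 hinj b hb _ h3
  obtain ⟨s₂, hs₂, a₂, h₂⟩ := exists_smul_eq M 𝔮 m₀ hinj hgen m'
  apply eq_zero_of_smul_eq_zero M 𝔮 hinj s₂ hs₂
  rw [smul_comm, h₂, smul_comm, h2, smul_zero]

include hinj hgen hregL in
/-- rank one: any `m'` is a "fraction multiple" of any nonzero `m`. -/
theorem exists_regular_smul_eq [hs : IsSimpleModule (Localization.AtPrime 𝔮)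
    (LocalizedModule 𝔮.primeCompl (M ⧸ x • (⊤ : Submodule A M)))] (hx𝔮 : x ∈ 𝔮)
    (m : M) (hm : m ≠ 0) (m' : M) :
    ∃ t b : A, (∀ m'' : M, t • m'' = 0 → m'' = 0) ∧ t • m' = b • m := by
  obtain ⟨n, s₁, a₁, hs₁, ha₁, h₁⟩ := exists_smul_eq_pow M x 𝔮 m₀ hinj hgen hx𝔮 m hm
  obtain ⟨s₂, hs₂, a₂, h₂⟩ := exists_smul_eq M 𝔮 m₀ hinj hgen m'
  have hreg := isSMulRegular_of M x 𝔮 hinj hregL
  refine ⟨x ^ n * a₁ * s₂, a₂ * s₁, ?_, ?_⟩
  · intro m'' h
    rw [mul_smul, mul_smul] at h
    have h3 := (hreg.pow n).right_eq_zero_of_smul h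
    have h4 := eq_zero_of_smul_eq_zero M 𝔮 hinj a₁ ha₁ _ h3
    exact eq_zero_of_smul_eq_zero M 𝔮 hinj s₂ hs₂ _ h4
  · rw [mul_smul, h₂, mul_smul a₂ s₁, h₁, smul_smul, smul_smul]
    congr 1
    ring

end concl

/-- integral module: a single associated prime, at which the localization has length one. -/
def IsIntegralMod (A : Type u) [CommRing A] (M : Type u) [AddCommGroup M] [Module A M] : Prop :=
  (∃ p, associatedPrimes A M = {p}) ∧
    ∀ p : associatedPrimes A M,
      haveI : p.1.IsPrime := IsAssociatedPrime.isPrime p.2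
      Module.length (Localization.AtPrime p.1) (LocalizedModule p.1.primeCompl M) = 1

section step
variable {A : Type u} [CommRing A] [IsNoetherianRing A] [IsLocalRing A]
  (M : Type u) [AddCommGroup M] [Module A M] [Module.Finite A M] (x : A)

theorem mem_assPrime_iff (p : Ideal A) (hp : p ∈ associatedPrimes A M) :
    ∃ m : M, m ≠ 0 ∧ ∀ a : A, a ∈ p ↔ a • m = 0 := by
  obtain ⟨hprime, m, hpm⟩ := isAssociatedPrime_iff.mp hp
  have hmem : ∀ a : A, a ∈ p ↔ a • m = 0 := by
    intro a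
    rw [hpm, Submodule.mem_colon_singleton, Submodule.mem_bot]
  refine ⟨m, ?_, hmem⟩
  rintro rfl
  apply hprime.ne_top
  rw [Ideal.eq_top_iff_one, hmem, smul_zero]

theorem step (hxm : x ∈ maximalIdeal A)
    (hint : IsIntegralMod A (M ⧸ x • (⊤ : Submodule A M)))
    (hdim : Module.supportDim A (M ⧸ x • (⊤ : Submodule A M)) + 1 = Module.supportDim A M) :
    IsIntegralMod A M ∧ IsSMulRegular M x := by
  obtain ⟨⟨𝔮, hAss⟩, hlen⟩ := hint
  have h𝔮mem : 𝔮 ∈ associatedPrimes A (M ⧸ x • (⊤ : Submodule A M)) := by rw [hAss]; rfl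
  haveI h𝔮prime : 𝔮.IsPrime := IsAssociatedPrime.isPrime h𝔮mem
  have hlen𝔮 := hlen ⟨𝔮, h𝔮mem⟩
  haveI hs : IsSimpleModule (Localization.AtPrime 𝔮)
      (LocalizedModule 𝔮.primeCompl (M ⧸ x • (⊤ : Submodule A M))) :=
    Module.length_eq_one_iff.mp hlen𝔮
  have hx𝔮 : x ∈ 𝔮 := by
    apply IsAssociatedPrime.annihilator_le h𝔮mem
    rw [Submodule.mem_annihilator]
    intro n _
    obtain ⟨m, rfl⟩ := Submodule.mkQ_surjective _ n
    rw [← map_smul, Submodule.mkQ_apply, Submodule.Quotient.mk_eq_zero]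
    exact Submodule.smul_mem_pointwise_smul _ _ _ Submodule.mem_top
  obtain ⟨m₀, hgen⟩ := exists_gen M x 𝔮 hx𝔮
  obtain ⟨𝔭₀, h𝔭₀supp, h𝔭₀le, hx𝔭₀⟩ := exists_prime_support M x 𝔮 hxm hAss hdim
  obtain ⟨m₁, hm₁⟩ := Module.mem_support_iff_exists_annihilator.mp h𝔭₀supp
  have hregL := smul_regular_loc M x 𝔮 hx𝔮 m₀ hgen m₁ 𝔭₀.asIdeal h𝔭₀le hx𝔭₀
    (fun a ha => hm₁ ((Submodule.mem_annihilator_span_singleton _ _).mpr ha))
  have hinj := mkLinearMap_injective M x 𝔮 hxm hAss hregL
  have hreg := isSMulRegular_of M x 𝔮 hinj hregL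
  have key : ∀ p ∈ associatedPrimes A M, ∀ a : A, a ∈ p ↔ ∀ m' : M, a • m' = 0 := by
    intro p hp a
    obtain ⟨m, hm, hmem⟩ := mem_assPrime_iff M p hp
    rw [hmem]
    exact ⟨fun h m' => smul_eq_zero_of_smul_eq_zero M x 𝔮 m₀ hinj hregL hgen hx𝔮 m hm a h m',
      fun h => h m⟩
  refine ⟨⟨?_, ?_⟩, hreg⟩
  · haveI : Nontrivial M := by
      by_contra hnt
      rw [not_nontrivial_iff_subsingleton] at hnt
      have := associatedPrimes.eq_empty_of_subsingleton (R := A)
        (M := M ⧸ x • (⊤ : Submodule A M))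
      rw [hAss] at this
      exact Set.singleton_ne_empty _ this
    obtain ⟨p₁, hp₁⟩ := associatedPrimes.nonempty A M
    refine ⟨p₁, Set.eq_singleton_iff_unique_mem.mpr ⟨hp₁, fun p₂ hp₂ => ?_⟩⟩
    ext a
    rw [key p₂ hp₂, key p₁ hp₁]
  · rintro ⟨p, hp⟩
    haveI hpprime : p.IsPrime := IsAssociatedPrime.isPrime hp
    obtain ⟨mp, hmp, hmem⟩ := mem_assPrime_iff M p hp
    rw [Module.length_eq_one_iff, isSimpleModule_iff_toSpanSingleton_surjective]
    constructor
    · apply nontrivial_of_ne (LocalizedModule.mk mp (1 : p.primeCompl)) 0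
      intro h0
      rw [← LocalizedModule.mkLinearMap_apply] at h0
      obtain ⟨s, hs0⟩ := (IsLocalizedModule.eq_zero_iff p.primeCompl
        (LocalizedModule.mkLinearMap p.primeCompl M)).mp h0
      exact s.2 ((hmem s.1).mpr hs0)
    · intro y hy y'
      induction y using LocalizedModule.induction_on with
      | h m t =>
        induction y' using LocalizedModule.induction_on with
        | h m' t' =>
          have hm : m ≠ 0 := by
            rintro rfl
            exact hy (LocalizedModule.zero_mk t)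
          obtain ⟨tt, b, htt, hb⟩ :=
            exists_regular_smul_eq M x 𝔮 m₀ hinj hregL hgen hx𝔮 m hm m'
          have http : tt ∉ p := fun h => hmp (htt mp ((hmem tt).mp h))
          refine ⟨Localization.mk (b * t.1) (⟨tt, http⟩ * t'), ?_⟩
          rw [LinearMap.toSpanSingleton_apply, LocalizedModule.mk_smul_mk, LocalizedModule.mk_eq]
          refine ⟨1, ?_⟩
          simp only [one_smul, Submonoid.smul_def, Submonoid.coe_mul]
          have e1 : (tt * (t' : A) * (t : A)) • m' = ((t' : A) * (t : A)) • (tt • m') := by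
            rw [smul_smul]; congr 1; ring
          rw [e1, hb, smul_smul, smul_smul]
          congr 1
          ring

end step

section induct
variable {A : Type u} [CommRing A] [IsNoetherianRing A] [IsLocalRing A]

theorem IsIntegralMod.of_equiv {M M' : Type u} [AddCommGroup M] [Module A M] [AddCommGroup M']
    [Module A M'] (e : M ≃ₗ[A] M') (h : IsIntegralMod A M) : IsIntegralMod A M' := by
  obtain ⟨⟨p, hp⟩, hlen⟩ := h
  have hAss := LinearEquiv.AssociatedPrimes.eq e
  refine ⟨⟨p, by rw [← hAss, hp]⟩, ?_⟩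
  rintro ⟨q, hq⟩
  have hq' : q ∈ associatedPrimes A M := by rw [hAss]; exact hq
  haveI : q.IsPrime := IsAssociatedPrime.isPrime hq
  have h1 := hlen ⟨q, hq'⟩
  have e' := IsLocalizedModule.mapEquiv q.primeCompl (LocalizedModule.mkLinearMap q.primeCompl M)
    (LocalizedModule.mkLinearMap q.primeCompl M') (Localization.AtPrime q) e
  rw [← e'.length_eq]
  exact h1

theorem le_of_add_one_le_add_one (s t : WithBot ℕ∞) (ht : t ≠ ⊤) (h : s + 1 ≤ t + 1) : s ≤ t := by
  induction t using WithBot.recBotCoe with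
  | bot =>
    rw [WithBot.bot_add, le_bot_iff, WithBot.add_eq_bot] at h
    rcases h with h | h
    · rw [h]
    · exact absurd h (by simp)
  | coe t =>
    induction t using ENat.recTopCoe with
    | top => exact absurd rfl ht
    | coe n =>
      induction s using WithBot.recBotCoe with
      | bot => exact bot_le
      | coe s =>
        induction s using ENat.recTopCoe with
        | top =>
          exfalso
          have h' : ((⊤ : ℕ∞) : WithBot ℕ∞) ≤ ((n + 1 : ℕ) : WithBot ℕ∞) := by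
            push_cast; exact h
          have h'' : (⊤ : ℕ∞) ≤ ((n + 1 : ℕ) : ℕ∞) := by exact_mod_cast h'
          exact absurd h'' (by simp)
        | coe m =>
          have h' : ((m + 1 : ℕ) : WithBot ℕ∞) ≤ ((n + 1 : ℕ) : WithBot ℕ∞) := by
            push_cast; exact h
          have h'' : m + 1 ≤ n + 1 := by exact_mod_cast h'
          exact_mod_cast (by omega : m ≤ n)

theorem supportDim_le_add_length (rs : List A) :
    ∀ (M : Type u) [AddCommGroup M] [Module A M] [Module.Finite A M],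
    (∀ r ∈ rs, r ∈ maximalIdeal A) →
    Module.supportDim A M ≤
      Module.supportDim A (M ⧸ Ideal.ofList rs • (⊤ : Submodule A M)) + (rs.length : ℕ) := by
  induction rs with
  | nil =>
    intro M _ _ _ _
    have e : (M ⧸ Ideal.ofList ([] : List A) • (⊤ : Submodule A M)) ≃ₗ[A] M :=
      Submodule.quotEquivOfEqBot _ (by rw [Ideal.ofList_nil, Submodule.bot_smul])
    rw [Module.supportDim_eq_of_equiv e]
    simp
  | cons r rs ih =>
    intro M _ _ _ hrs
    have h1 := Module.supportDim_le_supportDim_quotSMulTop_succ (M := M)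
      (hrs r (List.mem_cons_self))
    have h2 := ih (QuotSMulTop r M) (fun r' hr' => hrs r' (List.mem_cons_of_mem _ hr'))
    have e := Submodule.quotOfListConsSMulTopEquivQuotSMulTopInner M r rs
    rw [← Module.supportDim_eq_of_equiv e] at h2
    refine h1.trans ?_
    rw [List.length_cons, Nat.cast_succ, ← add_assoc]
    exact add_le_add_left h2 1

theorem supportDim_ne_top' (M : Type u) [AddCommGroup M] [Module A M] :
    Module.supportDim A M ≠ ⊤ :=
  ne_top_of_le_ne_top ringKrullDim_ne_top (Module.supportDim_le_ringKrullDim A M)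

theorem main_list (rs : List A) :
    ∀ (M : Type u) [AddCommGroup M] [Module A M] [Module.Finite A M],
    (∀ r ∈ rs, r ∈ maximalIdeal A) →
    Module.supportDim A (M ⧸ Ideal.ofList rs • (⊤ : Submodule A M)) + (rs.length : ℕ) =
      Module.supportDim A M →
    IsIntegralMod A (M ⧸ Ideal.ofList rs • (⊤ : Submodule A M)) →
    IsIntegralMod A M ∧ RingTheory.Sequence.IsWeaklyRegular M rs := by
  induction rs with
  | nil =>
    intro M _ _ _ _ _ hint
    have e : (M ⧸ Ideal.ofList ([] : List A) • (⊤ : Submodule A M)) ≃ₗ[A] M :=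
      Submodule.quotEquivOfEqBot _ (by rw [Ideal.ofList_nil, Submodule.bot_smul])
    exact ⟨hint.of_equiv e, RingTheory.Sequence.IsWeaklyRegular.nil A M⟩
  | cons r rs ih =>
    intro M _ _ _ hrs hdim hint
    have hr : r ∈ maximalIdeal A := hrs r List.mem_cons_self
    have hrs' : ∀ r' ∈ rs, r' ∈ maximalIdeal A := fun r' hr' => hrs r' (List.mem_cons_of_mem _ hr')
    have e := Submodule.quotOfListConsSMulTopEquivQuotSMulTopInner M r rs
    have h1 := Module.supportDim_le_supportDim_quotSMulTop_succ (M := M) hr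
    have h2 := supportDim_le_add_length rs (QuotSMulTop r M) hrs'
    rw [Module.supportDim_eq_of_equiv e, List.length_cons, Nat.cast_succ, ← add_assoc] at hdim
    -- (iv)
    have h3 : Module.supportDim A
        (QuotSMulTop r M ⧸ Ideal.ofList rs • (⊤ : Submodule A (QuotSMulTop r M))) + (rs.length : ℕ) ≤
        Module.supportDim A (QuotSMulTop r M) := by
      apply le_of_add_one_le_add_one _ _ (supportDim_ne_top' _)
      rw [hdim]
      exact h1
    have h4 := le_antisymm h3 h2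
    have h5 : Module.supportDim A (QuotSMulTop r M) + 1 = Module.supportDim A M := by
      rw [← h4, hdim]
    obtain ⟨hint', hreg'⟩ := ih (QuotSMulTop r M) hrs' h4 (hint.of_equiv e)
    obtain ⟨hintM, hregM⟩ := step M r hr hint' h5
    exact ⟨hintM, (RingTheory.Sequence.isWeaklyRegular_cons_iff M r rs).mpr ⟨hregM, hreg'⟩⟩

theorem ofList_ofFn' {r : ℕ} (f : Fin r → A) :
    Ideal.ofList (List.ofFn f) = Ideal.span (Set.range f) := by
  unfold Ideal.ofList
  congr 1
  ext x
  simp [List.mem_ofFn]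

theorem main (M : Type u) [AddCommGroup M] [Module A M] [Module.Finite A M] [Nontrivial M]
    {k : ℕ} (x : Fin k → A) (hx : ∀ i, x i ∈ IsLocalRing.maximalIdeal A)
    (hparam : Module.supportDim A (M ⧸ (Ideal.span (Set.range x) • (⊤ : Submodule A M))) + k =
      Module.supportDim A M)
    (hN : IsIntegralMod A (M ⧸ (Ideal.span (Set.range x) • (⊤ : Submodule A M)))) :
    IsIntegralMod A M ∧ RingTheory.Sequence.IsRegular M (List.ofFn x) := by
  have hmem : ∀ r ∈ List.ofFn x, r ∈ maximalIdeal A := by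
    intro r hr
    rw [List.mem_ofFn] at hr
    obtain ⟨i, rfl⟩ := hr
    exact hx i
  rw [← ofList_ofFn'] at hparam hN
  have hparam' : Module.supportDim A (M ⧸ Ideal.ofList (List.ofFn x) • (⊤ : Submodule A M)) +
      ((List.ofFn x).length : ℕ) = Module.supportDim A M := by
    rw [List.length_ofFn]; exact hparam
  obtain ⟨h1, h2⟩ := main_list (List.ofFn x) M hmem hparam' hN
  exact ⟨h1, (IsLocalRing.isRegular_iff_isWeaklyRegular_of_subset_maximalIdeal hmem).mpr h2⟩

end induct

end Groth.Agent.Lib.Helper93.IntegralMod
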