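import Mathlib
import Groth.Agent.Lib.Helper93.IntegralMod
/-!
# Length of `M/tM` versus the sum of the local lengths at the minimal primes

For a Noetherian local ring `B`, `t ∈ 𝔪`, a finite antichain `S` of primes not containing `t` and a finite
module `M` with `ℓ(M/tM) < ∞`: `∑_{q ∈ S} ℓ(M_q) ≤ ℓ(M/tM)` (`ineq`), by induction on `ℓ(M/tM)`: pull back a
coatom `L` of `M_p` to `N ⊆ M`; `M/N` embeds in the simple `B_p`-module `M_p/L`, so `t` is regular on
it and lengths are additive.
-/
set_option autoImplicit false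
set_option linter.unusedSectionVars false
set_option linter.style.haveILetI false
universe u
open IsLocalRing
open scoped Pointwise

namespace Groth.Agent.Lib.Helper93.MultOne

variable {B : Type u} [CommRing B]

section loc
variable (q : Ideal B) [q.IsPrime] {M : Type u} [AddCommGroup M] [Module B M]

/-- length of the localization at `q`. -/
noncomputable def lenAt (q : Ideal B) [q.IsPrime] (M : Type u) [AddCommGroup M] [Module B M] : ℕ∞ :=
  Module.length (Localization.AtPrime q) (LocalizedModule q.primeCompl M)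

theorem lenAt_eq_add (N : Submodule B M) :
    lenAt q M = lenAt q N + lenAt q (M ⧸ N) := by
  unfold lenAt
  rw [← (Submodule.localizedEquiv q.primeCompl N).length_eq,
    ← (localizedQuotientEquiv q.primeCompl N).length_eq]
  exact Module.length_eq_add_of_exact (N.localized q.primeCompl).subtype
    (N.localized q.primeCompl).mkQ (Submodule.subtype_injective _) (Submodule.mkQ_surjective _)
    (LinearMap.exact_subtype_mkQ _)

theorem lenAt_eq_zero_iff : lenAt q M = 0 ↔ Subsingleton (LocalizedModule q.primeCompl M) :=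
  Module.length_eq_zero_iff

theorem lenAt_quot_eq_zero (N : Submodule B M) (s : B) (hs : s ∉ q)
    (h : ∀ x : M ⧸ N, s • x = 0) : lenAt q (M ⧸ N) = 0 := by
  rw [lenAt_eq_zero_iff, LocalizedModule.subsingleton_iff]
  intro x
  exact ⟨s, hs, h x⟩

end loc

section pre
variable (p : Ideal B) [p.IsPrime] {M : Type u} [AddCommGroup M] [Module B M]
  (L : Submodule (Localization.AtPrime p) (LocalizedModule p.primeCompl M))

/-- the preimage of `L` in `M`. -/
noncomputable def pre : Submodule B M :=
  (L.restrictScalars B).comap (LocalizedModule.mkLinearMap p.primeCompl M)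

theorem localized_pre : (pre p L).localized p.primeCompl = L :=
  (Submodule.localized'gi (Localization.AtPrime p) p.primeCompl
    (LocalizedModule.mkLinearMap p.primeCompl M)).l_u_eq L

/-- the induced injection `M ⧸ pre → M_p ⧸ L`. -/
noncomputable def iota : (M ⧸ pre p L) →ₗ[B] (LocalizedModule p.primeCompl M ⧸ L) :=
  Submodule.liftQ _ ((L.mkQ.restrictScalars B) ∘ₗ LocalizedModule.mkLinearMap p.primeCompl M) (by
    intro x hx
    rw [LinearMap.mem_ker, LinearMap.comp_apply]
    exact (Submodule.Quotient.mk_eq_zero L).mpr hx)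

theorem iota_mk (x : M) : iota p L (Submodule.Quotient.mk x) =
    Submodule.Quotient.mk (LocalizedModule.mkLinearMap p.primeCompl M x) := rfl

theorem iota_injective : Function.Injective (iota p L) := by
  rw [← LinearMap.ker_eq_bot, eq_bot_iff]
  intro y hy
  obtain ⟨x, rfl⟩ := Submodule.Quotient.mk_surjective _ y
  rw [LinearMap.mem_ker, iota_mk, Submodule.Quotient.mk_eq_zero] at hy
  rw [Submodule.mem_bot, Submodule.Quotient.mk_eq_zero]
  exact hy

theorem lenAt_pre (hL : IsCoatom L) : lenAt p M = lenAt p (pre p L) + 1 := by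
  unfold lenAt
  rw [← (Submodule.localizedEquiv p.primeCompl (pre p L)).length_eq]
  haveI : IsSimpleModule (Localization.AtPrime p) (LocalizedModule p.primeCompl M ⧸ L) :=
    isSimpleModule_iff_isCoatom.mpr hL
  have h1 : Module.length (Localization.AtPrime p) (LocalizedModule p.primeCompl M ⧸ L) = 1 :=
    Module.length_eq_one _ _
  rw [← h1]
  have := Module.length_eq_add_of_exact L.subtype L.mkQ (Submodule.subtype_injective _)
    (Submodule.mkQ_surjective _) (LinearMap.exact_subtype_mkQ _)
  rw [this, localized_pre]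


section simple
variable (hL : IsCoatom L)

include hL in
theorem smul_V_eq_zero (s : B) (hs : s ∈ p) (v : LocalizedModule p.primeCompl M ⧸ L) : s • v = 0 := by
  haveI : IsSimpleModule (Localization.AtPrime p) (LocalizedModule p.primeCompl M ⧸ L) :=
    isSimpleModule_iff_isCoatom.mpr hL
  rw [← algebraMap_smul (Localization.AtPrime p) s v]
  refine Groth.Agent.Lib.Helper93.IntegralMod.smul_eq_zero_of_isSimpleModule _ ?_ v
  exact (IsLocalization.AtPrime.to_map_mem_maximal_iff (Localization.AtPrime p) p s).mpr hs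

theorem V_eq_zero_of_smul (s : B) (hs : s ∉ p) (v : LocalizedModule p.primeCompl M ⧸ L)
    (h : s • v = 0) : v = 0 := by
  rw [← algebraMap_smul (Localization.AtPrime p) s v] at h
  have hu : IsUnit (algebraMap B (Localization.AtPrime p) s) :=
    IsLocalization.map_units (Localization.AtPrime p) (⟨s, hs⟩ : p.primeCompl)
  exact (hu.smul_eq_zero).mp h

include hL in
theorem smul_quot_eq_zero (s : B) (hs : s ∈ p) (x : M ⧸ pre p L) : s • x = 0 := by
  apply iota_injective p L
  rw [map_smul, map_zero]
  exact smul_V_eq_zero p L hL s hs _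

theorem quot_eq_zero_of_smul (s : B) (hs : s ∉ p) (x : M ⧸ pre p L) (h : s • x = 0) : x = 0 := by
  apply iota_injective p L
  rw [map_zero]
  apply V_eq_zero_of_smul p L s hs
  rw [← map_smul, h, map_zero]

theorem isSMulRegular_quot (s : B) (hs : s ∉ p) : IsSMulRegular (M ⧸ pre p L) s := by
  intro x y hxy
  have h : s • (x - y) = 0 := by
    rw [smul_sub]; exact sub_eq_zero.mpr hxy
  exact sub_eq_zero.mp (quot_eq_zero_of_smul p L s hs _ h)

include hL in
theorem pre_ne_top : pre p L ≠ ⊤ := by
  intro h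
  apply hL.1
  rw [← localized_pre p L, h]
  exact Submodule.localized'_top _ _ _

include hL in
/-- rank one. -/
theorem exists_smul_eq_smul (x y : M ⧸ pre p L) (hy : y ≠ 0) :
    ∃ s a : B, s ∉ p ∧ s • x = a • y := by
  haveI : IsSimpleModule (Localization.AtPrime p) (LocalizedModule p.primeCompl M ⧸ L) :=
    isSimpleModule_iff_isCoatom.mpr hL
  have hy' : iota p L y ≠ 0 := fun h => hy (iota_injective p L (by rw [h, map_zero]))
  obtain ⟨c, hc⟩ := IsSimpleModule.toSpanSingleton_surjective (Localization.AtPrime p) hy' (iota p L x)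
  rw [LinearMap.toSpanSingleton_apply] at hc
  obtain ⟨⟨a, s⟩, has⟩ := IsLocalization.surj p.primeCompl c
  refine ⟨s.1, a, s.2, ?_⟩
  apply iota_injective p L
  rw [map_smul, map_smul, ← hc, ← algebraMap_smul (Localization.AtPrime p) s.1,
    ← algebraMap_smul (Localization.AtPrime p) a, smul_smul, mul_comm]
  simp only at has
  rw [has]

end simple

end pre


section quot
variable {M : Type u} [AddCommGroup M] [Module B M]

/-- additivity of `ℓ(M/tM)` when `t` is regular on the quotient. -/
theorem length_quotSMulTop_add (t : B) (N : Submodule B M) (hreg : IsSMulRegular (M ⧸ N) t) :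
    Module.length B (QuotSMulTop t M) =
      Module.length B (QuotSMulTop t N) + Module.length B (QuotSMulTop t (M ⧸ N)) := by
  have hex : Function.Exact N.subtype N.mkQ := LinearMap.exact_subtype_mkQ N
  have h0 : Function.Exact (0 : PUnit.{u+1} →ₗ[B] N) N.subtype := by
    intro x
    constructor
    · intro hx
      exact ⟨0, by rw [LinearMap.zero_apply]; exact (Subtype.ext hx).symm⟩
    · rintro ⟨_, rfl⟩
      simp
  have hinj : Function.Injective (QuotSMulTop.map t N.subtype) := by
    have hE := QuotSMulTop.map_first_exact_on_four_term_exact_of_isSMulRegular_last h0 hex hreg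
    rw [injective_iff_map_eq_zero]
    intro x hx
    obtain ⟨y, hy⟩ := (hE x).mp hx
    rw [← hy, map_zero, LinearMap.zero_apply]
  exact Module.length_eq_add_of_exact _ _ hinj (QuotSMulTop.map_surjective t (Submodule.mkQ_surjective N))
    (QuotSMulTop.map_exact t hex (Submodule.mkQ_surjective N))

theorem one_le_length_quotSMulTop [IsLocalRing B] (t : B) (ht : t ∈ maximalIdeal B)
    [Module.Finite B M] [Nontrivial M] : 1 ≤ Module.length B (QuotSMulTop t M) := by
  rw [Order.one_le_iff_ne_zero, ne_eq, Module.length_eq_zero_iff]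
  intro hsub
  have htop : (t • (⊤ : Submodule B M)) = ⊤ := by
    rw [eq_top_iff]
    intro x _
    have : (Submodule.Quotient.mk x : QuotSMulTop t M) = 0 := Subsingleton.elim _ _
    exact (Submodule.Quotient.mk_eq_zero _).mp this
  have hle : (⊤ : Submodule B M) ≤ Ideal.span {t} • ⊤ := by
    rw [Submodule.ideal_span_singleton_smul, htop]
  have hj : Ideal.span {t} ≤ Ideal.jacobson ⊥ := by
    rw [IsLocalRing.jacobson_eq_maximalIdeal ⊥ bot_ne_top, Ideal.span_singleton_le_iff_mem]
    exact ht
  have := Submodule.eq_bot_of_le_smul_of_le_jacobson_bot (Ideal.span {t}) ⊤ Module.Finite.fg_top hle hj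
  exact top_ne_bot this

end quot


section main
variable [IsNoetherianRing B] [IsLocalRing B] (t : B) (ht : t ∈ maximalIdeal B)
  (S : Finset (PrimeSpectrum B)) (hanti : ∀ p ∈ S, ∀ q ∈ S, p.asIdeal ≤ q.asIdeal → p = q)
  (hS : ∀ p ∈ S, t ∉ p.asIdeal)

include hanti in
theorem step (M : Type u) [AddCommGroup M] [Module B M] [Module.Finite B M] (p : PrimeSpectrum B)
    (hp : p ∈ S) (hne : Nontrivial (LocalizedModule p.asIdeal.primeCompl M)) :
    ∃ N : Submodule B M, Nontrivial (M ⧸ N) ∧
      lenAt p.asIdeal M = lenAt p.asIdeal N + 1 ∧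
      (∀ q ∈ S, q ≠ p → lenAt q.asIdeal M = lenAt q.asIdeal N) ∧
      (∀ s ∈ p.asIdeal, ∀ x : M ⧸ N, s • x = 0) ∧
      (∀ s ∉ p.asIdeal, IsSMulRegular (M ⧸ N) s) ∧
      (∀ x y : M ⧸ N, y ≠ 0 → ∃ s a : B, s ∉ p.asIdeal ∧ s • x = a • y) := by
  obtain ⟨L, hL⟩ : ∃ L : Submodule (Localization.AtPrime p.asIdeal)
      (LocalizedModule p.asIdeal.primeCompl M), IsCoatom L := by
    rcases eq_top_or_exists_le_coatom (⊥ : Submodule (Localization.AtPrime p.asIdeal)
      (LocalizedModule p.asIdeal.primeCompl M)) with h | ⟨L, hL, _⟩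
    · exact absurd h bot_ne_top
    · exact ⟨L, hL⟩
  refine ⟨pre p.asIdeal L, ?_, lenAt_pre p.asIdeal L hL, ?_, smul_quot_eq_zero p.asIdeal L hL,
    isSMulRegular_quot p.asIdeal L, exists_smul_eq_smul p.asIdeal L hL⟩
  · exact Submodule.Quotient.nontrivial_iff.mpr (pre_ne_top p.asIdeal L hL)
  · intro q hq hqp
    have hnle : ¬ p.asIdeal ≤ q.asIdeal := fun h => hqp (hanti p hp q hq h).symm
    obtain ⟨s, hsp, hsq⟩ := Set.not_subset.mp hnle
    rw [lenAt_eq_add q.asIdeal (pre p.asIdeal L),
      lenAt_quot_eq_zero q.asIdeal _ s hsq (smul_quot_eq_zero p.asIdeal L hL s hsp), add_zero]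

theorem sum_eq_of_step (M : Type u) [AddCommGroup M] [Module B M] (N : Submodule B M)
    (p : PrimeSpectrum B) (hp : p ∈ S)
    (h1 : lenAt p.asIdeal M = lenAt p.asIdeal N + 1)
    (h2 : ∀ q ∈ S, q ≠ p → lenAt q.asIdeal M = lenAt q.asIdeal N) :
    ∑ q ∈ S, lenAt q.asIdeal M = ∑ q ∈ S, lenAt q.asIdeal N + 1 := by
  classical
  rw [← Finset.add_sum_erase S _ hp, ← Finset.add_sum_erase S (fun q => lenAt q.asIdeal N) hp, h1]
  have : ∑ q ∈ S.erase p, lenAt q.asIdeal M = ∑ q ∈ S.erase p, lenAt q.asIdeal N :=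
    Finset.sum_congr rfl fun q hq => h2 q (Finset.mem_of_mem_erase hq) (Finset.ne_of_mem_erase hq)
  rw [this]
  abel

include ht hanti hS in
theorem ineq_aux : ∀ n : ℕ, ∀ (M : Type u) [AddCommGroup M] [Module B M] [Module.Finite B M],
    Module.length B (QuotSMulTop t M) = n → ∑ q ∈ S, lenAt q.asIdeal M ≤ n := by
  intro n
  induction n using Nat.strong_induction_on with
  | _ n ih =>
    intro M _ _ _ hn
    by_cases hall : ∀ q ∈ S, Subsingleton (LocalizedModule q.asIdeal.primeCompl M)
    · rw [Finset.sum_eq_zero fun q hq => (lenAt_eq_zero_iff q.asIdeal).mpr (hall q hq)]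
      exact zero_le
    · push Not at hall
      obtain ⟨p, hp, hne⟩ := hall
      obtain ⟨N, hnt, h1, h2, h3, h4, h5⟩ := step S hanti M p hp hne
      have hadd := length_quotSMulTop_add t N (h4 t (hS p hp))
      have hone := one_le_length_quotSMulTop (M := M ⧸ N) t ht
      rw [hn] at hadd
      have hfin : Module.length B (QuotSMulTop t N) ≠ ⊤ := by
        intro h
        rw [h, top_add] at hadd
        exact ENat.natCast_ne_top n hadd
      obtain ⟨n', hn'⟩ := ENat.ne_top_iff_exists.mp hfin
      have hfin2 : Module.length B (QuotSMulTop t (M ⧸ N)) ≠ ⊤ := by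
        intro h
        rw [h, add_top] at hadd
        exact ENat.natCast_ne_top n hadd
      obtain ⟨c, hc⟩ := ENat.ne_top_iff_exists.mp hfin2
      rw [← hn', ← hc] at hadd
      rw [← hc] at hone
      have hlt : n' < n := by
        have h1c : 1 ≤ c := by exact_mod_cast hone
        have : n = n' + c := by exact_mod_cast hadd
        omega
      have := ih n' hlt N hn'.symm
      rw [sum_eq_of_step S M N p hp h1 h2]
      have h1c : 1 ≤ c := by exact_mod_cast hone
      have hnn : n = n' + c := by exact_mod_cast hadd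
      calc ∑ q ∈ S, lenAt q.asIdeal N + 1 ≤ (n' : ℕ∞) + 1 := by gcongr
        _ ≤ (n : ℕ∞) := by
          have : n' + 1 ≤ n := by omega
          exact_mod_cast this


include ht hanti hS in
theorem ineq (M : Type u) [AddCommGroup M] [Module B M] [Module.Finite B M]
    (hfin : Module.length B (QuotSMulTop t M) ≠ ⊤) :
    ∑ q ∈ S, lenAt q.asIdeal M ≤ Module.length B (QuotSMulTop t M) := by
  obtain ⟨n, hn⟩ := ENat.ne_top_iff_exists.mp hfin
  rw [← hn]
  exact ineq_aux t ht S hanti hS n M hn.symm

end main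

section wrap
variable [IsNoetherianRing B] [IsLocalRing B] (t : B)

theorem length_quot_span_eq (M : Type u) [AddCommGroup M] [Module B M] :
    Module.length B (M ⧸ (Ideal.span {t} • (⊤ : Submodule B M))) =
      Module.length B (QuotSMulTop t M) :=
  (Submodule.quotEquivOfEq _ _ (Submodule.ideal_span_singleton_smul t ⊤)).length_eq

theorem length_quot_ne_top (hart : IsArtinianRing (B ⧸ Ideal.span {t}))
    (M : Type u) [AddCommGroup M] [Module B M] [Module.Finite B M] :
    Module.length B (M ⧸ (Ideal.span {t} • (⊤ : Submodule B M))) ≠ ⊤ := by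
  rw [Module.length_eq_of_surjective (S := B) (R := B ⧸ Ideal.span {t})
    (M := M ⧸ (Ideal.span {t} • (⊤ : Submodule B M))) Ideal.Quotient.mk_surjective]
  haveI : Module.Finite (B ⧸ Ideal.span {t}) (M ⧸ (Ideal.span {t} • (⊤ : Submodule B M))) :=
    Module.Finite.of_restrictScalars_finite B _ _
  exact Module.length_ne_top

/-- minimal primes as a finset of the prime spectrum. -/
noncomputable def minSet (I : Ideal B) : Finset (PrimeSpectrum B) :=
  haveI : Fintype I.minimalPrimes := (Ideal.finite_minimalPrimes_of_isNoetherianRing B I).fintype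
  Finset.univ.map ⟨fun p : I.minimalPrimes => (⟨p.1, p.2.1.1⟩ : PrimeSpectrum B), fun p q h => by
    apply Subtype.ext
    exact congrArg PrimeSpectrum.asIdeal h⟩

theorem mem_minSet (I : Ideal B) (P : PrimeSpectrum B) : P ∈ minSet I ↔ P.asIdeal ∈ I.minimalPrimes := by
  unfold minSet
  simp only [Finset.mem_map, Finset.mem_univ, true_and]
  constructor
  · rintro ⟨p, rfl⟩
    exact p.2
  · intro h
    exact ⟨⟨P.asIdeal, h⟩, rfl⟩

theorem finsum_eq_sum (I : Ideal B) (f : PrimeSpectrum B → ℕ∞) :
    ∑ᶠ p : I.minimalPrimes, f ⟨p.1, p.2.1.1⟩ = ∑ P ∈ minSet I, f P := by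
  letI : Fintype I.minimalPrimes := (Ideal.finite_minimalPrimes_of_isNoetherianRing B I).fintype
  rw [finsum_eq_sum_of_fintype]
  unfold minSet
  rw [Finset.sum_map]
  rfl

theorem minSet_anti (I : Ideal B) : ∀ p ∈ minSet I, ∀ q ∈ minSet I, p.asIdeal ≤ q.asIdeal → p = q := by
  intro p hp q hq hpq
  rw [mem_minSet] at hp hq
  apply PrimeSpectrum.ext
  exact le_antisymm hpq (hq.2 hp.1 hpq)

theorem not_mem_of_minimalPrimes (hdim : 0 < ringKrullDim B) (hart : IsArtinianRing (B ⧸ Ideal.span {t}))
    (p : Ideal B) (hp : p ∈ minimalPrimes B) : t ∉ p := by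
  intro htp
  haveI := hp.1.1
  have hle : Ideal.span {t} ≤ p := (Ideal.span_singleton_le_iff_mem _).mpr htp
  haveI : IsArtinianRing (B ⧸ p) :=
    (Ideal.Quotient.factor_surjective hle).isArtinianRing
  have hf : IsField (B ⧸ p) := IsArtinianRing.isField_of_isDomain (B ⧸ p)
  have hmax : p.IsMaximal := Ideal.Quotient.maximal_of_isField p hf
  have hpm : p = maximalIdeal B := IsLocalRing.eq_maximalIdeal hmax
  have : Ring.KrullDimLE 0 B := by
    rw [Ring.krullDimLE_zero_iff]
    intro q hq
    have h1 : q ≤ p := hpm ▸ IsLocalRing.le_maximalIdeal hq.ne_top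
    have h2 : p ≤ q := hp.2 ⟨hq, bot_le⟩ h1
    rw [le_antisymm h1 h2]
    exact hmax
  rw [Ring.krullDimLE_iff] at this
  exact absurd hdim (not_lt.mpr (by exact_mod_cast this))

theorem main2517 (hdim : 0 < ringKrullDim B) (ht : t ∈ maximalIdeal B)
    (hart : IsArtinianRing (B ⧸ Ideal.span {t}))
    (M : Type u) [AddCommGroup M] [Module B M] [Module.Finite B M] :
    (∑ᶠ p : minimalPrimes B,
        haveI : p.1.IsPrime := p.2.1.1
        Module.length (Localization.AtPrime p.1) (LocalizedModule p.1.primeCompl M)) ≤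
      Module.length B (M ⧸ (Ideal.span {t} • (⊤ : Submodule B M))) := by
  have hfin := length_quot_ne_top t hart M
  rw [length_quot_span_eq] at hfin ⊢
  have h := finsum_eq_sum (⊥ : Ideal B) (fun P => lenAt P.asIdeal M)
  refine le_trans (le_of_eq h) ?_
  refine ineq t ht (minSet ⊥) (minSet_anti ⊥) ?_ M hfin
  intro p hp
  exact not_mem_of_minimalPrimes t hdim hart p.asIdeal ((mem_minSet ⊥ p).mp hp)

end wrap

end Groth.Agent.Lib.Helper93.MultOne
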