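import Mathlib
import Groth.Agent.Lib.Helper93.MultOne
import Groth.Agent.Lib.Helper95.LengthT
import Groth.Agent.Lib.Helper14.FinLenSupp

set_option autoImplicit false
set_option linter.unusedSectionVars false
set_option linter.style.haveILetI false
universe u
open IsLocalRing
open scoped Pointwise

namespace Groth.Agent.Lib.Helper93.MultThree
open Groth.Agent.Lib.Helper93.MultOne Groth.Agent.Lib.Helper95.LengthT

variable {R : Type u} [CommRing R]

/-- for a finite length module, kernel and cokernel of multiplication by `x` have the same length. -/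
theorem length_quot_eq_length_ker (x : R) (N : Type u) [AddCommGroup N] [Module R N]
    (h : IsFiniteLength R N) :
    Module.length R (QuotSMulTop x N) = Module.length R (K x N) := by
  have e1 := length_eq_range_add_range (exact_smul_mkQ x N)
  have e2 := length_eq_range_add_range
    (LinearMap.exact_subtype_ker_map (x • (LinearMap.id : N →ₗ[R] N)))
  have r1 : Module.length R (LinearMap.range (Submodule.mkQ (x • (⊤ : Submodule R N)))) =
      Module.length R (QuotSMulTop x N) := by
    rw [Submodule.range_mkQ]; exact Module.length_top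
  have r2 : Module.length R (LinearMap.range (K x N).subtype) = Module.length R (K x N) :=
    (LinearEquiv.ofInjective _ (Submodule.subtype_injective _)).length_eq.symm
  rw [r1] at e1
  rw [r2] at e2
  have hfin : Module.length R (LinearMap.range (x • (LinearMap.id : N →ₗ[R] N))) ≠ ⊤ := by
    have hN : Module.length R N ≠ ⊤ := Module.length_ne_top_iff.mpr h
    intro htop
    rw [htop, top_add] at e1
    exact hN e1
  have : Module.length R (LinearMap.range (x • (LinearMap.id : N →ₗ[R] N))) +
      Module.length R (QuotSMulTop x N) =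
      Module.length R (LinearMap.range (x • (LinearMap.id : N →ₗ[R] N))) +
      Module.length R (K x N) := by
    rw [← e1, e2, add_comm]
  exact (ENat.add_right_injective_of_ne_top hfin) this


section loc
variable (q : Ideal R) [q.IsPrime]

theorem lenAt_exact {N₁ N₂ N₃ : Type u} [AddCommGroup N₁] [Module R N₁] [AddCommGroup N₂] [Module R N₂]
    [AddCommGroup N₃] [Module R N₃] (f : N₁ →ₗ[R] N₂) (g : N₂ →ₗ[R] N₃)
    (hf : Function.Injective f) (hg : Function.Surjective g) (hex : Function.Exact f g) :
    lenAt q N₂ = lenAt q N₁ + lenAt q N₃ := by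
  unfold lenAt
  exact Module.length_eq_add_of_exact (LocalizedModule.map q.primeCompl f)
    (LocalizedModule.map q.primeCompl g) (LocalizedModule.map_injective _ f hf)
    (LocalizedModule.map_surjective _ g hg) (LocalizedModule.map_exact q.primeCompl f g hex)

theorem lenAt_eq_zero_of_smul {N : Type u} [AddCommGroup N] [Module R N] (s : R) (hs : s ∉ q)
    (h : ∀ x : N, s • x = 0) : lenAt q N = 0 := by
  rw [lenAt_eq_zero_iff, LocalizedModule.subsingleton_iff]
  intro x
  exact ⟨s, hs, h x⟩

theorem lenAt_of_subsingleton {N : Type u} [AddCommGroup N] [Module R N] [Subsingleton N] :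
    lenAt q N = 0 :=
  lenAt_eq_zero_of_smul q 1 (fun h => (Ideal.IsPrime.ne_top ‹_›) ((Ideal.eq_top_iff_one _).mpr h))
    (fun x => Subsingleton.elim _ _)

/-- the localization of `R/q` at `q` has length one. -/
theorem lenAt_quot_self : lenAt q (R ⧸ q) = 1 := by
  haveI : Nontrivial (LocalizedModule q.primeCompl (R ⧸ q)) := by
    have hq : (⟨q, inferInstance⟩ : PrimeSpectrum R) ∈ Module.support R (R ⧸ q) := by
      rw [Module.mem_support_iff_of_finite, Ideal.annihilator_quotient]
    exact Module.mem_support_iff.mp hq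
  obtain ⟨L, hL⟩ : ∃ L : Submodule (Localization.AtPrime q)
      (LocalizedModule q.primeCompl (R ⧸ q)), IsCoatom L := by
    rcases eq_top_or_exists_le_coatom (⊥ : Submodule (Localization.AtPrime q)
      (LocalizedModule q.primeCompl (R ⧸ q))) with h | ⟨L, hL, _⟩
    · exact absurd h bot_ne_top
    · exact ⟨L, hL⟩
  have hbot : pre q L = ⊥ := by
    rw [eq_bot_iff]
    intro n hn
    obtain ⟨r, rfl⟩ := Ideal.Quotient.mk_surjective n
    rw [Submodule.mem_bot, Ideal.Quotient.eq_zero_iff_mem]
    by_contra hr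
    have h1 : r • (Submodule.Quotient.mk (Ideal.Quotient.mk q 1) : (R ⧸ q) ⧸ pre q L) = 0 := by
      rw [← Submodule.Quotient.mk_smul, Submodule.Quotient.mk_eq_zero]
      have : r • (Ideal.Quotient.mk q 1) = Ideal.Quotient.mk q r := by
        rw [Algebra.smul_def, map_one, mul_one]; rfl
      rw [this]; exact hn
    have h2 : (Submodule.Quotient.mk (Ideal.Quotient.mk q 1) : (R ⧸ q) ⧸ pre q L) = 0 :=
      isSMulRegular_quot q L r hr (by simp only [smul_zero]; exact h1)
    rw [Submodule.Quotient.mk_eq_zero] at h2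
    apply pre_ne_top q L hL
    rw [eq_top_iff]
    intro y _
    obtain ⟨s, rfl⟩ := Ideal.Quotient.mk_surjective y
    have : Ideal.Quotient.mk q s = s • (Ideal.Quotient.mk q 1) := by
      rw [Algebra.smul_def, map_one, mul_one]; rfl
    rw [this]
    exact Submodule.smul_mem _ s h2
  rw [lenAt_pre q L hL, hbot]
  haveI : Subsingleton (⊥ : Submodule R (R ⧸ q)) := inferInstance
  rw [lenAt_of_subsingleton q, zero_add]

end loc


section main
variable [IsNoetherianRing R] [IsLocalRing R] (x : R) (T : Finset (PrimeSpectrum R))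
  (hT : ∀ q ∈ T, x ∉ q.asIdeal ∧ q.asIdeal ≠ maximalIdeal R ∧
    ∀ q' : Ideal R, q'.IsPrime → q.asIdeal < q' → q' = maximalIdeal R)

/-- the coefficient `ℓ(R/(q + xR))`. -/
noncomputable def cf (x : R) (q : PrimeSpectrum R) : ℕ∞ :=
  Module.length R (R ⧸ (q.asIdeal ⊔ Ideal.span {x}))

/-- the formula. -/
def F (x : R) (T : Finset (PrimeSpectrum R)) (N : Type u) [AddCommGroup N] [Module R N] : Prop :=
  Module.length R (QuotSMulTop x N) =
    Module.length R (K x N) + ∑ q ∈ T, lenAt q.asIdeal N * cf x q

theorem F_of_subsingleton (N : Type u) [AddCommGroup N] [Module R N] [Subsingleton N] : F x T N := by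
  unfold F
  rw [Module.length_eq_zero_iff.mpr (inferInstance : Subsingleton (QuotSMulTop x N)),
    Module.length_eq_zero_iff.mpr (inferInstance : Subsingleton (K x N)),
    Finset.sum_eq_zero fun q _ => by rw [lenAt_of_subsingleton q.asIdeal, zero_mul], add_zero]

include hT in
theorem isFiniteLength_K' (N : Type u) [AddCommGroup N] [Module R N] [Module.Finite R N]
    (hsupp : ∀ p ∈ Module.support R N, p ∈ T ∨ p.asIdeal = maximalIdeal R) :
    IsFiniteLength R (K x N) := by
  apply Groth.Agent.Lib.Helper14.FinLenSupp.isFiniteLength_of_support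
  intro p hp
  have hpN : p ∈ Module.support R N :=
    Module.support_subset_of_injective (K x N).subtype (Submodule.subtype_injective _) hp
  obtain ⟨m, hm⟩ := Module.mem_support_iff_exists_annihilator.mp hp
  have hxp : x ∈ p.asIdeal := by
    apply hm
    rw [Submodule.mem_annihilator_span_singleton]
    apply Subtype.ext
    exact (mem_K x _).mp m.2
  rcases hsupp p hpN with h | h
  · exact absurd hxp (hT p h).1
  · rw [h]; infer_instance

include hT in
theorem F_of_exact {N₁ N₂ N₃ : Type u} [AddCommGroup N₁] [Module R N₁] [Module.Finite R N₁]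
    [AddCommGroup N₂] [Module R N₂]
    [AddCommGroup N₃] [Module R N₃] [Module.Finite R N₃] (f : N₁ →ₗ[R] N₂) (g : N₂ →ₗ[R] N₃)
    (hf : Function.Injective f) (hg : Function.Surjective g) (hex : Function.Exact f g)
    (hs1 : ∀ p ∈ Module.support R N₁, p ∈ T ∨ p.asIdeal = maximalIdeal R)
    (hs3 : ∀ p ∈ Module.support R N₃, p ∈ T ∨ p.asIdeal = maximalIdeal R)
    (h1 : F x T N₁) (h3 : F x T N₃) : F x T N₂ := by
  unfold F at h1 h3 ⊢
  have hsn := length_snake x f g hf hg hex
  have hsum : ∑ q ∈ T, lenAt q.asIdeal N₂ * cf x q =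
      ∑ q ∈ T, lenAt q.asIdeal N₁ * cf x q + ∑ q ∈ T, lenAt q.asIdeal N₃ * cf x q := by
    rw [← Finset.sum_add_distrib]
    refine Finset.sum_congr rfl fun q _ => ?_
    rw [lenAt_exact q.asIdeal f g hf hg hex, add_mul]
  have hk1 : Module.length R (K x N₁) ≠ ⊤ :=
    Module.length_ne_top_iff.mpr (isFiniteLength_K' x T hT N₁ hs1)
  have hk3 : Module.length R (K x N₃) ≠ ⊤ :=
    Module.length_ne_top_iff.mpr (isFiniteLength_K' x T hT N₃ hs3)
  rw [h1, h3] at hsn
  rw [hsum]
  have hk : Module.length R (K x N₁) + Module.length R (K x N₃) ≠ ⊤ :=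
    WithTop.add_ne_top.mpr ⟨hk1, hk3⟩
  apply ENat.add_right_injective_of_ne_top hk
  simp only
  rw [← hsn]
  ring


theorem smul_quot_eq_zero' (I : Ideal R) (s : R) (hs : s ∈ I) (y : R ⧸ I) : s • y = 0 := by
  obtain ⟨r, rfl⟩ := Ideal.Quotient.mk_surjective y
  rw [Algebra.smul_def]
  change Ideal.Quotient.mk I s * _ = 0
  rw [Ideal.Quotient.eq_zero_iff_mem.mpr hs, zero_mul]

include hT in
theorem F_quot_max : F x T (R ⧸ maximalIdeal R) := by
  unfold F
  have hfl : IsFiniteLength R (R ⧸ maximalIdeal R) := by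
    rw [← Module.length_ne_top_iff]
    have : IsSimpleModule R (R ⧸ maximalIdeal R) :=
      isSimpleModule_iff_quot_maximal.2 ⟨maximalIdeal R, inferInstance, ⟨LinearEquiv.refl _ _⟩⟩
    rw [Module.length_eq_one_iff.mpr this]
    exact ENat.one_ne_top
  rw [length_quot_eq_length_ker x _ hfl]
  rw [Finset.sum_eq_zero, add_zero]
  intro q hq
  obtain ⟨-, hne, -⟩ := hT q hq
  have hlt : ¬ maximalIdeal R ≤ q.asIdeal := fun h =>
    hne (le_antisymm (IsLocalRing.le_maximalIdeal q.2.ne_top) h)
  obtain ⟨s, hsm, hsq⟩ := Set.not_subset.mp hlt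
  rw [lenAt_eq_zero_of_smul q.asIdeal s hsq (smul_quot_eq_zero' _ s hsm), zero_mul]

/-- `(R/q)/x(R/q) ≃ R/(q + xR)`. -/
theorem length_quotSMulTop_quot (q : Ideal R) :
    Module.length R (QuotSMulTop x (R ⧸ q)) = Module.length R (R ⧸ (q ⊔ Ideal.span {x})) := by
  let φ : R →ₗ[R] QuotSMulTop x (R ⧸ q) :=
    (Submodule.mkQ (x • (⊤ : Submodule R (R ⧸ q)))).comp (Submodule.mkQ q)
  have hφ : Function.Surjective φ :=
    (Submodule.mkQ_surjective _).comp (Submodule.mkQ_surjective _)
  have hker : LinearMap.ker φ = q ⊔ Ideal.span {x} := by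
    ext r
    rw [LinearMap.mem_ker]
    change Submodule.Quotient.mk (Submodule.Quotient.mk r) = 0 ↔ _
    rw [Submodule.Quotient.mk_eq_zero, Submodule.mem_smul_pointwise_iff_exists]
    constructor
    · rintro ⟨y, -, hy⟩
      obtain ⟨s, rfl⟩ := Ideal.Quotient.mk_surjective y
      have h1 : Ideal.Quotient.mk q (x * s) = Ideal.Quotient.mk q r := by
        change _ = (Submodule.Quotient.mk r : R ⧸ q)
        rw [← hy, Algebra.smul_def]; rfl
      have h2 : r - x * s ∈ q := by
        rw [← Ideal.Quotient.eq_zero_iff_mem, map_sub, h1, sub_self]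
      have : r = (r - x * s) + x * s := by ring
      rw [this]
      exact Ideal.add_mem _ (Ideal.mem_sup_left h2)
        (Ideal.mem_sup_right (Ideal.mul_mem_right _ _ (Ideal.mem_span_singleton_self x)))
    · intro hr
      obtain ⟨a, ha, b, hb, rfl⟩ := Submodule.mem_sup.mp hr
      obtain ⟨s, rfl⟩ := Ideal.mem_span_singleton'.mp hb
      refine ⟨Ideal.Quotient.mk q s, trivial, ?_⟩
      rw [Algebra.smul_def]
      change Ideal.Quotient.mk q x * Ideal.Quotient.mk q s = Ideal.Quotient.mk q (a + s * x)
      rw [map_add, Ideal.Quotient.eq_zero_iff_mem.mpr ha, zero_add, map_mul, mul_comm]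
  rw [← (LinearMap.quotKerEquivOfSurjective φ hφ).length_eq]
  exact (Submodule.quotEquivOfEq _ _ hker).length_eq

include hT in
theorem F_quot_T (q : PrimeSpectrum R) (hq : q ∈ T) : F x T (R ⧸ q.asIdeal) := by
  unfold F
  obtain ⟨hxq, hqm, hqq⟩ := hT q hq
  have hK : Subsingleton (K x (R ⧸ q.asIdeal)) := by
    refine ⟨fun a b => ?_⟩
    have hz : ∀ c : K x (R ⧸ q.asIdeal), c = 0 := by
      intro c
      apply Subtype.ext
      have hc := (mem_K x _).mp c.2
      obtain ⟨r, hr⟩ := Ideal.Quotient.mk_surjective c.1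
      rw [← hr, Algebra.smul_def] at hc
      change Ideal.Quotient.mk q.asIdeal x * _ = 0 at hc
      rw [← map_mul, Ideal.Quotient.eq_zero_iff_mem] at hc
      rcases (Ideal.IsPrime.mem_or_mem q.2 hc) with h | h
      · exact absurd h hxq
      · rw [← hr]
        exact Ideal.Quotient.eq_zero_iff_mem.mpr h
    rw [hz a, hz b]
  rw [Module.length_eq_zero_iff.mpr hK, zero_add, length_quotSMulTop_quot]
  rw [Finset.sum_eq_single q]
  · rw [lenAt_quot_self, one_mul]; rfl
  · intro p hp hpq
    obtain ⟨-, hpm, -⟩ := hT p hp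
    have hnle : ¬ q.asIdeal ≤ p.asIdeal := by
      intro hle
      have hlt : q.asIdeal < p.asIdeal := lt_of_le_of_ne hle
        (fun h => hpq (PrimeSpectrum.ext h.symm))
      exact hpm (hqq p.asIdeal p.2 hlt)
    obtain ⟨s, hsq, hsp⟩ := Set.not_subset.mp hnle
    rw [lenAt_eq_zero_of_smul p.asIdeal s hsp (smul_quot_eq_zero' _ s hsq), zero_mul]
  · intro h; exact absurd hq h

include hT in
theorem main (M : Type u) [AddCommGroup M] [Module R M] [Module.Finite R M]
    (hsupp : ∀ p ∈ Module.support R M, p ∈ T ∨ p.asIdeal = maximalIdeal R) : F x T M := by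
  refine IsNoetherianRing.induction_on_isQuotientEquivQuotientPrime R (M := M) inferInstance
    (motive := fun N _ _ _ => (∀ p ∈ Module.support R N, p ∈ T ∨ p.asIdeal = maximalIdeal R) →
      F x T N) ?_ ?_ ?_ hsupp
  · intro N _ _ _ _ _
    exact F_of_subsingleton x T N
  · intro N _ _ _ p e hN
    have hp : p ∈ Module.support R N := by
      rw [e.support_eq, Module.mem_support_iff_of_finite, Ideal.annihilator_quotient]
    have hFq : F x T (R ⧸ p.asIdeal) := by
      rcases hN p hp with h | h
      · exact F_quot_T x T hT p h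
      · rw [h]; exact F_quot_max x T hT
    have hsq : ∀ p' ∈ Module.support R (R ⧸ p.asIdeal), p' ∈ T ∨ p'.asIdeal = maximalIdeal R := by
      intro p' hp'
      rw [← e.support_eq] at hp'
      exact hN p' hp'
    have hs0 : ∀ p' ∈ Module.support R PUnit.{u+1}, p' ∈ T ∨ p'.asIdeal = maximalIdeal R := by
      intro p' hp'
      rw [Module.support_eq_empty] at hp'
      exact absurd hp' (Set.notMem_empty _)
    exact F_of_exact x T hT (N₁ := PUnit.{u+1}) (0 : PUnit.{u+1} →ₗ[R] N) e.toLinearMap
      (fun a b _ => Subsingleton.elim a b) e.surjective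
      (by
        intro y
        constructor
        · intro hy
          exact ⟨0, by rw [LinearMap.zero_apply]; exact (e.injective (by rw [map_zero]; exact hy)).symm⟩
        · rintro ⟨_, rfl⟩
          simp)
      hs0 hsq (F_of_subsingleton x T _) hFq
  · intro N₁ _ _ _ N₂ _ _ _ N₃ _ _ _ f g hf hg hex ih1 ih3 hN
    have hs := Module.support_of_exact hex hf hg
    have hs1 : ∀ p ∈ Module.support R N₁, p ∈ T ∨ p.asIdeal = maximalIdeal R :=
      fun p hp => hN p (by rw [hs]; exact Or.inl hp)
    have hs3 : ∀ p ∈ Module.support R N₃, p ∈ T ∨ p.asIdeal = maximalIdeal R :=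
      fun p hp => hN p (by rw [hs]; exact Or.inr hp)
    exact F_of_exact x T hT f g hf hg hex hs1 hs3 (ih1 hs1) (ih3 hs3)

end main

section wrap
variable [IsNoetherianRing R] [IsLocalRing R]

theorem lsmul_eq (x : R) (M : Type u) [AddCommGroup M] [Module R M] :
    LinearMap.ker (LinearMap.lsmul R M x) = K x M := by
  ext m
  simp [K]

theorem main0616 (hA : ringKrullDim R = 1) (M : Type u) [AddCommGroup M]
    [Module R M] [Module.Finite R M] (a : R) (ha : ∀ p ∈ minimalPrimes R, a ∉ p) :
    Module.length R (M ⧸ a • (⊤ : Submodule R M)) =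
      Module.length R (LinearMap.ker (LinearMap.lsmul R M a)) +
      ∑ᶠ (p : PrimeSpectrum R) (_ : p.asIdeal ∈ minimalPrimes R),
        Module.length (Localization.AtPrime p.asIdeal) (LocalizedModule p.asIdeal.primeCompl M) *
          Module.length R (R ⧸ (p.asIdeal ⊔ Ideal.span {a})) := by
  have hdim1 : Ring.KrullDimLE 1 R := by
    rw [Ring.KrullDimLE, Order.krullDimLE_iff, ← ringKrullDim, hA]; rfl
  have hmm := Ring.krullDimLE_one_iff.mp hdim1
  have hT : ∀ q ∈ minSet (⊥ : Ideal R), a ∉ q.asIdeal ∧ q.asIdeal ≠ maximalIdeal R ∧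
      ∀ q' : Ideal R, q'.IsPrime → q.asIdeal < q' → q' = maximalIdeal R := by
    intro q hq
    rw [mem_minSet] at hq
    refine ⟨ha _ hq, ?_, ?_⟩
    · intro hqm
      have : Ring.KrullDimLE 0 R := by
        rw [Ring.krullDimLE_zero_iff]
        intro P hP
        have h1 : P ≤ q.asIdeal := hqm ▸ IsLocalRing.le_maximalIdeal hP.ne_top
        have h2 : q.asIdeal ≤ P := hq.2 ⟨hP, bot_le⟩ h1
        rw [le_antisymm h1 h2, hqm]
        infer_instance
      rw [Ring.krullDimLE_iff] at this
      rw [hA] at this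
      exact absurd this (by decide)
    · intro q' hq' hlt
      rcases hmm q' hq' with h | h
      · exact absurd (h.2 ⟨q.2, bot_le⟩ hlt.le) (not_le_of_gt hlt)
      · exact IsLocalRing.eq_maximalIdeal h
  have hsupp : ∀ p ∈ Module.support R M, p ∈ minSet (⊥ : Ideal R) ∨ p.asIdeal = maximalIdeal R := by
    intro p _
    rcases hmm p.asIdeal p.2 with h | h
    · exact Or.inl ((mem_minSet ⊥ p).mpr h)
    · exact Or.inr (IsLocalRing.eq_maximalIdeal h)
  have key := main a (minSet (⊥ : Ideal R)) hT M hsupp
  unfold F at key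
  rw [lsmul_eq]
  change Module.length R (QuotSMulTop a M) = _
  rw [key]
  congr 1
  rw [← finsum_mem_coe_finset]
  symm
  refine finsum_mem_congr ?_ (fun p _ => rfl)
  ext p
  exact (mem_minSet ⊥ p).symm


theorem ord_eq (x : R) (p : Ideal R) [p.IsPrime] :
    Ring.ord (R ⧸ p) (Ideal.Quotient.mk p x) = Module.length R (R ⧸ (p ⊔ Ideal.span {x})) := by
  unfold Ring.ord
  rw [← Module.length_eq_of_surjective (S := R) (R := R ⧸ p)
    (M := (R ⧸ p) ⧸ Ideal.span {Ideal.Quotient.mk p x}) Ideal.Quotient.mk_surjective]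
  rw [← (Submodule.Quotient.restrictScalarsEquiv R (Ideal.span {Ideal.Quotient.mk p x})).length_eq]
  rw [← length_quotSMulTop_quot]
  refine (Submodule.quotEquivOfEq _ _ ?_).length_eq
  ext y
  rw [Submodule.restrictScalars_mem, Ideal.mem_span_singleton', Submodule.mem_smul_pointwise_iff_exists]
  constructor
  · rintro ⟨z, rfl⟩
    refine ⟨z, trivial, ?_⟩
    rw [Algebra.smul_def, mul_comm]; rfl
  · rintro ⟨z, -, rfl⟩
    refine ⟨z, ?_⟩
    rw [Algebra.smul_def, mul_comm]; rfl

theorem main1833 (M : Type u) [AddCommGroup M] [Module R M] [Module.Finite R M] (x : R)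
    (h1 : Module.supportDim R M ≤ 1)
    (h0 : Module.supportDim R (M ⧸ x • (⊤ : Submodule R M)) ≤ 0) :
    Module.length R (M ⧸ x • (⊤ : Submodule R M)) =
      Module.length R (LinearMap.ker (LinearMap.lsmul R M x)) +
      ∑ᶠ (p : PrimeSpectrum R) (_ : p ∈ Module.support R M ∧ p.asIdeal ≠ IsLocalRing.maximalIdeal R),
        Ring.ord (R ⧸ p.asIdeal) (Ideal.Quotient.mk p.asIdeal x) *
          Module.length (Localization.AtPrime p.asIdeal) (LocalizedModule p.asIdeal.primeCompl M) := by
  classical
  -- the maximal ideal is in the support as soon as some prime is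
  have hmsupp : ∀ (X : Type u) [AddCommGroup X] [Module R X] [Module.Finite R X] (P : PrimeSpectrum R),
      P ∈ Module.support R X → IsLocalRing.closedPoint R ∈ Module.support R X := by
    intro X _ _ _ P hP
    rw [Module.mem_support_iff_of_finite] at hP ⊢
    exact hP.trans (IsLocalRing.le_maximalIdeal P.2.ne_top)
  have hmin : ∀ P ∈ Module.support R M, P.asIdeal ≠ maximalIdeal R →
      P.asIdeal ∈ (Module.annihilator R M).minimalPrimes := by
    intro P hP h2
    by_contra h1'
    have hann : Module.annihilator R M ≤ P.asIdeal := Module.mem_support_iff_of_finite.mp hP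
    obtain ⟨p, hpmin, hpP⟩ := Ideal.exists_minimalPrimes_le hann
    have hpne : p ≠ P.asIdeal := fun h => h1' (h ▸ hpmin)
    haveI := hpmin.1.1
    let a0 : Module.support R M := ⟨⟨p, hpmin.1.1⟩, Module.mem_support_iff_of_finite.mpr hpmin.1.2⟩
    let a1 : Module.support R M := ⟨P, hP⟩
    let a2 : Module.support R M := ⟨IsLocalRing.closedPoint R, hmsupp M P hP⟩
    have hlt1 : a0 < a1 := by
      change (⟨p, hpmin.1.1⟩ : PrimeSpectrum R) < P
      rw [← PrimeSpectrum.asIdeal_lt_asIdeal]
      exact lt_of_le_of_ne hpP hpne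
    have hlt2 : a1 < a2 := by
      change P < IsLocalRing.closedPoint R
      rw [← PrimeSpectrum.asIdeal_lt_asIdeal]
      exact lt_of_le_of_ne (IsLocalRing.le_maximalIdeal P.2.ne_top) h2
    let l : LTSeries (Module.support R M) :=
      { length := 2
        toFun := ![a0, a1, a2]
        step := by
          intro i
          fin_cases i
          · exact hlt1
          · exact hlt2 }
    have hl := Order.LTSeries.length_le_krullDim l
    unfold Module.supportDim at h1
    have : ((2 : ℕ) : WithBot ℕ∞) ≤ 1 := hl.trans h1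
    exact absurd this (by decide)
  set T : Finset (PrimeSpectrum R) :=
    (minSet (Module.annihilator R M)).filter (fun p => p.asIdeal ≠ maximalIdeal R) with hTdef
  have hmemT : ∀ p : PrimeSpectrum R, p ∈ T ↔ p ∈ Module.support R M ∧ p.asIdeal ≠ maximalIdeal R := by
    intro p
    rw [hTdef, Finset.mem_filter, mem_minSet]
    constructor
    · rintro ⟨hp, hne⟩
      exact ⟨Module.mem_support_iff_of_finite.mpr hp.1.2, hne⟩
    · rintro ⟨hp, hne⟩
      exact ⟨hmin p hp hne, hne⟩
  have hT : ∀ q ∈ T, x ∉ q.asIdeal ∧ q.asIdeal ≠ maximalIdeal R ∧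
      ∀ q' : Ideal R, q'.IsPrime → q.asIdeal < q' → q' = maximalIdeal R := by
    intro q hq
    obtain ⟨hqs, hqm⟩ := (hmemT q).mp hq
    refine ⟨?_, hqm, ?_⟩
    · intro hxq
      have hq2 : q ∈ Module.support R (QuotSMulTop x M) := by
        rw [Module.support_quotSMulTop]
        refine ⟨hqs, ?_⟩
        rw [PrimeSpectrum.mem_zeroLocus, Set.singleton_subset_iff]
        exact hxq
      let a0 : Module.support R (QuotSMulTop x M) := ⟨q, hq2⟩
      let a1 : Module.support R (QuotSMulTop x M) := ⟨IsLocalRing.closedPoint R, hmsupp _ q hq2⟩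
      have hlt : a0 < a1 := by
        change q < IsLocalRing.closedPoint R
        rw [← PrimeSpectrum.asIdeal_lt_asIdeal]
        exact lt_of_le_of_ne (IsLocalRing.le_maximalIdeal q.2.ne_top) hqm
      let l : LTSeries (Module.support R (QuotSMulTop x M)) :=
        { length := 1
          toFun := ![a0, a1]
          step := by
            intro i
            fin_cases i
            exact hlt }
      have hl := Order.LTSeries.length_le_krullDim l
      have h0' : Order.krullDim (Module.support R (QuotSMulTop x M)) ≤ 0 := h0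
      have : ((1 : ℕ) : WithBot ℕ∞) ≤ 0 := hl.trans h0'
      exact absurd this (by decide)
    · intro q' hq' hlt
      by_contra hne
      have hq's : (⟨q', hq'⟩ : PrimeSpectrum R) ∈ Module.support R M := by
        rw [Module.mem_support_iff_of_finite] at hqs ⊢
        exact hqs.trans hlt.le
      have := hmin ⟨q', hq'⟩ hq's hne
      have hle : q' ≤ q.asIdeal := this.2 ⟨q.2, Module.mem_support_iff_of_finite.mp hqs⟩ hlt.le
      exact absurd hle (not_le_of_gt hlt)
  have hsupp : ∀ p ∈ Module.support R M, p ∈ T ∨ p.asIdeal = maximalIdeal R := by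
    intro p hp
    by_cases h : p.asIdeal = maximalIdeal R
    · exact Or.inr h
    · exact Or.inl ((hmemT p).mpr ⟨hp, h⟩)
  have key := main x T hT M hsupp
  unfold F at key
  rw [lsmul_eq]
  change Module.length R (QuotSMulTop x M) = _
  rw [key]
  congr 1
  rw [← finsum_mem_coe_finset]
  symm
  refine finsum_mem_congr ?_ (fun p _ => ?_)
  · ext p
    exact (hmemT p).symm
  · rw [ord_eq, mul_comm]; rfl

end wrap

end Groth.Agent.Lib.Helper93.MultThree
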