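import Mathlib
import Groth.Agent.Lib.Helper2.LocalCriterion
/-!
# Flatness in a commutative square of local rings

* `flat_tensor_of_flat`: `S' ⊗_S M` is `R`-flat when `M` is `R`-flat and `S'` is `S`-flat.
* `rTensor_map_injective`: `I R' ⊗_{R'} M' → M'` is injective when `M'` is `R`-flat.
* `main`: the base change `M ⊗_S S'` is flat over `R'` when `m_R R' = m_{R'}`.
-/

set_option autoImplicit false
set_option linter.unusedSectionVars false
set_option linter.style.haveILetI false
universe u
open TensorProduct

namespace Groth.Agent.Lib.Helper93.FlatSquare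

section tensorflat
variable (R S S' M : Type u) [CommRing R] [CommRing S] [CommRing S'] [Algebra R S] [Algebra S S']
  [Algebra R S'] [IsScalarTower R S S'] [AddCommGroup M] [Module S M] [Module R M]
  [IsScalarTower R S M]

/-- `S' ⊗_S M` is `R`-flat when `M` is `R`-flat and `S'` is `S`-flat. -/
theorem flat_tensor_of_flat [Module.Flat R M] [Module.Flat S S'] : Module.Flat R (S' ⊗[S] M) := by
  rw [Module.Flat.iff_lTensor_injective']
  intro I
  have h1 : Function.Injective (AlgebraTensorModule.lTensor S M I.subtype) :=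
    Module.Flat.lTensor_preserves_injective_linearMap (M := M) I.subtype Subtype.val_injective
  have h2 : Function.Injective (LinearMap.lTensor S' (AlgebraTensorModule.lTensor S M I.subtype)) :=
    Module.Flat.lTensor_preserves_injective_linearMap _ h1
  have hcomm : ∀ t : (S' ⊗[S] M) ⊗[R] I,
      AlgebraTensorModule.assoc R S S' S' M R (LinearMap.lTensor (S' ⊗[S] M) I.subtype t) =
        LinearMap.lTensor S' (AlgebraTensorModule.lTensor S M I.subtype)
          (AlgebraTensorModule.assoc R S S' S' M I t) := by
    intro t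
    induction t with
    | zero => simp
    | add a b ha hb => simp only [map_add, ha, hb]
    | tmul x i =>
      induction x with
      | zero => simp
      | add a b ha hb => simp only [add_tmul, map_add, ha, hb]
      | tmul s m => simp
  intro a b hab
  apply (AlgebraTensorModule.assoc R S S' S' M I).injective
  apply h2
  rw [← hcomm, ← hcomm, hab]

end tensorflat

end Groth.Agent.Lib.Helper93.FlatSquare

namespace Groth.Agent.Lib.Helper93.FlatSquare

section injective
variable (R R' : Type u) [CommRing R] [CommRing R'] [Algebra R R'] (I : Ideal R)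
  (M' : Type u) [AddCommGroup M'] [Module R' M'] [Module R M'] [IsScalarTower R R' M']

/-- the comparison map `I ⊗_R M' → I R' ⊗_{R'} M'`. -/
noncomputable def phi : ↥I ⊗[R] M' →ₗ[R] ↥(I.map (algebraMap R R')) ⊗[R'] M' :=
  (TensorProduct.mapOfCompatibleSMul R' R R ↥(I.map (algebraMap R R')) M') ∘ₗ
    (TensorProduct.map (Algebra.idealMap R' I) LinearMap.id)

theorem phi_tmul (a : I) (m : M') :
    phi R R' I M' (a ⊗ₜ m) =
      (⟨algebraMap R R' a, Ideal.mem_map_of_mem _ a.2⟩ : ↥(I.map (algebraMap R R'))) ⊗ₜ[R'] m := by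
  simp [phi]
  rfl

theorem phi_surjective : Function.Surjective (phi R R' I M') := by
  intro x
  induction x with
  | zero => exact ⟨0, map_zero _⟩
  | add a b ha hb =>
    obtain ⟨a', rfl⟩ := ha
    obtain ⟨b', rfl⟩ := hb
    exact ⟨a' + b', map_add _ _ _⟩
  | tmul x m =>
    obtain ⟨x, hx⟩ := x
    have key : ∀ (x : R') (hx : x ∈ I.map (algebraMap R R')) (m : M'),
        (⟨x, hx⟩ : ↥(I.map (algebraMap R R'))) ⊗ₜ[R'] m ∈ LinearMap.range (phi R R' I M') := by
      intro x hx
      refine Submodule.span_induction (p := fun x hx => ∀ m : M',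
        (⟨x, hx⟩ : ↥(I.map (algebraMap R R'))) ⊗ₜ[R'] m ∈ LinearMap.range (phi R R' I M'))
        ?_ ?_ ?_ ?_ hx
      · rintro _ ⟨a, ha, rfl⟩ m
        exact ⟨(⟨a, ha⟩ : I) ⊗ₜ m, phi_tmul R R' I M' ⟨a, ha⟩ m⟩
      · intro m
        have : (⟨0, Submodule.zero_mem _⟩ : ↥(I.map (algebraMap R R'))) = 0 := rfl
        rw [this, zero_tmul]
        exact Submodule.zero_mem _
      · intro x y hx hy ihx ihy m
        have : (⟨x + y, Submodule.add_mem _ hx hy⟩ : ↥(I.map (algebraMap R R'))) =
            ⟨x, hx⟩ + ⟨y, hy⟩ := rfl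
        rw [this, add_tmul]
        exact Submodule.add_mem _ (ihx m) (ihy m)
      · intro r' x hx ihx m
        have : (⟨r' • x, Submodule.smul_mem _ r' hx⟩ : ↥(I.map (algebraMap R R'))) =
            r' • ⟨x, hx⟩ := rfl
        rw [this, TensorProduct.smul_tmul]
        exact ihx (r' • m)
    exact key x hx m

theorem lid_rTensor_phi (s : ↥I ⊗[R] M') :
    TensorProduct.lid R' M' (LinearMap.rTensor M' (I.map (algebraMap R R')).subtype
      (phi R R' I M' s)) = TensorProduct.lid R M' (LinearMap.rTensor M' I.subtype s) := by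
  induction s with
  | zero => simp
  | add a b ha hb => simp only [map_add, ha, hb]
  | tmul a m =>
    rw [phi_tmul]
    simp

/-- `I R' ⊗_{R'} M' → M'` is injective when `M'` is `R`-flat. -/
theorem rTensor_map_injective [Module.Flat R M'] :
    Function.Injective (LinearMap.rTensor M' (I.map (algebraMap R R')).subtype) := by
  intro x y hxy
  obtain ⟨s, rfl⟩ := phi_surjective R R' I M' x
  obtain ⟨t, rfl⟩ := phi_surjective R R' I M' y
  have h1 := congrArg (TensorProduct.lid R' M') hxy
  rw [lid_rTensor_phi, lid_rTensor_phi] at h1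
  have h2 : Function.Injective (LinearMap.rTensor M' I.subtype) :=
    Module.Flat.rTensor_preserves_injective_linearMap I.subtype Subtype.val_injective
  rw [h2 ((TensorProduct.lid R M').injective h1)]

end injective

end Groth.Agent.Lib.Helper93.FlatSquare

namespace Groth.Agent.Lib.Helper93.FlatSquare
theorem main (R S R' S' : Type u) [CommRing R] [CommRing S]
    [CommRing R'] [CommRing S'] [IsLocalRing R] [IsLocalRing S] [IsLocalRing R'] [IsLocalRing S']
    [Algebra R S] [Algebra R R'] [Algebra S S'] [Algebra R' S'] [Algebra R S']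
    [IsScalarTower R S S'] [IsScalarTower R R' S']
    [IsLocalHom (algebraMap R S)] [IsLocalHom (algebraMap R R')] [IsLocalHom (algebraMap S S')]
    [IsLocalHom (algebraMap R' S')] [Module.Flat R R'] [Module.Flat S S']
    [IsNoetherianRing R'] [IsNoetherianRing S']
    (hm : (IsLocalRing.maximalIdeal R).map (algebraMap R R') = IsLocalRing.maximalIdeal R')
    (M : Type u) [AddCommGroup M] [Module S M] [Module R M] [IsScalarTower R S M] [Module.Finite S M]
    [Module.Flat R M]
    (M' : Type u) [AddCommGroup M'] [Module S' M'] [Module S M'] [IsScalarTower S S' M'] [Module R' M']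
    [IsScalarTower R' S' M'] (j : M →ₗ[S] M') (hj : IsBaseChange S' j) :
    Module.Flat R' M' := by
  letI : Module R M' := Module.compHom M' (algebraMap R S')
  haveI : IsScalarTower R S' M' := ⟨fun r s x => by
    change (r • s) • x = (algebraMap R S' r) • (s • x)
    rw [Algebra.smul_def, mul_smul]⟩
  haveI : IsScalarTower R R' M' := ⟨fun r r' x => by
    change (r • r') • x = (algebraMap R S' r) • (r' • x)
    rw [← algebraMap_smul S' (r • r') x, ← algebraMap_smul S' r' x, Algebra.smul_def, map_mul,
      mul_smul, ← IsScalarTower.algebraMap_apply R R' S']⟩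
  haveI : Module.Flat R (S' ⊗[S] M) := flat_tensor_of_flat R S S' M
  let e : S' ⊗[S] M ≃ₗ[S'] M' := hj.equiv
  haveI : Module.Flat R M' := Module.Flat.of_linearEquiv (e.restrictScalars R).symm
  haveI : Module.Finite S' M' := Module.Finite.equiv e
  have h1 : Function.Injective (LinearMap.rTensor M' (IsLocalRing.maximalIdeal R').subtype) := by
    rw [← hm]
    exact rTensor_map_injective R R' (IsLocalRing.maximalIdeal R) M'
  have hjac : (IsLocalRing.maximalIdeal R').map (algebraMap R' S') ≤ Ideal.jacobson ⊥ := by
    rw [IsLocalRing.jacobson_eq_maximalIdeal ⊥ bot_ne_top]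
    exact IsLocalRing.map_maximalIdeal_le (algebraMap R' S')
  letI : Field (R' ⧸ IsLocalRing.maximalIdeal R') := Ideal.Quotient.field _
  exact Groth.Agent.Lib.Helper2.flat_of_rTensor_injective_of_flat_quotient (S := S')
    (IsLocalRing.maximalIdeal R') hjac h1 inferInstance
end Groth.Agent.Lib.Helper93.FlatSquare
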