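import Mathlib
import Groth.Prelude.Def_Disc

set_option autoImplicit false
universe u v
namespace Groth.Agent.Lib.Helper93.NoetherDiff
open TensorProduct Polynomial

variable {A : Type u} {B : Type v} [CommRing A] [CommRing B] [Algebra A B]

local notation "μ" => (Algebra.TensorProduct.lmul' (S := B) A)
local notation "J" => KaehlerDifferential.ideal A B

theorem smul_fromIdeal (f : B) (j : KaehlerDifferential.ideal A B) :
    f • KaehlerDifferential.fromIdeal A B j =
      KaehlerDifferential.fromIdeal A B ((f ⊗ₜ[A] (1 : B)) • j) := by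
  rw [map_smul]
  have : f • KaehlerDifferential.fromIdeal A B j =
      (f • (1 : B ⊗[A] B)) • KaehlerDifferential.fromIdeal A B j := by
    rw [smul_assoc, one_smul]
  rw [this]
  congr 1
  rw [Algebra.TensorProduct.one_def, TensorProduct.smul_tmul', smul_eq_mul, mul_one]

theorem different_le_ann :
    Disc.noetherDifferent A B ≤ Module.annihilator B (Ω[B⁄A]) := by
  unfold Disc.noetherDifferent
  rw [Ideal.map_le_iff_le_comap]
  intro s hs
  rw [Ideal.mem_comap, Module.mem_annihilator]
  intro ω
  obtain ⟨j, rfl⟩ := KaehlerDifferential.fromIdeal_surjective A B ω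
  rw [smul_fromIdeal]
  show (KaehlerDifferential.ideal A B).toCotangent _ = 0
  rw [Ideal.toCotangent_eq_zero]
  have hsj : s * (j : B ⊗[A] B) = 0 := by
    have := Submodule.mem_annihilator.1 hs (j : B ⊗[A] B) j.2
    simpa using this
  have hmem : s - (μ s) ⊗ₜ[A] (1 : B) ∈ KaehlerDifferential.ideal A B := by
    rw [RingHom.mem_ker, map_sub, Algebra.TensorProduct.lmul'_apply_tmul, mul_one, sub_self]
  have : (((μ s) ⊗ₜ[A] (1 : B)) • j : KaehlerDifferential.ideal A B).1 =
      - ((s - (μ s) ⊗ₜ[A] (1 : B)) * (j : B ⊗[A] B)) := by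
    show ((μ s) ⊗ₜ[A] (1 : B)) * (j : B ⊗[A] B) = _
    rw [sub_mul, hsj]; ring
  rw [this, pow_two]
  exact neg_mem (Ideal.mul_mem_mul hmem j.2)


theorem pow_mem_different [Algebra.FiniteType A B] (f : B)
    (hf : f ∈ Module.annihilator B (Ω[B⁄A])) : ∃ n : ℕ, f ^ n ∈ Disc.noetherDifferent A B := by
  let t : B ⊗[A] B := f ⊗ₜ[A] (1 : B)
  have ht : ∀ j : KaehlerDifferential.ideal A B,
      t * (j : B ⊗[A] B) ∈ (KaehlerDifferential.ideal A B) ^ 2 := by
    intro j
    have h0 := Module.mem_annihilator.1 hf (KaehlerDifferential.fromIdeal A B j)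
    rw [smul_fromIdeal] at h0
    have h1 : (KaehlerDifferential.ideal A B).toCotangent (t • j) = 0 := h0
    rw [Ideal.toCotangent_eq_zero] at h1
    exact h1
  haveI : Module.Finite (B ⊗[A] B) (KaehlerDifferential.ideal A B) :=
    Module.Finite.iff_fg.2 (KaehlerDifferential.ideal_fg A B)
  let φ : Module.End (B ⊗[A] B) (KaehlerDifferential.ideal A B) :=
    Algebra.lsmul (B ⊗[A] B) (B ⊗[A] B) (KaehlerDifferential.ideal A B) t
  have hφ : LinearMap.range φ ≤
      (KaehlerDifferential.ideal A B) • (⊤ : Submodule (B ⊗[A] B) (KaehlerDifferential.ideal A B)) := by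
    rintro _ ⟨j, rfl⟩
    rw [Submodule.mem_smul_top_iff]
    show t * (j : B ⊗[A] B) ∈ (KaehlerDifferential.ideal A B) • (KaehlerDifferential.ideal A B)
    rw [Ideal.smul_eq_mul, ← pow_two]
    exact ht j
  obtain ⟨p, hmonic, -, hcoeff, hp⟩ :=
    LinearMap.exists_monic_and_natDegree_eq_and_coeff_mem_pow_and_aeval_eq_zero
      (R := B ⊗[A] B) (M := KaehlerDifferential.ideal A B) φ
      (KaehlerDifferential.ideal A B) hφ
  refine ⟨p.natDegree, ?_⟩
  let s : B ⊗[A] B := Polynomial.aeval t p
  have hs : s ∈ Submodule.annihilator (RingHom.ker μ) := by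
    rw [Submodule.mem_annihilator]
    intro j hj
    have h1 : Polynomial.aeval φ p =
        Algebra.lsmul (B ⊗[A] B) (B ⊗[A] B) (KaehlerDifferential.ideal A B) s :=
      Polynomial.aeval_algHom_apply
        (Algebra.lsmul (B ⊗[A] B) (B ⊗[A] B) (KaehlerDifferential.ideal A B)) t p
    have h2 := LinearMap.congr_fun hp ⟨j, hj⟩
    rw [h1] at h2
    exact congrArg Subtype.val h2
  have hμs : μ s = f ^ p.natDegree := by
    have h1 : μ s = (p.map (μ : B ⊗[A] B →+* B)).eval (μ t) := by
      show (μ : B ⊗[A] B →+* B) (Polynomial.aeval t p) = _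
      rw [Polynomial.aeval_def, Polynomial.hom_eval₂, Polynomial.eval_map]
      rfl
    have h2 : p.map (μ : B ⊗[A] B →+* B) = X ^ p.natDegree := by
      ext k
      rw [Polynomial.coeff_map, Polynomial.coeff_X_pow]
      rcases lt_trichotomy k p.natDegree with hk | hk | hk
      · rw [if_neg hk.ne]
        have : p.coeff k ∈ KaehlerDifferential.ideal A B :=
          Ideal.pow_le_self (by omega) (hcoeff k)
        exact this
      · rw [if_pos hk, hk, hmonic.coeff_natDegree, map_one]
      · rw [if_neg hk.ne', Polynomial.coeff_eq_zero_of_natDegree_lt hk, map_zero]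
    rw [h1, h2, Polynomial.eval_pow, Polynomial.eval_X]
    show (μ (f ⊗ₜ[A] (1 : B))) ^ _ = _
    rw [Algebra.TensorProduct.lmul'_apply_tmul, mul_one]
  rw [← hμs]
  exact Ideal.mem_map_of_mem _ hs

theorem main2196 [Algebra.FiniteType A B] :
    {q : PrimeSpectrum B | Disc.noetherDifferent A B ≤ q.asIdeal} =
      (Algebra.unramifiedLocus A B)ᶜ := by
  rw [Algebra.unramifiedLocus_eq_compl_support, compl_compl, Module.support_eq_zeroLocus]
  ext q
  simp only [Set.mem_ofPred_eq, PrimeSpectrum.mem_zeroLocus, SetLike.coe_subset_coe]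
  constructor
  · intro hD f hf
    obtain ⟨n, hn⟩ := pow_mem_different f hf
    exact q.2.mem_of_pow_mem n (hD hn)
  · intro h
    exact different_le_ann.trans h

end Groth.Agent.Lib.Helper93.NoetherDiff
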