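import Mathlib
import Groth.Prelude.Def_Disc

set_option autoImplicit false
universe u v
namespace Groth.Agent.Lib.Helper93.NoetherDiffFree
open TensorProduct

variable {A : Type u} {B : Type v} [CommRing A] [CommRing B] [Algebra A B]

local notation "μ" => (Algebra.TensorProduct.lmul' (S := B) A)

/-- contraction against a functional in the first factor -/
noncomputable def Ψ (ψ : B →ₗ[A] A) : B ⊗[A] B →ₗ[A] B :=
  (TensorProduct.lid A B).toLinearMap ∘ₗ LinearMap.rTensor B ψ

@[simp] theorem Ψ_tmul (ψ : B →ₗ[A] A) (u v : B) : Ψ ψ (u ⊗ₜ[A] v) = ψ u • v := by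
  simp [Ψ]

theorem Ψ_add (ψ ψ' : B →ₗ[A] A) (x : B ⊗[A] B) : Ψ (ψ + ψ') x = Ψ ψ x + Ψ ψ' x := by
  induction x using TensorProduct.induction_on with
  | zero => simp
  | tmul u v => simp [add_smul]
  | add x y hx hy => rw [map_add, hx, hy, map_add, map_add]; abel

theorem Ψ_left (ψ : B →ₗ[A] A) (c : B) (x : B ⊗[A] B) :
    Ψ ψ ((c ⊗ₜ[A] (1 : B)) * x) = Ψ (ψ ∘ₗ LinearMap.mulLeft A c) x := by
  induction x using TensorProduct.induction_on with
  | zero => simp
  | tmul u v => simp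
  | add x y hx hy => rw [mul_add, map_add, hx, hy, map_add]

theorem Ψ_right (ψ : B →ₗ[A] A) (c : B) (x : B ⊗[A] B) :
    Ψ ψ (((1 : B) ⊗ₜ[A] c) * x) = c * Ψ ψ x := by
  induction x using TensorProduct.induction_on with
  | zero => simp
  | tmul u v => simp
  | add x y hx hy => rw [mul_add, map_add, hx, hy, map_add, mul_add]

variable {ι : Type*} [Fintype ι] (b : Module.Basis ι A B)

theorem reconstruct (x : B ⊗[A] B) : x = ∑ i, b i ⊗ₜ[A] Ψ (b.coord i) x := by
  induction x using TensorProduct.induction_on with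
  | zero => simp
  | tmul u v =>
    have : ∀ i, b i ⊗ₜ[A] Ψ (b.coord i) (u ⊗ₜ[A] v) = (b.repr u i • b i) ⊗ₜ[A] v := by
      intro i
      rw [Ψ_tmul, Module.Basis.coord_apply, TensorProduct.tmul_smul, TensorProduct.smul_tmul']
    simp_rw [this]
    rw [← TensorProduct.sum_tmul, b.sum_repr]
  | add x y hx hy =>
    conv_lhs => rw [hx, hy]
    rw [← Finset.sum_add_distrib]
    refine Finset.sum_congr rfl fun i _ => ?_
    rw [map_add, TensorProduct.tmul_add]

include b in
theorem eq_zero_of_Ψ (x : B ⊗[A] B) (h : ∀ ψ : B →ₗ[A] A, Ψ ψ x = 0) : x = 0 := by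
  rw [reconstruct b x]
  simp [h]

open Disc

/-- toLinearMap as additive hom -/
def toLin : Omega A B →+ (B →ₗ[A] A) where
  toFun := Omega.toLinearMap
  map_zero' := rfl
  map_add' _ _ := rfl

theorem sum_toLinearMap {κ : Type*} (s : Finset κ) (f : κ → Omega A B) :
    (∑ i ∈ s, f i).toLinearMap = ∑ i ∈ s, (f i).toLinearMap :=
  map_sum (toLin (A := A) (B := B)) f s

theorem trace_eq_sum [Module.Free A B] [Module.Finite A B] :
    Omega.trace A B = ∑ i, b i • (⟨b.coord i⟩ : Omega A B) := by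
  classical
  apply Omega.toLinearMap_injective
  rw [sum_toLinearMap]
  ext u
  rw [LinearMap.sum_apply]
  show Algebra.trace A B u = _
  rw [Algebra.trace_eq_matrix_trace b, Matrix.trace]
  refine Finset.sum_congr rfl fun i _ => ?_
  rw [Matrix.diag_apply, Algebra.leftMulMatrix_eq_repr_mul, Omega.smul_toLinearMap_apply,
    Module.Basis.coord_apply, mul_comm]

theorem sum_eval_smul_coord (ψ : B →ₗ[A] A) :
    (∑ i, algebraMap A B (ψ (b i)) • (⟨b.coord i⟩ : Omega A B)) = ⟨ψ⟩ := by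
  apply Omega.toLinearMap_injective
  rw [sum_toLinearMap]
  ext u
  rw [LinearMap.sum_apply]
  simp only [Omega.smul_toLinearMap_apply, Module.Basis.coord_apply]
  conv_rhs => rw [← b.sum_repr u, map_sum]
  refine Finset.sum_congr rfl fun i _ => ?_
  rw [← Algebra.smul_def, map_smul, map_smul, Finsupp.smul_apply, smul_eq_mul, smul_eq_mul, mul_comm]

theorem mem_ann_iff (x : B ⊗[A] B) :
    x ∈ Submodule.annihilator (RingHom.ker μ) ↔
      ∀ c : B, ((c ⊗ₜ[A] (1 : B)) - (1 : B) ⊗ₜ[A] c) * x = 0 := by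
  constructor
  · intro hx c
    have hc : (1 : B) ⊗ₜ[A] c - c ⊗ₜ[A] (1 : B) ∈ RingHom.ker μ :=
      KaehlerDifferential.one_smul_sub_smul_one_mem_ideal A c
    have := Submodule.mem_annihilator.1 hx _ hc
    rw [smul_eq_mul] at this
    have h2 : ((c ⊗ₜ[A] (1 : B)) - (1 : B) ⊗ₜ[A] c) * x =
      - (x * ((1 : B) ⊗ₜ[A] c - c ⊗ₜ[A] (1 : B))) := by ring
    rw [h2, this, neg_zero]
  · intro h
    rw [Submodule.mem_annihilator]
    intro j hj
    have hj' : j ∈ KaehlerDifferential.ideal A B := hj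
    rw [← KaehlerDifferential.span_range_eq_ideal] at hj'
    rw [smul_eq_mul]
    clear hj
    induction hj' using Submodule.span_induction with
    | mem y hy =>
      obtain ⟨c, rfl⟩ := hy
      have := h c
      have h2 : x * ((1 : B) ⊗ₜ[A] c - c ⊗ₜ[A] (1 : B)) =
        - (((c ⊗ₜ[A] (1 : B)) - (1 : B) ⊗ₜ[A] c) * x) := by ring
      rw [h2, this, neg_zero]
    | zero => simp
    | add y z _ _ hy hz => rw [mul_add, hy, hz, add_zero]
    | smul a y _ hy => rw [smul_eq_mul, mul_left_comm, hy, mul_zero]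

theorem main [Module.Finite A B] [Module.Free A B] :
    (Disc.noetherDifferent A B : Set B) =
      Set.range (fun φ : Disc.Omega A B →ₗ[B] B => φ (Disc.Omega.trace A B)) := by
  classical
  let ι := Module.Free.ChooseBasisIndex A B
  let b : Module.Basis ι A B := Module.Free.chooseBasis A B
  have hsurj : Function.Surjective μ := fun y => ⟨y ⊗ₜ 1, by simp⟩
  ext d
  constructor
  · intro hd
    have hd' : d ∈ Ideal.map μ (Submodule.annihilator (RingHom.ker μ)) := hd
    rw [Ideal.mem_map_iff_of_surjective _ hsurj] at hd'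
    obtain ⟨x, hx, rfl⟩ := hd'
    rw [mem_ann_iff] at hx
    have hlin : ∀ (c : B) (ψ : B →ₗ[A] A),
        Ψ (ψ ∘ₗ LinearMap.mulLeft A c) x = c * Ψ ψ x := by
      intro c ψ
      rw [← Ψ_left, ← Ψ_right, ← sub_eq_zero, ← map_sub, ← sub_mul, hx c, map_zero]
    let φ : Omega A B →ₗ[B] B :=
      { toFun := fun ψ => Ψ ψ.toLinearMap x
        map_add' := fun ψ ψ' => Ψ_add _ _ x
        map_smul' := fun c ψ => hlin c ψ.toLinearMap }
    refine ⟨φ, ?_⟩
    show φ (Omega.trace A B) = μ x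
    rw [trace_eq_sum b, map_sum]
    conv_rhs => rw [reconstruct b x, map_sum]
    refine Finset.sum_congr rfl fun i _ => ?_
    rw [map_smul, Algebra.TensorProduct.lmul'_apply_tmul, smul_eq_mul]
    rfl
  · rintro ⟨φ, rfl⟩
    let x : B ⊗[A] B := ∑ i, b i ⊗ₜ[A] φ ⟨b.coord i⟩
    have hΨ : ∀ ψ : B →ₗ[A] A, Ψ ψ x = φ ⟨ψ⟩ := by
      intro ψ
      conv_rhs => rw [← sum_eval_smul_coord b ψ, map_sum]
      show Ψ ψ (∑ i, b i ⊗ₜ[A] φ ⟨b.coord i⟩) = _
      rw [map_sum]
      refine Finset.sum_congr rfl fun i _ => ?_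
      rw [Ψ_tmul, map_smul, smul_eq_mul, Algebra.smul_def]
    have hx : x ∈ Submodule.annihilator (RingHom.ker μ) := by
      rw [mem_ann_iff]
      intro c
      apply eq_zero_of_Ψ b
      intro ψ
      rw [sub_mul, map_sub, Ψ_left, Ψ_right, hΨ, hΨ]
      have : (⟨ψ ∘ₗ LinearMap.mulLeft A c⟩ : Omega A B) = c • (⟨ψ⟩ : Omega A B) := rfl
      rw [this, map_smul, smul_eq_mul, sub_self]
    show φ (Omega.trace A B) ∈ Ideal.map μ (Submodule.annihilator (RingHom.ker μ))
    rw [Ideal.mem_map_iff_of_surjective _ hsurj]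
    refine ⟨x, hx, ?_⟩
    rw [trace_eq_sum b]
    show μ (∑ i, b i ⊗ₜ[A] φ ⟨b.coord i⟩) = _
    rw [map_sum, map_sum]
    refine Finset.sum_congr rfl fun i _ => ?_
    rw [map_smul, Algebra.TensorProduct.lmul'_apply_tmul, smul_eq_mul]

end Groth.Agent.Lib.Helper93.NoetherDiffFree
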