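import Mathlib
import Groth.Prelude.Def_Disc
import Groth.Agent.Lib.Helper93.NoetherDiff
import Groth.Agent.Lib.Helper93.NoetherDiffFree

set_option autoImplicit false
universe u v
namespace Groth.Agent.Lib.Helper93.DifferentRam
open TensorProduct Disc
open Groth.Agent.Lib.Helper93.NoetherDiffFree

variable {A : Type u} {B : Type v} [CommRing A] [CommRing B] [Algebra A B]

section basis
variable {ι : Type*} [Fintype ι] (b : Module.Basis ι A B)

include b in
/-- symmetric identity `φ(τ) • ψ = φ(ψ) • τ` -/
theorem swap_identity [Module.Free A B] [Module.Finite A B] (φ : Omega A B →ₗ[B] B)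
    (ψ : Omega A B) :
    φ (Omega.trace A B) • ψ = φ ψ • Omega.trace A B := by
  classical
  apply Omega.toLinearMap_injective
  ext y
  rw [Omega.smul_toLinearMap_apply, Omega.smul_toLinearMap_apply]
  -- RHS
  have hR : (Omega.trace A B).toLinearMap (φ ψ * y) =
      ∑ k, ψ.toLinearMap (y * b k * φ ⟨b.coord k⟩) := by
    rw [trace_eq_sum b, sum_toLinearMap, LinearMap.sum_apply]
    have h1 : ∀ i, (b i • (⟨b.coord i⟩ : Omega A B)).toLinearMap (φ ψ * y) =
        ∑ k, ψ.toLinearMap (y * b i * b k) * b.coord i (φ ⟨b.coord k⟩) := by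
      intro i
      rw [Omega.smul_toLinearMap_apply]
      have h2 : b i * (φ ψ * y) = φ ((y * b i) • ψ) := by
        rw [map_smul, smul_eq_mul]; ring
      have h3 : (y * b i) • ψ =
          ∑ k, algebraMap A B (((y * b i) • ψ).toLinearMap (b k)) • (⟨b.coord k⟩ : Omega A B) :=
        (sum_eval_smul_coord b ((y * b i) • ψ).toLinearMap).symm
      rw [h2, h3, map_sum, map_sum]
      refine Finset.sum_congr rfl fun k _ => ?_
      rw [map_smul, smul_eq_mul, ← Algebra.smul_def, map_smul, smul_eq_mul,
        Omega.smul_toLinearMap_apply]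
    simp_rw [h1]
    rw [Finset.sum_comm]
    refine Finset.sum_congr rfl fun k _ => ?_
    conv_rhs => rw [← b.sum_repr (φ ⟨b.coord k⟩), Finset.mul_sum, map_sum]
    refine Finset.sum_congr rfl fun i _ => ?_
    rw [mul_smul_comm, map_smul, smul_eq_mul, Module.Basis.coord_apply, mul_comm]
    congr 2
    ring
  rw [hR, trace_eq_sum b, map_sum, Finset.sum_mul, map_sum]
  refine Finset.sum_congr rfl fun k _ => ?_
  rw [map_smul, smul_eq_mul]
  congr 1
  ring

include b in
theorem eq_zero_of_smul_all (c : B) (h : ∀ ψ : Omega A B, c • ψ = 0) : c = 0 := by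
  apply b.ext_elem
  intro i
  have := congrArg (fun ω : Omega A B => ω.toLinearMap 1) (h ⟨b.coord i⟩)
  simp only [Omega.smul_toLinearMap_apply, mul_one, Omega.zero_toLinearMap,
    LinearMap.zero_apply] at this
  rw [map_zero, Finsupp.zero_apply]
  exact this

end basis

theorem mem_differentSet_iff [Module.Free A B] [Module.Finite A B] (d : B) :
    d ∈ differentSet A B ↔ ∀ ψ : Omega A B, ∃ c : B, d • ψ = c • Omega.trace A B := by
  constructor
  · intro hd ψ
    obtain ⟨c, hc⟩ := hd ψ.toLinearMap
    refine ⟨c, ?_⟩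
    apply Omega.toLinearMap_injective
    ext x
    rw [Omega.smul_toLinearMap_apply, Omega.smul_toLinearMap_apply]
    exact hc x
  · intro hd φ
    obtain ⟨c, hc⟩ := hd ⟨φ⟩
    refine ⟨c, fun x => ?_⟩
    have := congrArg (fun ω : Omega A B => ω.toLinearMap x) hc
    simp only [Omega.smul_toLinearMap_apply] at this
    exact this

theorem noether_sub_different [Module.Free A B] [Module.Finite A B] :
    (noetherDifferent A B : Set B) ⊆ differentSet A B := by
  rw [Groth.Agent.Lib.Helper93.NoetherDiffFree.main]
  rintro _ ⟨φ, rfl⟩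
  rw [mem_differentSet_iff]
  intro ψ
  exact ⟨φ ψ, swap_identity (Module.Free.chooseBasis A B) φ ψ⟩

theorem sq_mem_noether [Module.Free A B] [Module.Finite A B] (d : B)
    (hd : d ∈ differentSet A B) : d * d ∈ noetherDifferent A B := by
  rw [mem_differentSet_iff] at hd
  choose c hc using hd
  have hkill : ∀ e : B, e • Omega.trace A B = 0 → d * e = 0 := by
    intro e he
    apply eq_zero_of_smul_all (Module.Free.chooseBasis A B)
    intro ψ
    rw [mul_comm, mul_smul, hc ψ, smul_comm, he, smul_zero]
  let φ : Omega A B →ₗ[B] B :=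
    { toFun := fun ψ => d * c ψ
      map_add' := fun ψ ψ' => by
        rw [← mul_add, ← sub_eq_zero, ← mul_sub]
        apply hkill
        rw [sub_smul, add_smul, ← hc, ← hc, ← hc, smul_add, sub_self]
      map_smul' := fun e ψ => by
        rw [RingHom.id_apply, smul_eq_mul, mul_left_comm, ← sub_eq_zero, ← mul_sub]
        apply hkill
        rw [sub_smul, ← hc, mul_smul, ← hc, smul_comm, sub_self] }
  have hφ : φ (Omega.trace A B) = d * d := by
    show d * c (Omega.trace A B) = d * d
    rw [← sub_eq_zero, ← mul_sub]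
    apply hkill
    rw [sub_smul, ← hc, sub_self]
  have : d * d ∈ (noetherDifferent A B : Set B) := by
    rw [Groth.Agent.Lib.Helper93.NoetherDiffFree.main]
    exact ⟨φ, hφ⟩
  exact this

theorem main2205 [Module.Finite A B] [Module.Free A B]
    (q : Ideal B) [q.IsPrime] :
    Disc.differentSet A B ⊆ q ↔ ¬Algebra.IsUnramifiedAt A q := by
  haveI : Algebra.FiniteType A B := inferInstance
  have h := Groth.Agent.Lib.Helper93.NoetherDiff.main2196 (A := A) (B := B)
  have hq : ¬Algebra.IsUnramifiedAt A q ↔ Disc.noetherDifferent A B ≤ q := by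
    have := Set.ext_iff.1 h ⟨q, inferInstance⟩
    rw [Set.mem_compl_iff] at this
    exact this.symm
  rw [hq]
  constructor
  · intro hD x hx
    exact hD (noether_sub_different hx)
  · intro hN d hd
    have := hN (sq_mem_noether d hd)
    exact (Ideal.IsPrime.mem_or_mem inferInstance this).elim id id

end Groth.Agent.Lib.Helper93.DifferentRam
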