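import Mathlib
import Groth.Prelude.Def_Disc
import Groth.Agent.Lib.Helper93.NoetherDiffFree
import Groth.Agent.Lib.Helper93.DifferentRam

set_option autoImplicit false
universe u
namespace Groth.Agent.Lib.Helper93.NormDifferent
open TensorProduct Disc
open Groth.Agent.Lib.Helper93.NoetherDiffFree
open Groth.Agent.Lib.Helper93.DifferentRam

variable {A B : Type u} [CommRing A] [CommRing B] [Algebra A B]
variable {ι : Type} [Fintype ι] [DecidableEq ι] (b : Module.Basis ι A B)

/-- Step λ: a generator of ω modulo a maximal ideal of `A`, lifted by Nakayama. -/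
theorem exists_generator [Module.Invertible B (Omega A B)] (P : Ideal A) [hP : P.IsMaximal]
    (b : Module.Basis ι A B) :
    ∃ (lam : Omega A B) (s : A), s ∉ P ∧
      ∀ ψ : Omega A B, ∃ c : B, algebraMap A B s • ψ = c • lam := by
  haveI : Module.Finite A B := Module.Finite.of_basis b
  letI : Field (A ⧸ P) := Ideal.Quotient.field P
  haveI : Module.Finite (A ⧸ P) (B ⧸ P.map (algebraMap A B)) :=
    Module.Finite.of_restrictScalars_finite A _ _
  haveI : IsArtinianRing (B ⧸ P.map (algebraMap A B)) :=
    IsArtinianRing.of_finite (A ⧸ P) (B ⧸ P.map (algebraMap A B))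
  haveI : Module.Free (B ⧸ P.map (algebraMap A B))
      ((B ⧸ P.map (algebraMap A B)) ⊗[B] Omega A B) := inferInstance
  obtain ⟨e⟩ := Module.Invertible.free_iff_linearEquiv.1
    (inferInstance : Module.Free (B ⧸ P.map (algebraMap A B))
      ((B ⧸ P.map (algebraMap A B)) ⊗[B] Omega A B))
  have hsurj : ∀ z : (B ⧸ P.map (algebraMap A B)) ⊗[B] Omega A B,
      ∃ ψ : Omega A B, z = (1 : B ⧸ P.map (algebraMap A B)) ⊗ₜ[B] ψ := by
    intro z
    induction z using TensorProduct.induction_on with
    | zero => exact ⟨0, by simp⟩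
    | tmul x ψ =>
      obtain ⟨x, rfl⟩ := Ideal.Quotient.mk_surjective x
      refine ⟨x • ψ, ?_⟩
      rw [← TensorProduct.smul_tmul, ← Ideal.Quotient.algebraMap_eq, Algebra.smul_def, mul_one]
    | add z w hz hw =>
      obtain ⟨ψ, rfl⟩ := hz
      obtain ⟨ψ', rfl⟩ := hw
      exact ⟨ψ + ψ', by rw [TensorProduct.tmul_add]⟩
  obtain ⟨lam, hlam⟩ := hsurj (e.symm 1)
  have hker : ∀ η : Omega A B, (1 : B ⧸ P.map (algebraMap A B)) ⊗ₜ[B] η = 0 →
      η ∈ (P.map (algebraMap A B)) • (⊤ : Submodule B (Omega A B)) := by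
    intro η hη
    have := congrArg (TensorProduct.quotTensorEquivQuotSMul (Omega A B) (P.map (algebraMap A B))) hη
    rw [TensorProduct.quotTensorEquivQuotSMul_mk_one_tmul, map_zero,
      Submodule.Quotient.mk_eq_zero] at this
    exact this
  have hdecomp : ∀ ψ : Omega A B, ∃ c : B,
      ψ - c • lam ∈ (P.map (algebraMap A B)) • (⊤ : Submodule B (Omega A B)) := by
    intro ψ
    obtain ⟨c, hc⟩ := Ideal.Quotient.mk_surjective (e ((1 : B ⧸ P.map (algebraMap A B)) ⊗ₜ[B] ψ))
    refine ⟨c, hker _ ?_⟩
    rw [TensorProduct.tmul_sub, sub_eq_zero]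
    have h1 : (1 : B ⧸ P.map (algebraMap A B)) ⊗ₜ[B] ψ =
        e.symm (Ideal.Quotient.mk (P.map (algebraMap A B)) c) := by
      rw [hc, LinearEquiv.symm_apply_apply]
    have h2 : e.symm (Ideal.Quotient.mk (P.map (algebraMap A B)) c) =
        (Ideal.Quotient.mk (P.map (algebraMap A B)) c) • e.symm 1 := by
      rw [← map_smul, smul_eq_mul, mul_one]
    rw [h1, h2, hlam, TensorProduct.smul_tmul', smul_eq_mul, mul_one]
    have h3 : (Ideal.Quotient.mk (P.map (algebraMap A B)) c) =
        c • (1 : B ⧸ P.map (algebraMap A B)) := by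
      rw [Algebra.smul_def, mul_one]; rfl
    rw [h3, TensorProduct.smul_tmul]
  -- A-module structure on ω
  letI : Module A (Omega A B) := Module.compHom (Omega A B) (algebraMap A B)
  haveI : IsScalarTower A B (Omega A B) :=
    ⟨fun a c ψ => by
      show (a • c) • ψ = algebraMap A B a • (c • ψ)
      rw [smul_smul, Algebra.smul_def]⟩
  have hfg : (⊤ : Submodule A (Omega A B)).FG := by
    classical
    refine ⟨Finset.univ.image (fun i => (⟨b.coord i⟩ : Omega A B)), ?_⟩
    rw [eq_top_iff]
    rintro ψ -
    have hψ : ψ = ∑ i, algebraMap A B (ψ.toLinearMap (b i)) • (⟨b.coord i⟩ : Omega A B) :=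
      (sum_eval_smul_coord b ψ.toLinearMap).symm
    rw [hψ]
    refine Submodule.sum_mem _ fun i _ => ?_
    have : algebraMap A B (ψ.toLinearMap (b i)) • (⟨b.coord i⟩ : Omega A B) =
        (ψ.toLinearMap (b i)) • (⟨b.coord i⟩ : Omega A B) := rfl
    rw [this]
    refine Submodule.smul_mem _ _ (Submodule.subset_span ?_)
    simp
  have hsup : (⊤ : Submodule A (Omega A B)) ≤
      (Submodule.span B {lam}).restrictScalars A ⊔ P • (⊤ : Submodule A (Omega A B)) := by
    rintro ψ -
    obtain ⟨c, hc⟩ := hdecomp ψ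
    have h1 : ψ = c • lam + (ψ - c • lam) := by abel
    rw [h1]
    refine Submodule.add_mem _ (Submodule.mem_sup_left ?_) (Submodule.mem_sup_right ?_)
    · rw [Submodule.restrictScalars_mem]
      exact Submodule.smul_mem _ _ (Submodule.subset_span rfl)
    · have h2 := Ideal.smul_restrictScalars (R := A) (S := B) P (⊤ : Submodule B (Omega A B))
      rw [Submodule.restrictScalars_top] at h2
      rw [← h2]
      exact hc
  obtain ⟨r, hr1, hr⟩ := Submodule.exists_sub_one_mem_and_smul_le_of_fg_of_le_sup hfg le_rfl hsup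
  refine ⟨lam, r, ?_, fun ψ => ?_⟩
  · intro hrP
    apply hP.ne_top
    rw [Ideal.eq_top_iff_one]
    have : (1 : A) = r - (r - 1) := by ring
    rw [this]
    exact P.sub_mem hrP hr1
  · have : r • ψ ∈ (Submodule.span B {lam}).restrictScalars A :=
      hr (Submodule.smul_mem_pointwise_smul ψ r ⊤ Submodule.mem_top)
    rw [Submodule.restrictScalars_mem, Submodule.mem_span_singleton] at this
    obtain ⟨c, hc⟩ := this
    exact ⟨c, hc.symm⟩


/-- Gram matrix of a functional -/
noncomputable def G (ψ : Omega A B) : Matrix ι ι A := Matrix.of fun i j => ψ.toLinearMap (b i * b j)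

theorem G_trace [Module.Free A B] [Module.Finite A B] :
    G b (Omega.trace A B) = Algebra.traceMatrix A b := by
  ext i j
  rfl

theorem G_smul (c : B) (ψ : Omega A B) :
    G b (c • ψ) = G b ψ * Algebra.leftMulMatrix b c := by
  ext i j
  rw [Matrix.mul_apply]
  simp only [G, Matrix.of_apply, Omega.smul_toLinearMap_apply]
  have h1 : c * (b i * b j) = ∑ k, (b.repr (c * b j) k) • (b i * b k) := by
    conv_lhs => rw [mul_left_comm, ← b.sum_repr (c * b j), Finset.mul_sum]
    refine Finset.sum_congr rfl fun k _ => ?_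
    rw [mul_smul_comm]
  rw [h1, map_sum]
  refine Finset.sum_congr rfl fun k _ => ?_
  rw [map_smul, smul_eq_mul, Algebra.leftMulMatrix_eq_repr_mul, mul_comm]

theorem G_algebraMap_smul (a : A) (ψ : Omega A B) :
    G b (algebraMap A B a • ψ) = a • G b ψ := by
  ext i j
  simp only [G, Matrix.of_apply, Omega.smul_toLinearMap_apply, Matrix.smul_apply, smul_eq_mul]
  rw [← Algebra.smul_def, map_smul, smul_eq_mul]

/-- Part (⊆) -/
theorem norm_mem (d : B) (hd : d ∈ differentSet A B) :
    Algebra.norm A d ∈ Ideal.span {Algebra.discr A b} := by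
  haveI : Module.Finite A B := Module.Finite.of_basis b
  haveI : Module.Free A B := Module.Free.of_basis b
  choose c hc using fun i => hd (b.coord i)
  have hM : Algebra.leftMulMatrix b d =
      (Matrix.of fun i k => b.repr (c i) k) * Algebra.traceMatrix A b := by
    ext i j
    rw [Algebra.leftMulMatrix_eq_repr_mul, Matrix.mul_apply]
    have := hc i (b j)
    rw [Module.Basis.coord_apply] at this
    rw [this]
    conv_lhs => rw [← b.sum_repr (c i), Finset.sum_mul, map_sum]
    refine Finset.sum_congr rfl fun k _ => ?_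
    rw [smul_mul_assoc, map_smul, smul_eq_mul]
    rfl
  rw [Algebra.norm_eq_matrix_det b, hM, Matrix.det_mul, Algebra.discr_def]
  exact Ideal.mul_mem_left _ _ (Ideal.subset_span rfl)


/-- local step for (⊇) -/
theorem local_step [Module.Invertible B (Omega A B)] (P : Ideal A) [hP : P.IsMaximal] :
    ∃ s : A, s ∉ P ∧
      s * Algebra.discr A b ∈ Ideal.span (Algebra.norm A '' differentSet A B) := by
  haveI : Module.Finite A B := Module.Finite.of_basis b
  haveI : Module.Free A B := Module.Free.of_basis b
  obtain ⟨lam, s, hsP, hs⟩ := exists_generator P b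
  obtain ⟨δ, hδ⟩ := hs (Omega.trace A B)
  choose c hc using hs
  -- d = s δ is in the different
  have hd : algebraMap A B s * δ ∈ differentSet A B := by
    rw [mem_differentSet_iff]
    intro ψ
    refine ⟨c ψ * algebraMap A B s, ?_⟩
    rw [mul_comm, mul_smul, hc ψ, smul_comm, ← hδ, smul_smul]
  -- determinant identities
  have h1 : s ^ Fintype.card ι * Algebra.discr A b =
      (G b lam).det * Algebra.norm A δ := by
    have := congrArg Matrix.det (congrArg (G b) hδ)
    rw [G_algebraMap_smul, G_smul, G_trace, Matrix.det_smul, Matrix.det_mul,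
      ← Algebra.norm_eq_matrix_det b] at this
    exact this
  have h2 : (Matrix.of fun i k => b.repr (c ⟨b.coord i⟩) k).det * (G b lam).det =
      s ^ Fintype.card ι := by
    rw [← Matrix.det_mul]
    have : (Matrix.of fun i k => b.repr (c ⟨b.coord i⟩) k) * G b lam = s • (1 : Matrix ι ι A) := by
      ext i j
      rw [Matrix.mul_apply]
      have h3 := congrArg (fun ω : Omega A B => ω.toLinearMap (b j)) (hc ⟨b.coord i⟩)
      simp only [Omega.smul_toLinearMap_apply] at h3
      rw [← Algebra.smul_def, map_smul, Module.Basis.coord_apply, Module.Basis.repr_self,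
        Finsupp.single_apply] at h3
      simp only [Matrix.smul_apply, Matrix.one_apply, smul_eq_mul]
      have h4 : s * (if i = j then (1 : A) else 0) = s • (if j = i then (1 : A) else 0) := by
        rw [smul_eq_mul]; congr 1; simp [eq_comm]
      rw [h4, h3]
      conv_rhs => rw [← b.sum_repr (c ⟨b.coord i⟩), Finset.sum_mul, map_sum]
      refine Finset.sum_congr rfl fun k _ => ?_
      rw [smul_mul_assoc, map_smul, smul_eq_mul]
      rfl
    rw [this, Matrix.det_smul, Matrix.det_one, mul_one]
  refine ⟨s ^ Fintype.card ι * s ^ Fintype.card ι, ?_, ?_⟩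
  · intro h
    rcases hP.isPrime.mem_or_mem h with h | h <;> exact hsP (hP.isPrime.mem_of_pow_mem _ h)
  · have h3 : Algebra.norm A (algebraMap A B s * δ) = s ^ Fintype.card ι * Algebra.norm A δ := by
      rw [map_mul, Algebra.norm_algebraMap_of_basis b]
    have h4 : s ^ Fintype.card ι * s ^ Fintype.card ι * Algebra.discr A b =
        (G b lam).det * Algebra.norm A (algebraMap A B s * δ) := by
      rw [h3, mul_assoc, h1]; ring
    rw [h4]
    exact Ideal.mul_mem_left _ _ (Ideal.subset_span ⟨_, hd, rfl⟩)

theorem main [Module.Invertible B (Omega A B)] :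
    Ideal.span (Algebra.norm A '' Disc.differentSet A B) = Ideal.span {Algebra.discr A b} := by
  apply le_antisymm
  · rw [Ideal.span_le]
    rintro _ ⟨d, hd, rfl⟩
    exact norm_mem b d hd
  · rw [Ideal.span_le, Set.singleton_subset_iff]
    by_contra hnot
    let J : Ideal A := Ideal.span (Algebra.norm A '' Disc.differentSet A B)
    let C : Ideal A := J.colon (Ideal.span {Algebra.discr A b})
    have hC : C ≠ ⊤ := by
      intro h
      apply hnot
      have h1 : (1 : A) ∈ C := h ▸ Submodule.mem_top
      have := Submodule.mem_colon.1 h1 (Algebra.discr A b) (Ideal.subset_span rfl)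
      simpa using this
    obtain ⟨P, hP, hCP⟩ := Ideal.exists_le_maximal C hC
    obtain ⟨s, hsP, hs⟩ := local_step b P
    apply hsP
    apply hCP
    rw [Submodule.mem_colon]
    intro x hx
    obtain ⟨y, rfl⟩ := Ideal.mem_span_singleton'.1 hx
    rw [smul_eq_mul, mul_left_comm]
    exact Ideal.mul_mem_left _ _ hs

end Groth.Agent.Lib.Helper93.NormDifferent
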