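import Mathlib

set_option autoImplicit false
namespace Groth.Agent.Lib.Helper93.ASNormA

open Polynomial

/-- Additive Hilbert 90 for Galois extensions of degree `p` in characteristic `p`. -/
theorem exists_AS_gen (p : ℕ) [hp : Fact p.Prime] (F E : Type*) [Field F] [Field E] [Algebra F E]
    [CharP F p] [IsGalois F E] [FiniteDimensional F E]
    (hdeg : Module.finrank F E = p) :
    ∃ x : E, ∃ c : F, x ^ p - x = algebraMap F E c ∧ IntermediateField.adjoin F {x} = ⊤ := by
  classical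
  haveI : CharP E p := charP_of_injective_algebraMap (algebraMap F E).injective p
  have hcard : Nat.card (E ≃ₐ[F] E) = p := by
    rw [IsGalois.card_aut_eq_finrank, hdeg]
  haveI : Fintype (E ≃ₐ[F] E) := Fintype.ofFinite _
  have hcyc : IsCyclic (E ≃ₐ[F] E) := isCyclic_of_prime_card hcard
  set e0 := zmodCyclicMulEquiv hcyc with he0
  have hdvd : p ∣ Nat.card (E ≃ₐ[F] E) := by rw [hcard]
  set cast := ZMod.castHom hdvd E with hcast
  set c : (E ≃ₐ[F] E) → E := fun τ => cast (Multiplicative.toAdd (e0.symm τ)) with hc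
  set σ : E ≃ₐ[F] E := e0 (Multiplicative.ofAdd 1) with hσ
  have hcσ : ∀ τ, c (σ * τ) = c τ + 1 := by
    intro τ
    simp only [hc, hσ, map_mul, MulEquiv.symm_apply_apply, toAdd_mul, toAdd_ofAdd, map_add, map_one]
    ring
  obtain ⟨θ, hθ⟩ := Algebra.trace_surjective F E 1
  have hT : ∑ τ : E ≃ₐ[F] E, τ θ = 1 := by
    have h := trace_eq_sum_automorphisms (K := F) θ
    rw [hθ, map_one] at h
    rw [h]
    apply Finset.sum_congr
    · ext τ; simp
    · intros; rfl
  set x : E := ∑ τ : E ≃ₐ[F] E, c τ * τ θ with hx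
  have hσx : σ x = x - 1 := by
    rw [hx, map_sum]
    have h1 : ∀ τ : E ≃ₐ[F] E, σ (c τ * τ θ) = (c (σ * τ) - 1) * (σ * τ) θ := by
      intro τ
      rw [map_mul, hcσ, add_sub_cancel_right, AlgEquiv.mul_apply]
      congr 1
      -- σ (c τ) = c τ : c τ is in the prime field
      simp only [hc, hcast]
      obtain ⟨k, hk⟩ := ZMod.natCast_zmod_surjective (Multiplicative.toAdd (e0.symm τ))
      rw [← hk, map_natCast, map_natCast]
    rw [Finset.sum_congr rfl (fun τ _ => h1 τ)]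
    rw [Fintype.sum_equiv (Equiv.mulLeft σ) (fun τ => (c (σ * τ) - 1) * (σ * τ) θ)
      (fun τ' => (c τ' - 1) * τ' θ) (fun τ => rfl)]
    simp only [sub_mul, one_mul, Finset.sum_sub_distrib, hT]
  set x₀ : E := -x with hx₀
  have hσx₀ : σ x₀ = x₀ + 1 := by
    rw [hx₀, map_neg, hσx]; ring
  have hfix : σ (x₀ ^ p - x₀) = x₀ ^ p - x₀ := by
    rw [map_sub, map_pow, hσx₀, add_pow_char, one_pow]; ring
  have hσ1 : σ ≠ 1 := by
    intro h
    rw [h] at hσx₀
    simp at hσx₀
  have hord : orderOf σ = p := by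
    have h1 : orderOf σ ∣ p := hcard ▸ orderOf_dvd_natCard σ
    rcases (Nat.dvd_prime hp.out).1 h1 with h | h
    · exact absurd (orderOf_eq_one_iff.1 h) hσ1
    · exact h
  have htop : Subgroup.zpowers σ = ⊤ := by
    apply Subgroup.eq_top_of_card_eq
    rw [Nat.card_zpowers, hord, hcard]
  have hall : ∀ τ : E ≃ₐ[F] E, τ (x₀ ^ p - x₀) = x₀ ^ p - x₀ := by
    intro τ
    have hmem : τ ∈ MulAction.stabilizer (E ≃ₐ[F] E) (x₀ ^ p - x₀) := by
      have hle : Subgroup.zpowers σ ≤ MulAction.stabilizer (E ≃ₐ[F] E) (x₀ ^ p - x₀) := by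
        rw [Subgroup.zpowers_le]
        exact hfix
      exact hle (htop ▸ Subgroup.mem_top τ)
    exact hmem
  obtain ⟨c₀, hc₀⟩ := (IsGalois.mem_range_algebraMap_iff_fixed (F := F) (x₀ ^ p - x₀)).2 hall
  refine ⟨x₀, c₀, hc₀.symm, ?_⟩
  haveI := IntermediateField.isSimpleOrder_of_finrank_prime F E (hdeg ▸ hp.out)
  rcases eq_bot_or_eq_top (IntermediateField.adjoin F {x₀}) with h | h
  · exfalso
    have hx₀mem : x₀ ∈ (⊥ : IntermediateField F E) := by
      rw [← h]; exact IntermediateField.mem_adjoin_simple_self F x₀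
    obtain ⟨y, hy⟩ := IntermediateField.mem_bot.1 hx₀mem
    rw [← hy, AlgEquiv.commutes] at hσx₀
    simp at hσx₀
  · exact h

end Groth.Agent.Lib.Helper93.ASNormA
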