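import Mathlib
import Groth.Agent.Lib.Helper93.ASNormA

set_option autoImplicit false
namespace Groth.Agent.Lib.Helper93.ASNormB

open Polynomial

theorem formallyUnramified_of_AS (p : ℕ) [hp : Fact p.Prime]
    (A F B E : Type*) [CommRing A] [IsDomain A] [IsIntegrallyClosed A] [Field F] [Algebra A F]
    [IsFractionRing A F]
    [CommRing B] [IsDomain B] [IsIntegrallyClosed B] [Field E] [Algebra B E] [IsFractionRing B E]
    [Algebra A B] [Algebra F E] [Algebra A E] [IsScalarTower A F E] [IsScalarTower A B E]
    [CharP F p] [FiniteDimensional F E] [Algebra.IsSeparable F E] [Algebra.IsIntegral A B]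
    (hdeg : Module.finrank F E = p) (x : E) (a : A)
    (hx : x ^ p - x + algebraMap A E a = 0) (hgen : IntermediateField.adjoin F {x} = ⊤) :
    Algebra.FormallyUnramified A B := by
  have hp2 := hp.out.two_le
  haveI : CharP E p := charP_of_injective_algebraMap (algebraMap F E).injective p
  -- the polynomial over F
  set f : F[X] := X ^ p - X + C (algebraMap A F a) with hf
  have hfdeg : (X ^ p - X : F[X]).natDegree = p := by
    rw [natDegree_sub_eq_left_of_natDegree_lt, natDegree_X_pow]
    rw [natDegree_X_pow, natDegree_X]; omega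
  have hfmon : f.Monic := by
    have h1 : (X ^ p - X : F[X]).Monic := by
      apply monic_X_pow_sub
      rw [degree_X]; exact_mod_cast (by omega : 1 < p)
    rw [hf]
    apply h1.add_of_left
    rw [degree_eq_natDegree h1.ne_zero, hfdeg]
    exact degree_C_le.trans_lt (by exact_mod_cast (by omega : 0 < p))
  have hfnat : f.natDegree = p := by
    rw [hf, natDegree_add_C, hfdeg]
  have hfroot : aeval x f = 0 := by
    rw [hf]
    simp only [map_add, map_sub, map_pow, aeval_X, aeval_C]
    rw [← IsScalarTower.algebraMap_apply]
    exact hx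
  have hintF : IsIntegral F x := ⟨f, hfmon, hfroot⟩
  have hmin : minpoly F x = f := by
    have hdvd : minpoly F x ∣ f := minpoly.dvd F x hfroot
    have h1 := IntermediateField.adjoin.finrank hintF
    have e : (IntermediateField.adjoin F {x}) ≃ₗ[F] E := by
      rw [hgen]
      exact IntermediateField.topEquiv.toLinearEquiv
    rw [e.finrank_eq, hdeg] at h1
    exact (eq_of_monic_of_dvd_of_natDegree_le (minpoly.monic hintF) hfmon hdvd
      (by rw [hfnat, ← h1])).symm
  have hadj : Algebra.adjoin F {x} = ⊤ := by
    rw [← IntermediateField.adjoin_simple_toSubalgebra_of_isAlgebraic hintF.isAlgebraic, hgen,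
      IntermediateField.top_toSubalgebra]
  set pb := PowerBasis.ofAdjoinEqTop hintF hadj with hpb
  have hpbgen : pb.gen = x := PowerBasis.ofAdjoinEqTop_gen hintF hadj
  -- discriminant
  have hder : derivative f = -1 := by
    rw [hf]
    simp only [derivative_add, derivative_sub, derivative_X_pow, derivative_X, derivative_C,
      add_zero]
    have : (C ((p : ℕ) : F) : F[X]) = 0 := by rw [CharP.cast_eq_zero, C_0]
    rw [this, zero_mul, zero_sub]
  have hdisc : Algebra.discr F pb.basis = 1 ∨ Algebra.discr F pb.basis = -1 := by
    rw [Algebra.discr_powerBasis_eq_norm, hpbgen, hmin, hder]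
    simp only [map_neg, map_one]
    have hn : Algebra.norm F (-1 : E) = (-1) ^ p := by
      have : (-1 : E) = algebraMap F E (-1) := by simp
      rw [this, Algebra.norm_algebraMap, hdeg]
    rw [hn, ← pow_add]
    exact neg_one_pow_eq_or F _
  -- x integral over A
  have hxint : IsIntegral A x := by
    refine ⟨X ^ p - X + C a, ?_, ?_⟩
    · have h1 : (X ^ p - X : A[X]).Monic := by
        apply monic_X_pow_sub
        rw [degree_X]; exact_mod_cast (by omega : 1 < p)
      apply h1.add_of_left
      have hd : (X ^ p - X : A[X]).natDegree = p := by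
        rw [natDegree_sub_eq_left_of_natDegree_lt, natDegree_X_pow]
        rw [natDegree_X_pow, natDegree_X]; omega
      rw [degree_eq_natDegree h1.ne_zero, hd]
      exact degree_C_le.trans_lt (by exact_mod_cast (by omega : 0 < p))
    · simp only [eval₂_add, eval₂_sub, eval₂_pow, eval₂_X, eval₂_C]
      exact hx
  -- every integral element is in adjoin A {x}
  have hmem : ∀ z : E, IsIntegral A z → z ∈ Algebra.adjoin A ({x} : Set E) := by
    intro z hz
    have h1 := Algebra.discr_mul_isIntegral_mem_adjoin (R := A) (K := F) (B := pb)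
      (by rw [hpbgen]; exact hxint) hz
    rw [hpbgen] at h1
    rcases hdisc with h | h
    · rw [h, one_smul] at h1; exact h1
    · rw [h, neg_smul, one_smul] at h1
      have := Subalgebra.neg_mem _ h1
      rwa [neg_neg] at this
  -- x comes from B
  obtain ⟨xB, hxB⟩ : ∃ xB : B, algebraMap B E xB = x := by
    have : IsIntegral B x := hxint.tower_top
    exact IsIntegrallyClosed.isIntegral_iff.1 this
  have hinjBE : Function.Injective (algebraMap B E) := IsFractionRing.injective B E
  have hBmem : ∀ b : B, ∃ g : A[X], b = aeval xB g := by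
    intro b
    have hb : IsIntegral A (algebraMap B E b) := (Algebra.IsIntegral.isIntegral b).algebraMap
    have := hmem _ hb
    rw [Algebra.adjoin_singleton_eq_range_aeval] at this
    obtain ⟨g, hg⟩ := this
    refine ⟨g, hinjBE ?_⟩
    rw [← hg, ← hxB]
    simp [aeval_algebraMap_apply]
  -- D xB = 0
  have hxBeq : xB ^ p - xB + algebraMap A B a = 0 := by
    apply hinjBE
    rw [map_add, map_sub, map_pow, hxB, ← IsScalarTower.algebraMap_apply, map_zero]
    exact hx
  haveI : CharP B p := (algebraMap B E).charP hinjBE p
  have hDx : KaehlerDifferential.D A B xB = 0 := by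
    have h1 := congrArg (KaehlerDifferential.D A B) hxBeq
    rw [map_add, map_sub, Derivation.map_algebraMap, map_zero, add_zero, Derivation.leibniz_pow] at h1
    have h2 : ((p : ℕ) : B) = 0 := CharP.cast_eq_zero B p
    rw [← Nat.cast_smul_eq_nsmul B, h2, zero_smul, zero_sub, neg_eq_zero] at h1
    exact h1
  constructor
  have htop : (⊤ : Submodule B (Ω[B⁄A])) = ⊥ := by
    rw [← KaehlerDifferential.span_range_derivation, Submodule.span_eq_bot]
    rintro _ ⟨b, rfl⟩
    obtain ⟨g, rfl⟩ := hBmem b
    rw [Derivation.map_aeval, hDx, smul_zero]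
  haveI : Subsingleton (Submodule B (Ω[B⁄A])) := subsingleton_of_bot_eq_top htop.symm
  exact (Submodule.subsingleton_iff B).1 inferInstance

end Groth.Agent.Lib.Helper93.ASNormB
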