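import Mathlib
import Groth.Prelude.Def_EtRam

namespace Groth.Agent.Lib.Helper93.ASRamA
open IsLocalRing

universe u
variable {A K L : Type u} [CommRing A] [IsDomain A] [IsDiscreteValuationRing A] [Field K]
  [Algebra A K] [IsFractionRing A K] [Field L] [Algebra K L] [Algebra A L] [IsScalarTower A K L]

theorem inj_AL (K L : Type u) [Field K] [Algebra A K] [IsFractionRing A K] [Field L] [Algebra K L]
    [Algebra A L] [IsScalarTower A K L] : Function.Injective (algebraMap A L) := by
  rw [IsScalarTower.algebraMap_eq A K L]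
  exact (algebraMap K L).injective.comp (IsFractionRing.injective A K)

section basic
variable {V : ValuationSubring L} (h : EtRam.Dominates A (algebraMap A L) V)
include h

theorem val_le_one (a : A) : V.valuation (algebraMap A L a) ≤ 1 :=
  (V.valuation_le_one_iff _).mpr (h.1 a)

theorem val_lt_one {a : A} (ha : a ∈ maximalIdeal A) : V.valuation (algebraMap A L a) < 1 :=
  h.2 a ha

theorem val_unit {a : A} (ha : IsUnit a) : V.valuation (algebraMap A L a) = 1 := by
  obtain ⟨u, rfl⟩ := ha
  apply le_antisymm (val_le_one h _)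
  have h1 : V.valuation (algebraMap A L (u : A)) * V.valuation (algebraMap A L ((u⁻¹ : Aˣ) : A)) = 1 := by
    rw [← map_mul, ← map_mul, Units.mul_inv, map_one, map_one]
  have h2 := val_le_one h ((u⁻¹ : Aˣ) : A)
  calc (1 : V.ValueGroup) = V.valuation (algebraMap A L (u : A)) *
        V.valuation (algebraMap A L ((u⁻¹ : Aˣ) : A)) := h1.symm
    _ ≤ V.valuation (algebraMap A L (u : A)) * 1 := mul_le_mul_right h2 _
    _ = _ := mul_one _

/-- membership of elements of `K` in `V` -/
theorem mem_iff (x : K) : algebraMap K L x ∈ V ↔ ∃ a : A, algebraMap A K a = x := by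
  constructor
  · intro hx
    rcases ValuationRing.isInteger_or_isInteger A x with ⟨a, ha⟩ | ⟨a, ha⟩
    · exact ⟨a, ha⟩
    · by_cases hx0 : x = 0
      · exact ⟨0, by rw [hx0, map_zero]⟩
      by_cases hau : IsUnit a
      · obtain ⟨u, rfl⟩ := hau
        refine ⟨((u⁻¹ : Aˣ) : A), ?_⟩
        have h1 : algebraMap A K (u : A) * algebraMap A K ((u⁻¹ : Aˣ) : A) = 1 := by
          rw [← map_mul, Units.mul_inv, map_one]
        rw [ha] at h1
        have := eq_inv_of_mul_eq_one_right h1
        rw [this, inv_inv]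
      · exfalso
        have ham : a ∈ maximalIdeal A := hau
        have h1 := val_lt_one h ham
        rw [IsScalarTower.algebraMap_apply A K L, ha] at h1
        have h2 := (V.valuation_le_one_iff _).mpr hx
        have h3 : V.valuation (algebraMap K L x) * V.valuation (algebraMap K L x⁻¹) = 1 := by
          rw [← map_mul, ← map_mul, mul_inv_cancel₀ hx0, map_one, map_one]
        have h4 : V.valuation (algebraMap K L x) * V.valuation (algebraMap K L x⁻¹) < 1 := by
          calc _ ≤ 1 * V.valuation (algebraMap K L x⁻¹) := mul_le_mul_left h2 _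
            _ = _ := one_mul _
            _ < 1 := h1
        rw [h3] at h4
        exact lt_irrefl _ h4
  · rintro ⟨a, rfl⟩
    rw [← IsScalarTower.algebraMap_apply A K L]
    exact h.1 a

/-- elements of `K` in the maximal ideal of `V` -/
theorem lt_one_iff (x : K) :
    V.valuation (algebraMap K L x) < 1 ↔ ∃ a ∈ maximalIdeal A, algebraMap A K a = x := by
  constructor
  · intro hx
    obtain ⟨a, rfl⟩ := (mem_iff h x).mp ((V.valuation_le_one_iff _).mp hx.le)
    refine ⟨a, ?_, rfl⟩
    by_contra hau
    have hu : IsUnit a := by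
      by_contra hnu
      exact hau hnu
    have := val_unit h hu
    rw [IsScalarTower.algebraMap_apply A K L] at this
    rw [this] at hx
    exact lt_irrefl _ hx
  · rintro ⟨a, ha, rfl⟩
    rw [← IsScalarTower.algebraMap_apply A K L]
    exact val_lt_one h ha


theorem val_pi_pos (hinj : Function.Injective (algebraMap A L)) {π : A}
    (hπ : maximalIdeal A = Ideal.span {π}) :
    0 < V.valuation (algebraMap A L π) := by
  have hirr := (IsDiscreteValuationRing.irreducible_iff_uniformizer π).mpr hπ
  rw [zero_lt_iff, Ne, Valuation.zero_iff]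
  intro h0
  exact hirr.ne_zero ((map_eq_zero_iff _ hinj).mp h0)

theorem val_pi_lt_one {π : A} (hπ : maximalIdeal A = Ideal.span {π}) :
    V.valuation (algebraMap A L π) < 1 :=
  val_lt_one h (by rw [hπ]; exact Ideal.mem_span_singleton_self π)

/-- the value group of `K` is generated by the value of the uniformizer -/
theorem exists_zpow {π : A} (hπ : maximalIdeal A = Ideal.span {π}) (x : K) (hx : x ≠ 0) :
    ∃ k : ℤ, V.valuation (algebraMap K L x) = V.valuation (algebraMap A L π) ^ k := by
  have hirr := (IsDiscreteValuationRing.irreducible_iff_uniformizer π).mpr hπ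
  obtain ⟨a, b, hb, rfl⟩ := IsFractionRing.div_surjective (A := A) x
  have hb0 : b ≠ 0 := nonZeroDivisors.ne_zero hb
  have ha0 : a ≠ 0 := by
    rintro rfl
    simp at hx
  obtain ⟨n, u, rfl⟩ := IsDiscreteValuationRing.eq_unit_mul_pow_irreducible ha0 hirr
  obtain ⟨m, w, rfl⟩ := IsDiscreteValuationRing.eq_unit_mul_pow_irreducible hb0 hirr
  refine ⟨(n : ℤ) - m, ?_⟩
  have hγ := (val_pi_pos h (inj_AL (A := A) K L) hπ).ne'
  rw [map_div₀, map_div₀, ← IsScalarTower.algebraMap_apply, ← IsScalarTower.algebraMap_apply,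
    map_mul, map_mul, map_mul, map_mul, map_pow, map_pow, map_pow, map_pow,
    val_unit h u.isUnit, val_unit h w.isUnit, one_mul, one_mul, zpow_sub₀ hγ, zpow_natCast,
    zpow_natCast]

end basic


section MF
variable {V : ValuationSubring L} (h : EtRam.Dominates A (algebraMap A L) V)
include h

/-- **max formula, residue version**: if the powers `y^i`, `i < p`, have independent residues, then
an element `∑ c_i y^i` lies in `V` iff all `c_i ∈ A`, and in the maximal ideal iff all
`c_i ∈ 𝔪_A`. -/
theorem mf_mem (p : ℕ) (y : L)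
    (hind : ∀ c : Fin p → A,
      V.valuation (∑ i : Fin p, algebraMap A L (c i) * y ^ (i : ℕ)) < 1 →
        ∀ i, c i ∈ maximalIdeal A)
    (c : Fin p → K)
    (hx : V.valuation (∑ i : Fin p, algebraMap K L (c i) * y ^ (i : ℕ)) ≤ 1) :
    ∀ i, ∃ a : A, algebraMap A K a = c i := by
  classical
  by_contra hcon
  push Not at hcon
  obtain ⟨i₁, hi₁⟩ := hcon
  obtain ⟨i₀, -, hmax⟩ := Finset.exists_max_image Finset.univ
    (fun i => V.valuation (algebraMap K L (c i))) ⟨i₁, Finset.mem_univ _⟩
  have h1 : 1 < V.valuation (algebraMap K L (c i₁)) := by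
    by_contra hle
    push Not at hle
    obtain ⟨a, ha⟩ := (mem_iff h (c i₁)).mp ((V.valuation_le_one_iff _).mp hle)
    exact hi₁ a ha
  have h2 : 1 < V.valuation (algebraMap K L (c i₀)) :=
    lt_of_lt_of_le h1 (hmax i₁ (Finset.mem_univ _))
  have hd0 : c i₀ ≠ 0 := by
    rintro h0
    rw [h0, map_zero, map_zero] at h2
    exact absurd h2 (by simp)
  have hdL : algebraMap K L (c i₀) ≠ 0 := by
    rwa [Ne, map_eq_zero_iff _ (algebraMap K L).injective]
  have hvd : V.valuation (algebraMap K L (c i₀)) ≠ 0 := by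
    rwa [Ne, Valuation.zero_iff]
  -- the scaled coefficients are in A
  have h3 : ∀ i, ∃ a : A, algebraMap A K a = c i / c i₀ := by
    intro i
    apply (mem_iff h _).mp
    rw [← V.valuation_le_one_iff, map_div₀, map_div₀]
    exact (div_le_one₀ (zero_lt_iff.mpr hvd)).mpr (hmax i (Finset.mem_univ _))
  choose a ha using h3
  have ha0 : a i₀ = 1 := by
    apply IsFractionRing.injective A K
    rw [ha, div_self hd0, map_one]
  have h4 : ∑ i : Fin p, algebraMap A L (a i) * y ^ (i : ℕ) =
      (∑ i : Fin p, algebraMap K L (c i) * y ^ (i : ℕ)) / algebraMap K L (c i₀) := by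
    rw [Finset.sum_div]
    apply Finset.sum_congr rfl
    intro i _
    rw [IsScalarTower.algebraMap_apply A K L, ha, map_div₀]
    field_simp
  have h5 : V.valuation (∑ i : Fin p, algebraMap A L (a i) * y ^ (i : ℕ)) < 1 := by
    rw [h4, map_div₀]
    rw [div_lt_one₀ (zero_lt_iff.mpr hvd)]
    exact lt_of_le_of_lt hx h2
  have h6 := hind a h5 i₀
  rw [ha0] at h6
  exact (Ideal.ne_top_iff_one _).mp (Ideal.IsPrime.ne_top inferInstance) h6

theorem mf_lt (p : ℕ) (y : L)
    (hind : ∀ c : Fin p → A,
      V.valuation (∑ i : Fin p, algebraMap A L (c i) * y ^ (i : ℕ)) < 1 →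
        ∀ i, c i ∈ maximalIdeal A)
    (c : Fin p → K)
    (hx : V.valuation (∑ i : Fin p, algebraMap K L (c i) * y ^ (i : ℕ)) < 1) :
    ∀ i, ∃ a ∈ maximalIdeal A, algebraMap A K a = c i := by
  have h1 := mf_mem h p y hind c hx.le
  choose a ha using h1
  have h2 : ∑ i : Fin p, algebraMap K L (c i) * y ^ (i : ℕ) =
      ∑ i : Fin p, algebraMap A L (a i) * y ^ (i : ℕ) := by
    apply Finset.sum_congr rfl
    intro i _
    rw [IsScalarTower.algebraMap_apply A K L, ha]
  rw [h2] at hx
  intro i
  exact ⟨a i, hind a hx i, ha i⟩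

/-- linear independence from the max formula -/
theorem mf_indep (p : ℕ) (y : L)
    (hind : ∀ c : Fin p → A,
      V.valuation (∑ i : Fin p, algebraMap A L (c i) * y ^ (i : ℕ)) < 1 →
        ∀ i, c i ∈ maximalIdeal A)
    (c : Fin p → K) (hx : ∑ i : Fin p, algebraMap K L (c i) * y ^ (i : ℕ) = 0) :
    ∀ i, c i = 0 := by
  by_contra hcon
  push Not at hcon
  obtain ⟨i₀, hi₀⟩ := hcon
  have h1 : V.valuation (∑ i : Fin p, algebraMap K L (c i / c i₀) * y ^ (i : ℕ)) < 1 := by
    have : ∑ i : Fin p, algebraMap K L (c i / c i₀) * y ^ (i : ℕ) =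
        (∑ i : Fin p, algebraMap K L (c i) * y ^ (i : ℕ)) / algebraMap K L (c i₀) := by
      rw [Finset.sum_div]
      apply Finset.sum_congr rfl
      intro i _
      rw [map_div₀]
      ring
    rw [this, hx, zero_div, map_zero]
    exact zero_lt_one
  obtain ⟨a, ham, ha⟩ := mf_lt h p y hind _ h1 i₀
  rw [div_self hi₀] at ha
  have : a = 1 := by
    apply IsFractionRing.injective A K
    rw [ha, map_one]
  rw [this] at ham
  exact (Ideal.ne_top_iff_one _).mp (Ideal.IsPrime.ne_top inferInstance) ham

end MF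


section repr

theorem exists_repr (p : ℕ) [FiniteDimensional K L] (hle : Module.finrank K L ≤ p) (y : L)
    (hindep : ∀ c : Fin p → K, ∑ i : Fin p, algebraMap K L (c i) * y ^ (i : ℕ) = 0 → ∀ i, c i = 0) :
    Module.finrank K L = p ∧
      ∀ x : L, ∃ c : Fin p → K, x = ∑ i : Fin p, algebraMap K L (c i) * y ^ (i : ℕ) := by
  have hli : LinearIndependent K (fun i : Fin p => y ^ (i : ℕ)) := by
    rw [Fintype.linearIndependent_iff]
    intro c hc
    apply hindep c
    rw [← hc]
    apply Finset.sum_congr rfl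
    intro i _
    rw [Algebra.smul_def]
  have h1 := hli.fintype_card_le_finrank
  rw [Fintype.card_fin] at h1
  have h2 : Module.finrank K L = p := le_antisymm hle h1
  refine ⟨h2, fun x => ?_⟩
  have h3 := hli.span_eq_top_of_card_eq_finrank' (by rw [Fintype.card_fin, h2])
  have hx : x ∈ Submodule.span K (Set.range (fun i : Fin p => y ^ (i : ℕ))) := by
    rw [h3]; trivial
  obtain ⟨c, hc⟩ := (Submodule.mem_span_range_iff_exists_fun K).mp hx
  refine ⟨c, ?_⟩
  rw [← hc]
  apply Finset.sum_congr rfl
  intro i _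
  rw [Algebra.smul_def]

theorem finrank_le (p : ℕ) (hp : 2 ≤ p) (ξ : K) (z : L) (hz : z ^ p - z = algebraMap K L ξ)
    (hgen : IntermediateField.adjoin K {z} = ⊤) :
    FiniteDimensional K L ∧ Module.finrank K L ≤ p := by
  set f : Polynomial K := Polynomial.X ^ p - (Polynomial.X + Polynomial.C ξ) with hf
  have hdeg : (Polynomial.X + Polynomial.C ξ : Polynomial K).degree < (p : WithBot ℕ) := by
    rw [Polynomial.degree_X_add_C]
    exact_mod_cast hp
  have hmon : f.Monic := Polynomial.monic_X_pow_sub hdeg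
  have hfd : f.natDegree = p := by
    rw [hf, Polynomial.natDegree_sub_eq_left_of_natDegree_lt, Polynomial.natDegree_X_pow]
    rw [Polynomial.natDegree_X_pow, Polynomial.natDegree_X_add_C]
    omega
  have hroot : Polynomial.aeval z f = 0 := by
    rw [hf]
    simp only [map_sub, map_pow, Polynomial.aeval_X, map_add, Polynomial.aeval_C]
    rw [← hz]
    ring
  have hint : IsIntegral K z := ⟨f, hmon, hroot⟩
  haveI : FiniteDimensional K (IntermediateField.adjoin K {z}) :=
    IntermediateField.adjoin.finiteDimensional hint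
  have h1 := IntermediateField.adjoin.finrank hint
  have h2 : (minpoly K z).natDegree ≤ p := by
    rw [← hfd]
    exact Polynomial.natDegree_le_of_dvd (minpoly.dvd K z hroot) hmon.ne_zero
  have e : (IntermediateField.adjoin K {z}) ≃ₗ[K] L := by
    rw [hgen]
    exact IntermediateField.topEquiv.toLinearEquiv
  refine ⟨Module.Finite.equiv e, ?_⟩
  rw [← e.finrank_eq, h1]
  exact h2

end repr

end Groth.Agent.Lib.Helper93.ASRamA
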