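import Mathlib
import Groth.Agent.Lib.Helper93.ASRamA

namespace Groth.Agent.Lib.Helper93.ASRamB
open IsLocalRing Groth.Agent.Lib.Helper93.ASRamA

universe u
variable {A K L : Type u} [CommRing A] [IsDomain A] [IsDiscreteValuationRing A] [Field K]
  [Algebra A K] [IsFractionRing A K] [Field L] [Algebra K L] [Algebra A L] [IsScalarTower A K L]

/-- the hypothesis of the max formula (residue independence of the powers of `y`) -/
def Hind (V : ValuationSubring L) (p : ℕ) (y : L) : Prop :=
  ∀ c : Fin p → A,
    V.valuation (∑ i : Fin p, algebraMap A L (c i) * y ^ (i : ℕ)) < 1 → ∀ i, c i ∈ maximalIdeal A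

section pkg
variable (p : ℕ) (y : L) [FiniteDimensional K L] (hle : Module.finrank K L ≤ p)
  (hy : ∀ V : ValuationSubring L, EtRam.Dominates A (algebraMap A L) V → y ∈ V)
  (hind : ∀ V : ValuationSubring L, EtRam.Dominates A (algebraMap A L) V → Hind (A := A) V p y)
include hle hy hind

theorem pkg_finrank (V : ValuationSubring L) (h : EtRam.Dominates A (algebraMap A L) V) :
    Module.finrank K L = p :=
  (exists_repr p hle y (mf_indep (K := K) h p y (hind V h))).1

/-- description of `V` -/
theorem pkg_mem (V : ValuationSubring L) (h : EtRam.Dominates A (algebraMap A L) V) (x : L) :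
    x ∈ V ↔ ∃ c : Fin p → A, x = ∑ i : Fin p, algebraMap A L (c i) * y ^ (i : ℕ) := by
  constructor
  · intro hx
    obtain ⟨c, rfl⟩ := (exists_repr p hle y (mf_indep (K := K) h p y (hind V h))).2 x
    have h1 := mf_mem h p y (hind V h) c ((V.valuation_le_one_iff _).mpr hx)
    choose a ha using h1
    refine ⟨a, ?_⟩
    apply Finset.sum_congr rfl
    intro i _
    rw [IsScalarTower.algebraMap_apply A K L, ha]
  · rintro ⟨c, rfl⟩
    apply Subring.sum_mem
    intro i _
    exact V.mul_mem _ _ (h.1 _) (pow_mem (hy V h) _)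

theorem pkg_unique (V V' : ValuationSubring L) (h : EtRam.Dominates A (algebraMap A L) V)
    (h' : EtRam.Dominates A (algebraMap A L) V') : V = V' := by
  ext x
  rw [pkg_mem (K := K) p y hle hy hind V h, pkg_mem (K := K) p y hle hy hind V' h']

/-- description of the maximal ideal -/
theorem pkg_lt (V : ValuationSubring L) (h : EtRam.Dominates A (algebraMap A L) V) (x : L)
    (hx : V.valuation x < 1) :
    ∃ c : Fin p → A, (∀ i, c i ∈ maximalIdeal A) ∧
      x = ∑ i : Fin p, algebraMap A L (c i) * y ^ (i : ℕ) := by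
  obtain ⟨c, rfl⟩ := (exists_repr p hle y (mf_indep (K := K) h p y (hind V h))).2 x
  have h1 := mf_lt h p y (hind V h) c hx
  choose a ham ha using h1
  refine ⟨a, ham, ?_⟩
  apply Finset.sum_congr rfl
  intro i _
  rw [IsScalarTower.algebraMap_apply A K L, ha]

theorem pkg_weaklyUnramified (V : ValuationSubring L)
    (h : EtRam.Dominates A (algebraMap A L) V) :
    letI : Algebra A V := (RingHom.codRestrict (algebraMap A L) V h.1).toAlgebra
    EtRam.IsWeaklyUnramified A V := by
  letI : Algebra A V := (RingHom.codRestrict (algebraMap A L) V h.1).toAlgebra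
  unfold EtRam.IsWeaklyUnramified
  apply le_antisymm
  · rw [Ideal.map_le_iff_le_comap]
    intro a ha
    rw [Ideal.mem_comap, ValuationSubring.valuation_lt_one_iff]
    exact h.2 a ha
  · intro x hx
    rw [ValuationSubring.valuation_lt_one_iff] at hx
    obtain ⟨c, hc, hxc⟩ := pkg_lt (K := K) p y hle hy hind V h (x : L) hx
    have : x = ∑ i : Fin p, algebraMap A V (c i) * (⟨y, hy V h⟩ : V) ^ (i : ℕ) := by
      apply Subtype.ext
      rw [hxc]
      simp only [AddSubmonoidClass.coe_finset_sum, MulMemClass.coe_mul, SubmonoidClass.coe_pow]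
      rfl
    rw [this]
    apply Ideal.sum_mem
    intro i _
    exact Ideal.mul_mem_right _ _ (Ideal.mem_map_of_mem _ (hc i))


theorem pkg_residue (V : ValuationSubring L) (h : EtRam.Dominates A (algebraMap A L) V) :
    letI : Algebra A V := (RingHom.codRestrict (algebraMap A L) V h.1).toAlgebra
    ∀ [IsLocalHom (algebraMap A V)] (w : ResidueField V),
      ∃ c : Fin p → ResidueField A, w = ∑ i : Fin p,
        algebraMap (ResidueField A) (ResidueField V) (c i) * (residue V ⟨y, hy V h⟩) ^ (i : ℕ) := by
  letI : Algebra A V := (RingHom.codRestrict (algebraMap A L) V h.1).toAlgebra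
  intro _ w
  obtain ⟨x, rfl⟩ := residue_surjective w
  obtain ⟨c, hc⟩ := (pkg_mem (K := K) p y hle hy hind V h (x : L)).mp x.2
  have hx : x = ∑ i : Fin p, algebraMap A V (c i) * (⟨y, hy V h⟩ : V) ^ (i : ℕ) := by
    apply Subtype.ext
    rw [hc]
    simp only [AddSubmonoidClass.coe_finset_sum, MulMemClass.coe_mul, SubmonoidClass.coe_pow]
    rfl
  refine ⟨fun i => residue A (c i), ?_⟩
  rw [hx, map_sum]
  apply Finset.sum_congr rfl
  intro i _
  rw [map_mul, map_pow, ResidueField.algebraMap_residue]

end pkg


section residue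
variable (V : ValuationSubring L) (h : EtRam.Dominates A (algebraMap A L) V)

theorem isLocalHom_of_dominates :
    letI : Algebra A V := (RingHom.codRestrict (algebraMap A L) V h.1).toAlgebra
    IsLocalHom (algebraMap A V) := by
  letI : Algebra A V := (RingHom.codRestrict (algebraMap A L) V h.1).toAlgebra
  constructor
  intro a ha
  by_contra hna
  have ham : a ∈ maximalIdeal A := hna
  have h1 := h.2 a ham
  have h2 := (V.valuation_eq_one_iff (algebraMap A V a)).mp ha
  have h3 : ((algebraMap A V a : V) : L) = algebraMap A L a := rfl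
  rw [h3] at h2
  rw [h2] at h1
  exact lt_irrefl _ h1

theorem hind_of_irreducible (p : ℕ) (y : L) (hyV : y ∈ V) :
    letI : Algebra A V := (RingHom.codRestrict (algebraMap A L) V h.1).toAlgebra
    ∀ [IsLocalHom (algebraMap A V)] (F : Polynomial (ResidueField A)), Irreducible F → F.Monic →
      F.natDegree = p → Polynomial.aeval (residue V ⟨y, hyV⟩) F = 0 → Hind (A := A) V p y := by
  letI : Algebra A V := (RingHom.codRestrict (algebraMap A L) V h.1).toAlgebra
  intro _ F hirr hmon hdeg hroot c hc
  set ybar := residue V ⟨y, hyV⟩ with hybar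
  -- the element of V
  set s : V := ∑ i : Fin p, algebraMap A V (c i) * (⟨y, hyV⟩ : V) ^ (i : ℕ) with hs
  have hsL : (s : L) = ∑ i : Fin p, algebraMap A L (c i) * y ^ (i : ℕ) := by
    rw [hs]
    simp only [AddSubmonoidClass.coe_finset_sum, MulMemClass.coe_mul, SubmonoidClass.coe_pow]
    rfl
  have hsm : s ∈ maximalIdeal V := by
    rw [ValuationSubring.valuation_lt_one_iff, hsL]
    exact hc
  have hres : residue V s = 0 := (residue_eq_zero_iff s).mpr hsm
  -- the polynomial
  set q : Polynomial (ResidueField A) :=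
    ∑ i : Fin p, Polynomial.monomial (i : ℕ) (residue A (c i)) with hq
  have hqroot : Polynomial.aeval ybar q = 0 := by
    rw [hq, map_sum, ← hres, hs, map_sum]
    apply Finset.sum_congr rfl
    intro i _
    rw [Polynomial.aeval_monomial, map_mul, map_pow, ResidueField.algebraMap_residue]
  have hmin : minpoly (ResidueField A) ybar = F :=
    (minpoly.eq_of_irreducible_of_monic hirr hroot hmon).symm
  have hdvd : F ∣ q := hmin ▸ minpoly.dvd _ _ hqroot
  have hqdeg : q.degree < F.degree := by
    rw [Polynomial.degree_eq_natDegree hmon.ne_zero, hdeg]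
    refine lt_of_le_of_lt (Polynomial.degree_sum_le _ _) ?_
    rw [Finset.sup_lt_iff (by exact_mod_cast WithBot.bot_lt_coe p)]
    intro i _
    exact lt_of_le_of_lt (Polynomial.degree_monomial_le _ _) (by exact_mod_cast i.2)
  have hq0 : q = 0 := Polynomial.eq_zero_of_dvd_of_degree_lt hdvd hqdeg
  intro i
  have h1 : q.coeff (i : ℕ) = residue A (c i) := by
    rw [hq, Polynomial.finset_sum_coeff]
    simp only [Polynomial.coeff_monomial]
    rw [Finset.sum_eq_single i]
    · simp
    · intro j _ hji
      rw [if_neg]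
      intro hv
      exact hji (Fin.ext hv)
    · intro hi; exact absurd (Finset.mem_univ i) hi
  rw [hq0, Polynomial.coeff_zero] at h1
  exact (residue_eq_zero_iff _).mp h1.symm

end residue


section FL
variable {F E : Type*} [Field F] [Field E] [Algebra F E] (p : ℕ) (w : E)
  (hrep : ∀ x : E, ∃ c : Fin p → F, x = ∑ i : Fin p, algebraMap F E (c i) * w ^ (i : ℕ))
include hrep

theorem fl_adjoin : Algebra.adjoin F {w} = ⊤ := by
  rw [eq_top_iff]
  intro x _
  obtain ⟨c, rfl⟩ := hrep x
  refine Subalgebra.sum_mem _ (fun i _ => ?_)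
  exact Subalgebra.mul_mem _ (Subalgebra.algebraMap_mem _ _)
    (Subalgebra.pow_mem _ (Algebra.subset_adjoin (Set.mem_singleton w)) _)

theorem fl_separable (hsep : IsSeparable F w) : Algebra.IsSeparable F E := by
  have hint : IsIntegral F w := hsep.isIntegral
  have h1 : (IntermediateField.adjoin F {w}) = ⊤ := by
    apply IntermediateField.toSubalgebra_injective
    rw [IntermediateField.adjoin_simple_toSubalgebra_of_isAlgebraic hint.isAlgebraic, fl_adjoin p w hrep,
      IntermediateField.top_toSubalgebra]
  haveI : Algebra.IsSeparable F (IntermediateField.adjoin F {w}) :=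
    (IntermediateField.isSeparable_adjoin_simple_iff_isSeparable F E).mpr hsep
  refine ⟨fun x => ?_⟩
  have hx : x ∈ IntermediateField.adjoin F {w} := by rw [h1]; trivial
  exact IntermediateField.isSeparable_of_mem_isSeparable F E hx

theorem fl_finrank (G : Polynomial F) (hirr : Irreducible G) (hmon : G.Monic)
    (hdeg : G.natDegree = p) (hroot : Polynomial.aeval w G = 0) : Module.finrank F E = p := by
  have hint : IsIntegral F w := ⟨G, hmon, hroot⟩
  have hmin : minpoly F w = G := (minpoly.eq_of_irreducible_of_monic hirr hroot hmon).symm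
  have pb := PowerBasis.ofAdjoinEqTop hint (fl_adjoin p w hrep)
  have h1 := (PowerBasis.ofAdjoinEqTop hint (fl_adjoin p w hrep)).finrank
  rw [h1, PowerBasis.natDegree_minpoly (PowerBasis.ofAdjoinEqTop hint (fl_adjoin p w hrep)) |>.symm,
    PowerBasis.ofAdjoinEqTop_gen, hmin, hdeg]

theorem fl_purelyInseparable [hp : Fact p.Prime] [CharP F p]
    (hpow : w ^ p ∈ (algebraMap F E).range) : IsPurelyInseparable F E := by
  haveI : ExpChar F p := ExpChar.prime hp.out
  haveI : CharP E p := charP_of_injective_algebraMap (algebraMap F E).injective p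
  rw [isPurelyInseparable_iff_pow_mem F p]
  intro x
  refine ⟨1, ?_⟩
  obtain ⟨c, rfl⟩ := hrep x
  rw [pow_one, sum_pow_char]
  apply Subring.sum_mem
  intro i _
  rw [mul_pow, ← pow_mul, mul_comm (i : ℕ) p, pow_mul, ← map_pow]
  exact Subring.mul_mem _ ⟨_, rfl⟩ (Subring.pow_mem _ hpow _)

end FL

end Groth.Agent.Lib.Helper93.ASRamB
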