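import Mathlib
import Groth.Agent.Lib.Helper93.ASRamB

namespace Groth.Agent.Lib.Helper93.ASRamC
open IsLocalRing Groth.Agent.Lib.Helper93.ASRamA Groth.Agent.Lib.Helper93.ASRamB

universe u
variable {A K L : Type u} [CommRing A] [IsDomain A] [IsDiscreteValuationRing A] [Field K]
  [Algebra A K] [IsFractionRing A K] [Field L] [Algebra K L] [Algebra A L] [IsScalarTower A K L]

theorem exists_dominating : ∃ V : ValuationSubring L, EtRam.Dominates A (algebraMap A L) V := by
  obtain ⟨B, hB, hloc⟩ := IsLocalRing.exists_factor_valuationRing (algebraMap A L)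
  refine ⟨B, fun a => hB a, fun a ha => ?_⟩
  have h1 : ((algebraMap A L).codRestrict B.toSubring hB a) ∈ maximalIdeal B := by
    intro hu
    exact ha (hloc.map_nonunit a hu)
  exact (B.valuation_lt_one_iff _).mp h1

/-- the four cases -/
def Case4 (A : Type u) [CommRing A] [IsDomain A] [IsDiscreteValuationRing A] (L : Type u) [Field L]
    [Algebra A L] (p : ℕ) : Prop :=
  (∃ V : ValuationSubring L, EtRam.Dominates A (algebraMap A L) V) ∧
  (∀ V V' : ValuationSubring L, EtRam.Dominates A (algebraMap A L) V →
    EtRam.Dominates A (algebraMap A L) V' → V = V') ∧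
  ∀ (V : ValuationSubring L) (h : EtRam.Dominates A (algebraMap A L) V),
    letI : Algebra A V := (RingHom.codRestrict (algebraMap A L) V h.1).toAlgebra
    ∀ [IsLocalHom (algebraMap A V)],
      EtRam.IsWeaklyUnramified A V ∧
        IsPurelyInseparable (IsLocalRing.ResidueField A) (IsLocalRing.ResidueField V) ∧
        Module.finrank (IsLocalRing.ResidueField A) (IsLocalRing.ResidueField V) = p

section caseC
variable (p : ℕ) (hp : p.Prime) [CharP K p] (π : A) (hπ : maximalIdeal A = Ideal.span {π})
  (ξ : K) (z : L) (hz : z ^ p - z = algebraMap K L ξ)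
  (hgen : IntermediateField.adjoin K {z} = ⊤)
include hp hπ hz hgen

theorem caseC (n : ℕ) (a : A) (hn : 0 < n) (hpn : p ∣ n)
    (hres : ∀ r : A, residue A a ≠ residue A r ^ p)
    (hξ : ξ * algebraMap A K π ^ n = algebraMap A K a) :
    Case4 A L p ∧ Module.finrank K L = p := by
  obtain ⟨m, rfl⟩ := hpn
  have hm : 0 < m := Nat.pos_of_ne_zero (by rintro rfl; simp at hn)
  haveI := Fact.mk hp
  obtain ⟨hfd, hle⟩ := finrank_le p hp.two_le ξ z hz hgen
  set y : L := algebraMap A L π ^ m * z with hy
  have hpm : p * m = m * (p - 1) + m := by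
    have := hp.one_le
    rw [← Nat.mul_succ, Nat.succ_eq_add_one, Nat.sub_add_cancel this, mul_comm]
  have hyeq : y ^ p - algebraMap A L π ^ (m * (p - 1)) * y = algebraMap A L a := by
    have h1 : algebraMap K L (ξ * algebraMap A K π ^ (p * m)) = algebraMap A L a := by
      rw [hξ, ← IsScalarTower.algebraMap_apply]
    rw [map_mul, map_pow, ← IsScalarTower.algebraMap_apply, ← hz] at h1
    rw [← h1, hy, mul_pow, ← pow_mul, ← mul_assoc, ← pow_add, mul_comm m p, ← hpm]
    ring
  -- y ∈ V for all dominating V
  have hyV : ∀ V : ValuationSubring L, EtRam.Dominates A (algebraMap A L) V → y ∈ V := by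
    intro V h
    rw [← V.valuation_le_one_iff]
    by_contra hgt
    push Not at hgt
    have h1 : V.valuation (algebraMap A L π ^ (m * (p - 1)) * y) < V.valuation (y ^ p) := by
      rw [map_mul, map_pow, map_pow]
      calc _ ≤ 1 * V.valuation y := by
              apply mul_le_mul_left
              exact pow_le_one₀ zero_le' (val_le_one h π)
        _ = V.valuation y ^ 1 := by rw [one_mul, pow_one]
        _ < V.valuation y ^ p := pow_lt_pow_right₀ hgt hp.one_lt
    have h2 := Valuation.map_sub_eq_of_lt_left V.valuation h1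
    rw [hyeq, map_pow] at h2
    have h3 := val_le_one h a
    rw [h2] at h3
    exact absurd h3 (not_le.mpr (one_lt_pow₀ hgt hp.ne_zero))
  have hbar : ∀ b : ResidueField A, b ^ p ≠ residue A a := by
    intro b
    obtain ⟨r, rfl⟩ := residue_surjective b
    exact fun h => hres r h.symm
  set G : Polynomial (ResidueField A) := Polynomial.X ^ p - Polynomial.C (residue A a) with hG
  have hGirr : Irreducible G := X_pow_sub_C_irreducible_of_prime hp hbar
  have hGmon : G.Monic := Polynomial.monic_X_pow_sub_C _ hp.ne_zero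
  have hGdeg : G.natDegree = p := Polynomial.natDegree_X_pow_sub_C
  have hroot : ∀ (V : ValuationSubring L) (h : EtRam.Dominates A (algebraMap A L) V),
      letI : Algebra A V := (RingHom.codRestrict (algebraMap A L) V h.1).toAlgebra
      ∀ [IsLocalHom (algebraMap A V)], Polynomial.aeval (residue V ⟨y, hyV V h⟩) G = 0 := by
    intro V h
    letI : Algebra A V := (RingHom.codRestrict (algebraMap A L) V h.1).toAlgebra
    intro _
    rw [hG, map_sub, map_pow, Polynomial.aeval_X, Polynomial.aeval_C,
      ResidueField.algebraMap_residue, ← map_pow, ← map_sub, residue_eq_zero_iff,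
      ValuationSubring.valuation_lt_one_iff]
    have h1 : (((⟨y, hyV V h⟩ : V) ^ p - algebraMap A V a : V) : L) =
        algebraMap A L π ^ (m * (p - 1)) * y := by
      have h2 : algebraMap A L π ^ (m * (p - 1)) * y = y ^ p - algebraMap A L a := by
        rw [← hyeq]; ring
      rw [h2]
      rfl
    rw [h1, map_mul, map_pow]
    have hγ := val_pi_lt_one h hπ
    have hmp : m * (p - 1) ≠ 0 := Nat.mul_ne_zero hm.ne' (Nat.sub_ne_zero_of_lt hp.one_lt)
    calc _ ≤ V.valuation (algebraMap A L π) ^ (m * (p - 1)) * 1 :=
          mul_le_mul_right ((V.valuation_le_one_iff _).mpr (hyV V h)) _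
      _ = V.valuation (algebraMap A L π) ^ (m * (p - 1)) := mul_one _
      _ < 1 := pow_lt_one₀ zero_le' hγ hmp
  have hind : ∀ V : ValuationSubring L, EtRam.Dominates A (algebraMap A L) V →
      Hind (A := A) V p y := by
    intro V h
    letI : Algebra A V := (RingHom.codRestrict (algebraMap A L) V h.1).toAlgebra
    haveI := isLocalHom_of_dominates V h
    exact hind_of_irreducible V h p y (hyV V h) G hGirr hGmon hGdeg (hroot V h)
  obtain ⟨V₀, h₀⟩ := exists_dominating (A := A) (L := L)
  refine ⟨⟨⟨V₀, h₀⟩, pkg_unique (K := K) p y hle hyV hind, ?_⟩,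
    pkg_finrank (K := K) p y hle hyV hind V₀ h₀⟩
  intro V h
  letI : Algebra A V := (RingHom.codRestrict (algebraMap A L) V h.1).toAlgebra
  intro _
  have hrep := pkg_residue (K := K) p y hle hyV hind V h
  refine ⟨pkg_weaklyUnramified (K := K) p y hle hyV hind V h, ?_, ?_⟩
  · haveI : CharP A p := (algebraMap A K).charP (IsFractionRing.injective A K) p
    haveI : CharP (ResidueField A) p := by
      rw [CharP.charP_iff_prime_eq_zero hp]
      have h0 : ((p : A) : A) = 0 := CharP.cast_eq_zero A p
      have := congrArg (residue A) h0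
      rwa [map_natCast, map_zero] at this
    refine fl_purelyInseparable p (residue V ⟨y, hyV V h⟩) hrep ?_
    refine ⟨residue A a, ?_⟩
    have := hroot V h
    rw [hG, map_sub, map_pow, Polynomial.aeval_X, Polynomial.aeval_C, sub_eq_zero] at this
    exact this.symm
  · exact fl_finrank p (residue V ⟨y, hyV V h⟩) hrep G hGirr hGmon hGdeg (hroot V h)

end caseC

end Groth.Agent.Lib.Helper93.ASRamC
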