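import Mathlib

namespace Groth.Agent.Lib.Helper93.ASRamD
open Polynomial

variable {F : Type*} [Field F] (p : ℕ) [hp : Fact p.Prime] [CharP F p]

theorem cast_pow_eq (j : ℕ) : ((j : F)) ^ p = j := by
  have := map_natCast (frobenius F p) j
  rwa [frobenius_def] at this

/-- shift invariance -/
theorem comp_shift (c : F) (j : ℕ) :
    (X ^ p - X - C c : F[X]).comp (X + C (j : F)) = X ^ p - X - C c := by
  simp only [sub_comp, pow_comp, X_comp, C_comp]
  rw [add_pow_char, ← C_pow, cast_pow_eq]
  ring

theorem natDegree_comp_shift (m : F[X]) (a : F) : (m.comp (X + C a)).natDegree = m.natDegree := by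
  rw [natDegree_comp, natDegree_X_add_C, mul_one]

theorem monic_comp_shift (m : F[X]) (hm : m.Monic) (a : F) : (m.comp (X + C a)).Monic :=
  hm.comp_X_add_C a

theorem irreducible_comp_shift (m : F[X]) (hm : Irreducible m) (a : F) :
    Irreducible (m.comp (X + C a)) := by
  have : m.comp (X + C a) = Polynomial.algEquivAevalXAddC a m :=
    (Polynomial.algEquivAevalXAddC_apply a m).symm
  rw [this]
  exact (MulEquiv.irreducible_iff (Polynomial.algEquivAevalXAddC a).toMulEquiv).mpr hm

/-- if `m` is invariant under a nonzero shift then its degree is at least `p` -/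
theorem le_natDegree_of_shift (m : F[X]) (hd : 0 < m.natDegree) (k : F) (hk : k ≠ 0)
    (hinv : m.comp (X + C k) = m) : p ≤ m.natDegree := by
  classical
  have h1 : ∀ i : ℕ, m.eval ((i : F) * k) = m.eval 0 := by
    intro i
    induction i with
    | zero => simp
    | succ i ih =>
      rw [← ih]
      conv_rhs => rw [← hinv]
      rw [eval_comp, eval_add, eval_X, eval_C]
      congr 1
      push_cast
      ring
  set q := m - C (m.eval 0) with hq
  have hqd : q.natDegree = m.natDegree := natDegree_sub_C
  have hq0 : q ≠ 0 := by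
    intro h0
    rw [h0, natDegree_zero] at hqd
    omega
  set Z : Finset F := (Finset.range p).image (fun i : ℕ => (i : F) * k) with hZ
  have hZcard : Z.card = p := by
    rw [hZ, Finset.card_image_of_injOn, Finset.card_range]
    intro i hi j hj hij
    simp only [Finset.coe_range, Set.mem_Iio] at hi hj
    have h2 : (i : F) = j := mul_right_cancel₀ hk hij
    have h3 := (CharP.natCast_eq_natCast F p).mp h2
    exact Nat.ModEq.eq_of_lt_of_lt h3 hi hj
  have hsub : Z.val ⊆ q.roots := by
    intro x hx
    rw [Finset.mem_val, hZ, Finset.mem_image] at hx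
    obtain ⟨i, -, rfl⟩ := hx
    rw [mem_roots hq0, IsRoot, hq, eval_sub, eval_C, h1, sub_self]
  have := card_le_degree_of_subset_roots hsub
  rw [hZcard, hqd] at this
  exact this

theorem natDegree_of_irreducible_dvd (c : F) (m : F[X]) (hm : Irreducible m) (hmon : m.Monic)
    (hdvd : m ∣ X ^ p - X - C c) : m.natDegree = 1 ∨ m.natDegree = p := by
  classical
  set f : F[X] := X ^ p - X - C c with hf
  have hp2 := hp.out.two_le
  have hfd : f.natDegree = p := by
    rw [hf, sub_sub, natDegree_sub_eq_left_of_natDegree_lt, natDegree_X_pow]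
    rw [natDegree_X_pow, natDegree_X_add_C]
    omega
  have hf0 : f ≠ 0 := by
    intro h0; rw [h0, natDegree_zero] at hfd; omega
  have hdle : m.natDegree ≤ p := hfd ▸ natDegree_le_of_dvd hdvd hf0
  have hd0 : 0 < m.natDegree := hm.natDegree_pos
  by_cases hdist : ∀ i ∈ Finset.range p, ∀ j ∈ Finset.range p, i ≠ j →
      m.comp (X + C (i : F)) ≠ m.comp (X + C (j : F))
  · left
    have hcop : (↑(Finset.range p) : Set ℕ).Pairwise
        (fun i j => IsCoprime (m.comp (X + C (i : F))) (m.comp (X + C (j : F)))) := by
      intro i hi j hj hij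
      have hi' := irreducible_comp_shift m hm (i : F)
      have hj' := irreducible_comp_shift m hm (j : F)
      rw [Irreducible.coprime_iff_not_dvd hi']
      intro hd
      have hass := hi'.associated_of_dvd hj' hd
      exact hdist i hi j hj hij (eq_of_monic_of_associated (monic_comp_shift m hmon _)
        (monic_comp_shift m hmon _) hass)
    have hall : ∀ i ∈ Finset.range p, m.comp (X + C (i : F)) ∣ f := by
      intro i _
      obtain ⟨q, hq⟩ := hdvd
      refine ⟨q.comp (X + C (i : F)), ?_⟩
      rw [← mul_comp, ← hq, hf, comp_shift]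
    have hprod := Finset.prod_dvd_of_coprime hcop hall
    have h1 := natDegree_le_of_dvd hprod hf0
    rw [natDegree_prod_of_monic _ _ (fun i _ => monic_comp_shift m hmon _), hfd] at h1
    simp only [natDegree_comp_shift, Finset.sum_const, Finset.card_range, smul_eq_mul] at h1
    have : m.natDegree ≤ 1 := by
      by_contra hgt
      push Not at hgt
      nlinarith
    omega
  · right
    push Not at hdist
    obtain ⟨i, hi, j, hj, hij, heq⟩ := hdist
    -- compose with X - C i
    wlog hlt : i < j generalizing i j
    · exact this j hj i hi hij.symm heq.symm (lt_of_le_of_ne (not_lt.mp hlt) hij.symm)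
    have hk : ((j - i : ℕ) : F) ≠ 0 := by
      rw [Ne, CharP.cast_eq_zero_iff F p]
      intro hd
      have := Nat.le_of_dvd (Nat.sub_pos_of_lt hlt) hd
      rw [Finset.mem_range] at hi hj
      omega
    have hinv : m.comp (X + C ((j - i : ℕ) : F)) = m := by
      have h2 := congrArg (fun q => q.comp (X - C (i : F))) heq
      simp only [comp_assoc, add_comp, X_comp, C_comp] at h2
      rw [sub_add_cancel, comp_X] at h2
      have h3 : (X + C ((j - i : ℕ) : F) : F[X]) = X - C (i : F) + C (j : F) := by
        rw [Nat.cast_sub hlt.le]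
        simp only [map_sub]
        ring
      rw [h3]
      exact h2.symm
    exact le_antisymm hdle (le_natDegree_of_shift p m hd0 _ hk hinv)


theorem natDegree_AS (c : F) : (X ^ p - X - C c : F[X]).natDegree = p := by
  have hp2 := hp.out.two_le
  rw [sub_sub, natDegree_sub_eq_left_of_natDegree_lt, natDegree_X_pow]
  rw [natDegree_X_pow, natDegree_X_add_C]
  omega

theorem monic_AS (c : F) : (X ^ p - X - C c : F[X]).Monic := by
  have hp2 := hp.out.two_le
  rw [sub_sub]
  apply monic_X_pow_sub
  rw [degree_X_add_C]
  exact_mod_cast hp2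

theorem separable_AS (c : F) : (X ^ p - X - C c : F[X]).Separable := by
  rw [separable_def]
  have : derivative (X ^ p - X - C c : F[X]) = -1 := by
    simp only [derivative_sub, derivative_X_pow, derivative_X, derivative_C, sub_zero]
    rw [CharP.cast_eq_zero F p, map_zero, zero_mul, zero_sub]
  rw [this]
  exact isCoprime_one_right.neg_right


theorem irreducible_of_no_root (c : F) (hno : ∀ r : F, r ^ p - r ≠ c) :
    Irreducible (X ^ p - X - C c : F[X]) := by
  set f : F[X] := X ^ p - X - C c with hf
  have hfd := natDegree_AS p c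
  have hmonf := monic_AS p c
  have hnu : ¬ IsUnit f := by
    intro hu
    have := natDegree_eq_zero_of_isUnit hu
    rw [hf, hfd] at this
    exact hp.out.ne_zero this
  have hf0 : f ≠ 0 := hmonf.ne_zero
  obtain ⟨m, hmon, hirr, hdvd⟩ := exists_monic_irreducible_factor f hnu
  rcases natDegree_of_irreducible_dvd p c m hirr hmon hdvd with h1 | h1
  · exfalso
    have hm : m = X - C (-m.coeff 0) := by
      have := hmon.eq_X_add_C h1
      rw [map_neg, sub_neg_eq_add]
      exact this
    have hroot : f.IsRoot (-m.coeff 0) := by
      apply dvd_iff_isRoot.mp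
      rw [← hm]; exact hdvd
    rw [IsRoot, hf] at hroot
    simp only [eval_sub, eval_pow, eval_X, eval_C] at hroot
    exact hno _ (sub_eq_zero.mp hroot)
  · have : f = m := eq_of_monic_of_dvd_of_natDegree_le hmon hmonf hdvd (by rw [hf, hfd, h1])
    rw [this]; exact hirr

theorem natDegree_minpoly {E : Type*} [Field E] [Algebra F E] (c : F) (w : E)
    (hw : w ^ p - w = algebraMap F E c) :
    (minpoly F w).natDegree = 1 ∨ (minpoly F w).natDegree = p := by
  have hroot : aeval w (X ^ p - X - C c : F[X]) = 0 := by
    simp only [map_sub, map_pow, aeval_X, aeval_C]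
    rw [hw, sub_self]
  have hint : IsIntegral F w := ⟨_, monic_AS p c, hroot⟩
  exact natDegree_of_irreducible_dvd p c _ (minpoly.irreducible hint) (minpoly.monic hint)
    (minpoly.dvd F w hroot)

end Groth.Agent.Lib.Helper93.ASRamD
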