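import Mathlib
import Groth.Agent.Lib.Helper93.ASRamC
import Groth.Agent.Lib.Helper93.ASRamD

namespace Groth.Agent.Lib.Helper93.ASRamE
open IsLocalRing Groth.Agent.Lib.Helper93.ASRamA Groth.Agent.Lib.Helper93.ASRamB
  Groth.Agent.Lib.Helper93.ASRamC Groth.Agent.Lib.Helper93.ASRamD

universe u
variable {A K L : Type u} [CommRing A] [IsDomain A] [IsDiscreteValuationRing A] [Field K]
  [Algebra A K] [IsFractionRing A K] [Field L] [Algebra K L] [Algebra A L] [IsScalarTower A K L]

theorem exists_mul_pow {π : A} (hπ : maximalIdeal A = Ideal.span {π}) (c : K) :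
    ∃ M : ℕ, ∃ a : A, c * algebraMap A K π ^ M = algebraMap A K a := by
  have hirr := (IsDiscreteValuationRing.irreducible_iff_uniformizer π).mpr hπ
  obtain ⟨x, y, hy, rfl⟩ := IsFractionRing.div_surjective (A := A) c
  have hy0 : y ≠ 0 := nonZeroDivisors.ne_zero hy
  obtain ⟨M, u, rfl⟩ := IsDiscreteValuationRing.eq_unit_mul_pow_irreducible hy0 hirr
  refine ⟨M, x * ((u⁻¹ : Aˣ) : A), ?_⟩
  have hπ0 : algebraMap A K π ≠ 0 := by
    rw [Ne, map_eq_zero_iff _ (IsFractionRing.injective A K)]
    exact hirr.ne_zero
  have hu : algebraMap A K (u : A) * algebraMap A K ((u⁻¹ : Aˣ) : A) = 1 := by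
    rw [← map_mul, Units.mul_inv, map_one]
  have hu0 : algebraMap A K (u : A) ≠ 0 := left_ne_zero_of_mul_eq_one hu
  rw [map_mul, map_mul, map_pow, eq_inv_of_mul_eq_one_right hu]
  field_simp

/-- approximability by elements of `K` -/
def IsApprox (K : Type u) [Field K] [Algebra A K] [Algebra K L] (V : ValuationSubring L) (π : A)
    (x : L) : Prop :=
  ∀ N : ℕ, ∃ c : K, V.valuation (x - algebraMap K L c) ≤ V.valuation (algebraMap A L π) ^ N

section approx
variable {V : ValuationSubring L} (h : EtRam.Dominates A (algebraMap A L) V) {π : A}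
  (hπ : maximalIdeal A = Ideal.span {π})
include h hπ

theorem bdd_K (c : K) :
    ∃ M : ℕ, V.valuation (algebraMap K L c) * V.valuation (algebraMap A L π) ^ M ≤ 1 := by
  obtain ⟨M, a, ha⟩ := exists_mul_pow hπ c
  refine ⟨M, ?_⟩
  have : algebraMap K L c * algebraMap A L π ^ M = algebraMap A L a := by
    rw [IsScalarTower.algebraMap_apply A K L, IsScalarTower.algebraMap_apply A K L a, ← ha,
      map_mul, map_pow]
  rw [← map_pow, ← map_mul, this]
  exact val_le_one h a

theorem bdd_of_approx (x : L) (hx : IsApprox K V π x) :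
    ∃ M : ℕ, V.valuation x * V.valuation (algebraMap A L π) ^ M ≤ 1 := by
  obtain ⟨c, hc⟩ := hx 0
  rw [pow_zero] at hc
  obtain ⟨M, hM⟩ := bdd_K (K := K) h hπ c
  refine ⟨M, ?_⟩
  have hγ : V.valuation (algebraMap A L π) ^ M ≤ 1 := pow_le_one₀ zero_le' (val_le_one h π)
  have h1 : x = (x - algebraMap K L c) + algebraMap K L c := by ring
  have h2 : V.valuation x ≤
      max (V.valuation (x - algebraMap K L c)) (V.valuation (algebraMap K L c)) := by
    conv_lhs => rw [h1]
    exact Valuation.map_add _ _ _
  rcases le_max_iff.mp h2 with h3 | h3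
  · calc _ ≤ V.valuation (x - algebraMap K L c) * V.valuation (algebraMap A L π) ^ M :=
          mul_le_mul_left h3 _
      _ ≤ 1 * 1 := mul_le_mul' hc hγ
      _ = 1 := one_mul 1
  · exact le_trans (mul_le_mul_left h3 _) hM

theorem approx_K (c : K) : IsApprox K V π (algebraMap K L c) := by
  intro N
  refine ⟨c, ?_⟩
  rw [sub_self, map_zero]
  exact zero_le'

theorem approx_add (x y : L) (hx : IsApprox K V π x) (hy : IsApprox K V π y) :
    IsApprox K V π (x + y) := by
  intro N
  obtain ⟨c, hc⟩ := hx N
  obtain ⟨d, hd⟩ := hy N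
  refine ⟨c + d, ?_⟩
  have : x + y - algebraMap K L (c + d) = (x - algebraMap K L c) + (y - algebraMap K L d) := by
    rw [map_add]; ring
  rw [this]
  exact le_trans (Valuation.map_add _ _ _) (max_le hc hd)

theorem approx_mul (x y : L) (hx : IsApprox K V π x) (hy : IsApprox K V π y) :
    IsApprox K V π (x * y) := by
  intro N
  obtain ⟨My, hMy⟩ := bdd_of_approx (K := K) h hπ y hy
  obtain ⟨c, hc⟩ := hx (N + My)
  obtain ⟨Mc, hMc⟩ := bdd_K (K := K) h hπ c
  obtain ⟨d, hd⟩ := hy (N + Mc)
  refine ⟨c * d, ?_⟩
  have : x * y - algebraMap K L (c * d) =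
      (x - algebraMap K L c) * y + algebraMap K L c * (y - algebraMap K L d) := by
    rw [map_mul]; ring
  rw [this]
  refine le_trans (Valuation.map_add _ _ _) (max_le ?_ ?_)
  · rw [map_mul]
    calc _ ≤ V.valuation (algebraMap A L π) ^ (N + My) * V.valuation y := mul_le_mul_left hc _
      _ = V.valuation (algebraMap A L π) ^ N *
          (V.valuation y * V.valuation (algebraMap A L π) ^ My) := by
          rw [pow_add, mul_assoc, mul_comm (V.valuation (algebraMap A L π) ^ My)]
      _ ≤ V.valuation (algebraMap A L π) ^ N * 1 := mul_le_mul_right hMy _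
      _ = _ := mul_one _
  · rw [map_mul]
    calc _ ≤ V.valuation (algebraMap K L c) * V.valuation (algebraMap A L π) ^ (N + Mc) :=
          mul_le_mul_right hd _
      _ = V.valuation (algebraMap A L π) ^ N *
          (V.valuation (algebraMap K L c) * V.valuation (algebraMap A L π) ^ Mc) := by
          rw [pow_add, mul_left_comm]
      _ ≤ V.valuation (algebraMap A L π) ^ N * 1 := mul_le_mul_right hMc _
      _ = _ := mul_one _

/-- if a generator is approximable then everything is -/
theorem approx_all (z : L) (hgen : Algebra.adjoin K {z} = ⊤) (hz : IsApprox K V π z) (x : L) :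
    IsApprox K V π x := by
  let S : Subalgebra K L :=
    { carrier := {x | IsApprox K V π x}
      mul_mem' := fun {x y} hx hy => approx_mul h hπ x y hx hy
      add_mem' := fun {x y} hx hy => approx_add h hπ x y hx hy
      algebraMap_mem' := fun c => approx_K h hπ c }
  have h1 : Algebra.adjoin K {z} ≤ S := Algebra.adjoin_le (by
    intro w hw
    rw [Set.mem_singleton_iff] at hw
    rw [hw]
    exact hz)
  rw [hgen] at h1
  exact h1 (Algebra.mem_top : x ∈ (⊤ : Subalgebra K L))

/-- core approximation statement -/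
theorem core (hall : ∀ x : L, IsApprox K V π x) (x : L) (hx : x ≠ 0) :
    ∃ c : K, V.valuation (x - algebraMap K L c) < V.valuation x := by
  obtain ⟨M, hM⟩ := bdd_of_approx (K := K) h hπ x⁻¹ (hall _)
  have hγ0 := val_pi_pos h (inj_AL (A := A) K L) hπ
  have hγ1 := val_pi_lt_one h hπ
  have hvx : V.valuation x ≠ 0 := by rwa [Ne, Valuation.zero_iff]
  have h1 : V.valuation (algebraMap A L π) ^ M ≤ V.valuation x := by
    rw [map_inv₀, inv_mul_le_iff₀ (zero_lt_iff.mpr hvx), mul_one] at hM
    exact hM
  obtain ⟨c, hc⟩ := hall x (M + 1)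
  refine ⟨c, lt_of_le_of_lt hc (lt_of_lt_of_le ?_ h1)⟩
  rw [pow_succ]
  calc _ < V.valuation (algebraMap A L π) ^ M * 1 :=
        mul_lt_mul_of_pos_left hγ1 (pow_pos hγ0 M)
    _ = _ := mul_one _

end approx



section conseq
variable {V : ValuationSubring L} (h : EtRam.Dominates A (algebraMap A L) V) {π : A}
  (hπ : maximalIdeal A = Ideal.span {π}) (hall : ∀ x : L, IsApprox K V π x)
include hπ hall

theorem wu_of_approx :
    letI : Algebra A V := (RingHom.codRestrict (algebraMap A L) V h.1).toAlgebra
    EtRam.IsWeaklyUnramified A V := by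
  letI : Algebra A V := (RingHom.codRestrict (algebraMap A L) V h.1).toAlgebra
  unfold EtRam.IsWeaklyUnramified
  apply le_antisymm
  · rw [Ideal.map_le_iff_le_comap]
    intro a ha
    rw [Ideal.mem_comap, ValuationSubring.valuation_lt_one_iff]
    exact h.2 a ha
  · intro x hx
    rw [ValuationSubring.valuation_lt_one_iff] at hx
    by_cases hx0 : (x : L) = 0
    · have : x = 0 := Subtype.ext hx0
      rw [this]; exact Ideal.zero_mem _
    obtain ⟨c, hc⟩ := core h hπ hall (x : L) hx0
    have h1 : V.valuation (algebraMap K L c) = V.valuation (x : L) := by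
      have h2 := Valuation.map_sub_eq_of_lt_left V.valuation hc
      rwa [sub_sub_cancel] at h2
    have h3 : V.valuation (algebraMap K L c) < 1 := h1 ▸ hx
    obtain ⟨a, ham, hac⟩ := (lt_one_iff h c).mp h3
    rw [hπ, Ideal.mem_span_singleton] at ham
    obtain ⟨a', rfl⟩ := ham
    have h4 : V.valuation (x : L) ≤ V.valuation (algebraMap A L π) := by
      rw [← h1, ← hac, ← IsScalarTower.algebraMap_apply A K L, map_mul, map_mul]
      calc _ ≤ V.valuation (algebraMap A L π) * 1 := mul_le_mul_right (val_le_one h a') _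
        _ = _ := mul_one _
    have hγ0 := val_pi_pos h (inj_AL (A := A) K L) hπ
    have hπL : algebraMap A L π ≠ 0 := by
      intro h0; rw [h0, map_zero] at hγ0; exact lt_irrefl _ hγ0
    have h5 : (x : L) / algebraMap A L π ∈ V := by
      rw [← V.valuation_le_one_iff, map_div₀]
      exact (div_le_one₀ hγ0).mpr h4
    have h6 : x = algebraMap A V π * ⟨_, h5⟩ := by
      apply Subtype.ext
      show (x : L) = algebraMap A L π * ((x : L) / algebraMap A L π)
      field_simp
    rw [h6]
    exact Ideal.mul_mem_right _ _ (Ideal.mem_map_of_mem _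
      (by rw [hπ]; exact Ideal.mem_span_singleton_self π))

theorem sep_of_approx :
    letI : Algebra A V := (RingHom.codRestrict (algebraMap A L) V h.1).toAlgebra
    ∀ [IsLocalHom (algebraMap A V)],
      Algebra.IsSeparable (ResidueField A) (ResidueField V) := by
  letI : Algebra A V := (RingHom.codRestrict (algebraMap A L) V h.1).toAlgebra
  intro _
  refine ⟨fun w => ?_⟩
  obtain ⟨x, rfl⟩ := residue_surjective w
  by_cases hx1 : V.valuation (x : L) < 1
  · have : residue V x = 0 := (residue_eq_zero_iff x).mpr ((V.valuation_lt_one_iff x).mpr hx1)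
    rw [this, ← map_zero (algebraMap (ResidueField A) (ResidueField V))]
    exact isSeparable_algebraMap _
  · have hx0 : (x : L) ≠ 0 := by
      intro h0; rw [h0, map_zero] at hx1; exact hx1 zero_lt_one
    have hxv : V.valuation (x : L) = 1 :=
      le_antisymm ((V.valuation_le_one_iff _).mpr x.2) (not_lt.mp hx1)
    obtain ⟨c, hc⟩ := core h hπ hall (x : L) hx0
    have h1 : V.valuation (algebraMap K L c) = V.valuation (x : L) := by
      have h2 := Valuation.map_sub_eq_of_lt_left V.valuation hc
      rwa [sub_sub_cancel] at h2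
    rw [hxv] at h1 hc
    obtain ⟨a, rfl⟩ := (mem_iff h c).mp ((V.valuation_le_one_iff _).mp h1.le)
    have : residue V x = algebraMap (ResidueField A) (ResidueField V) (residue A a) := by
      rw [ResidueField.algebraMap_residue, ← sub_eq_zero, ← map_sub, residue_eq_zero_iff,
        ValuationSubring.valuation_lt_one_iff]
      have : ((x - algebraMap A V a : V) : L) = (x : L) - algebraMap K L (algebraMap A K a) := by
        rw [← IsScalarTower.algebraMap_apply A K L]; rfl
      rw [this]; exact hc
    rw [this]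
    exact isSeparable_algebraMap _

end conseq

section tapprox
variable (p : ℕ) [hp : Fact p.Prime] [CharP K p]
  {V : ValuationSubring L} (h : EtRam.Dominates A (algebraMap A L) V) {π : A}
  (hπ : maximalIdeal A = Ideal.span {π})
include h hπ

theorem approx_t (t : L) (α : K) (ht : t ^ p - t = algebraMap K L α) (hlt : V.valuation t < 1) :
    IsApprox K V π t := by
  haveI : CharP L p := charP_of_injective_algebraMap (algebraMap K L).injective p
  have hp1 := hp.out.one_lt
  have hγ : V.valuation t ≤ V.valuation (algebraMap A L π) := by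
    by_cases ht0 : t = 0
    · rw [ht0, map_zero]; exact zero_le'
    have hvt : 0 < V.valuation t := by rw [zero_lt_iff, Ne, Valuation.zero_iff]; exact ht0
    have h1 : V.valuation (t ^ p) < V.valuation t := by
      rw [map_pow]
      calc V.valuation t ^ p = V.valuation t ^ (p - 1) * V.valuation t := by
            rw [← pow_succ, Nat.sub_add_cancel hp1.le]
        _ < 1 * V.valuation t :=
            mul_lt_mul_of_pos_right (pow_lt_one₀ zero_le' hlt (Nat.sub_ne_zero_of_lt hp1)) hvt
        _ = _ := one_mul _
    have h2 := Valuation.map_sub_eq_of_lt_right V.valuation h1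
    rw [ht] at h2
    have h3 : V.valuation (algebraMap K L α) < 1 := h2 ▸ hlt
    obtain ⟨a, ham, rfl⟩ := (lt_one_iff h α).mp h3
    rw [hπ, Ideal.mem_span_singleton] at ham
    obtain ⟨a', rfl⟩ := ham
    rw [← h2, ← IsScalarTower.algebraMap_apply A K L, map_mul, map_mul]
    calc _ ≤ V.valuation (algebraMap A L π) * 1 := mul_le_mul_right (val_le_one h a') _
      _ = _ := mul_one _
  have hstep : ∀ N : ℕ, ∃ β : K,
      V.valuation (t - algebraMap K L β) ≤ V.valuation t ^ (N + 1) := by
    intro N
    induction N with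
    | zero => exact ⟨0, by rw [map_zero, sub_zero, zero_add, pow_one]⟩
    | succ N ih =>
      obtain ⟨β, hβ⟩ := ih
      refine ⟨β ^ p - α, ?_⟩
      have h1 : t - algebraMap K L (β ^ p - α) = (t - algebraMap K L β) ^ p := by
        rw [sub_pow_char, map_sub, map_pow, ← ht]; ring
      rw [h1, map_pow]
      calc _ ≤ (V.valuation t ^ (N + 1)) ^ p := pow_le_pow_left₀ zero_le' hβ p
        _ = V.valuation t ^ ((N + 1) * p) := (pow_mul _ _ _).symm
        _ ≤ V.valuation t ^ (N + 1 + 1) :=
            pow_le_pow_of_le_one zero_le' hlt.le (by nlinarith)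
  intro N
  obtain ⟨β, hβ⟩ := hstep N
  refine ⟨β, le_trans hβ ?_⟩
  calc _ ≤ V.valuation (algebraMap A L π) ^ (N + 1) := pow_le_pow_left₀ zero_le' hγ _
    _ ≤ V.valuation (algebraMap A L π) ^ N :=
        pow_le_pow_of_le_one zero_le' (val_le_one h π) (Nat.le_succ N)

end tapprox

end Groth.Agent.Lib.Helper93.ASRamE
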