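import Mathlib
import Groth.Agent.Lib.Helper93.ASNormB
import Groth.Agent.Lib.Helper93.ASRamE

set_option autoImplicit false
namespace Groth.Agent.Lib.Helper93.ASNormC

open Polynomial Groth.Agent.Lib.Helper93.ASNormA Groth.Agent.Lib.Helper93.ASNormB

universe u
attribute [local instance] FractionRing.liftAlgebra

set_option maxHeartbeats 800000 in
theorem main (p : ℕ) [Fact p.Prime] (K : Type u) [Field K]
    [CharP K p] [PerfectField K] (B : Type u) [CommRing B] [IsDedekindDomain B]
    [Algebra (PowerSeries K) B] [Module.Finite (PowerSeries K) B] [Module.IsTorsionFree (PowerSeries K) B]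
    [IsGalois (FractionRing (PowerSeries K)) (FractionRing B)]
    (hdeg : Module.finrank (FractionRing (PowerSeries K)) (FractionRing B) = p)
    (M : Ideal B) [M.IsMaximal] (hram : M.ramificationIdx (PowerSeries K) = p) :
    ∃ x : FractionRing B, ∃ m : ℕ, ∃ a : PowerSeries K,
      IntermediateField.adjoin (FractionRing (PowerSeries K)) {x} = ⊤ ∧ 0 < m ∧ ¬ p ∣ m ∧
      PowerSeries.constantCoeff a ≠ 0 ∧
      x ^ p - x + algebraMap (FractionRing (PowerSeries K)) (FractionRing B)
        (algebraMap (PowerSeries K) (FractionRing (PowerSeries K)) a /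
          algebraMap (PowerSeries K) (FractionRing (PowerSeries K)) (PowerSeries.X ^ m)) = 0 := by
  classical
  have hp := (Fact.out : p.Prime)
  haveI : CharP (PowerSeries K) p :=
    charP_of_injective_ringHom (f := (PowerSeries.C : K →+* PowerSeries K))
      PowerSeries.C_injective p
  haveI : CharP (FractionRing (PowerSeries K)) p :=
    charP_of_injective_algebraMap (IsFractionRing.injective (PowerSeries K) _) p
  haveI : FiniteDimensional (FractionRing (PowerSeries K)) (FractionRing B) :=
    Module.finite_of_finrank_pos (hdeg ▸ hp.pos)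
  haveI : CharP (FractionRing B) p :=
    charP_of_injective_algebraMap
      (algebraMap (FractionRing (PowerSeries K)) (FractionRing B)).injective p
  set ι := algebraMap (PowerSeries K) (FractionRing (PowerSeries K)) with hι
  set τ := algebraMap (FractionRing (PowerSeries K)) (FractionRing B) with hτ
  have hT0 : ι PowerSeries.X ≠ 0 := by
    rw [Ne, map_eq_zero_iff _ (IsFractionRing.injective (PowerSeries K) _)]
    exact PowerSeries.X_ne_zero
  have hτT0 : τ (ι PowerSeries.X) ≠ 0 := by
    rw [Ne, map_eq_zero]; exact hT0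
  let P : ℕ → Prop := fun m => ∃ x : FractionRing B, ∃ a : PowerSeries K,
      IntermediateField.adjoin (FractionRing (PowerSeries K)) {x} = ⊤ ∧
      x ^ p - x + τ (ι a / ι (PowerSeries.X ^ m)) = 0
  have hex : ∃ m, P m := by
    obtain ⟨x, c, hxc, hgen⟩ := exists_AS_gen p (FractionRing (PowerSeries K)) (FractionRing B) hdeg
    obtain ⟨m, a, ha⟩ := Groth.Agent.Lib.Helper93.ASRamE.exists_mul_pow
      (A := PowerSeries K) (K := FractionRing (PowerSeries K))
      (π := PowerSeries.X) PowerSeries.maximalIdeal_eq_span_X (-c)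
    refine ⟨m, x, a, hgen, ?_⟩
    rw [hxc, ← ha, map_pow, mul_div_assoc, div_self (pow_ne_zero _ hT0), mul_one, map_neg,
      add_neg_cancel]
  have hstep : ∀ (m : ℕ) (x : FractionRing B) (a : PowerSeries K), 0 < m →
      PowerSeries.constantCoeff a = 0 →
      IntermediateField.adjoin (FractionRing (PowerSeries K)) {x} = ⊤ →
      x ^ p - x + τ (ι a / ι (PowerSeries.X ^ m)) = 0 → P (m - 1) := by
    intro m x a hm ha0 hgen hxa
    obtain ⟨a', rfl⟩ := PowerSeries.X_dvd_iff.2 ha0
    refine ⟨x, a', hgen, ?_⟩
    rw [← hxa]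
    congr 2
    obtain ⟨m', rfl⟩ : ∃ m', m = m' + 1 := ⟨m - 1, by omega⟩
    simp only [Nat.add_sub_cancel, map_mul, map_pow, pow_succ]
    field_simp
  set m := Nat.find hex with hm
  have hspec : P m := Nat.find_spec hex
  obtain ⟨x, a, hgen, hxa⟩ := hspec
  have hmin : ∀ m' < m, ¬ P m' := fun m' h => Nat.find_min hex h
  have hm0 : 0 < m := by
    by_contra h0
    have hm' : m = 0 := by omega
    rw [hm', pow_zero, map_one, div_one] at hxa
    have hxa' : x ^ p - x + algebraMap (PowerSeries K) (FractionRing B) a = 0 := by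
      rw [IsScalarTower.algebraMap_apply (PowerSeries K) (FractionRing (PowerSeries K))
        (FractionRing B)]
      exact hxa
    haveI := formallyUnramified_of_AS p (PowerSeries K) (FractionRing (PowerSeries K)) B
      (FractionRing B) hdeg x a hxa' hgen
    haveI : Algebra.IsUnramifiedAt (PowerSeries K) M :=
      Algebra.FormallyUnramified.comp (PowerSeries K) B (Localization.AtPrime M)
    have h1 : M.ramificationIdx (PowerSeries K) = 1 := Ideal.ramificationIdx_eq_one M _
    rw [hram] at h1
    exact hp.one_lt.ne' h1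
  have ha0 : PowerSeries.constantCoeff a ≠ 0 := by
    intro h
    exact hmin (m - 1) (by omega) (hstep m x a hm0 h hgen hxa)
  refine ⟨x, m, a, hgen, hm0, ?_, ha0, hxa⟩
  rintro ⟨m', hm'⟩
  have hm'pos : 0 < m' := by
    rcases Nat.eq_zero_or_pos m' with h | h
    · rw [h, mul_zero] at hm'; omega
    · exact h
  have hm'lt : m' < m := by
    rw [hm']; nlinarith [hp.two_le]
  obtain ⟨c, hc⟩ := surjective_frobenius K p (PowerSeries.constantCoeff a)
  rw [frobenius_def] at hc
  set x₁ : FractionRing B := x + τ (ι (PowerSeries.C c) / ι (PowerSeries.X ^ m')) with hx₁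
  set a₁ : PowerSeries K := a - PowerSeries.C c ^ p + PowerSeries.C c * PowerSeries.X ^ (m - m')
    with ha₁
  have hgen₁ : IntermediateField.adjoin (FractionRing (PowerSeries K)) {x₁} = ⊤ := by
    rw [eq_top_iff, ← hgen, IntermediateField.adjoin_le_iff]
    rintro _ rfl
    have h1 : x₁ ∈ IntermediateField.adjoin (FractionRing (PowerSeries K)) {x₁} :=
      IntermediateField.mem_adjoin_simple_self _ _
    have h2 : τ (ι (PowerSeries.C c) / ι (PowerSeries.X ^ m')) ∈
        IntermediateField.adjoin (FractionRing (PowerSeries K)) {x₁} :=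
      IntermediateField.algebraMap_mem _ _
    have := sub_mem h1 h2
    rwa [hx₁, add_sub_cancel_right] at this
  have ha₁0 : PowerSeries.constantCoeff a₁ = 0 := by
    rw [ha₁]
    simp only [map_add, map_sub, map_pow, map_mul, PowerSeries.constantCoeff_C,
      PowerSeries.constantCoeff_X]
    rw [hc, zero_pow (by omega : m - m' ≠ 0)]
    ring
  have hx₁a : x₁ ^ p - x₁ + τ (ι a₁ / ι (PowerSeries.X ^ m)) = 0 := by
    rw [hx₁, add_pow_char, ha₁]
    simp only [map_add, map_sub, map_mul, map_pow, map_div₀] at hxa ⊢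
    rw [div_pow, ← pow_mul]
    have h1 : τ (ι PowerSeries.X) ^ (m' * p) = τ (ι PowerSeries.X) ^ m := by
      rw [hm', mul_comm]
    have h2 : τ (ι PowerSeries.X) ^ m = τ (ι PowerSeries.X) ^ (m - m') * τ (ι PowerSeries.X) ^ m' := by
      rw [← pow_add]; congr 1; omega
    rw [h1]
    have h3 : τ (ι (PowerSeries.C c)) * τ (ι PowerSeries.X) ^ (m - m') / τ (ι PowerSeries.X) ^ m
        = τ (ι (PowerSeries.C c)) / τ (ι PowerSeries.X) ^ m' := by
      rw [h2]
      field_simp
    rw [add_div, sub_div, h3]
    linear_combination hxa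
  exact hmin (m - 1) (by omega) (hstep m x₁ a₁ hm0 ha₁0 hgen₁ hx₁a)

end Groth.Agent.Lib.Helper93.ASNormC
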