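import Mathlib
import Groth.Agent.Lib.Helper93.ASRamE

namespace Groth.Agent.Lib.Helper93.ASRamF
open IsLocalRing Polynomial Groth.Agent.Lib.Helper93.ASRamA Groth.Agent.Lib.Helper93.ASRamB
  Groth.Agent.Lib.Helper93.ASRamC Groth.Agent.Lib.Helper93.ASRamD Groth.Agent.Lib.Helper93.ASRamE

universe u
variable {A K L : Type u} [CommRing A] [IsDomain A] [IsDiscreteValuationRing A] [Field K]
  [Algebra A K] [IsFractionRing A K] [Field L] [Algebra K L] [Algebra A L] [IsScalarTower A K L]

section caseA
variable (p : ℕ) (hp : p.Prime) [CharP K p] (π : A) (hπ : maximalIdeal A = Ideal.span {π})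
  (ξ : K) (z : L) (hz : z ^ p - z = algebraMap K L ξ)
  (hgen : IntermediateField.adjoin K {z} = ⊤)
include hp hz hgen

theorem isIntegral_z : IsIntegral K z := by
  haveI := Fact.mk hp
  refine ⟨_, monic_AS p ξ, ?_⟩
  simp only [eval₂_sub, eval₂_pow, eval₂_X, eval₂_C]
  rw [hz, sub_self]

theorem finrank_eq_natDegree : Module.finrank K L = (minpoly K z).natDegree := by
  have hint := isIntegral_z p hp ξ z hz hgen
  have h1 := IntermediateField.adjoin.finrank hint
  have e : (IntermediateField.adjoin K {z}) ≃ₗ[K] L := by
    rw [hgen]
    exact IntermediateField.topEquiv.toLinearEquiv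
  rw [← e.finrank_eq, h1]

theorem finrank_eq_one_or : Module.finrank K L = 1 ∨ Module.finrank K L = p := by
  haveI := Fact.mk hp
  rw [finrank_eq_natDegree p hp ξ z hz hgen]
  exact natDegree_minpoly p ξ z hz

theorem adjoin_eq_top : Algebra.adjoin K {z} = ⊤ := by
  have hint := isIntegral_z p hp ξ z hz hgen
  rw [← IntermediateField.adjoin_simple_toSubalgebra_of_isAlgebraic hint.isAlgebraic, hgen,
    IntermediateField.top_toSubalgebra]

include hπ

theorem caseA (a : A) (hξ : algebraMap A K a = ξ) :
    Module.finrank K L = 1 ∨
      (EtRam.IsUnramifiedExt A (algebraMap A L) ∧ Module.finrank K L = p) := by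
  haveI := Fact.mk hp
  rcases finrank_eq_one_or p hp ξ z hz hgen with hfr | hfr
  · left; exact hfr
  right
  refine ⟨?_, hfr⟩
  obtain ⟨hfd, hle⟩ := finrank_le p hp.two_le ξ z hz hgen
  haveI : CharP A p := (algebraMap A K).charP (IsFractionRing.injective A K) p
  haveI : CharP (ResidueField A) p := by
    rw [CharP.charP_iff_prime_eq_zero hp]
    have h0 : ((p : A) : A) = 0 := CharP.cast_eq_zero A p
    have := congrArg (residue A) h0
    rwa [map_natCast, map_zero] at this
  have hzL : z ^ p - z = algebraMap A L a := by
    rw [hz, ← hξ, ← IsScalarTower.algebraMap_apply]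
  -- z ∈ V
  have hzV : ∀ V : ValuationSubring L, EtRam.Dominates A (algebraMap A L) V → z ∈ V := by
    intro V h
    rw [← V.valuation_le_one_iff]
    by_contra hgt
    push Not at hgt
    have h1 : V.valuation z < V.valuation (z ^ p) := by
      rw [map_pow]
      calc V.valuation z = V.valuation z ^ 1 := (pow_one _).symm
        _ < V.valuation z ^ p := pow_lt_pow_right₀ hgt hp.one_lt
    have h2 := Valuation.map_sub_eq_of_lt_left V.valuation h1
    rw [hzL, map_pow] at h2
    have h3 := val_le_one h a
    rw [h2] at h3
    exact absurd h3 (not_le.mpr (one_lt_pow₀ hgt hp.ne_zero))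
  set G : Polynomial (ResidueField A) := X ^ p - X - C (residue A a) with hG
  have hw : ∀ (V : ValuationSubring L) (h : EtRam.Dominates A (algebraMap A L) V),
      letI : Algebra A V := (RingHom.codRestrict (algebraMap A L) V h.1).toAlgebra
      ∀ [IsLocalHom (algebraMap A V)],
        (residue V ⟨z, hzV V h⟩) ^ p - residue V ⟨z, hzV V h⟩ =
          algebraMap (ResidueField A) (ResidueField V) (residue A a) := by
    intro V h
    letI : Algebra A V := (RingHom.codRestrict (algebraMap A L) V h.1).toAlgebra
    intro _
    rw [ResidueField.algebraMap_residue, ← map_pow, ← map_sub]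
    congr 1
    apply Subtype.ext
    exact hzL
  have hroot : ∀ (V : ValuationSubring L) (h : EtRam.Dominates A (algebraMap A L) V),
      letI : Algebra A V := (RingHom.codRestrict (algebraMap A L) V h.1).toAlgebra
      ∀ [IsLocalHom (algebraMap A V)], aeval (residue V ⟨z, hzV V h⟩) G = 0 := by
    intro V h
    letI : Algebra A V := (RingHom.codRestrict (algebraMap A L) V h.1).toAlgebra
    intro _
    rw [hG, map_sub, map_sub, map_pow, aeval_X, aeval_C, hw V h, sub_self]
  by_cases hirr : Irreducible G
  · have hind : ∀ V : ValuationSubring L, EtRam.Dominates A (algebraMap A L) V →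
        Hind (A := A) V p z := by
      intro V h
      letI : Algebra A V := (RingHom.codRestrict (algebraMap A L) V h.1).toAlgebra
      haveI := isLocalHom_of_dominates V h
      exact hind_of_irreducible V h p z (hzV V h) G hirr (monic_AS p _) (natDegree_AS p _)
        (hroot V h)
    intro V h
    letI : Algebra A V := (RingHom.codRestrict (algebraMap A L) V h.1).toAlgebra
    intro _
    have hrep := pkg_residue (K := K) p z hle hzV hind V h
    refine ⟨pkg_weaklyUnramified (K := K) p z hle hzV hind V h, ?_⟩
    refine fl_separable p (residue V ⟨z, hzV V h⟩) hrep ?_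
    exact (separable_AS p _).of_dvd (minpoly.dvd _ _ (hroot V h))
  · intro V h
    letI : Algebra A V := (RingHom.codRestrict (algebraMap A L) V h.1).toAlgebra
    intro _
    have hint : IsIntegral (ResidueField A) (residue V ⟨z, hzV V h⟩) :=
      ⟨G, monic_AS p _, hroot V h⟩
    have hd1 : (minpoly (ResidueField A) (residue V ⟨z, hzV V h⟩)).natDegree = 1 := by
      rcases natDegree_minpoly p (residue A a) (residue V ⟨z, hzV V h⟩) (hw V h) with h1 | h1
      · exact h1
      · exfalso
        apply hirr
        have : G = minpoly (ResidueField A) (residue V ⟨z, hzV V h⟩) :=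
          eq_of_monic_of_dvd_of_natDegree_le (minpoly.monic hint) (monic_AS p _)
            (minpoly.dvd _ _ (hroot V h)) (by rw [hG, natDegree_AS, h1])
        rw [this]
        exact minpoly.irreducible hint
    obtain ⟨rbar, hrbar⟩ := minpoly.natDegree_eq_one_iff.mp hd1
    obtain ⟨r, rfl⟩ := residue_surjective rbar
    set t : L := z - algebraMap A L r with ht
    have hlt : V.valuation t < 1 := by
      rw [ResidueField.algebraMap_residue, ← sub_eq_zero, ← map_sub, residue_eq_zero_iff,
        ValuationSubring.valuation_lt_one_iff] at hrbar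
      have h1 : ((algebraMap A V r - ⟨z, hzV V h⟩ : V) : L) = - t := by
        rw [ht, neg_sub]; rfl
      rw [h1, Valuation.map_neg] at hrbar
      exact hrbar
    haveI : CharP L p := charP_of_injective_algebraMap (algebraMap K L).injective p
    have htp : t ^ p - t = algebraMap K L (algebraMap A K (a - r ^ p + r)) := by
      rw [← IsScalarTower.algebraMap_apply, ht, sub_pow_char, map_add, map_sub, map_pow, ← hzL]
      ring
    have happ_t : IsApprox K V π t := approx_t p h hπ t _ htp hlt
    have happ_z : IsApprox K V π z := by
      have : z = t + algebraMap K L (algebraMap A K r) := by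
        rw [← IsScalarTower.algebraMap_apply, ht]; ring
      rw [this]
      exact approx_add h hπ _ _ happ_t (approx_K h hπ _)
    have hall := approx_all h hπ z (adjoin_eq_top p hp ξ z hz hgen) happ_z
    exact ⟨wu_of_approx h hπ hall, sep_of_approx h hπ hall⟩

end caseA

end Groth.Agent.Lib.Helper93.ASRamF
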