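import Mathlib
import Groth.Agent.Lib.Helper93.ASRamF

namespace Groth.Agent.Lib.Helper93.ASRamG
open IsLocalRing Polynomial Groth.Agent.Lib.Helper93.ASRamA Groth.Agent.Lib.Helper93.ASRamB
  Groth.Agent.Lib.Helper93.ASRamC Groth.Agent.Lib.Helper93.ASRamD Groth.Agent.Lib.Helper93.ASRamE
  Groth.Agent.Lib.Helper93.ASRamF

universe u
variable {A K L : Type u} [CommRing A] [IsDomain A] [IsDiscreteValuationRing A] [Field K]
  [Algebra A K] [IsFractionRing A K] [Field L] [Algebra K L] [Algebra A L] [IsScalarTower A K L]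

theorem exists_cd (p n : ℕ) (hp : p.Prime) (hpn : ¬ p ∣ n) : ∃ c d : ℕ, c * n + 1 = p * d := by
  haveI := Fact.mk hp
  have hn0 : (n : ZMod p) ≠ 0 := by rw [Ne, ZMod.natCast_eq_zero_iff]; exact hpn
  refine ⟨(-(n : ZMod p)⁻¹).val, ?_⟩
  have : (((-(n : ZMod p)⁻¹).val * n + 1 : ℕ) : ZMod p) = 0 := by
    push_cast
    rw [ZMod.natCast_val, ZMod.cast_id', id, neg_mul, inv_mul_cancel₀ hn0]
    ring
  obtain ⟨d, hd⟩ := (ZMod.natCast_eq_zero_iff _ p).mp this
  exact ⟨d, hd⟩

section perV
variable {V : ValuationSubring L} (h : EtRam.Dominates A (algebraMap A L) V) {π : A}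
  (hπ : maximalIdeal A = Ideal.span {π}) (p : ℕ) (t : L)
  (hvt : V.valuation t ^ p = V.valuation (algebraMap A L π))
include h hπ hvt

theorem distinctB (i j : ℕ) (hi : i < p) (hj : j < p) (x y : K) (hx : x ≠ 0) (hy : y ≠ 0)
    (heq : V.valuation (algebraMap K L x * t ^ i) = V.valuation (algebraMap K L y * t ^ j)) :
    i = j := by
  have hγ0 := val_pi_pos h (inj_AL (A := A) K L) hπ
  have hγ1 := val_pi_lt_one h hπ
  obtain ⟨k, hk⟩ := exists_zpow h hπ x hx
  obtain ⟨l, hl⟩ := exists_zpow h hπ y hy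
  have h1 : (V.valuation (algebraMap K L x * t ^ i)) ^ p =
      (V.valuation (algebraMap K L y * t ^ j)) ^ p := by rw [heq]
  simp only [map_mul, map_pow, mul_pow] at h1
  rw [← pow_mul, ← pow_mul, mul_comm i p, mul_comm j p, pow_mul, pow_mul, hvt, hk, hl] at h1
  rw [← zpow_natCast, ← zpow_natCast (_ ^ l), ← zpow_mul, ← zpow_mul,
    ← zpow_natCast _ i, ← zpow_natCast _ j, ← zpow_add₀ hγ0.ne', ← zpow_add₀ hγ0.ne'] at h1
  have h2 := zpow_right_injective₀ hγ0 hγ1.ne h1
  have h3 : (p : ℤ) ∣ (i : ℤ) - j := ⟨l - k, by linarith⟩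
  have h4 : |(i : ℤ) - j| < p := by
    rw [abs_lt]; constructor <;> omega
  have h5 := Int.eq_zero_of_abs_lt_dvd h3 h4
  omega

theorem mfB (hp0 : 0 < p) (c : Fin p → K) (b : V.ValueGroup)
    (hb : V.valuation (∑ i : Fin p, algebraMap K L (c i) * t ^ (i : ℕ)) ≤ b) :
    ∀ i, V.valuation (algebraMap K L (c i) * t ^ (i : ℕ)) ≤ b := by
  classical
  obtain ⟨i₀, -, hmax⟩ := Finset.exists_max_image Finset.univ
    (fun i : Fin p => V.valuation (algebraMap K L (c i) * t ^ (i : ℕ)))
    ⟨⟨0, hp0⟩, Finset.mem_univ _⟩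
  by_cases h0 : V.valuation (algebraMap K L (c i₀) * t ^ (i₀ : ℕ)) = 0
  · intro i
    have := hmax i (Finset.mem_univ _)
    rw [h0] at this
    exact le_trans this zero_le'
  · have hlt : ∀ i ∈ Finset.univ \ {i₀}, V.valuation (algebraMap K L (c i) * t ^ (i : ℕ)) <
        V.valuation (algebraMap K L (c i₀) * t ^ (i₀ : ℕ)) := by
      intro i hi
      have hne : i ≠ i₀ := by simpa using hi
      refine lt_of_le_of_ne (hmax i (Finset.mem_univ _)) ?_
      intro heq
      by_cases hci : c i = 0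
      · rw [hci, map_zero, zero_mul, map_zero] at heq
        exact h0 heq.symm
      have hci₀ : c i₀ ≠ 0 := by
        rintro h'; rw [h', map_zero, zero_mul, map_zero] at h0; exact h0 rfl
      exact hne (Fin.ext (distinctB h hπ p t hvt i i₀ i.2 i₀.2 (c i) (c i₀) hci hci₀ heq))
    have := Valuation.map_sum_eq_of_lt V.valuation (Finset.mem_univ i₀) hlt
    intro i
    exact le_trans (hmax i (Finset.mem_univ _)) (this ▸ hb)

/-- the V-independent membership criterion -/
theorem memB (hp0 : 0 < p) (c : Fin p → K) :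
    (∑ i : Fin p, algebraMap K L (c i) * t ^ (i : ℕ)) ∈ V ↔
      ∀ i : Fin p, ∃ a : A, algebraMap A K a = c i ^ p * algebraMap A K π ^ (i : ℕ) := by
  have key : ∀ i : Fin p, V.valuation (algebraMap K L (c i) * t ^ (i : ℕ)) ≤ 1 ↔
      ∃ a : A, algebraMap A K a = c i ^ p * algebraMap A K π ^ (i : ℕ) := by
    intro i
    rw [← mem_iff h, ← V.valuation_le_one_iff, ← pow_le_one_iff_of_nonneg zero_le' hp0.ne']
    have : V.valuation (algebraMap K L (c i) * t ^ (i : ℕ)) ^ p =
        V.valuation (algebraMap K L (c i ^ p * algebraMap A K π ^ (i : ℕ))) := by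
      rw [map_mul, map_pow, mul_pow, ← pow_mul, mul_comm (i : ℕ) p, pow_mul, hvt, map_mul, map_pow,
        map_pow, ← IsScalarTower.algebraMap_apply, map_mul, map_pow, map_pow]
    rw [this]
  rw [← V.valuation_le_one_iff]
  constructor
  · intro hx i
    exact (key i).mp (mfB h hπ p t hvt hp0 c 1 hx i)
  · intro hx
    exact Valuation.map_sum_le _ (fun i _ => (key i).mpr (hx i))

end perV



section caseB
variable (p : ℕ) (hp : p.Prime) [CharP K p] (π : A) (hπ : maximalIdeal A = Ideal.span {π})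
  (ξ : K) (z : L) (hz : z ^ p - z = algebraMap K L ξ)
  (hgen : IntermediateField.adjoin K {z} = ⊤)
include hp hπ hz hgen

theorem caseB (n : ℕ) (a : Aˣ) (hn : 0 < n) (hpn : ¬ p ∣ n)
    (hξ : ξ * algebraMap A K π ^ n = algebraMap A K a) :
    EtRam.IsTotallyRamified A (algebraMap A L) ∧ Module.finrank K L = p := by
  classical
  obtain ⟨c, d, hcd⟩ := exists_cd p n hp hpn
  obtain ⟨hfd, hle⟩ := finrank_le p hp.two_le ξ z hz hgen
  have hp0 : 0 < p := hp.pos
  set t : L := z ^ c * algebraMap A L π ^ d with ht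
  have hvt : ∀ V : ValuationSubring L, EtRam.Dominates A (algebraMap A L) V →
      V.valuation t ^ p = V.valuation (algebraMap A L π) := by
    intro V h
    have hγ0 := val_pi_pos h (inj_AL (A := A) K L) hπ
    have hγ1 := val_pi_lt_one h hπ
    have h1 : V.valuation (algebraMap K L ξ) * V.valuation (algebraMap A L π) ^ n = 1 := by
      rw [← map_pow, ← map_mul, IsScalarTower.algebraMap_apply A K L, ← map_pow, ← map_mul, hξ,
        ← IsScalarTower.algebraMap_apply]
      exact val_unit h a.isUnit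
    have hξ1 : 1 < V.valuation (algebraMap K L ξ) := by
      by_contra hle'
      push Not at hle'
      have : V.valuation (algebraMap K L ξ) * V.valuation (algebraMap A L π) ^ n < 1 :=
        calc _ ≤ 1 * V.valuation (algebraMap A L π) ^ n := mul_le_mul_left hle' _
          _ = V.valuation (algebraMap A L π) ^ n := one_mul _
          _ < 1 := pow_lt_one₀ zero_le' hγ1 hn.ne'
      rw [h1] at this; exact lt_irrefl _ this
    have hz1 : 1 < V.valuation z := by
      by_contra hle'
      push Not at hle'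
      have : V.valuation (z ^ p - z) ≤ 1 :=
        le_trans (Valuation.map_sub _ _ _)
          (max_le (by rw [map_pow]; exact pow_le_one₀ zero_le' hle') hle')
      rw [hz] at this
      exact absurd this (not_le.mpr hξ1)
    have h2 : V.valuation z < V.valuation (z ^ p) := by
      rw [map_pow]
      calc V.valuation z = V.valuation z ^ 1 := (pow_one _).symm
        _ < _ := pow_lt_pow_right₀ hz1 hp.one_lt
    have h3 := Valuation.map_sub_eq_of_lt_left V.valuation h2
    rw [hz, map_pow] at h3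
    rw [h3] at h1
    have h4 : V.valuation t ^ p =
        (V.valuation z ^ p * V.valuation (algebraMap A L π) ^ n) ^ c *
          V.valuation (algebraMap A L π) := by
      rw [ht, map_mul, map_pow, map_pow, mul_pow, ← pow_mul, ← pow_mul, mul_comm d p, ← hcd,
        mul_pow, ← pow_mul, ← pow_mul, pow_succ, mul_comm n c, mul_comm p c, mul_assoc]
    rw [h4, h1, one_pow, one_mul]
  obtain ⟨V₀, h₀⟩ := exists_dominating (A := A) (L := L)
  have ht0 : t ≠ 0 := by
    intro h0
    have := hvt V₀ h₀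
    rw [h0, map_zero, zero_pow hp.ne_zero] at this
    exact (val_pi_pos h₀ (inj_AL (A := A) K L) hπ).ne this
  have hindep : ∀ c : Fin p → K,
      ∑ i : Fin p, algebraMap K L (c i) * t ^ (i : ℕ) = 0 → ∀ i, c i = 0 := by
    intro c hc i
    have := mfB h₀ hπ p t (hvt V₀ h₀) hp0 c 0 (by rw [hc, map_zero]) i
    have h1 := le_antisymm this zero_le'
    rw [Valuation.zero_iff, mul_eq_zero] at h1
    rcases h1 with h1 | h1
    · exact (map_eq_zero_iff _ (algebraMap K L).injective).mp h1
    · exact absurd (eq_zero_of_pow_eq_zero h1) ht0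
  obtain ⟨hfr, hrepr⟩ := exists_repr p hle t hindep
  refine ⟨⟨⟨V₀, h₀⟩, ?_, ?_⟩, hfr⟩
  · intro V V' h h'
    ext x
    obtain ⟨c, rfl⟩ := hrepr x
    rw [memB h hπ p t (hvt V h) hp0 c, memB h' hπ p t (hvt V' h') hp0 c]
  · intro V h w
    obtain ⟨x, rfl⟩ := residue_surjective w
    obtain ⟨c, hc⟩ := hrepr (x : L)
    have hxle : V.valuation (x : L) ≤ 1 := (V.valuation_le_one_iff _).mpr x.2
    rw [hc] at hxle
    have hall := mfB h hπ p t (hvt V h) hp0 c 1 hxle
    have h0 := hall ⟨0, hp0⟩
    simp only [pow_zero, mul_one] at h0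
    obtain ⟨a0, ha0⟩ := (mem_iff h _).mp ((V.valuation_le_one_iff _).mp h0)
    refine ⟨a0, ?_⟩
    show residue V _ = residue V x
    rw [← sub_eq_zero, ← map_sub, residue_eq_zero_iff, ValuationSubring.valuation_lt_one_iff]
    have h1 : (((RingHom.codRestrict (algebraMap A L) V h.1 a0) - x : V) : L) =
        - ∑ i ∈ (Finset.univ : Finset (Fin p)).erase ⟨0, hp0⟩,
          algebraMap K L (c i) * t ^ (i : ℕ) := by
      have h2 := Finset.add_sum_erase (Finset.univ : Finset (Fin p))
        (fun i => algebraMap K L (c i) * t ^ (i : ℕ)) (Finset.mem_univ ⟨0, hp0⟩)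
      simp only [pow_zero, mul_one] at h2
      have h3 : (((RingHom.codRestrict (algebraMap A L) V h.1 a0) - x : V) : L) =
          algebraMap A L a0 - (x : L) := rfl
      rw [h3, hc, ← h2, IsScalarTower.algebraMap_apply A K L, ha0]
      ring
    rw [h1, Valuation.map_neg]
    apply Valuation.map_sum_lt _ one_ne_zero
    intro i hi
    have hi0 : i ≠ ⟨0, hp0⟩ := Finset.ne_of_mem_erase hi
    refine lt_of_le_of_ne (hall i) ?_
    intro heq
    by_cases hci : c i = 0
    · rw [hci, map_zero, zero_mul, map_zero] at heq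
      exact zero_ne_one heq
    have h5 : V.valuation (algebraMap K L (c i) * t ^ (i : ℕ)) =
        V.valuation (algebraMap K L 1 * t ^ 0) := by
      rw [heq, pow_zero, map_one, mul_one, map_one]
    have := distinctB h hπ p t (hvt V h) i 0 i.2 hp0 (c i) 1 hci one_ne_zero h5
    exact hi0 (Fin.ext this)

end caseB

end Groth.Agent.Lib.Helper93.ASRamG
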