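import Mathlib
import Groth.Agent.Lib.Helper93.ASRamG

namespace Groth.Agent.Lib.Helper93.ASRamH
open IsLocalRing Polynomial Groth.Agent.Lib.Helper93.ASRamA Groth.Agent.Lib.Helper93.ASRamB
  Groth.Agent.Lib.Helper93.ASRamC Groth.Agent.Lib.Helper93.ASRamD Groth.Agent.Lib.Helper93.ASRamE
  Groth.Agent.Lib.Helper93.ASRamF Groth.Agent.Lib.Helper93.ASRamG

universe u
variable {A K L : Type u} [CommRing A] [IsDomain A] [IsDiscreteValuationRing A] [Field K]
  [Algebra A K] [IsFractionRing A K] [Field L] [Algebra K L] [Algebra A L] [IsScalarTower A K L]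

/-- the four cases -/
def Cases (A K L : Type u) [CommRing A] [IsDomain A] [IsDiscreteValuationRing A] [Field K]
    [Field L] [Algebra K L] [Algebra A L] (p : ℕ) : Prop :=
  Module.finrank K L = 1 ∨
    (EtRam.IsUnramifiedExt A (algebraMap A L) ∧ Module.finrank K L = p) ∨
    (EtRam.IsTotallyRamified A (algebraMap A L) ∧ Module.finrank K L = p) ∨ Case4 A L p

section red
variable (p : ℕ) (hp : p.Prime) [CharP K p] (π : A) (hπ : maximalIdeal A = Ideal.span {π})
include hp hπ

theorem all_cases (n : ℕ) : ∀ (ξ : K) (z : L), z ^ p - z = algebraMap K L ξ →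
    IntermediateField.adjoin K {z} = ⊤ →
    (∃ a : A, ξ * algebraMap A K π ^ n = algebraMap A K a) → Cases A K L p := by
  haveI := Fact.mk hp
  have hirr := (IsDiscreteValuationRing.irreducible_iff_uniformizer π).mpr hπ
  have hϖ0 : algebraMap A K π ≠ 0 := by
    rw [Ne, map_eq_zero_iff _ (IsFractionRing.injective A K)]
    exact hirr.ne_zero
  induction n with
  | zero =>
    intro ξ z hz hgen ⟨a, ha⟩
    rw [pow_zero, mul_one] at ha
    rcases caseA p hp π hπ ξ z hz hgen a ha.symm with h1 | h1
    · exact Or.inl h1
    · exact Or.inr (Or.inl h1)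
  | succ n ih =>
    intro ξ z hz hgen ⟨a, ha⟩
    by_cases ham : a ∈ maximalIdeal A
    · rw [hπ, Ideal.mem_span_singleton] at ham
      obtain ⟨a', rfl⟩ := ham
      refine ih ξ z hz hgen ⟨a', ?_⟩
      apply mul_right_cancel₀ hϖ0
      rw [mul_assoc, ← pow_succ, ha, map_mul, mul_comm]
    · have hau : IsUnit a := by
        by_contra hnu
        exact ham hnu
      obtain ⟨u, rfl⟩ := hau
      by_cases hpn : p ∣ n + 1
      · by_cases hres : ∀ r : A, residue A (u : A) ≠ residue A r ^ p
        · exact Or.inr (Or.inr (Or.inr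
            (caseC p hp π hπ ξ z hz hgen (n + 1) u (Nat.succ_pos n) hpn hres ha).1))
        · push Not at hres
          obtain ⟨r, hr⟩ := hres
          obtain ⟨m, hm⟩ := hpn
          have hm1 : 1 ≤ m := by
            rcases Nat.eq_zero_or_pos m with h0 | h0
            · rw [h0, mul_zero] at hm; omega
            · exact h0
          have hp2 := hp.two_le
          have hmn : m ≤ n := by nlinarith
          obtain ⟨k, rfl⟩ := Nat.exists_eq_add_of_le hmn
          have hpm : p * m = m + k + 1 := hm.symm
          -- a = r^p + π a₁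
          have h1 : (u : A) - r ^ p ∈ maximalIdeal A := by
            rw [← residue_eq_zero_iff, map_sub, map_pow, hr, sub_self]
          rw [hπ, Ideal.mem_span_singleton] at h1
          obtain ⟨a₁, ha₁⟩ := h1
          set ϖ := algebraMap A K π with hϖ
          set b : K := algebraMap A K r / ϖ ^ m with hb
          have hbm : b * ϖ ^ m = algebraMap A K r := div_mul_cancel₀ _ (pow_ne_zero m hϖ0)
          have key : ϖ ^ (m + k + 1) = (ϖ ^ m) ^ p := by rw [← pow_mul, mul_comm m p, hpm]
          have t2 : b ^ p * ϖ ^ (m + k + 1) = algebraMap A K (r ^ p) := by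
            rw [key, ← mul_pow, hbm, map_pow]
          haveI : CharP L p := charP_of_injective_algebraMap (algebraMap K L).injective p
          refine ih (ξ - b ^ p + b) (z - algebraMap K L b) ?_ ?_ ⟨a₁ + r * π ^ k, ?_⟩
          · rw [sub_pow_char, map_add, map_sub, map_pow, ← hz]
            ring
          · rw [eq_top_iff, ← hgen, IntermediateField.adjoin_le_iff, Set.singleton_subset_iff]
            have h1 := add_mem (IntermediateField.mem_adjoin_simple_self K (z - algebraMap K L b))
              (IntermediateField.algebraMap_mem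
                (IntermediateField.adjoin K {z - algebraMap K L b}) b)
            rwa [sub_add_cancel] at h1
          · apply mul_right_cancel₀ hϖ0
            have e1 : (ξ - b ^ p + b) * ϖ ^ (m + k) * ϖ =
                ξ * ϖ ^ (m + k + 1) - b ^ p * ϖ ^ (m + k + 1) + (b * ϖ ^ m) * ϖ ^ k * ϖ := by
              ring
            have e2 : algebraMap A K (u : A) = algebraMap A K (r ^ p) + ϖ * algebraMap A K a₁ := by
              rw [hϖ, ← map_mul, ← map_add, ← ha₁]
              congr 1
              ring
            rw [e1, ha, t2, hbm, e2]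
            simp only [map_add, map_mul, map_pow, ← hϖ]
            ring
      · exact Or.inr (Or.inr (Or.inl
          (caseB p hp π hπ ξ z hz hgen (n + 1) u (Nat.succ_pos n) hpn ha)))

end red



section galois
variable (p : ℕ) (hp : p.Prime) [CharP K p]
  (ξ : K) (z : L) (hz : z ^ p - z = algebraMap K L ξ)
  (hgen : IntermediateField.adjoin K {z} = ⊤)
include hp hz hgen

theorem isGalois : IsGalois K L := by
  classical
  haveI := Fact.mk hp
  haveI : CharP L p := charP_of_injective_algebraMap (algebraMap K L).injective p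
  set f : K[X] := X ^ p - X - C ξ with hf
  have hfL : f.map (algebraMap K L) = X ^ p - X - C (algebraMap K L ξ) := by
    rw [hf, Polynomial.map_sub, Polynomial.map_sub, Polynomial.map_pow, map_X, map_C]
  have hroots : ∀ j : ℕ, (f.map (algebraMap K L)).IsRoot (z + j) := by
    intro j
    rw [hfL, IsRoot, eval_sub, eval_sub, eval_pow, eval_X, eval_C, add_pow_char,
      cast_pow_eq (F := L) p j, ← hz]
    ring
  set Z : Finset L := (Finset.range p).image (fun j : ℕ => z + (j : L)) with hZ
  have hZcard : Z.card = p := by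
    rw [hZ, Finset.card_image_of_injOn, Finset.card_range]
    intro i hi j hj hij
    simp only [Finset.coe_range, Set.mem_Iio] at hi hj
    have h2 : (i : L) = j := add_left_cancel hij
    have h3 := (CharP.natCast_eq_natCast L p).mp h2
    exact Nat.ModEq.eq_of_lt_of_lt h3 hi hj
  have hf0 : f.map (algebraMap K L) ≠ 0 := by rw [hfL]; exact (monic_AS p _).ne_zero
  have hsub : Z.val ⊆ (f.map (algebraMap K L)).roots := by
    intro x hx
    rw [Finset.mem_val, hZ, Finset.mem_image] at hx
    obtain ⟨j, -, rfl⟩ := hx
    rw [mem_roots hf0]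
    exact hroots j
  have hle : Z.val ≤ (f.map (algebraMap K L)).roots := (Multiset.le_iff_subset Z.nodup).mpr hsub
  have hcard : Multiset.card (f.map (algebraMap K L)).roots = (f.map (algebraMap K L)).natDegree := by
    apply le_antisymm (card_roots' _)
    have hdeg : (f.map (algebraMap K L)).natDegree = p := by rw [hfL, natDegree_AS]
    rw [hdeg]
    calc p = Z.card := hZcard.symm
      _ = Multiset.card Z.val := rfl
      _ ≤ _ := Multiset.card_le_card hle
  have hfK0 : f ≠ 0 := (monic_AS p ξ).ne_zero
  haveI : f.IsSplittingField K L := by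
    refine ⟨splits_iff_card_roots.mpr hcard, ?_⟩
    rw [eq_top_iff, ← adjoin_eq_top p hp ξ z hz hgen]
    apply Algebra.adjoin_mono
    rw [Set.singleton_subset_iff, mem_rootSet]
    refine ⟨hfK0, ?_⟩
    rw [hf]
    simp only [map_sub, map_pow, aeval_X, aeval_C]
    rw [hz, sub_self]
  exact IsGalois.of_separable_splitting_field (separable_AS p ξ)

end galois



theorem main (p : ℕ) (hp : p.Prime) (A K L : Type u) [CommRing A] [IsDomain A]
    [IsDiscreteValuationRing A] [Field K] [Algebra A K] [IsFractionRing A K] [Field L] [Algebra K L] [Algebra A L]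
    [IsScalarTower A K L] [CharP K p] (π : A) (hπ : IsLocalRing.maximalIdeal A = Ideal.span {π})
    (ξ : K) (z : L) (hz : z ^ p - z = algebraMap K L ξ) (hgen : IntermediateField.adjoin K {z} = ⊤) :
    let g : A →+* L := algebraMap A L
    let case1 : Prop := Module.finrank K L = 1
    let case2 : Prop := EtRam.IsUnramifiedExt A g ∧ Module.finrank K L = p
    let case3 : Prop := EtRam.IsTotallyRamified A g ∧ Module.finrank K L = p
    let case4 : Prop := (∃ V : ValuationSubring L, EtRam.Dominates A g V) ∧
      (∀ V V' : ValuationSubring L, EtRam.Dominates A g V → EtRam.Dominates A g V' → V = V') ∧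
      ∀ (V : ValuationSubring L) (h : EtRam.Dominates A g V),
        letI : Algebra A V := (RingHom.codRestrict g V h.1).toAlgebra
        ∀ [IsLocalHom (algebraMap A V)],
          EtRam.IsWeaklyUnramified A V ∧
            IsPurelyInseparable (IsLocalRing.ResidueField A) (IsLocalRing.ResidueField V) ∧
            Module.finrank (IsLocalRing.ResidueField A) (IsLocalRing.ResidueField V) = p
    IsGalois K L ∧ (case1 ∨ case2 ∨ case3 ∨ case4) ∧
      ((∃ a : A, algebraMap A K a = ξ) → case1 ∨ case2) ∧
      (∀ (n : ℕ) (a : Aˣ), 0 < n → ¬ p ∣ n → ξ * algebraMap A K π ^ n = algebraMap A K a → case3) ∧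
      (∀ (n : ℕ) (a : A), 0 < n → p ∣ n → (∀ r : A, IsLocalRing.residue A a ≠ IsLocalRing.residue A r ^ p) →
          ξ * algebraMap A K π ^ n = algebraMap A K a → case4) := by
  intro g case1 case2 case3 case4
  refine ⟨isGalois p hp ξ z hz hgen, ?_, ?_, ?_, ?_⟩
  · obtain ⟨n, a, ha⟩ := exists_mul_pow hπ ξ
    exact all_cases p hp π hπ n ξ z hz hgen ⟨a, ha⟩
  · rintro ⟨a, ha⟩
    exact caseA p hp π hπ ξ z hz hgen a ha
  · intro n a hn hpn hξ
    exact caseB p hp π hπ ξ z hz hgen n a hn hpn hξ
  · intro n a hn hpn hres hξ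
    exact (caseC p hp π hπ ξ z hz hgen n a hn hpn hres hξ).1

end Groth.Agent.Lib.Helper93.ASRamH
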