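import Mathlib
import Groth.Agent.Lib.Helper93.QGorFlat2
import Groth.Agent.Lib.Helper2.LocalFlat3
/-!
# Lifting regular sequences in flat deformations over an Artinian local base

For a local ring `A` with nilpotent maximal ideal `m`, an `A`-algebra `B` and a `B`-module `M` flat
over `A`: a sequence in `B` that is weakly regular on `M / m M` is weakly regular on `M`, and the
quotient of `M` by it is flat over `A` (`lift_weaklyRegular`).
-/

set_option autoImplicit false
set_option linter.unusedSectionVars false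
set_option linter.style.haveILetI false
universe u
open TensorProduct

namespace Groth.Agent.Lib.Helper93.ArtinLift
open Groth.Agent.Lib.Helper93.QGorFlat Groth.Agent.Lib.Helper93.QGorFlat2

section swap
variable {R : Type u} [CommRing R] (M : Type u) [AddCommGroup M] [Module R M]
open Pointwise

/-- `(M/xM)/𝔟(M/xM) ≃ (M/𝔟M)/x(M/𝔟M)`. -/
noncomputable def quotSwap (𝔟 : Ideal R) (x : R) :
    ((QuotSMulTop x M) ⧸ (𝔟 • (⊤ : Submodule R (QuotSMulTop x M)))) ≃ₗ[R]
      QuotSMulTop x (M ⧸ (𝔟 • (⊤ : Submodule R M))) :=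
  have h1 : (𝔟 • (⊤ : Submodule R (QuotSMulTop x M))) =
      (𝔟 • (⊤ : Submodule R M)).map (x • (⊤ : Submodule R M)).mkQ := by
    rw [Submodule.map_smul'', Submodule.map_top, Submodule.range_mkQ]
  have h2 : (x • (⊤ : Submodule R (M ⧸ (𝔟 • (⊤ : Submodule R M))))) =
      (x • (⊤ : Submodule R M)).map (𝔟 • (⊤ : Submodule R M)).mkQ := by
    rw [Submodule.map_pointwise_smul, Submodule.map_top, Submodule.range_mkQ]
  (Submodule.quotEquivOfEq _ _ h1) ≪≫ₗ
    (Submodule.quotientQuotientEquivQuotientSup (x • (⊤ : Submodule R M))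
      (𝔟 • (⊤ : Submodule R M))) ≪≫ₗ
    (Submodule.quotEquivOfEq _ _ (sup_comm _ _)) ≪≫ₗ
    (Submodule.quotientQuotientEquivQuotientSup (𝔟 • (⊤ : Submodule R M))
      (x • (⊤ : Submodule R M))).symm ≪≫ₗ
    (Submodule.quotEquivOfEq _ _ h2).symm

end swap

end Groth.Agent.Lib.Helper93.ArtinLift

namespace Groth.Agent.Lib.Helper93.ArtinLift
open Groth.Agent.Lib.Helper93.QGorFlat Groth.Agent.Lib.Helper93.QGorFlat2

variable {A B : Type u} [CommRing A] [CommRing B] [Algebra A B]

section lift
variable [IsLocalRing A] [IsNoetherianRing A]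
open IsLocalRing Pointwise RingTheory.Sequence

/-- over a local ring with nilpotent maximal ideal, an `M/mM`-regular element is `M`-regular
(`M` flat). -/
theorem isSMulRegular_of_nilpotent (hnil : IsNilpotent (maximalIdeal A))
    (M : Type u) [AddCommGroup M] [Module B M] [Module A M] [IsScalarTower A B M] [Module.Flat A M]
    (x : B)
    (hx : IsSMulRegular (M ⧸ ((maximalIdeal A).map (algebraMap A B) • (⊤ : Submodule B M))) x) :
    IsSMulRegular M x := by
  obtain ⟨n, hn⟩ := hnil
  have h1 := isSMulRegular_quot_pow M x hx n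
  have hzero : ((maximalIdeal A).map (algebraMap A B)) ^ (n + 1) • (⊤ : Submodule B M) = ⊥ := by
    rw [← Ideal.map_pow, pow_succ, hn, Ideal.zero_eq_bot, Ideal.bot_mul, Ideal.map_bot,
      Submodule.bot_smul]
  rw [isSMulRegular_iff_right_eq_zero_of_smul]
  intro z hz
  have h2 : (Submodule.Quotient.mk z : M ⧸ (((maximalIdeal A).map (algebraMap A B)) ^ (n + 1) •
      (⊤ : Submodule B M))) = 0 := by
    apply h1
    simp only [smul_zero]
    rw [← Submodule.Quotient.mk_smul, hz, Submodule.Quotient.mk_zero]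
  rw [Submodule.Quotient.mk_eq_zero, hzero, Submodule.mem_bot] at h2
  exact h2

/-- over a local ring with nilpotent maximal ideal: `M` flat and `x` regular on `M/mM` imply
`M/xM` flat. -/
theorem flat_quotSMulTop_of_nilpotent (hnil : IsNilpotent (maximalIdeal A))
    (M : Type u) [AddCommGroup M] [Module B M] [Module A M] [IsScalarTower A B M] [Module.Flat A M]
    (x : B)
    (hx : IsSMulRegular (M ⧸ ((maximalIdeal A).map (algebraMap A B) • (⊤ : Submodule B M))) x) :
    Module.Flat A (QuotSMulTop x M) := by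
  let π : M →ₗ[B] QuotSMulTop x M := Submodule.mkQ _
  have hπ : Function.Surjective π := Submodule.mkQ_surjective _
  have hkill : ∀ s : QuotSMulTop x M ⊗[A] maximalIdeal A, x • s = 0 := by
    intro s
    induction s with
    | zero => simp
    | add a b ha hb => rw [smul_add, ha, hb, add_zero]
    | tmul n c =>
      rw [TensorProduct.smul_tmul']
      have : x • n = 0 := by
        obtain ⟨m, rfl⟩ := hπ n
        rw [← map_smul]
        exact (Submodule.Quotient.mk_eq_zero _).mpr
          (Submodule.smul_mem_pointwise_smul m x ⊤ Submodule.mem_top)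
      rw [this, zero_tmul]
  have hinj : Function.Injective
      (AlgebraTensorModule.lTensor B (QuotSMulTop x M) (maximalIdeal A).subtype) := by
    rw [injective_iff_map_eq_zero]
    intro t ht
    have hsurj : Function.Surjective (AlgebraTensorModule.rTensor A (maximalIdeal A) π) :=
      LinearMap.rTensor_surjective (maximalIdeal A) (g := π.restrictScalars A) hπ
    obtain ⟨t', rfl⟩ := hsurj t
    have hcomm : ∀ t' : M ⊗[A] maximalIdeal A,
        mu (B := B) (QuotSMulTop x M) _ (AlgebraTensorModule.rTensor A _ π t') =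
          π (mu (B := B) M _ t') := by
      intro t'
      induction t' with
      | zero => simp
      | add a b ha hb => simp only [map_add, ha, hb]
      | tmul m c => simp
    have h1 : π (mu (B := B) M _ t') = 0 := by
      rw [← hcomm]
      unfold mu
      rw [LinearMap.comp_apply, ht, map_zero]
    have h2 : mu (B := B) M _ t' ∈ x • (⊤ : Submodule B M) := (Submodule.Quotient.mk_eq_zero _).mp h1
    obtain ⟨w, -, hw⟩ := (Submodule.mem_smul_pointwise_iff_exists _ _ _).mp h2
    have h3 : x • w ∈ (maximalIdeal A).map (algebraMap A B) • (⊤ : Submodule B M) := by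
      rw [hw, ← range_mu]
      exact ⟨t', rfl⟩
    have h4 : w ∈ (maximalIdeal A).map (algebraMap A B) • (⊤ : Submodule B M) := by
      have h : (Submodule.Quotient.mk w :
          M ⧸ ((maximalIdeal A).map (algebraMap A B) • (⊤ : Submodule B M))) = 0 := by
        apply hx
        simp only [smul_zero]
        rw [← Submodule.Quotient.mk_smul, Submodule.Quotient.mk_eq_zero]
        exact h3
      exact (Submodule.Quotient.mk_eq_zero _).mp h
    rw [← range_mu] at h4
    obtain ⟨tw, rfl⟩ := h4
    have h5 : t' = x • tw := mu_injective (B := B) M _ (by rw [map_smul, hw])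
    rw [h5, map_smul, hkill]
  have hinj' : Function.Injective (LinearMap.lTensor (QuotSMulTop x M) (maximalIdeal A).subtype) :=
    hinj
  rw [LinearMap.lTensor_inj_iff_rTensor_inj] at hinj'
  letI : Field (A ⧸ maximalIdeal A) := Ideal.Quotient.field (maximalIdeal A)
  exact Groth.Agent.Lib.Helper2.flat_of_nilpotent (maximalIdeal A) hnil hinj' inferInstance

/-- lifting weakly regular sequences from the closed fibre, with flat quotient. -/
theorem lift_weaklyRegular (hnil : IsNilpotent (maximalIdeal A)) (rs : List B) :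
    ∀ (M : Type u) [AddCommGroup M] [Module B M] [Module A M] [IsScalarTower A B M]
      [Module.Flat A M],
      IsWeaklyRegular (M ⧸ ((maximalIdeal A).map (algebraMap A B) • (⊤ : Submodule B M))) rs →
      IsWeaklyRegular M rs ∧
        Module.Flat A (M ⧸ (Ideal.ofList rs • (⊤ : Submodule B M))) := by
  induction rs with
  | nil =>
    intro M _ _ _ _ _ _
    refine ⟨IsWeaklyRegular.nil _ _, ?_⟩
    have e : (M ⧸ (Ideal.ofList ([] : List B) • (⊤ : Submodule B M))) ≃ₗ[B] M :=
      Submodule.quotEquivOfEqBot _ (by rw [Ideal.ofList_nil, Submodule.bot_smul])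
    exact Module.Flat.of_linearEquiv (e.restrictScalars A)
  | cons x xs ih =>
    intro M _ _ _ _ _ h
    rw [isWeaklyRegular_cons_iff] at h
    obtain ⟨hx, hxs⟩ := h
    have hxM := isSMulRegular_of_nilpotent hnil M x hx
    haveI := flat_quotSMulTop_of_nilpotent hnil M x hx
    have hxs' : IsWeaklyRegular ((QuotSMulTop x M) ⧸ ((maximalIdeal A).map (algebraMap A B) •
        (⊤ : Submodule B (QuotSMulTop x M)))) xs :=
      ((quotSwap M ((maximalIdeal A).map (algebraMap A B)) x).isWeaklyRegular_congr xs).mpr hxs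
    obtain ⟨h1, h2⟩ := ih (QuotSMulTop x M) hxs'
    refine ⟨(isWeaklyRegular_cons_iff M x xs).mpr ⟨hxM, h1⟩, ?_⟩
    have e := Submodule.quotOfListConsSMulTopEquivQuotSMulTopInner M x xs
    exact Module.Flat.of_linearEquiv (e.restrictScalars A)

end lift

end Groth.Agent.Lib.Helper93.ArtinLift

namespace Groth.Agent.Lib.Helper93.ArtinLift
open Groth.Agent.Lib.Helper93.QGorFlat Groth.Agent.Lib.Helper93.QGorFlat2
open IsLocalRing Pointwise RingTheory.Sequence

/-- transfer of weak regularity from the quotient ring `A ⧸ 𝔪` (over itself) to the `A`-module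
`A ⧸ 𝔪 • ⊤`. -/
theorem isWeaklyRegular_quotient_ring_iff {A : Type u} [CommRing A] (𝔪 : Ideal A) (as : List A) :
    IsWeaklyRegular (A ⧸ 𝔪) (as.map (Ideal.Quotient.mk 𝔪)) ↔
      IsWeaklyRegular (A ⧸ (𝔪 • (⊤ : Submodule A A))) as := by
  have h0 : (𝔪 : Submodule A A) = 𝔪 • (⊤ : Submodule A A) := by
    rw [Ideal.smul_top_eq_map, Algebra.algebraMap_self, Ideal.map_id]; rfl
  let e : (A ⧸ 𝔪) ≃ₗ[A] (A ⧸ (𝔪 • (⊤ : Submodule A A))) := Submodule.quotEquivOfEq _ _ h0
  rw [← e.isWeaklyRegular_congr as]
  exact isWeaklyRegular_map_algebraMap_iff (R := A) (S := A ⧸ 𝔪) (M := A ⧸ 𝔪) as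

end Groth.Agent.Lib.Helper93.ArtinLift

namespace Groth.Agent.Lib.Helper93.ArtinLift
open Groth.Agent.Lib.Helper93.QGorFlat Groth.Agent.Lib.Helper93.QGorFlat2
open IsLocalRing Pointwise RingTheory.Sequence

theorem isNilpotent_maximalIdeal (C : Type u) [CommRing C] [IsLocalRing C] [IsArtinianRing C] :
    IsNilpotent (maximalIdeal C) := by
  have := IsArtinianRing.isNilpotent_jacobson_bot (R := C)
  rwa [IsLocalRing.jacobson_eq_maximalIdeal ⊥ bot_ne_top] at this

theorem ofList_ofFn {A : Type u} [CommRing A] {r : ℕ} (f : Fin r → A) :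
    Ideal.ofList (List.ofFn f) = Ideal.span (Set.range f) := by
  unfold Ideal.ofList
  congr 1
  ext x
  simp [List.mem_ofFn]

/-- nilpotent Nakayama for ideals. -/
theorem le_of_le_sup_mul {A : Type u} [CommRing A] (𝔪 𝔞 I : Ideal A) (hnil : IsNilpotent 𝔪)
    (h : I ≤ 𝔞 ⊔ 𝔪 * I) : I ≤ 𝔞 := by
  obtain ⟨n, hn⟩ := hnil
  have key : ∀ k : ℕ, I ≤ 𝔞 ⊔ 𝔪 ^ k * I := by
    intro k
    induction k with
    | zero => rw [pow_zero, one_mul]; exact le_sup_right
    | succ k ih =>
      calc I ≤ 𝔞 ⊔ 𝔪 * I := h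
        _ ≤ 𝔞 ⊔ 𝔪 * (𝔞 ⊔ 𝔪 ^ k * I) := sup_le_sup_left (Ideal.mul_mono_right ih) _
        _ ≤ 𝔞 ⊔ 𝔪 ^ (k + 1) * I := by
          rw [Ideal.mul_sup, ← mul_assoc, ← pow_succ']
          exact sup_le le_sup_left (sup_le (le_sup_of_le_left Ideal.mul_le_right) le_sup_right)
  have := key n
  rwa [hn, Ideal.zero_eq_bot, Ideal.bot_mul, sup_bot_eq] at this

end Groth.Agent.Lib.Helper93.ArtinLift
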