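import Mathlib
import Groth.Agent.Lib.Helper93.ArtinLift
import Groth.Agent.Lib.Helper93.QGorFlat3
import Groth.Prelude.Def_CAlg
/-!
# Ideals with flat quotient in flat deformations over an Artinian local base

`main56`: if `A` is flat over the Artinian local ring `C`, `A / I` is flat over `C` and the image of
`I` in `A / m A` is generated by a regular sequence, then `I` is generated by a regular sequence.
-/

set_option autoImplicit false
set_option linter.unusedSectionVars false
set_option linter.style.haveILetI false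
universe u
open TensorProduct

namespace Groth.Agent.Lib.Helper93.ArtinLift2
open Groth.Agent.Lib.Helper93.ArtinLift Groth.Agent.Lib.Helper93.QGorFlat2
open IsLocalRing Pointwise RingTheory.Sequence

/-- `I ∩ mA ⊆ (mA) I` when `A / I` is flat over `C`. -/
theorem mem_mul_of_flat_quotient (C : Type u) [CommRing C] (A : Type u) [CommRing A] [Algebra C A]
    (I : Ideal A) [Module.Flat C (A ⧸ I)] (𝔫 : Ideal C) (z : A) (hzI : z ∈ I)
    (hz : z ∈ 𝔫.map (algebraMap C A)) : z ∈ 𝔫.map (algebraMap C A) * I := by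
  have hz' : z ∈ 𝔫 • (⊤ : Submodule C A) := by
    rw [mem_smul_top_iff' (B := A)]
    rw [Ideal.smul_top_eq_map, Algebra.algebraMap_self, Ideal.map_id]
    exact hz
  have h1 := Groth.Agent.Lib.Helper93.QGorFlat3.mem_smul_top_of_flat_coker
    ((Submodule.subtype I).restrictScalars C) ((Ideal.Quotient.mkₐ C I).toLinearMap)
    (Submodule.subtype_injective _) (Ideal.Quotient.mkₐ_surjective C I) (by
      intro y
      constructor
      · intro hy
        exact ⟨⟨y, Ideal.Quotient.eq_zero_iff_mem.mp hy⟩, rfl⟩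
      · rintro ⟨w, rfl⟩
        exact Ideal.Quotient.eq_zero_iff_mem.mpr w.2) 𝔫 ⟨z, hzI⟩ hz'
  have h2 : ∀ w : I, w ∈ 𝔫 • (⊤ : Submodule C I) → (w : A) ∈ 𝔫.map (algebraMap C A) * I := by
    intro w hw
    refine Submodule.smul_induction_on hw ?_ ?_
    · intro c hc y _
      have : ((c • y : I) : A) = algebraMap C A c * (y : A) := by
        rw [← Algebra.smul_def]
        rfl
      rw [this]
      exact Ideal.mul_mem_mul (Ideal.mem_map_of_mem _ hc) y.2
    · intro y₁ y₂ h₁ h₂
      rw [Submodule.coe_add]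
      exact Ideal.add_mem _ h₁ h₂
  exact h2 ⟨z, hzI⟩ h1

end Groth.Agent.Lib.Helper93.ArtinLift2

namespace Groth.Agent.Lib.Helper93.ArtinLift2
open Groth.Agent.Lib.Helper93.ArtinLift Groth.Agent.Lib.Helper93.QGorFlat2
open IsLocalRing Pointwise RingTheory.Sequence

theorem main56 (C : Type u) [CommRing C]
    [IsLocalRing C] [IsArtinianRing C] (A : Type u) [CommRing A] [Algebra C A] [Module.Flat C A]
    (I : Ideal A) [Module.Flat C (A ⧸ I)] (r : ℕ) (𝔪 : Ideal A)
    (h𝔪 : 𝔪 = (IsLocalRing.maximalIdeal C).map (algebraMap C A))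
    (b : Fin r → A ⧸ 𝔪)
    (hb : RingTheory.Sequence.IsRegular (A ⧸ 𝔪) (List.ofFn b))
    (hI : I.map (Ideal.Quotient.mk 𝔪) = Ideal.span (Set.range b)) :
    ∃ a : Fin r → A, RingTheory.Sequence.IsRegular A (List.ofFn a) ∧ I = Ideal.span (Set.range a) := by
  classical
  have hnil := isNilpotent_maximalIdeal C
  have hnil' : IsNilpotent 𝔪 := by
    obtain ⟨n, hn⟩ := hnil
    refine ⟨n, ?_⟩
    rw [h𝔪, ← Ideal.map_pow, hn, Ideal.zero_eq_bot, Ideal.map_bot]
    rfl
  have hlift : ∀ i, ∃ a ∈ I, Ideal.Quotient.mk 𝔪 a = b i := by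
    intro i
    have : b i ∈ I.map (Ideal.Quotient.mk 𝔪) := by rw [hI]; exact Ideal.subset_span ⟨i, rfl⟩
    obtain ⟨a, ha, hab⟩ := (Ideal.mem_map_iff_of_surjective _ Ideal.Quotient.mk_surjective).mp this
    exact ⟨a, ha, hab⟩
  choose a haI hab using hlift
  have hmap : (List.ofFn a).map (Ideal.Quotient.mk 𝔪) = List.ofFn b := by
    rw [List.map_ofFn]
    congr 1
    funext i
    exact hab i
  refine ⟨a, ⟨?_, ?_⟩, ?_⟩
  · have hb' : IsWeaklyRegular (A ⧸ 𝔪) ((List.ofFn a).map (Ideal.Quotient.mk 𝔪)) := by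
      rw [hmap]; exact hb.toIsWeaklyRegular
    rw [isWeaklyRegular_quotient_ring_iff] at hb'
    subst h𝔪
    exact (lift_weaklyRegular (A := C) (B := A) hnil (List.ofFn a) A hb').1
  · intro htop
    apply hb.top_ne_smul
    have h1 : Ideal.ofList (List.ofFn a) = ⊤ := by
      have := htop.symm
      rwa [smul_eq_mul, Ideal.mul_top] at this
    have h2 : Ideal.ofList (List.ofFn b) = ⊤ := by
      rw [← hmap, ← Ideal.map_ofList, h1, Ideal.map_top]
    rw [h2, Submodule.top_smul]
  · apply le_antisymm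
    · apply le_of_le_sup_mul 𝔪 _ I hnil'
      intro y hy
      have h1 : Ideal.Quotient.mk 𝔪 y ∈ Ideal.span (Set.range b) := by
        rw [← hI]; exact Ideal.mem_map_of_mem _ hy
      obtain ⟨cbar, hc⟩ := (Ideal.mem_span_range_iff_exists_fun).mp h1
      choose c hcc using fun i => Ideal.Quotient.mk_surjective (cbar i)
      have hzI : y - ∑ i, c i * a i ∈ I :=
        Ideal.sub_mem _ hy (Ideal.sum_mem _ fun i _ => Ideal.mul_mem_left _ _ (haI i))
      have hz𝔪 : y - ∑ i, c i * a i ∈ 𝔪 := by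
        rw [← Ideal.Quotient.eq_zero_iff_mem, map_sub, map_sum, ← hc, sub_eq_zero]
        apply Finset.sum_congr rfl
        intro i _
        rw [map_mul, hcc, hab]
      have hz := mem_mul_of_flat_quotient C A I (maximalIdeal C) _ hzI (h𝔪 ▸ hz𝔪)
      rw [← h𝔪] at hz
      have : y = ∑ i, c i * a i + (y - ∑ i, c i * a i) := by ring
      rw [this]
      refine Ideal.add_mem _ (Ideal.mem_sup_left ?_) (Ideal.mem_sup_right hz)
      exact Ideal.sum_mem _ fun i _ => Ideal.mul_mem_left _ _ (Ideal.subset_span ⟨i, rfl⟩)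
    · rw [Ideal.span_le]
      rintro _ ⟨i, rfl⟩
      exact haI i

end Groth.Agent.Lib.Helper93.ArtinLift2
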