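import Mathlib
import Groth.Agent.Lib.Helper93.ArtinLift2
/-!
# Descending regular sequences with flat quotient to the closed fibre (Artinian local base)

For a local Noetherian algebra `B` over a local ring `C` with nilpotent maximal ideal, a finite
`B`-module `M`, and an `M`-regular sequence `rs` in the maximal ideal of `B` with `M / rs M` flat
over `C`: `M` is flat over `C` and `rs` is regular on the closed fibre `M / m_C M`.
Combined with `ArtinLift.lift_weaklyRegular` this gives lifting of regular sequences (with flat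
quotient) along small extensions `C' → C'/J`.
-/
set_option autoImplicit false
set_option linter.unusedSectionVars false
set_option linter.style.haveILetI false
universe u
open TensorProduct

namespace Groth.Agent.Lib.Helper93.ArtinLift3
open Groth.Agent.Lib.Helper93.ArtinLift Groth.Agent.Lib.Helper93.QGorFlat2
  Groth.Agent.Lib.Helper93.QGorFlat3
open IsLocalRing Pointwise RingTheory.Sequence

section L
variable {C B : Type u} [CommRing C] [CommRing B] [Algebra C B]
  [IsLocalRing C] [IsNoetherianRing C] [IsLocalRing B] [IsNoetherianRing B]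

/-- descending flatness along a regular element in the maximal ideal (Nakayama). -/
theorem flat_of_flat_quotSMulTop (hnil : IsNilpotent (maximalIdeal C))
    (M : Type u) [AddCommGroup M] [Module B M] [Module C M] [IsScalarTower C B M] [Module.Finite B M]
    (x : B) (hxm : x ∈ maximalIdeal B) (hx : IsSMulRegular M x)
    [Module.Flat C (QuotSMulTop x M)] : Module.Flat C M := by
  let π : M →ₗ[B] QuotSMulTop x M := Submodule.mkQ _
  have hπ : Function.Surjective π := Submodule.mkQ_surjective _
  let T : Submodule B (M ⊗[C] maximalIdeal C) := LinearMap.ker (mu (B := B) M (maximalIdeal C))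
  haveI : Module.Finite B (M ⊗[C] (maximalIdeal C)) := Groth.Agent.Lib.Helper62.finite_tensor_mixed
  have hTfg : T.FG := IsNoetherian.noetherian T
  have hmu : ∀ s : M ⊗[C] maximalIdeal C,
      mu (B := B) (QuotSMulTop x M) (maximalIdeal C)
        (AlgebraTensorModule.rTensor C (maximalIdeal C) π s) =
      π (mu (B := B) M (maximalIdeal C) s) := by
    intro s
    induction s with
    | zero => simp
    | add a b ha hb => simp only [map_add, ha, hb]
    | tmul m c => simp
  have hle : T ≤ (Ideal.span {x}) • T := by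
    intro t ht
    have ht0 : mu (B := B) M (maximalIdeal C) t = 0 := ht
    have h1 : AlgebraTensorModule.rTensor C (maximalIdeal C) π t = 0 := by
      apply mu_injective (B := B) (QuotSMulTop x M) (maximalIdeal C)
      rw [hmu, ht0, map_zero, map_zero]
    -- exactness of `M ⊗ m → M ⊗ m → M' ⊗ m`
    have hex : Function.Exact (LinearMap.rTensor (maximalIdeal C)
        ((LinearMap.lsmul B M x).restrictScalars C))
        (LinearMap.rTensor (maximalIdeal C) (π.restrictScalars C)) := by
      refine rTensor_exact (maximalIdeal C) (f := (LinearMap.lsmul B M x).restrictScalars C)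
        (g := π.restrictScalars C) ?_ hπ
      intro y
      constructor
      · intro hy
        obtain ⟨w, -, hw⟩ := (Submodule.mem_smul_pointwise_iff_exists _ _ _).mp
          ((Submodule.Quotient.mk_eq_zero _).mp hy)
        exact ⟨w, hw⟩
      · rintro ⟨w, rfl⟩
        exact (Submodule.Quotient.mk_eq_zero _).mpr
          (Submodule.smul_mem_pointwise_smul w x ⊤ Submodule.mem_top)
    obtain ⟨t', ht'⟩ := (hex t).mp h1
    have hxt : ∀ s : M ⊗[C] maximalIdeal C, LinearMap.rTensor (maximalIdeal C)
        ((LinearMap.lsmul B M x).restrictScalars C) s = x • s := by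
      intro s
      induction s with
      | zero => simp
      | add a b ha hb => rw [map_add, ha, hb, smul_add]
      | tmul m c => rw [LinearMap.rTensor_tmul, TensorProduct.smul_tmul']; rfl
    rw [hxt] at ht'
    have ht'T : t' ∈ T := by
      change mu (B := B) M (maximalIdeal C) t' = 0
      apply hx
      simp only [smul_zero]
      rw [← map_smul, ht', ht0]
    rw [← ht']
    exact Submodule.smul_mem_smul (Ideal.mem_span_singleton_self x) ht'T
  have hT : T = ⊥ := by
    apply Submodule.eq_bot_of_le_smul_of_le_jacobson_bot (Ideal.span {x}) T hTfg hle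
    rw [IsLocalRing.jacobson_eq_maximalIdeal ⊥ bot_ne_top, Ideal.span_le]
    intro y hy
    rw [Set.mem_singleton_iff.mp hy]
    exact hxm
  have hinj : Function.Injective (mu (B := B) M (maximalIdeal C)) := LinearMap.ker_eq_bot.mp hT
  have hinj1 : Function.Injective (AlgebraTensorModule.lTensor B M (maximalIdeal C).subtype) := by
    unfold mu at hinj
    rw [LinearMap.coe_comp] at hinj
    exact Function.Injective.of_comp hinj
  have hinj' : Function.Injective (LinearMap.lTensor M (maximalIdeal C).subtype) := hinj1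
  rw [LinearMap.lTensor_inj_iff_rTensor_inj] at hinj'
  letI : Field (C ⧸ maximalIdeal C) := Ideal.Quotient.field (maximalIdeal C)
  exact Groth.Agent.Lib.Helper2.flat_of_nilpotent (maximalIdeal C) hnil hinj' inferInstance

end L

end Groth.Agent.Lib.Helper93.ArtinLift3

namespace Groth.Agent.Lib.Helper93.ArtinLift3
open Groth.Agent.Lib.Helper93.ArtinLift Groth.Agent.Lib.Helper93.QGorFlat2
  Groth.Agent.Lib.Helper93.QGorFlat3
open IsLocalRing Pointwise RingTheory.Sequence

section L2
variable {C B : Type u} [CommRing C] [CommRing B] [Algebra C B]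
  [IsLocalRing C] [IsNoetherianRing C] [IsLocalRing B] [IsNoetherianRing B]

/-- a regular element with flat quotient stays regular on the closed fibre. -/
theorem isSMulRegular_fibre_of_flat_quotSMulTop
    (M : Type u) [AddCommGroup M] [Module B M] [Module C M] [IsScalarTower C B M]
    (x : B) (hx : IsSMulRegular M x) [Module.Flat C (QuotSMulTop x M)] :
    IsSMulRegular (M ⧸ ((maximalIdeal C).map (algebraMap C B) • (⊤ : Submodule B M))) x := by
  let i : M →ₗ[C] M := (LinearMap.lsmul B M x).restrictScalars C
  let p : M →ₗ[C] QuotSMulTop x M := (Submodule.mkQ (x • (⊤ : Submodule B M))).restrictScalars C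
  have hi : Function.Injective i := hx
  have hp : Function.Surjective p := Submodule.mkQ_surjective (x • (⊤ : Submodule B M))
  have hex : Function.Exact i p := by
    intro y
    constructor
    · intro hy
      obtain ⟨w, -, hw⟩ := (Submodule.mem_smul_pointwise_iff_exists _ _ _).mp
        ((Submodule.Quotient.mk_eq_zero _).mp hy)
      exact ⟨w, hw⟩
    · rintro ⟨w, rfl⟩
      exact (Submodule.Quotient.mk_eq_zero _).mpr
        (Submodule.smul_mem_pointwise_smul w x ⊤ Submodule.mem_top)
  have key : ∀ z : M, x • z ∈ (maximalIdeal C) • (⊤ : Submodule C M) →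
      z ∈ (maximalIdeal C) • (⊤ : Submodule C M) := fun z hz =>
    mem_smul_top_of_flat_coker (N' := M) (N := M) (N'' := QuotSMulTop x M) i p hi hp hex
      (maximalIdeal C) z hz
  rw [isSMulRegular_iff_right_eq_zero_of_smul]
  intro q hq
  obtain ⟨z, rfl⟩ := Submodule.Quotient.mk_surjective _ q
  rw [← Submodule.Quotient.mk_smul, Submodule.Quotient.mk_eq_zero, ← mem_smul_top_iff'] at hq
  rw [Submodule.Quotient.mk_eq_zero, ← mem_smul_top_iff']
  exact key z hq

/-- descending flatness and fibre-regularity along a regular sequence with flat quotient. -/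
theorem descend_weaklyRegular (hnil : IsNilpotent (maximalIdeal C)) (rs : List B) :
    ∀ (M : Type u) [AddCommGroup M] [Module B M] [Module C M] [IsScalarTower C B M]
      [Module.Finite B M],
      IsWeaklyRegular M rs → (∀ r ∈ rs, r ∈ maximalIdeal B) →
      Module.Flat C (M ⧸ (Ideal.ofList rs • (⊤ : Submodule B M))) →
      Module.Flat C M ∧
        IsWeaklyRegular (M ⧸ ((maximalIdeal C).map (algebraMap C B) • (⊤ : Submodule B M))) rs := by
  induction rs with
  | nil =>
    intro M _ _ _ _ _ _ _ hflat
    refine ⟨?_, IsWeaklyRegular.nil _ _⟩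
    have e : (M ⧸ (Ideal.ofList ([] : List B) • (⊤ : Submodule B M))) ≃ₗ[B] M :=
      Submodule.quotEquivOfEqBot _ (by rw [Ideal.ofList_nil, Submodule.bot_smul])
    exact Module.Flat.of_linearEquiv (e.restrictScalars C).symm
  | cons x xs ih =>
    intro M _ _ _ _ _ h hmem hflat
    rw [isWeaklyRegular_cons_iff] at h
    obtain ⟨hx, hxs⟩ := h
    have hxm : x ∈ maximalIdeal B := hmem x (List.mem_cons_self)
    have hmem' : ∀ r ∈ xs, r ∈ maximalIdeal B := fun r hr => hmem r (List.mem_cons_of_mem _ hr)
    have e := Submodule.quotOfListConsSMulTopEquivQuotSMulTopInner M x xs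
    haveI hflat' : Module.Flat C ((QuotSMulTop x M) ⧸
        (Ideal.ofList xs • (⊤ : Submodule B (QuotSMulTop x M)))) :=
      Module.Flat.of_linearEquiv (e.restrictScalars C).symm
    obtain ⟨h1, h2⟩ := ih (QuotSMulTop x M) hxs hmem' hflat'
    haveI := h1
    have hM : Module.Flat C M := flat_of_flat_quotSMulTop hnil M x hxm hx
    refine ⟨hM, ?_⟩
    rw [isWeaklyRegular_cons_iff]
    refine ⟨isSMulRegular_fibre_of_flat_quotSMulTop M x hx, ?_⟩
    exact ((quotSwap M ((maximalIdeal C).map (algebraMap C B)) x).isWeaklyRegular_congr xs).mp h2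

end L2

end Groth.Agent.Lib.Helper93.ArtinLift3

namespace Groth.Agent.Lib.Helper93.ArtinLift3
open Groth.Agent.Lib.Helper93.ArtinLift Groth.Agent.Lib.Helper93.QGorFlat2
  Groth.Agent.Lib.Helper93.QGorFlat3
open IsLocalRing Pointwise RingTheory.Sequence

theorem isNoetherianRing_of_nilpotent_ker {R S : Type u} [CommRing R] [CommRing S]
    [IsNoetherianRing S] (f : R →+* S) (hf : Function.Surjective f) (hfg : (RingHom.ker f).FG)
    (hn : IsNilpotent (RingHom.ker f)) : IsNoetherianRing R := by
  obtain ⟨n, hn⟩ := hn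
  apply IsNoetherianRing.of_prime
  intro P hP
  have hle : RingHom.ker f ≤ P := Ideal.IsPrime.le_of_pow_le (n := n) (hn ▸ bot_le)
  refine Ideal.fg_of_fg_map_of_fg_inf_ker_of_surjective (f := f)
    (IsNoetherian.noetherian _) ?_ hf
  rw [inf_eq_right.mpr hle]
  exact hfg

theorem isLocalRing_of_nilpotent {R : Type u} [CommRing R] (I : Ideal R) (hI : IsNilpotent I)
    [IsLocalRing (R ⧸ I)] : IsLocalRing R := by
  haveI : Nontrivial R := by
    refine ⟨⟨0, 1, fun h => ?_⟩⟩
    have : (0 : R ⧸ I) = 1 := by rw [← map_zero (Ideal.Quotient.mk I), h, map_one]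
    exact zero_ne_one this
  apply IsLocalRing.of_nonunits_add
  intro a b ha hb
  rw [mem_nonunits_iff, ← hI.isUnit_quotient_mk_iff] at ha hb ⊢
  rw [map_add]
  exact fun h => (IsLocalRing.isUnit_or_isUnit_of_isUnit_add h).elim ha hb

theorem flat_congr_quotient {C A : Type u} [CommRing C] [CommRing A] [Algebra C A]
    (I I' : Submodule A A) (h : I = I') (hf : Module.Flat C (A ⧸ I)) : Module.Flat C (A ⧸ I') := by
  subst h; exact hf

end Groth.Agent.Lib.Helper93.ArtinLift3

namespace Groth.Agent.Lib.Helper93.ArtinLift3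
open Groth.Agent.Lib.Helper93.ArtinLift Groth.Agent.Lib.Helper93.QGorFlat2
  Groth.Agent.Lib.Helper93.QGorFlat3
open IsLocalRing Pointwise RingTheory.Sequence

theorem main54 (C' : Type u) [CommRing C'] [IsLocalRing C'] [IsArtinianRing C'] (J : Ideal C')
    (hJne : J ≠ ⊤) (A' : Type u) [CommRing A'] [Algebra C' A'] [Module.Flat C' A']
    [IsNoetherianRing (A' ⧸ (IsLocalRing.maximalIdeal C').map (algebraMap C' A'))]
    [IsLocalRing (A' ⧸ (IsLocalRing.maximalIdeal C').map (algebraMap C' A'))]
    (r : ℕ) (a' : Fin r → A')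
    (hreg : RingTheory.Sequence.IsRegular (A' ⧸ J.map (algebraMap C' A'))
      (List.ofFn (fun i => Ideal.Quotient.mk (J.map (algebraMap C' A')) (a' i))))
    [Module.Flat (C' ⧸ J) ((A' ⧸ J.map (algebraMap C' A')) ⧸
      Ideal.span (Set.range (fun i => Ideal.Quotient.mk (J.map (algebraMap C' A')) (a' i))))] :
    RingTheory.Sequence.IsRegular A' (List.ofFn a') ∧
      Module.Flat C' (A' ⧸ Ideal.span (Set.range a')) := by
  classical
  have hnil := isNilpotent_maximalIdeal C'
  have hnil' : IsNilpotent ((maximalIdeal C').map (algebraMap C' A')) := by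
    obtain ⟨n, hn⟩ := hnil
    refine ⟨n, ?_⟩
    rw [← Ideal.map_pow, hn, Ideal.zero_eq_bot, Ideal.map_bot]
    rfl
  -- `A'` is local Noetherian
  haveI hA'loc : IsLocalRing A' := isLocalRing_of_nilpotent _ hnil'
  haveI hA'noeth : IsNoetherianRing A' := by
    refine isNoetherianRing_of_nilpotent_ker
      (Ideal.Quotient.mk ((maximalIdeal C').map (algebraMap C' A'))) Ideal.Quotient.mk_surjective
      ?_ ?_
    · rw [Ideal.mk_ker]
      exact Ideal.FG.map (IsNoetherian.noetherian _) _
    · rw [Ideal.mk_ker]; exact hnil'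
  -- `C = C'/J` is local Artinian
  have hJm : J ≤ maximalIdeal C' := IsLocalRing.le_maximalIdeal hJne
  haveI : Nontrivial (C' ⧸ J) := Ideal.Quotient.nontrivial_iff.mpr hJne
  haveI hCloc : IsLocalRing (C' ⧸ J) :=
    IsLocalRing.of_surjective' (Ideal.Quotient.mk J) Ideal.Quotient.mk_surjective
  have hmC : maximalIdeal (C' ⧸ J) = (maximalIdeal C').map (Ideal.Quotient.mk J) := by
    have h1 : (maximalIdeal (C' ⧸ J)).comap (Ideal.Quotient.mk J) = maximalIdeal C' := by
      apply IsLocalRing.eq_maximalIdeal
      exact Ideal.comap_isMaximal_of_surjective _ Ideal.Quotient.mk_surjective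
    rw [← h1, Ideal.map_comap_of_surjective _ Ideal.Quotient.mk_surjective]
  have hnilC : IsNilpotent (maximalIdeal (C' ⧸ J)) := isNilpotent_maximalIdeal _
  -- `A = A'/JA'` is local Noetherian
  have hJA'le : J.map (algebraMap C' A') ≤ (maximalIdeal C').map (algebraMap C' A') :=
    Ideal.map_mono hJm
  haveI : Nontrivial (A' ⧸ J.map (algebraMap C' A')) := by
    apply Ideal.Quotient.nontrivial_iff.mpr
    intro htop
    have : (maximalIdeal C').map (algebraMap C' A') = ⊤ := top_le_iff.mp (htop ▸ hJA'le)
    have h1 : (1 : A' ⧸ (maximalIdeal C').map (algebraMap C' A')) = 0 := by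
      rw [← map_one (Ideal.Quotient.mk _), Ideal.Quotient.eq_zero_iff_mem, this]; trivial
    exact one_ne_zero h1
  haveI hAloc : IsLocalRing (A' ⧸ J.map (algebraMap C' A')) :=
    IsLocalRing.of_surjective' (Ideal.Quotient.mk _) Ideal.Quotient.mk_surjective
  -- step 2: descend to the closed fibre of `A`
  have hrs : (List.ofFn (fun i => Ideal.Quotient.mk (J.map (algebraMap C' A')) (a' i))) =
      (List.ofFn a').map (Ideal.Quotient.mk (J.map (algebraMap C' A'))) := by
    rw [List.map_ofFn]; rfl
  have hmem : ∀ x ∈ (List.ofFn (fun i => Ideal.Quotient.mk (J.map (algebraMap C' A')) (a' i))),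
      x ∈ maximalIdeal (A' ⧸ J.map (algebraMap C' A')) := by
    intro x hx
    have hne : Ideal.ofList (List.ofFn (fun i => Ideal.Quotient.mk (J.map (algebraMap C' A')) (a' i)))
        ≠ ⊤ := by
      intro htop
      apply hreg.top_ne_smul
      rw [htop, Submodule.top_smul]
    exact IsLocalRing.le_maximalIdeal hne (Ideal.subset_span hx)
  have hflat : Module.Flat (C' ⧸ J) ((A' ⧸ J.map (algebraMap C' A')) ⧸
      (Ideal.ofList (List.ofFn (fun i => Ideal.Quotient.mk (J.map (algebraMap C' A')) (a' i))) •
        (⊤ : Submodule (A' ⧸ J.map (algebraMap C' A')) (A' ⧸ J.map (algebraMap C' A'))))) := by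
    refine flat_congr_quotient (C := C' ⧸ J) (A := A' ⧸ J.map (algebraMap C' A'))
      (Ideal.span (Set.range (fun i => Ideal.Quotient.mk (J.map (algebraMap C' A')) (a' i)))) _ ?_
      inferInstance
    rw [ofList_ofFn, smul_eq_mul, Ideal.mul_top]
  obtain ⟨hAflat, hfib⟩ := descend_weaklyRegular (C := C' ⧸ J) (B := A' ⧸ J.map (algebraMap C' A'))
    hnilC _ (A' ⧸ J.map (algebraMap C' A')) hreg.toIsWeaklyRegular hmem hflat
  -- step 3: transfer to the closed fibre of `A'`
  rw [hrs] at hfib
  have hfib' := (isWeaklyRegular_map_algebraMap_iff (R := A') (A' ⧸ J.map (algebraMap C' A'))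
    ((A' ⧸ J.map (algebraMap C' A')) ⧸ ((maximalIdeal (C' ⧸ J)).map
      (algebraMap (C' ⧸ J) (A' ⧸ J.map (algebraMap C' A'))) •
        (⊤ : Submodule (A' ⧸ J.map (algebraMap C' A')) (A' ⧸ J.map (algebraMap C' A')))))
    (List.ofFn a')).mp hfib
  have hI : (maximalIdeal (C' ⧸ J)).map (algebraMap (C' ⧸ J) (A' ⧸ J.map (algebraMap C' A'))) =
      ((maximalIdeal C').map (algebraMap C' A')).map
        (Ideal.Quotient.mk (J.map (algebraMap C' A'))) := by
    rw [hmC, Ideal.map_map, Ideal.map_map]
    congr 1
  let f : A' →ₗ[A'] ((A' ⧸ J.map (algebraMap C' A')) ⧸ ((maximalIdeal (C' ⧸ J)).map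
      (algebraMap (C' ⧸ J) (A' ⧸ J.map (algebraMap C' A'))) •
        (⊤ : Submodule (A' ⧸ J.map (algebraMap C' A')) (A' ⧸ J.map (algebraMap C' A'))))) :=
    ((Submodule.mkQ _).restrictScalars A') ∘ₗ (Algebra.linearMap A' (A' ⧸ J.map (algebraMap C' A')))
  have hf : Function.Surjective f := by
    intro y
    obtain ⟨z, rfl⟩ := Submodule.Quotient.mk_surjective _ y
    obtain ⟨w, rfl⟩ := Ideal.Quotient.mk_surjective z
    exact ⟨w, rfl⟩
  have hker : LinearMap.ker f =
      ((maximalIdeal C').map (algebraMap C' A') • (⊤ : Submodule A' A')) := by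
    ext x
    rw [LinearMap.mem_ker]
    change Submodule.Quotient.mk (Ideal.Quotient.mk _ x) = 0 ↔ _
    rw [Submodule.Quotient.mk_eq_zero, smul_eq_mul, Ideal.mul_top, smul_eq_mul, Ideal.mul_top, hI,
      ← Ideal.mem_comap, Ideal.comap_map_of_surjective _ Ideal.Quotient.mk_surjective,
      ← RingHom.ker_eq_comap_bot, Ideal.mk_ker, sup_eq_left.mpr hJA'le]
  let e := (Submodule.quotEquivOfEq _ _ hker).symm.trans (LinearMap.quotKerEquivOfSurjective f hf)
  have h3 := (e.isWeaklyRegular_congr (List.ofFn a')).mpr hfib'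
  -- step 4: lift
  obtain ⟨h4, h5⟩ := lift_weaklyRegular (A := C') (B := A') hnil (List.ofFn a') A' h3
  refine ⟨⟨h4, ?_⟩, ?_⟩
  · intro htop
    apply hreg.top_ne_smul
    have h1 : Ideal.ofList (List.ofFn a') = ⊤ := by
      have := htop.symm
      rwa [smul_eq_mul, Ideal.mul_top] at this
    rw [hrs, ← Ideal.map_ofList, h1, Ideal.map_top, Submodule.top_smul]
  · refine flat_congr_quotient (C := C') (A := A') _ (Ideal.span (Set.range a')) ?_ h5
    rw [ofList_ofFn, smul_eq_mul, Ideal.mul_top]

end Groth.Agent.Lib.Helper93.ArtinLift3
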