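import Mathlib
import Groth.Agent.Lib.Helper93.MultThree

set_option autoImplicit false
set_option linter.unusedSectionVars false
set_option linter.style.haveILetI false
universe u
open IsLocalRing

namespace Groth.Agent.Lib.Helper93.LengthSemiLocal
open Groth.Agent.Lib.Helper93.MultOne Groth.Agent.Lib.Helper93.MultThree

variable {A B : Type u} [CommRing A] [IsLocalRing A] [CommRing B] [Algebra A B]

/-- the residue degree. -/
noncomputable def wt (n : MaximalSpectrum B) : ℕ∞ :=
  (Module.finrank (A ⧸ n.asIdeal.comap (algebraMap A B)) (B ⧸ n.asIdeal) : ℕ∞)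

theorem length_quot (hover : ∀ n : MaximalSpectrum B, n.asIdeal.comap (algebraMap A B) = IsLocalRing.maximalIdeal A)
    (hfin : ∀ n : MaximalSpectrum B, Module.Finite (A ⧸ n.asIdeal.comap (algebraMap A B)) (B ⧸ n.asIdeal))
    (n₀ : MaximalSpectrum B) : Module.length A (B ⧸ n₀.asIdeal) = wt (A := A) n₀ := by
  have hmax : (n₀.asIdeal.comap (algebraMap A B)).IsMaximal := by rw [hover n₀]; infer_instance
  letI : Field (A ⧸ n₀.asIdeal.comap (algebraMap A B)) := Ideal.Quotient.field _
  haveI := hfin n₀
  rw [Module.length_eq_of_surjective (S := A) (R := A ⧸ n₀.asIdeal.comap (algebraMap A B))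
    (M := B ⧸ n₀.asIdeal) Ideal.Quotient.mk_surjective]
  exact Module.length_eq_finrank _ _


theorem lenAt_congr (q : Ideal B) [q.IsPrime] {M N : Type u} [AddCommGroup M] [Module B M]
    [AddCommGroup N] [Module B N] (e : M ≃ₗ[B] N) : lenAt q M = lenAt q N := by
  have := lenAt_exact q (0 : PUnit.{u+1} →ₗ[B] M) e.toLinearMap
    (fun a b _ => Subsingleton.elim a b) e.surjective
    (by
      intro y
      constructor
      · intro hy
        exact ⟨0, by rw [LinearMap.zero_apply]; exact (e.injective (by rw [map_zero]; exact hy)).symm⟩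
      · rintro ⟨_, rfl⟩
        simp)
  rw [this, lenAt_of_subsingleton q, zero_add]

theorem smul_quot_eq_zero'' (I : Ideal B) (s : B) (hs : s ∈ I) (y : B ⧸ I) : s • y = 0 := by
  obtain ⟨r, rfl⟩ := Ideal.Quotient.mk_surjective y
  rw [Algebra.smul_def]
  change Ideal.Quotient.mk I s * _ = 0
  rw [Ideal.Quotient.eq_zero_iff_mem.mpr hs, zero_mul]

open Classical in
theorem lenAt_quot_max (n n₀ : MaximalSpectrum B) :
    lenAt n.asIdeal (B ⧸ n₀.asIdeal) = if n = n₀ then 1 else 0 := by
  split_ifs with h
  · rw [h]; exact lenAt_quot_self n₀.asIdeal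
  · have hnle : ¬ n₀.asIdeal ≤ n.asIdeal := by
      intro hle
      apply h
      ext1
      exact (n₀.isMaximal.eq_of_le n.isMaximal.ne_top hle).symm
    obtain ⟨s, hs0, hsn⟩ := Set.not_subset.mp hnle
    exact lenAt_eq_zero_of_smul n.asIdeal s hsn (smul_quot_eq_zero'' _ s hs0)

theorem main_aux [Fintype (MaximalSpectrum B)]
    (hover : ∀ n : MaximalSpectrum B, n.asIdeal.comap (algebraMap A B) = IsLocalRing.maximalIdeal A)
    (hfin : ∀ n : MaximalSpectrum B, Module.Finite (A ⧸ n.asIdeal.comap (algebraMap A B)) (B ⧸ n.asIdeal)) :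
    ∀ k : ℕ, ∀ (M : Type u) [AddCommGroup M] [Module B M] [Module A M] [IsScalarTower A B M],
      Module.length B M = k →
      Module.length A M = ∑ n : MaximalSpectrum B, wt (A := A) n * lenAt n.asIdeal M := by
  intro k
  induction k with
  | zero =>
    intro M _ _ _ _ hk
    have hsub : Subsingleton M := Module.length_eq_zero_iff.mp (by exact_mod_cast hk)
    rw [Module.length_eq_zero_iff.mpr hsub]
    symm
    refine Finset.sum_eq_zero fun n _ => ?_
    rw [lenAt_of_subsingleton n.asIdeal, mul_zero]
  | succ k ih =>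
    intro M _ _ _ _ hk
    have hfl : IsFiniteLength B M := Module.length_ne_top_iff.mp (by rw [hk]; exact ENat.natCast_ne_top _)
    obtain ⟨hnoeth, -⟩ := isFiniteLength_iff_isNoetherian_isArtinian.mp hfl
    haveI : Nontrivial M := by
      by_contra hnt
      rw [not_nontrivial_iff_subsingleton] at hnt
      have := Module.length_eq_zero_iff (R := B).mpr hnt
      rw [hk] at this
      exact absurd this (by simp)
    obtain ⟨N, hN⟩ : ∃ N : Submodule B M, IsCoatom N := by
      rcases eq_top_or_exists_le_coatom (⊥ : Submodule B M) with h | ⟨N, hN, _⟩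
      · exact absurd h bot_ne_top
      · exact ⟨N, hN⟩
    haveI hsimple : IsSimpleModule B (M ⧸ N) := isSimpleModule_iff_isCoatom.mpr hN
    have hadd := Module.length_eq_add_of_exact N.subtype N.mkQ N.injective_subtype
      (Submodule.mkQ_surjective N) (LinearMap.exact_subtype_mkQ N)
    rw [Module.length_eq_one B (M ⧸ N), hk] at hadd
    have hNk : Module.length B N = k := by
      have hne : Module.length B N ≠ ⊤ := by
        intro h; rw [h, top_add] at hadd; exact ENat.natCast_ne_top _ hadd
      obtain ⟨j, hj⟩ := ENat.ne_top_iff_exists.mp hne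
      rw [← hj] at hadd ⊢
      have : k + 1 = j + 1 := by exact_mod_cast hadd
      have : j = k := by omega
      exact_mod_cast this
    have hIH := ih N hNk
    obtain ⟨I, hI, ⟨e⟩⟩ := isSimpleModule_iff_quot_maximal.mp hsimple
    let n₀ : MaximalSpectrum B := ⟨I, hI⟩
    have hA := Module.length_eq_add_of_exact (N.subtype.restrictScalars A) (N.mkQ.restrictScalars A)
      N.injective_subtype (Submodule.mkQ_surjective N) (LinearMap.exact_subtype_mkQ N)
    have hq : Module.length A (M ⧸ N) = wt (A := A) n₀ := by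
      rw [(e.restrictScalars A).length_eq]
      exact length_quot hover hfin n₀
    rw [hA, hIH, hq]
    have hsum : ∑ n : MaximalSpectrum B, wt (A := A) n * lenAt n.asIdeal M =
        ∑ n : MaximalSpectrum B, wt (A := A) n * lenAt n.asIdeal N +
        ∑ n : MaximalSpectrum B, wt (A := A) n * lenAt n.asIdeal (M ⧸ N) := by
      rw [← Finset.sum_add_distrib]
      refine Finset.sum_congr rfl fun n _ => ?_
      rw [lenAt_eq_add n.asIdeal N, mul_add]
    rw [hsum]
    congr 1
    classical
    have : ∀ n : MaximalSpectrum B, wt (A := A) n * lenAt n.asIdeal (M ⧸ N) =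
        if n = n₀ then wt (A := A) n₀ else 0 := by
      intro n
      rw [lenAt_congr n.asIdeal e, lenAt_quot_max n n₀]
      split_ifs with h
      · rw [h, mul_one]
      · rw [mul_zero]
    rw [Finset.sum_congr rfl fun n _ => this n, Finset.sum_ite_eq' Finset.univ n₀]
    simp

theorem main [Finite (MaximalSpectrum B)]
    (hover : ∀ n : MaximalSpectrum B, n.asIdeal.comap (algebraMap A B) = IsLocalRing.maximalIdeal A)
    (hfin : ∀ n : MaximalSpectrum B, Module.Finite (A ⧸ n.asIdeal.comap (algebraMap A B)) (B ⧸ n.asIdeal))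
    (M : Type u) [AddCommGroup M] [Module B M] [Module A M] [IsScalarTower A B M] (hM : IsFiniteLength B M) :
    Module.length A M = ∑ᶠ n : MaximalSpectrum B,
      (Module.finrank (A ⧸ n.asIdeal.comap (algebraMap A B)) (B ⧸ n.asIdeal) : ℕ∞) *
        Module.length (Localization.AtPrime n.asIdeal) (LocalizedModule n.asIdeal.primeCompl M) := by
  letI : Fintype (MaximalSpectrum B) := Fintype.ofFinite _
  rw [finsum_eq_sum_of_fintype]
  obtain ⟨k, hk⟩ := ENat.ne_top_iff_exists.mp (Module.length_ne_top_iff.mpr hM)
  exact main_aux hover hfin k M hk.symm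

end Groth.Agent.Lib.Helper93.LengthSemiLocal
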