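import Mathlib
import Groth.Agent.Lib.Helper93.LengthSemiLocal

set_option autoImplicit false
set_option linter.unusedSectionVars false
set_option linter.style.haveILetI false
universe u

namespace Groth.Agent.Lib.Helper93.CompSeriesCount
open Groth.Agent.Lib.Helper93.MultOne Groth.Agent.Lib.Helper93.MultThree
open Groth.Agent.Lib.Helper93.LengthSemiLocal

variable {R : Type u} [CommRing R] {M : Type u} [AddCommGroup M] [Module R M]

open Classical in
theorem step_cov (m : Ideal R) [hm : m.IsMaximal] {N N' : Submodule R M} (h : N ⋖ N') :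
    lenAt m N' = lenAt m N + (if N.colon (N' : Set M) = m then 1 else 0) := by
  have hsimple : IsSimpleModule R (N' ⧸ Submodule.comap N'.subtype N) :=
    (covBy_iff_quot_is_simple h.le).mp h
  rw [lenAt_eq_add m (Submodule.comap N'.subtype N)]
  have e1 : lenAt m (Submodule.comap N'.subtype N) = lenAt m N :=
    lenAt_congr m (Submodule.submoduleOfEquivOfLe h.le)
  rw [e1]
  congr 1
  obtain ⟨I, hI, ⟨e⟩⟩ := isSimpleModule_iff_quot_maximal.mp hsimple
  rw [lenAt_congr m e]
  have hcolon : N.colon (N' : Set M) = I := by
    ext r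
    rw [Submodule.mem_colon]
    constructor
    · intro hr
      have h1 : ∀ y : N' ⧸ Submodule.comap N'.subtype N, r • y = 0 := by
        intro y
        obtain ⟨x, rfl⟩ := Submodule.Quotient.mk_surjective _ y
        rw [← Submodule.Quotient.mk_smul, Submodule.Quotient.mk_eq_zero]
        exact hr x.1 x.2
      have h2 := h1 (e.symm 1)
      have h3 : r • (1 : R ⧸ I) = 0 := by
        have := congrArg e h2
        rwa [map_smul, LinearEquiv.apply_symm_apply, map_zero] at this
      rw [Algebra.smul_def, mul_one] at h3
      exact Ideal.Quotient.eq_zero_iff_mem.mp h3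
    · intro hr x hx
      have h1 : r • e (Submodule.Quotient.mk ⟨x, hx⟩) = 0 := smul_quot_eq_zero'' I r hr _
      rw [← map_smul, ← Submodule.Quotient.mk_smul] at h1
      have h2 := e.injective (h1.trans (map_zero e).symm)
      rw [Submodule.Quotient.mk_eq_zero] at h2
      exact h2
  rw [hcolon]
  have := lenAt_quot_max (B := R) ⟨m, hm⟩ ⟨I, hI⟩
  rw [this]
  by_cases hIm : I = m
  · subst hIm
    simp
  · have : ¬ ((⟨m, hm⟩ : MaximalSpectrum R) = ⟨I, hI⟩) := by
      intro h
      exact hIm (congrArg MaximalSpectrum.asIdeal h).symm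
    rw [if_neg this, if_neg hIm]


open Classical in
/-- the indicator of the `i`-th step. -/
noncomputable def g (s : CompositionSeries (Submodule R M)) (m : Ideal R) (i : Fin s.length) : ℕ∞ :=
  if (s i.castSucc).colon (s i.succ : Set M) = m then 1 else 0

/-- the indicator extended by zero. -/
noncomputable def f (s : CompositionSeries (Submodule R M)) (m : Ideal R) (j : ℕ) : ℕ∞ :=
  if h : j < s.length then g s m ⟨j, h⟩ else 0

theorem count_aux (s : CompositionSeries (Submodule R M)) (m : Ideal R) [m.IsMaximal] :
    ∀ k (hk : k ≤ s.length), lenAt m (s ⟨k, by omega⟩) =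
      lenAt m (s ⟨0, by omega⟩) + ∑ j ∈ Finset.range k, f s m j := by
  intro k
  induction k with
  | zero =>
    intro _
    simp
  | succ k ih =>
    intro hk
    have hk' : k < s.length := by omega
    have hstep := s.step ⟨k, hk'⟩
    have h1 := step_cov m hstep
    rw [Finset.sum_range_succ, ← add_assoc, ← ih (by omega)]
    have hf : f s m k = g s m ⟨k, hk'⟩ := dif_pos hk'
    rw [hf]
    exact h1

open Classical in
theorem main (s : CompositionSeries (Submodule R M)) (h0 : s.head = ⊥) (h1 : s.last = ⊤)
    (m : Ideal R) [m.IsMaximal] :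
    ((Finset.univ.filter fun i : Fin s.length =>
      (s i.castSucc).colon (s i.succ : Set M) = m).card : ℕ∞) =
      Module.length (Localization.AtPrime m) (LocalizedModule m.primeCompl M) := by
  have key := count_aux s m s.length le_rfl
  have hlast : s ⟨s.length, by omega⟩ = ⊤ := h1
  have hhead : s ⟨0, by omega⟩ = ⊥ := h0
  rw [hlast, hhead] at key
  have htop : lenAt m (⊤ : Submodule R M) = lenAt m M := lenAt_congr m Submodule.topEquiv
  have hbot : lenAt m (⊥ : Submodule R M) = 0 := lenAt_of_subsingleton m
  rw [htop, hbot, zero_add] at key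
  change _ = lenAt m M
  rw [key, Finset.card_filter, Nat.cast_sum, ← Fin.sum_univ_eq_sum_range (f s m) s.length]
  refine Finset.sum_congr rfl fun i _ => ?_
  have : f s m i = g s m i := dif_pos i.2
  rw [this]
  unfold g
  split_ifs <;> simp

end Groth.Agent.Lib.Helper93.CompSeriesCount
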