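import Mathlib

namespace Groth.Agent.Lib.Helper93.Coprimary

open Submodule

variable {A : Type*} [CommRing A] {M : Type*} [AddCommGroup M] [Module A M]

/-- embedding predicate -/
def Emb (p : Ideal A) (S T : Submodule A M) : Prop :=
  ∃ g : (↥S ⧸ Submodule.comap S.subtype T) →ₗ[A] (A ⧸ p), Function.Injective g

/-- saturation of `A x` with respect to the complement of `p`. -/
def sat (p : Ideal A) [hp : p.IsPrime] (x : M) : Submodule A M where
  carrier := {y | ∃ s : A, s ∉ p ∧ s • y ∈ span A {x}}
  zero_mem' := ⟨1, (Ideal.ne_top_iff_one p).1 hp.ne_top, by simp⟩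
  add_mem' := by
    rintro y z ⟨s, hs, hy⟩ ⟨t, ht, hz⟩
    refine ⟨s * t, fun h => (hp.mem_or_mem h).elim hs ht, ?_⟩
    rw [smul_add]
    refine add_mem ?_ ?_
    · rw [mul_comm, mul_smul]; exact smul_mem _ _ hy
    · rw [mul_smul]; exact smul_mem _ _ hz
  smul_mem' := by
    rintro c y ⟨s, hs, hy⟩
    exact ⟨s, hs, by rw [smul_comm]; exact smul_mem _ _ hy⟩

theorem mem_sat (p : Ideal A) [hp : p.IsPrime] (x y : M) :
    y ∈ sat p x ↔ ∃ s : A, s ∉ p ∧ s • y ∈ span A {x} := Iff.rfl

theorem exists_common [IsNoetherian A M] (p : Ideal A) [hp : p.IsPrime] (x : M) :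
    ∃ s : A, s ∉ p ∧ ∀ y ∈ sat p x, s • y ∈ span A {x} := by
  classical
  obtain ⟨t, ht⟩ := (IsNoetherian.noetherian (sat p x) : (sat p x).FG)
  have h1 : ∀ y ∈ t, ∃ s : A, s ∉ p ∧ s • y ∈ span A {x} := fun y hy => by
    have : y ∈ sat p x := ht ▸ subset_span hy
    exact this
  choose! s hs hsy using h1
  refine ⟨∏ y ∈ t, s y, ?_, ?_⟩
  · intro h
    obtain ⟨y, hy, hy'⟩ := (Ideal.IsPrime.prod_mem_iff).1 h
    exact hs y hy hy'
  · intro y hy
    rw [← ht] at hy
    have hle : span A (t : Set M) ≤
        (span A {x}).comap (LinearMap.lsmul A M (∏ y ∈ t, s y)) := by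
      rw [span_le]
      intro z hz
      have hz' : z ∈ t := hz
      show (∏ y ∈ t, s y) • z ∈ span A {x}
      rw [← Finset.mul_prod_erase t s hz', mul_comm, mul_smul]
      exact smul_mem _ _ (hsy z hz')
    exact hle hy

theorem emb_of {p : Ideal A} {E : Type*} [AddCommGroup E] [Module A E] (x : M)
    (hx : p = colon (⊥ : Submodule A M) {x}) (φ : E →ₗ[A] M) (hφ : Function.Injective φ)
    (himg : ∀ e, φ e ∈ span A {x}) : ∃ g : E →ₗ[A] (A ⧸ p), Function.Injective g := by
  have hker : p = LinearMap.ker (LinearMap.toSpanSingleton A M x) := by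
    rw [hx]; ext a; simp [mem_colon_singleton]
  let ι : (A ⧸ p) →ₗ[A] M := Submodule.liftQ p (LinearMap.toSpanSingleton A M x) hker.le
  have hι : Function.Injective ι := by
    rw [← LinearMap.ker_eq_bot]
    exact Submodule.ker_liftQ_eq_bot' _ _ hker
  have hr : LinearMap.range ι = span A {x} := by
    rw [Submodule.range_liftQ, LinearMap.span_singleton_eq_range]
  let e := LinearEquiv.ofInjective ι hι
  refine ⟨e.symm.toLinearMap ∘ₗ (φ.codRestrict (LinearMap.range ι) (fun c => hr ▸ himg c)), ?_⟩
  intro a b hab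
  apply hφ
  have := e.symm.injective hab
  exact congrArg Subtype.val this


section step
variable [IsNoetherianRing A] [Module.Finite A M]

theorem step (p : Ideal A) (N : Submodule A M) (hN : associatedPrimes A (M ⧸ N) = {p}) :
    ∃ N' : Submodule A M, N < N' ∧ Emb p N' N ∧ associatedPrimes A (M ⧸ N') ⊆ {p} := by
  have hpA : IsAssociatedPrime p (M ⧸ N) := by
    have : p ∈ associatedPrimes A (M ⧸ N) := by rw [hN]; rfl
    exact this
  have hp : p.IsPrime := hpA.isPrime
  obtain ⟨-, x, hx⟩ := isAssociatedPrime_iff.1 hpA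
  have hxne : x ≠ 0 := by
    rintro rfl
    apply hp.ne_top
    rw [hx]; ext a; simp [mem_colon_singleton]
  -- injectivity of elements outside p
  have hinj : ∀ s : A, s ∉ p → ∀ y : M ⧸ N, s • y = 0 → y = 0 := by
    intro s hs y hy
    by_contra hy0
    obtain ⟨P, hP, hle⟩ := exists_le_isAssociatedPrime_of_isNoetherianRing A y hy0
    have hPp : P = p := by
      have : P ∈ associatedPrimes A (M ⧸ N) := hP
      rw [hN] at this; exact this
    apply hs
    rw [← hPp]
    apply hle
    rw [mem_colon_singleton]; simpa using hy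
  have hNoeth : IsNoetherian A (M ⧸ N) := isNoetherian_of_isNoetherianRing_of_finite A _
  set N' : Submodule A M := (sat p x).comap N.mkQ with hN'
  have hmem : ∀ y : M, y ∈ N' ↔ ∃ s : A, s ∉ p ∧ s • N.mkQ y ∈ span A {x} := fun y => Iff.rfl
  have hle : N ≤ N' := by
    intro y hy
    rw [hmem]
    refine ⟨1, (Ideal.ne_top_iff_one p).1 hp.ne_top, ?_⟩
    have : N.mkQ y = 0 := by simpa using hy
    rw [this]; simp
  refine ⟨N', lt_of_le_of_ne hle ?_, ?_, ?_⟩
  · intro heq
    obtain ⟨x', rfl⟩ := N.mkQ_surjective x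
    have h1 : x' ∈ N' := by
      rw [hmem]
      exact ⟨1, (Ideal.ne_top_iff_one p).1 hp.ne_top, by simpa using mem_span_singleton_self _⟩
    rw [← heq] at h1
    apply hxne
    simpa using h1
  · obtain ⟨s, hs, hsy⟩ := exists_common p x
    let φ0 : ↥N' →ₗ[A] (M ⧸ N) := (LinearMap.lsmul A (M ⧸ N) s) ∘ₗ N.mkQ ∘ₗ N'.subtype
    have hker : Submodule.comap N'.subtype N = LinearMap.ker φ0 := by
      ext n
      simp only [mem_comap, subtype_apply, LinearMap.mem_ker, φ0, LinearMap.coe_comp,
        Function.comp_apply, LinearMap.lsmul_apply]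
      constructor
      · intro h
        have : N.mkQ n = 0 := by simpa using h
        rw [this, smul_zero]
      · intro h
        have := hinj s hs _ h
        simpa using this
    let φ : (↥N' ⧸ Submodule.comap N'.subtype N) →ₗ[A] (M ⧸ N) :=
      Submodule.liftQ _ φ0 hker.le
    have hφ : Function.Injective φ := by
      rw [← LinearMap.ker_eq_bot]
      exact Submodule.ker_liftQ_eq_bot' _ _ hker
    have himg : ∀ e, φ e ∈ span A {x} := by
      intro e
      obtain ⟨n, rfl⟩ := Submodule.Quotient.mk_surjective _ e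
      show s • N.mkQ n ∈ span A {x}
      exact hsy _ n.2
    exact emb_of x hx φ hφ himg
  · intro q hq
    have hqA : IsAssociatedPrime q (M ⧸ N') := hq
    have hqp : q.IsPrime := hqA.isPrime
    obtain ⟨-, y, hy⟩ := isAssociatedPrime_iff.1 hqA
    obtain ⟨y, rfl⟩ := N'.mkQ_surjective y
    have hqmem : ∀ a : A, a ∈ q ↔ a • y ∈ N' := by
      intro a
      rw [hy, mem_colon_singleton, ← map_smul, mem_bot, mkQ_apply, Submodule.Quotient.mk_eq_zero]
    have hyN' : y ∉ N' := by
      intro h
      apply hqp.ne_top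
      rw [Ideal.eq_top_iff_one, hqmem, one_smul]; exact h
    show q = p
    apply le_antisymm
    · intro a ha
      by_contra hap
      apply hyN'
      obtain ⟨s, hs, hsy⟩ := (hmem _).1 ((hqmem a).1 ha)
      rw [hmem]
      refine ⟨s * a, fun h => (hp.mem_or_mem h).elim hs hap, ?_⟩
      rw [mul_smul, ← map_smul]; exact hsy
    · have hann : Module.annihilator A (M ⧸ N) ≤ q := by
        intro a ha
        rw [hqmem]
        apply hle
        have := Module.mem_annihilator.1 ha (N.mkQ y)
        rw [← map_smul, mkQ_apply, Submodule.Quotient.mk_eq_zero] at this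
        exact this
      obtain ⟨P, hP, hPq⟩ := Ideal.exists_minimalPrimes_le hann
      have := Module.associatedPrimes.minimalPrimes_annihilator_subset_associatedPrimes A (M ⧸ N) hP
      rw [hN] at this
      rw [← (this : P = p)]
      exact hPq

end step


section chain
variable [IsNoetherianRing A] [Module.Finite A M]

/-- chain predicate -/
def Chain (p : Ideal A) (N : Submodule A M) : Prop :=
  ∃ (m : ℕ) (G : ℕ → Submodule A M), Antitone G ∧ G 0 = ⊤ ∧ G m = N ∧
    ∀ i < m, Emb p (G i) (G (i + 1))

theorem chain_all (p : Ideal A) (N : Submodule A M) :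
    associatedPrimes A (M ⧸ N) ⊆ {p} → Chain p N := by
  have : IsNoetherian A M := isNoetherian_of_isNoetherianRing_of_finite A _
  induction N using WellFoundedGT.induction with
  | ind N ih =>
    intro hN
    by_cases htop : N = ⊤
    · exact ⟨0, fun _ => ⊤, fun _ _ _ => le_rfl, rfl, htop.symm, fun i hi => absurd hi (Nat.not_lt_zero _)⟩
    · have hnt : Nontrivial (M ⧸ N) := Submodule.Quotient.nontrivial_iff.2 htop
      have hN' : associatedPrimes A (M ⧸ N) = {p} :=
        (Set.Nonempty.subset_singleton_iff (associatedPrimes.nonempty A (M ⧸ N))).1 hN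
      obtain ⟨N', hlt, hemb, hass⟩ := step p N hN'
      obtain ⟨m, G, hG, h0, hm, hE⟩ := ih N' hlt hass
      refine ⟨m + 1, fun i => if i ≤ m then G i else N, ?_, ?_, ?_, ?_⟩
      · intro i j hij
        show (if j ≤ m then G j else N) ≤ (if i ≤ m then G i else N)
        by_cases hj : j ≤ m
        · rw [if_pos hj, if_pos (hij.trans hj)]; exact hG hij
        · rw [if_neg hj]
          by_cases hi : i ≤ m
          · rw [if_pos hi]
            exact hlt.le.trans (hm ▸ hG hi)
          · rw [if_neg hi]
      · show (if 0 ≤ m then G 0 else N) = ⊤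
        rw [if_pos (Nat.zero_le _)]; exact h0
      · show (if m + 1 ≤ m then G (m + 1) else N) = N
        rw [if_neg (by omega)]
      · intro i hi
        show Emb p (if i ≤ m then G i else N) (if i + 1 ≤ m then G (i + 1) else N)
        rw [if_pos (by omega)]
        by_cases him : i < m
        · rw [if_pos (by omega)]; exact hE i him
        · have : i = m := by omega
          subst this
          rw [if_neg (by omega), hm]; exact hemb

end chain

theorem main (A : Type*) [CommRing A] [IsNoetherianRing A]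
    (M : Type*) [AddCommGroup M] [Module A M] [Module.Finite A M] (p : Ideal A)
    (hp : associatedPrimes A M = {p}) :
    ∃ (m : ℕ) (F : Fin (m + 1) → Submodule A M), Antitone F ∧ F 0 = ⊤ ∧ F (Fin.last m) = ⊥ ∧
      ∀ i : Fin m, ∃ g : (↥(F i.castSucc) ⧸ Submodule.comap (F i.castSucc).subtype (F i.succ)) →ₗ[A] (A ⧸ p),
        Function.Injective g := by
  have h : associatedPrimes A (M ⧸ (⊥ : Submodule A M)) ⊆ {p} := by
    rw [LinearEquiv.AssociatedPrimes.eq (Submodule.quotEquivOfEqBot (⊥ : Submodule A M) rfl), hp]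
  obtain ⟨m, G, hG, h0, hm, hE⟩ := chain_all p ⊥ h
  refine ⟨m, fun i => G i.val, fun i j hij => hG hij, h0, hm, fun i => ?_⟩
  exact hE i.val i.isLt

end Groth.Agent.Lib.Helper93.Coprimary
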