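import Mathlib

set_option autoImplicit false
universe u

namespace Groth.Agent.Lib.Helper93.CycCoh

open groupCohomology CategoryTheory

variable {k G : Type u} [CommRing k] [Group G] [Finite G] (A : Rep k G) (g : G)
  (hg : ∀ x : G, x ∈ Subgroup.zpowers g) (p : ℕ) (hG : Nat.card G = p)

include hg in
theorem exists_pow_eq (y : G) : ∃ i : ℕ, g ^ i = y :=
  mem_powers_iff_mem_zpowers.2 (hg y)

include hg hG in
theorem orderOf_gen : orderOf g = p := by
  rw [← hG]; exact orderOf_eq_card_of_forall_mem_zpowers hg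

include hg hG in
theorem gen_pow_p : g ^ p = 1 := by
  rw [← orderOf_gen g hg p hG]; exact pow_orderOf_eq_one g

/-- value of a cocycle on powers of an element -/
theorem cocycle_pow (f : cocycles₁ A) (i : ℕ) :
    f (g ^ i) = ∑ j ∈ Finset.range i, ((A.ρ g) ^ j) (f g) := by
  induction i with
  | zero => simp
  | succ i ih =>
    rw [pow_succ, (mem_cocycles₁_iff f).1 f.2 (g ^ i) g, ih, Finset.sum_range_succ, map_pow,
      add_comm]

include hg hG in
theorem cocycle_norm (f : cocycles₁ A) :
    ∑ j ∈ Finset.range p, ((A.ρ g) ^ j) (f g) = 0 := by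
  rw [← cocycle_pow, gen_pow_p g hg p hG, cocycles₁_map_one]

include hg in
/-- a cocycle of a cyclic group is determined by its value on the generator -/
theorem cocycle_ext (f f' : cocycles₁ A) (h : f g = f' g) : f = f' := by
  apply cocycles₁_ext
  intro y
  obtain ⟨i, rfl⟩ := exists_pow_eq g hg y
  rw [cocycle_pow, cocycle_pow, h]

include hg in
theorem cocycle_mem_coboundaries (f : cocycles₁ A) (y : A) (h : f g = A.ρ g y - y) :
    ⇑f ∈ coboundaries₁ A := by
  have h1 : f = ⟨d₀₁ A y, d₀₁_apply_mem_cocycles₁ y⟩ := by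
    apply cocycle_ext A g hg
    rw [h]; rfl
  rw [h1]
  exact ⟨y, rfl⟩

theorem coboundary_apply (f : G → A) (hf : f ∈ coboundaries₁ A) :
    ∃ y : A, f g = A.ρ g y - y := by
  obtain ⟨y, rfl⟩ := hf
  exact ⟨y, rfl⟩

include hg hG in
/-- every element killed by the norm is the value at the generator of a cocycle -/
theorem exists_cocycle (x : A) (hx : ∑ j ∈ Finset.range p, ((A.ρ g) ^ j) x = 0) :
    ∃ f : cocycles₁ A, f g = x := by
  set F : ℕ → A := fun i => ∑ j ∈ Finset.range i, ((A.ρ g) ^ j) x with hF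
  have hFadd : ∀ i i', F (i + i') = F i + ((A.ρ g) ^ i) (F i') := by
    intro i i'
    simp only [hF]
    rw [Finset.sum_range_add, map_sum]
    congr 1
    refine Finset.sum_congr rfl fun j _ => ?_
    rw [pow_add, Module.End.mul_apply]
  have hFp : F p = 0 := hx
  have hFpt : ∀ t, F (p * t) = 0 := by
    intro t
    induction t with
    | zero => simp [hF]
    | succ t ih => rw [Nat.mul_succ, hFadd, ih, hFp, map_zero, add_zero]
  have hFmod : ∀ i, F i = F (i % p) := by
    intro i
    conv_lhs => rw [← Nat.mod_add_div i p]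
    rw [hFadd, hFpt, map_zero, add_zero]
  have hord := orderOf_gen g hg p hG
  choose e he using exists_pow_eq g hg
  have hρ : ∀ y, A.ρ y = (A.ρ g) ^ (e y) := by
    intro y
    conv_lhs => rw [← he y]
    rw [map_pow]
  have hFe : ∀ i y, g ^ i = y → F i = F (e y) := by
    intro i y hiy
    have : g ^ i = g ^ (e y) := by rw [hiy, he y]
    rw [pow_eq_pow_iff_modEq, hord] at this
    rw [hFmod i, hFmod (e y)]
    exact congrArg F this
  refine ⟨⟨fun y => F (e y), ?_⟩, ?_⟩
  · rw [mem_cocycles₁_iff]
    intro y y'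
    show F (e (y * y')) = A.ρ y (F (e y')) + F (e y)
    rw [← hFe (e y + e y') (y * y') (by rw [pow_add, he y, he y']), hFadd, hρ y, add_comm]
  · show F (e g) = x
    rw [← hFe 1 g (pow_one g)]
    simp [hF]

end Groth.Agent.Lib.Helper93.CycCoh
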