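import Mathlib
import Groth.Agent.Lib.Helper93.ArtinLift2
/-!
# Flat lifts of an ideal along a small extension: the difference homomorphism

`C'` a ring, `J` an ideal, `A'` a flat `C'`-algebra, `A = A'/JA'`, `I ⊆ A`, `B = A/I`; `I', I'' ⊆ A'`
ideals with `C'`-flat quotients both reducing to `I`.  `phi : I → B ⊗ J` is the difference
homomorphism (`x ↦ class of x'' - x'`), characterised by `phi_spec`; `main64` is its uniqueness.
-/
set_option autoImplicit false
set_option linter.unusedSectionVars false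
set_option linter.style.haveILetI false
universe u
open TensorProduct

namespace Groth.Agent.Lib.Helper93.DefIdeal
open Groth.Agent.Lib.Helper93.QGorFlat2 Groth.Agent.Lib.Helper93.ArtinLift2

variable (C' : Type u) [CommRing C'] (J : Ideal C') (A' : Type u) [CommRing A'] [Algebra C' A']
  (I : Ideal (A' ⧸ J.map (algebraMap C' A')))

/-- the statement's multiplication map is `mu`. -/
theorem mu_eq (z : A' ⊗[C'] ↥J) :
    TensorProduct.rid C' A' (LinearMap.lTensor A' (Submodule.subtype J) z) = mu (B := A') A' J z :=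
  rfl

/-- the `A'`-linear version of `ρ = π ⊗ 1`. -/
noncomputable def rho : A' ⊗[C'] ↥J →ₗ[A'] (((A' ⧸ J.map (algebraMap C' A')) ⧸ I) ⊗[C'] ↥J) :=
  AlgebraTensorModule.rTensor C' ↥J (Algebra.linearMap A' ((A' ⧸ J.map (algebraMap C' A')) ⧸ I))

theorem rho_eq (z : A' ⊗[C'] ↥J) :
    LinearMap.rTensor ↥J (IsScalarTower.toAlgHom C' A'
      ((A' ⧸ J.map (algebraMap C' A')) ⧸ I)).toLinearMap z = rho C' J A' I z := rfl

theorem exists_mu_eq (w : A') (hw : w ∈ J.map (algebraMap C' A')) :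
    ∃ z : A' ⊗[C'] ↥J, mu (B := A') A' J z = w := by
  have : w ∈ LinearMap.range (mu (B := A') A' J) := by
    rw [range_mu, smul_eq_mul, Ideal.mul_top]; exact hw
  exact this

theorem smul_eq_zero_of_algebraMap_eq_zero (i : A')
    (hi : algebraMap A' ((A' ⧸ J.map (algebraMap C' A')) ⧸ I) i = 0)
    (t : ((A' ⧸ J.map (algebraMap C' A')) ⧸ I) ⊗[C'] ↥J) : i • t = 0 := by
  induction t with
  | zero => simp
  | add a b ha hb => rw [smul_add, ha, hb, add_zero]
  | tmul b j =>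
    have h : i • b = algebraMap A' ((A' ⧸ J.map (algebraMap C' A')) ⧸ I) i * b := Algebra.smul_def i b
    rw [TensorProduct.smul_tmul', h, hi, zero_mul, TensorProduct.zero_tmul]

/-- `ρ` kills every `z` whose image lies in `I₀ ∩ JA'`, for `I₀` with flat quotient mapping to
zero in `B`. -/
theorem rho_eq_zero [Module.Flat C' A'] (I₀ : Ideal A') [Module.Flat C' (A' ⧸ I₀)]
    (hI₀ : ∀ i ∈ I₀, algebraMap A' ((A' ⧸ J.map (algebraMap C' A')) ⧸ I) i = 0)
    (z : A' ⊗[C'] ↥J) (hzI : mu (B := A') A' J z ∈ I₀) : rho C' J A' I z = 0 := by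
  have hz𝔍 : mu (B := A') A' J z ∈ J.map (algebraMap C' A') := by
    have : mu (B := A') A' J z ∈ LinearMap.range (mu (B := A') A' J) := ⟨z, rfl⟩
    rwa [range_mu, smul_eq_mul, Ideal.mul_top] at this
  have hmem := mem_mul_of_flat_quotient C' A' I₀ J _ hzI hz𝔍
  have key : ∀ w ∈ J.map (algebraMap C' A') * I₀,
      ∃ z' : A' ⊗[C'] ↥J, mu (B := A') A' J z' = w ∧ rho C' J A' I z' = 0 := by
    intro w hw
    refine Submodule.mul_induction_on hw ?_ ?_
    · intro s hs i hi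
      obtain ⟨zs, hzs⟩ := exists_mu_eq C' J A' s hs
      refine ⟨i • zs, ?_, ?_⟩
      · rw [map_smul, hzs, smul_eq_mul, mul_comm]
      · rw [map_smul]
        exact smul_eq_zero_of_algebraMap_eq_zero C' J A' I i (hI₀ i hi) _
    · rintro w₁ w₂ ⟨z₁, h₁, h₁'⟩ ⟨z₂, h₂, h₂'⟩
      exact ⟨z₁ + z₂, by rw [map_add, h₁, h₂], by rw [map_add, h₁', h₂', add_zero]⟩
  obtain ⟨z', hz', hz'0⟩ := key _ hmem
  rw [mu_injective (B := A') A' J hz'.symm]
  exact hz'0

section main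
variable [Module.Flat C' A'] (I' I'' : Ideal A') [Module.Flat C' (A' ⧸ I')] [Module.Flat C' (A' ⧸ I'')]
  (hI' : I'.map (Ideal.Quotient.mk (J.map (algebraMap C' A'))) = I)
  (hI'' : I''.map (Ideal.Quotient.mk (J.map (algebraMap C' A'))) = I)

include hI' in
theorem algebraMap_eq_zero_of_mem (i : A') (hi : i ∈ I') :
    algebraMap A' ((A' ⧸ J.map (algebraMap C' A')) ⧸ I) i = 0 := by
  change Ideal.Quotient.mk I (Ideal.Quotient.mk _ i) = 0
  rw [Ideal.Quotient.eq_zero_iff_mem, ← hI']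
  exact Ideal.mem_map_of_mem _ hi

include hI' in
theorem exists_lift (x : A' ⧸ J.map (algebraMap C' A')) (hx : x ∈ I) :
    ∃ x' ∈ I', Ideal.Quotient.mk (J.map (algebraMap C' A')) x' = x := by
  rw [← hI'] at hx
  obtain ⟨x', hx', h⟩ := (Ideal.mem_map_iff_of_surjective _ Ideal.Quotient.mk_surjective).mp hx
  exact ⟨x', hx', h⟩

/-- a valid datum for `x`. -/
def Valid (x : A' ⧸ J.map (algebraMap C' A')) (x' x'' : A') (z : A' ⊗[C'] ↥J) : Prop :=
  x' ∈ I' ∧ x'' ∈ I'' ∧ Ideal.Quotient.mk (J.map (algebraMap C' A')) x' = x ∧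
    Ideal.Quotient.mk (J.map (algebraMap C' A')) x'' = x ∧ mu (B := A') A' J z = x'' - x'

include hI' hI'' in
theorem exists_valid (x : A' ⧸ J.map (algebraMap C' A')) (hx : x ∈ I) :
    ∃ x' x'' z, Valid C' J A' I' I'' x x' x'' z := by
  obtain ⟨x', hx', h'⟩ := exists_lift C' J A' I I' hI' x hx
  obtain ⟨x'', hx'', h''⟩ := exists_lift C' J A' I I'' hI'' x hx
  have hd : x'' - x' ∈ J.map (algebraMap C' A') := by
    rw [← Ideal.Quotient.eq, h', h'']
  obtain ⟨z, hz⟩ := exists_mu_eq C' J A' _ hd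
  exact ⟨x', x'', z, hx', hx'', h', h'', hz⟩

include hI' hI'' in
/-- the value `ρ z` only depends on `x`. -/
theorem rho_eq_of_valid (x : A' ⧸ J.map (algebraMap C' A')) (x₁' x₁'' x₂' x₂'' : A')
    (z₁ z₂ : A' ⊗[C'] ↥J) (h₁ : Valid C' J A' I' I'' x x₁' x₁'' z₁)
    (h₂ : Valid C' J A' I' I'' x x₂' x₂'' z₂) : rho C' J A' I z₁ = rho C' J A' I z₂ := by
  obtain ⟨a1, b1, c1, d1, e1⟩ := h₁
  obtain ⟨a2, b2, c2, d2, e2⟩ := h₂
  have hw' : x₁' - x₂' ∈ J.map (algebraMap C' A') := by rw [← Ideal.Quotient.eq, c1, c2]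
  have hw'' : x₁'' - x₂'' ∈ J.map (algebraMap C' A') := by rw [← Ideal.Quotient.eq, d1, d2]
  obtain ⟨z', hz'⟩ := exists_mu_eq C' J A' _ hw'
  obtain ⟨z'', hz''⟩ := exists_mu_eq C' J A' _ hw''
  have h0' : rho C' J A' I z' = 0 :=
    rho_eq_zero C' J A' I I' (algebraMap_eq_zero_of_mem C' J A' I I' hI') z'
      (hz' ▸ I'.sub_mem a1 a2)
  have h0'' : rho C' J A' I z'' = 0 :=
    rho_eq_zero C' J A' I I'' (algebraMap_eq_zero_of_mem C' J A' I I'' hI'') z''
      (hz'' ▸ I''.sub_mem b1 b2)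
  have hz : z₁ - z₂ = z'' - z' := by
    apply mu_injective (B := A') A' J
    rw [map_sub, map_sub, e1, e2, hz', hz'']
    ring
  have := congrArg (rho C' J A' I) hz
  rw [map_sub, map_sub, h0', h0'', sub_zero, sub_eq_zero] at this
  exact this

include hI' hI'' in
theorem exists_valid' (x : ↥I) : ∃ z x' x'', Valid C' J A' I' I'' x.1 x' x'' z := by
  obtain ⟨x', x'', z, h⟩ := exists_valid C' J A' I I' I'' hI' hI'' x.1 x.2
  exact ⟨z, x', x'', h⟩

/-- the difference homomorphism `φ : I → B ⊗ J`. -/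
noncomputable def phi : ↥I →ₗ[A'] (((A' ⧸ J.map (algebraMap C' A')) ⧸ I) ⊗[C'] ↥J) where
  toFun x := rho C' J A' I (exists_valid' C' J A' I I' I'' hI' hI'' x).choose
  map_add' x y := by
    obtain ⟨x', x'', hx⟩ := (exists_valid' C' J A' I I' I'' hI' hI'' x).choose_spec
    obtain ⟨y', y'', hy⟩ := (exists_valid' C' J A' I I' I'' hI' hI'' y).choose_spec
    obtain ⟨s', s'', hs⟩ := (exists_valid' C' J A' I I' I'' hI' hI'' (x + y)).choose_spec
    rw [← map_add]
    refine rho_eq_of_valid C' J A' I I' I'' hI' hI'' (x + y).1 s' s'' (x' + y') (x'' + y'') _ _ hs ?_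
    obtain ⟨a1, b1, c1, d1, e1⟩ := hx
    obtain ⟨a2, b2, c2, d2, e2⟩ := hy
    refine ⟨I'.add_mem a1 a2, I''.add_mem b1 b2, ?_, ?_, ?_⟩
    · rw [map_add, c1, c2]; rfl
    · rw [map_add, d1, d2]; rfl
    · rw [map_add, e1, e2]; ring
  map_smul' a x := by
    obtain ⟨x', x'', hx⟩ := (exists_valid' C' J A' I I' I'' hI' hI'' x).choose_spec
    obtain ⟨s', s'', hs⟩ := (exists_valid' C' J A' I I' I'' hI' hI'' (a • x)).choose_spec
    rw [RingHom.id_apply, ← map_smul]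
    refine rho_eq_of_valid C' J A' I I' I'' hI' hI'' (a • x).1 s' s'' (a * x') (a * x'') _ _ hs ?_
    obtain ⟨a1, b1, c1, d1, e1⟩ := hx
    refine ⟨I'.mul_mem_left a a1, I''.mul_mem_left a b1, ?_, ?_, ?_⟩
    · rw [map_mul, c1]; rfl
    · rw [map_mul, d1]; rfl
    · rw [map_smul, e1, smul_eq_mul]; ring

include hI' hI'' in
theorem phi_spec (x : A' ⧸ J.map (algebraMap C' A')) (hx : x ∈ I) (x' x'' : A') (z : A' ⊗[C'] ↥J)
    (h : Valid C' J A' I' I'' x x' x'' z) :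
    rho C' J A' I z = phi C' J A' I I' I'' hI' hI'' ⟨x, hx⟩ := by
  obtain ⟨s', s'', hs⟩ := (exists_valid' C' J A' I I' I'' hI' hI'' ⟨x, hx⟩).choose_spec
  exact rho_eq_of_valid C' J A' I I' I'' hI' hI'' x x' x'' s' s'' _ _ h hs

include hI' hI'' in
theorem main64 :
    ∃! φ : ↥I →ₗ[A'] (((A' ⧸ J.map (algebraMap C' A')) ⧸ I) ⊗[C'] ↥J),
      (∀ (x : (A' ⧸ J.map (algebraMap C' A'))) (hx : x ∈ I) (x' x'' : A'), x' ∈ I' → x'' ∈ I'' →
          Ideal.Quotient.mk (J.map (algebraMap C' A')) x' = x →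
          Ideal.Quotient.mk (J.map (algebraMap C' A')) x'' = x →
          ∀ z : A' ⊗[C'] ↥J,
            TensorProduct.rid C' A' (LinearMap.lTensor A' (Submodule.subtype J) z) = x'' - x' →
            LinearMap.rTensor ↥J (IsScalarTower.toAlgHom C' A'
              ((A' ⧸ J.map (algebraMap C' A')) ⧸ I)).toLinearMap z = φ ⟨x, hx⟩) := by
  refine ⟨phi C' J A' I I' I'' hI' hI'', ?_, ?_⟩
  · intro x hx x' x'' h1 h2 h3 h4 z hz
    exact phi_spec C' J A' I I' I'' hI' hI'' x hx x' x'' z ⟨h1, h2, h3, h4, hz⟩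
  · intro ψ hψ
    ext ⟨x, hx⟩
    obtain ⟨x', x'', z, h⟩ := exists_valid C' J A' I I' I'' hI' hI'' x hx
    rw [← hψ x hx x' x'' h.1 h.2.1 h.2.2.1 h.2.2.2.1 z h.2.2.2.2]
    exact phi_spec C' J A' I I' I'' hI' hI'' x hx x' x'' z h

end main

end Groth.Agent.Lib.Helper93.DefIdeal
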