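import Mathlib
import Groth.Agent.Lib.Helper93.DefIdeal
/-!
# Infinitesimal automorphisms of a flat module extension

`M'` flat over `C'`, `𝔪 J = 0`, `J² = 0`: `ρ : M' ⊗ J → M₀ ⊗ J` is bijective, `μ : M' ⊗ J → M'` is injective
with image `JM'`, endomorphisms `σ ≡ id mod JM'` are `id + δ` with `δ² = 0`, and correspond to
`Hom(M₀, M₀ ⊗ J)`.
-/
set_option autoImplicit false
set_option linter.unusedSectionVars false
set_option linter.style.haveILetI false
universe u
open TensorProduct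

namespace Groth.Agent.Lib.Helper93.DefAut
open Groth.Agent.Lib.Helper93.QGorFlat2

variable (C' : Type u) [CommRing C'] (𝔪 J : Ideal C') (A' : Type u) [CommRing A'] [Algebra C' A']
  (M' : Type u) [AddCommGroup M'] [Module A' M'] [Module C' M'] [IsScalarTower C' A' M']

/-- `ρ = π ⊗ 1 : M' ⊗ J → M₀ ⊗ J`, `A'`-linear. -/
noncomputable def rho : M' ⊗[C'] ↥J →ₗ[A']
    ((M' ⧸ (𝔪.map (algebraMap C' A')) • (⊤ : Submodule A' M')) ⊗[C'] ↥J) :=
  AlgebraTensorModule.rTensor C' ↥J (Submodule.mkQ ((𝔪.map (algebraMap C' A')) • (⊤ : Submodule A' M')))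

theorem rho_eq (z : M' ⊗[C'] ↥J) :
    LinearMap.rTensor ↥J ((Submodule.mkQ ((𝔪.map (algebraMap C' A')) • (⊤ : Submodule A' M'))).restrictScalars C') z
      = rho C' 𝔪 J A' M' z := rfl

theorem rho_surjective : Function.Surjective (rho C' 𝔪 J A' M') := by
  intro t
  have hs : Function.Surjective ((Submodule.mkQ ((𝔪.map (algebraMap C' A')) • (⊤ : Submodule A' M'))).restrictScalars C') :=
    Submodule.mkQ_surjective ((𝔪.map (algebraMap C' A')) • (⊤ : Submodule A' M'))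
  obtain ⟨z, hz⟩ := LinearMap.rTensor_surjective ↥J hs t
  exact ⟨z, hz⟩

theorem smul_tensor_eq_zero (h𝔪J : 𝔪 * J = ⊥) (m : C') (hm : m ∈ 𝔪) (z : M' ⊗[C'] ↥J) : m • z = 0 := by
  induction z with
  | zero => simp
  | add a b ha hb => rw [smul_add, ha, hb, add_zero]
  | tmul x j =>
    rw [TensorProduct.smul_tmul', TensorProduct.smul_tmul]
    have : m • j = 0 := by
      ext
      have h : m * (j : C') ∈ 𝔪 * J := Ideal.mul_mem_mul hm j.2
      rw [h𝔪J] at h
      simpa using h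
    rw [this, TensorProduct.tmul_zero]

theorem rho_injective (h𝔪J : 𝔪 * J = ⊥) : Function.Injective (rho C' 𝔪 J A' M') := by
  rw [injective_iff_map_eq_zero]
  intro z hz
  set N : Submodule A' M' := (𝔪.map (algebraMap C' A')) • (⊤ : Submodule A' M') with hN
  have hex : Function.Exact ((N.subtype).restrictScalars C') ((N.mkQ).restrictScalars C') := by
    intro x
    change N.mkQ x = 0 ↔ x ∈ Set.range N.subtype
    rw [Submodule.mkQ_apply, Submodule.Quotient.mk_eq_zero]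
    simp
  have hex2 := rTensor_exact ↥J hex (Submodule.mkQ_surjective N)
  obtain ⟨w, rfl⟩ := (hex2 z).mp hz
  clear hz
  induction w with
  | zero => simp
  | add a b ha hb => rw [map_add, ha, hb, add_zero]
  | tmul n j =>
    rw [LinearMap.rTensor_tmul]
    obtain ⟨n, hn⟩ := n
    change n ⊗ₜ[C'] j = 0
    rw [hN, ← mem_smul_top_iff'] at hn
    refine Submodule.smul_induction_on hn ?_ ?_
    · intro m hm x _
      have := smul_tensor_eq_zero C' 𝔪 J M' h𝔪J m hm (x ⊗ₜ[C'] j)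
      rwa [TensorProduct.smul_tmul'] at this
    · intro a b ha hb
      rw [TensorProduct.add_tmul, ha, hb, add_zero]

/-- `ρ` as an equivalence. -/
noncomputable def rhoEquiv (h𝔪J : 𝔪 * J = ⊥) : (M' ⊗[C'] ↥J) ≃ₗ[A']
    ((M' ⧸ (𝔪.map (algebraMap C' A')) • (⊤ : Submodule A' M')) ⊗[C'] ↥J) :=
  LinearEquiv.ofBijective (rho C' 𝔪 J A' M') ⟨rho_injective C' 𝔪 J A' M' h𝔪J, rho_surjective C' 𝔪 J A' M'⟩


theorem mu_eq (z : M' ⊗[C'] ↥J) :
    TensorProduct.rid C' M' (LinearMap.lTensor M' (Submodule.subtype J) z) = mu (B := A') M' J z :=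
  rfl

section flat
variable [Module.Flat C' M']

/-- `μ` as an equivalence onto its range. -/
noncomputable def muEquiv : (M' ⊗[C'] ↥J) ≃ₗ[A'] LinearMap.range (mu (B := A') M' J) :=
  LinearEquiv.ofInjective _ (mu_injective (B := A') M' J)

theorem mu_smul_eq_zero (hJJ : J * J = ⊥) (j : C') (hj : j ∈ J) (z : M' ⊗[C'] ↥J) :
    j • mu (B := A') M' J z = 0 := by
  rw [← algebraMap_smul A' j, ← map_smul, algebraMap_smul,
    smul_tensor_eq_zero C' J J M' hJJ j hj z, map_zero]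

/-- an endomorphism with image in `JM'` kills `JM'` when `J² = 0`. -/
theorem delta_mu_eq_zero (hJJ : J * J = ⊥) (δ : M' →ₗ[A'] M')
    (hδ : ∀ x, δ x ∈ (J.map (algebraMap C' A')) • (⊤ : Submodule A' M')) (z : M' ⊗[C'] ↥J) :
    δ (mu (B := A') M' J z) = 0 := by
  induction z with
  | zero => simp
  | add a b ha hb => rw [map_add, map_add, ha, hb, add_zero]
  | tmul x j =>
    rw [mu_tmul, ← algebraMap_smul A' (j : C') x, map_smul, algebraMap_smul]
    have := hδ x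
    rw [← range_mu] at this
    obtain ⟨w, hw⟩ := this
    rw [← hw]
    exact mu_smul_eq_zero C' J A' M' hJJ _ j.2 w

theorem delta_delta (hJJ : J * J = ⊥) (δ : M' →ₗ[A'] M')
    (hδ : ∀ x, δ x ∈ (J.map (algebraMap C' A')) • (⊤ : Submodule A' M')) (x : M') :
    δ (δ x) = 0 := by
  have := hδ x
  rw [← range_mu] at this
  obtain ⟨w, hw⟩ := this
  rw [← hw]
  exact delta_mu_eq_zero C' J A' M' hJJ δ hδ w

theorem bijective_of (hJJ : J * J = ⊥) (σ : M' →ₗ[A'] M')
    (hσ : ∀ x, σ x - x ∈ (J.map (algebraMap C' A')) • (⊤ : Submodule A' M')) :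
    Function.Bijective σ := by
  set δ : M' →ₗ[A'] M' := σ - LinearMap.id with hδdef
  have hδ : ∀ x, δ x ∈ (J.map (algebraMap C' A')) • (⊤ : Submodule A' M') := fun x => hσ x
  have hσδ : ∀ x, σ x = x + δ x := fun x => by simp [hδdef]
  have hdd := delta_delta C' J A' M' hJJ δ hδ
  constructor
  · rw [injective_iff_map_eq_zero]
    intro x hx
    rw [hσδ] at hx
    have h1 : δ x = 0 := by
      have := congrArg δ hx
      rwa [map_add, hdd, add_zero, map_zero] at this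
    rwa [h1, add_zero] at hx
  · intro y
    refine ⟨y - δ y, ?_⟩
    rw [hσδ, map_sub, hdd]
    abel

/-- the homomorphism `M' → M₀ ⊗ J` attached to `σ`. -/
noncomputable def tau' (σ : M' →ₗ[A'] M')
    (hσ : ∀ x, σ x - x ∈ (J.map (algebraMap C' A')) • (⊤ : Submodule A' M')) :
    M' →ₗ[A'] ((M' ⧸ (𝔪.map (algebraMap C' A')) • (⊤ : Submodule A' M')) ⊗[C'] ↥J) :=
  rho C' 𝔪 J A' M' ∘ₗ (muEquiv C' J A' M').symm.toLinearMap ∘ₗ
    (σ - LinearMap.id).codRestrict (LinearMap.range (mu (B := A') M' J))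
      (fun x => by rw [range_mu]; exact hσ x)

theorem tau'_spec (σ : M' →ₗ[A'] M')
    (hσ : ∀ x, σ x - x ∈ (J.map (algebraMap C' A')) • (⊤ : Submodule A' M'))
    (x : M') (z : M' ⊗[C'] ↥J) (hz : mu (B := A') M' J z = σ x - x) :
    rho C' 𝔪 J A' M' z = tau' C' 𝔪 J A' M' σ hσ x := by
  unfold tau'
  rw [LinearMap.comp_apply, LinearMap.comp_apply]
  congr 1
  rw [LinearEquiv.coe_coe, LinearEquiv.eq_symm_apply]
  ext
  exact hz

theorem tau'_eq_zero (h𝔪J : 𝔪 * J = ⊥) (σ : M' →ₗ[A'] M')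
    (hσ : ∀ x, σ x - x ∈ (J.map (algebraMap C' A')) • (⊤ : Submodule A' M'))
    (n : M') (hn : n ∈ (𝔪.map (algebraMap C' A')) • (⊤ : Submodule A' M')) :
    tau' C' 𝔪 J A' M' σ hσ n = 0 := by
  rw [← mem_smul_top_iff'] at hn
  refine Submodule.smul_induction_on hn ?_ ?_
  · intro m hm x _
    rw [← algebraMap_smul A' m x, map_smul, algebraMap_smul]
    exact smul_tensor_eq_zero C' 𝔪 J _ h𝔪J m hm _
  · intro a b ha hb
    rw [map_add, ha, hb, add_zero]

theorem main (h𝔪J : 𝔪 * J = ⊥) (hJJ : J * J = ⊥) :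
    (∀ σ : M' →ₗ[A'] M', (∀ x : M', σ x - x ∈ (J.map (algebraMap C' A')) • (⊤ : Submodule A' M')) →
      Function.Bijective σ ∧
        ∃! τ : (M' ⧸ (𝔪.map (algebraMap C' A')) • (⊤ : Submodule A' M')) →ₗ[A'] ((M' ⧸ (𝔪.map (algebraMap C' A')) • (⊤ : Submodule A' M')) ⊗[C'] ↥J),
          (∀ (x : M') (z : M' ⊗[C'] ↥J), TensorProduct.rid C' M' (LinearMap.lTensor M' (Submodule.subtype J) z) = σ x - x →
            LinearMap.rTensor ↥J ((Submodule.mkQ ((𝔪.map (algebraMap C' A')) • (⊤ : Submodule A' M'))).restrictScalars C') z =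
              τ (Submodule.mkQ _ x))) ∧
    (∀ τ : (M' ⧸ (𝔪.map (algebraMap C' A')) • (⊤ : Submodule A' M')) →ₗ[A'] ((M' ⧸ (𝔪.map (algebraMap C' A')) • (⊤ : Submodule A' M')) ⊗[C'] ↥J),
      ∃ σ : M' →ₗ[A'] M', (∀ x : M', σ x - x ∈ (J.map (algebraMap C' A')) • (⊤ : Submodule A' M')) ∧
          (∀ (x : M') (z : M' ⊗[C'] ↥J), TensorProduct.rid C' M' (LinearMap.lTensor M' (Submodule.subtype J) z) = σ x - x →
            LinearMap.rTensor ↥J ((Submodule.mkQ ((𝔪.map (algebraMap C' A')) • (⊤ : Submodule A' M'))).restrictScalars C') z =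
              τ (Submodule.mkQ _ x))) := by
  constructor
  · intro σ hσ
    refine ⟨bijective_of C' J A' M' hJJ σ hσ, ?_⟩
    refine ⟨Submodule.liftQ _ (tau' C' 𝔪 J A' M' σ hσ) ?_, ?_, ?_⟩
    · intro n hn
      exact LinearMap.mem_ker.mpr (tau'_eq_zero C' 𝔪 J A' M' h𝔪J σ hσ n hn)
    · intro x z hz
      exact tau'_spec C' 𝔪 J A' M' σ hσ x z hz
    · intro τ₂ hτ₂
      apply LinearMap.ext
      intro y
      obtain ⟨x, rfl⟩ := Submodule.mkQ_surjective _ y
      have hx := hσ x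
      rw [← range_mu] at hx
      obtain ⟨z, hz⟩ := hx
      rw [← hτ₂ x z hz]
      exact tau'_spec C' 𝔪 J A' M' σ hσ x z hz
  · intro τ
    refine ⟨LinearMap.id + mu (B := A') M' J ∘ₗ (rhoEquiv C' 𝔪 J A' M' h𝔪J).symm.toLinearMap ∘ₗ τ ∘ₗ
      Submodule.mkQ _, ?_, ?_⟩
    · intro x
      rw [← range_mu]
      refine ⟨(rhoEquiv C' 𝔪 J A' M' h𝔪J).symm (τ (Submodule.mkQ _ x)), ?_⟩
      simp
    · intro x z hz
      have hz' : mu (B := A') M' J z = mu (B := A') M' J ((rhoEquiv C' 𝔪 J A' M' h𝔪J).symm (τ (Submodule.mkQ _ x))) := by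
        rw [← mu_eq, hz]
        simp
      have := mu_injective (B := A') M' J hz'
      rw [this]
      exact (rhoEquiv C' 𝔪 J A' M' h𝔪J).apply_symm_apply _

end flat

end Groth.Agent.Lib.Helper93.DefAut
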