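import Mathlib
import Groth.Agent.Lib.Helper93.DefIdeal
import Groth.Agent.Lib.Helper2.LocalFlat3
/-!
# Flat lifts of an ideal along a small extension: translating a lift by a homomorphism

Continuation of `DefIdeal`: given a flat lift `I'` of `I` and `φ : I → B ⊗ J`, `translate` is the
ideal `I''` of all `y` reducing into `I` with `y = x' + μ z`, `x' ∈ I'`, `ρ z = φ (y mod J)`.
Its quotient is flat by the nilpotent local criterion (`J² = 0`), and it is the unique flat lift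
whose difference from `I'` is `φ` (`main65`).
-/
set_option autoImplicit false
set_option linter.unusedSectionVars false
set_option linter.style.haveILetI false
universe u
open TensorProduct

namespace Groth.Agent.Lib.Helper93.DefIdeal2
open Groth.Agent.Lib.Helper93.QGorFlat2 Groth.Agent.Lib.Helper93.ArtinLift2
  Groth.Agent.Lib.Helper93.DefIdeal

variable (C' : Type u) [CommRing C'] (J : Ideal C') (A' : Type u) [CommRing A'] [Algebra C' A']
  (I : Ideal (A' ⧸ J.map (algebraMap C' A')))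
  [Module.Flat C' A'] (I' : Ideal A') [Module.Flat C' (A' ⧸ I')]
  (hI' : I'.map (Ideal.Quotient.mk (J.map (algebraMap C' A'))) = I)
  (φ : ↥I →ₗ[A'] (((A' ⧸ J.map (algebraMap C' A')) ⧸ I) ⊗[C'] ↥J))

/-- the translate of `I'` by `φ`. -/
def translate : Ideal A' where
  carrier := { y | ∃ (hy : Ideal.Quotient.mk (J.map (algebraMap C' A')) y ∈ I) (x' : A')
    (z : A' ⊗[C'] ↥J), x' ∈ I' ∧ Ideal.Quotient.mk (J.map (algebraMap C' A')) x' =
      Ideal.Quotient.mk (J.map (algebraMap C' A')) y ∧ mu (B := A') A' J z = y - x' ∧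
      rho C' J A' I z = φ ⟨Ideal.Quotient.mk (J.map (algebraMap C' A')) y, hy⟩ }
  add_mem' := by
    rintro a b ⟨ha, xa, za, h1a, h2a, h3a, h4a⟩ ⟨hb, xb, zb, h1b, h2b, h3b, h4b⟩
    refine ⟨by rw [map_add]; exact I.add_mem ha hb, xa + xb, za + zb, I'.add_mem h1a h1b, ?_, ?_, ?_⟩
    · rw [map_add, map_add, h2a, h2b]
    · rw [map_add, h3a, h3b]; ring
    · rw [map_add, h4a, h4b, ← map_add]
      congr 1
  zero_mem' := by
    refine ⟨by rw [map_zero]; exact I.zero_mem, 0, 0, I'.zero_mem, rfl, by simp, ?_⟩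
    rw [map_zero]
    have : (⟨Ideal.Quotient.mk (J.map (algebraMap C' A')) 0, by rw [map_zero]; exact I.zero_mem⟩ : ↥I) = 0 :=
      Subtype.ext (map_zero _)
    rw [this, map_zero]
  smul_mem' := by
    rintro c y ⟨hy, x', z, h1, h2, h3, h4⟩
    refine ⟨by rw [smul_eq_mul, map_mul]; exact I.mul_mem_left _ hy, c * x', c • z,
      I'.mul_mem_left c h1, ?_, ?_, ?_⟩
    · rw [smul_eq_mul, map_mul, map_mul, h2]
    · rw [map_smul, h3, smul_eq_mul, smul_eq_mul]; ring
    · rw [map_smul, h4, ← map_smul]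
      congr 1

theorem rho_surjective : Function.Surjective (rho C' J A' I) := by
  have : Function.Surjective (LinearMap.rTensor ↥J (IsScalarTower.toAlgHom C' A'
      ((A' ⧸ J.map (algebraMap C' A')) ⧸ I)).toLinearMap) := by
    apply LinearMap.rTensor_surjective
    intro b
    obtain ⟨a, rfl⟩ := Ideal.Quotient.mk_surjective b
    obtain ⟨a', rfl⟩ := Ideal.Quotient.mk_surjective a
    exact ⟨a', rfl⟩
  exact this

theorem mu_mem (z : A' ⊗[C'] ↥J) : mu (B := A') A' J z ∈ J.map (algebraMap C' A') := by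
  have : mu (B := A') A' J z ∈ LinearMap.range (mu (B := A') A' J) := ⟨z, rfl⟩
  rwa [range_mu, smul_eq_mul, Ideal.mul_top] at this

include hI' in
theorem map_translate :
    (translate C' J A' I I' φ).map (Ideal.Quotient.mk (J.map (algebraMap C' A'))) = I := by
  apply le_antisymm
  · rw [Ideal.map_le_iff_le_comap]
    rintro y ⟨hy, -⟩
    exact hy
  · intro x hx
    obtain ⟨x', hx', hxx'⟩ := exists_lift C' J A' I I' hI' x hx
    obtain ⟨z₀, hz₀⟩ := rho_surjective C' J A' I (φ ⟨x, hx⟩)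
    have hm : Ideal.Quotient.mk (J.map (algebraMap C' A')) (x' + mu (B := A') A' J z₀) = x := by
      rw [map_add, hxx', Ideal.Quotient.eq_zero_iff_mem.mpr (mu_mem C' J A' z₀), add_zero]
    rw [← hm]
    apply Ideal.mem_map_of_mem
    refine ⟨by rw [hm]; exact hx, x', z₀, hx', by rw [hm, hxx'], by ring, ?_⟩
    rw [hz₀]
    congr 1
    exact Subtype.ext hm.symm

include hI' in
/-- the difference of `translate` from `I'` is `φ`. -/
theorem translate_spec (x : A' ⧸ J.map (algebraMap C' A')) (hx : x ∈ I) (x' x'' : A')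
    (hx' : x' ∈ I') (hx'' : x'' ∈ translate C' J A' I I' φ)
    (h' : Ideal.Quotient.mk (J.map (algebraMap C' A')) x' = x)
    (h'' : Ideal.Quotient.mk (J.map (algebraMap C' A')) x'' = x)
    (z : A' ⊗[C'] ↥J) (hz : mu (B := A') A' J z = x'' - x') :
    rho C' J A' I z = φ ⟨x, hx⟩ := by
  obtain ⟨hy, x₁', z₁, h1, h2, h3, h4⟩ := hx''
  have hφ : φ ⟨Ideal.Quotient.mk (J.map (algebraMap C' A')) x'', hy⟩ = φ ⟨x, hx⟩ := by
    congr 1
    exact Subtype.ext h''
  rw [← hφ, ← h4]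
  have h0 : rho C' J A' I (z - z₁) = 0 := by
    apply rho_eq_zero C' J A' I I' (algebraMap_eq_zero_of_mem C' J A' I I' hI')
    rw [map_sub, hz, h3]
    have : x'' - x' - (x'' - x₁') = x₁' - x' := by ring
    rw [this]
    exact I'.sub_mem h1 hx'
  rw [map_sub, sub_eq_zero] at h0
  exact h0

include hI' in
theorem rho_eq_zero_of_mu_mem_translate (z : A' ⊗[C'] ↥J)
    (hz : mu (B := A') A' J z ∈ translate C' J A' I I' φ) : rho C' J A' I z = 0 := by
  have := translate_spec C' J A' I I' hI' φ 0 I.zero_mem 0 (mu (B := A') A' J z) I'.zero_mem hz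
    (map_zero _) (Ideal.Quotient.eq_zero_iff_mem.mpr (mu_mem C' J A' z)) z (by ring)
  rw [this]
  have : (⟨0, I.zero_mem⟩ : ↥I) = 0 := rfl
  rw [this, map_zero]

theorem smul_mem_eq_zero (hJJ : J * J = ⊥) (j : C') (hj : j ∈ J) (s : A')
    (hs : s ∈ J.map (algebraMap C' A')) : j • s = 0 := by
  have h1 : algebraMap C' A' j * s ∈ J.map (algebraMap C' A') * J.map (algebraMap C' A') :=
    Ideal.mul_mem_mul (Ideal.mem_map_of_mem _ hj) hs
  rw [← Ideal.map_mul, hJJ, Ideal.map_bot, Ideal.mem_bot] at h1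
  rw [Algebra.smul_def, h1]

/-- for any lift `I₂` of `I`, `ρ z = 0` forces `μ z ∈ I₂` (uses `J² = 0`). -/
theorem mu_mem_of_rho_eq_zero (hJJ : J * J = ⊥) (I₂ : Ideal A')
    (hI₂ : I₂.map (Ideal.Quotient.mk (J.map (algebraMap C' A'))) = I) (z : A' ⊗[C'] ↥J)
    (hz : rho C' J A' I z = 0) : mu (B := A') A' J z ∈ I₂ := by
  let π : A' →ₗ[C'] ((A' ⧸ J.map (algebraMap C' A')) ⧸ I) :=
    (IsScalarTower.toAlgHom C' A' ((A' ⧸ J.map (algebraMap C' A')) ⧸ I)).toLinearMap
  have hπ : Function.Surjective π := by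
    intro b
    obtain ⟨a, rfl⟩ := Ideal.Quotient.mk_surjective b
    obtain ⟨a', rfl⟩ := Ideal.Quotient.mk_surjective a
    exact ⟨a', rfl⟩
  have hex := rTensor_exact ↥J (f := (LinearMap.ker π).subtype) (g := π)
    (LinearMap.exact_subtype_ker_map π) hπ
  have hz' : LinearMap.rTensor ↥J π z = 0 := hz
  obtain ⟨t, rfl⟩ := (hex z).mp hz'
  clear hz hz'
  have hker : ∀ k : A', k ∈ LinearMap.ker π → k ∈ I₂ ⊔ J.map (algebraMap C' A') := by
    intro k hk
    have h1 : Ideal.Quotient.mk I (Ideal.Quotient.mk (J.map (algebraMap C' A')) k) = 0 := hk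
    rw [Ideal.Quotient.eq_zero_iff_mem, ← hI₂, ← Ideal.mem_comap,
      Ideal.comap_map_of_surjective _ Ideal.Quotient.mk_surjective, ← RingHom.ker_eq_comap_bot,
      Ideal.mk_ker] at h1
    exact h1
  induction t with
  | zero => simp
  | add a b ha hb => rw [map_add, map_add]; exact I₂.add_mem ha hb
  | tmul k j =>
    rw [LinearMap.rTensor_tmul, Submodule.subtype_apply, mu_tmul]
    obtain ⟨i, hi, s, hs, his⟩ := Submodule.mem_sup.mp (hker k.1 k.2)
    rw [← his, smul_add, smul_mem_eq_zero C' J A' hJJ j j.2 s hs, add_zero, Algebra.smul_def]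
    exact I₂.mul_mem_left _ hi

/-- a linear equivalence over `R` between `S`-modules is `S`-linear when `R → S` is surjective. -/
def extendScalars {R S M N : Type*} [CommRing R] [CommRing S] [Algebra R S]
    (h : Function.Surjective (algebraMap R S)) [AddCommGroup M] [Module R M] [Module S M]
    [IsScalarTower R S M] [AddCommGroup N] [Module R N] [Module S N] [IsScalarTower R S N]
    (e : M ≃ₗ[R] N) : M ≃ₗ[S] N :=
  { e with
    map_smul' := by
      intro s x
      obtain ⟨r, rfl⟩ := h s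
      simp only [AddHom.toFun_eq_coe, LinearMap.coe_toAddHom, LinearEquiv.coe_coe,
        algebraMap_smul, map_smul, RingHom.id_apply] }

section flat
variable (I₂ : Ideal A') (hI₂ : I₂.map (Ideal.Quotient.mk (J.map (algebraMap C' A'))) = I)

/-- the induced map `A'/I₂ → B`. -/
noncomputable def fB : (A' ⧸ I₂) →ₗ[C'] ((A' ⧸ J.map (algebraMap C' A')) ⧸ I) :=
  (Submodule.liftQ I₂ (Algebra.linearMap A' ((A' ⧸ J.map (algebraMap C' A')) ⧸ I)) (by
    intro i hi
    change Ideal.Quotient.mk I (Ideal.Quotient.mk _ i) = 0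
    rw [Ideal.Quotient.eq_zero_iff_mem, ← hI₂]
    exact Ideal.mem_map_of_mem _ hi)).restrictScalars C'

theorem fB_mk (a : A') : fB C' J A' I I₂ hI₂ (Ideal.Quotient.mk I₂ a) =
    algebraMap A' ((A' ⧸ J.map (algebraMap C' A')) ⧸ I) a := rfl

theorem fB_surjective : Function.Surjective (fB C' J A' I I₂ hI₂) := by
  intro b
  obtain ⟨a, rfl⟩ := Ideal.Quotient.mk_surjective b
  obtain ⟨a', rfl⟩ := Ideal.Quotient.mk_surjective a
  exact ⟨Ideal.Quotient.mk I₂ a', rfl⟩

theorem mem_ker_fB (k : A' ⧸ I₂) (hk : fB C' J A' I I₂ hI₂ k = 0) :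
    ∃ s ∈ J.map (algebraMap C' A'), Ideal.Quotient.mk I₂ s = k := by
  obtain ⟨a, rfl⟩ := Ideal.Quotient.mk_surjective k
  rw [fB_mk] at hk
  have h1 : Ideal.Quotient.mk I (Ideal.Quotient.mk (J.map (algebraMap C' A')) a) = 0 := hk
  rw [Ideal.Quotient.eq_zero_iff_mem, ← hI₂, ← Ideal.mem_comap,
    Ideal.comap_map_of_surjective _ Ideal.Quotient.mk_surjective, ← RingHom.ker_eq_comap_bot,
    Ideal.mk_ker] at h1
  obtain ⟨i, hi, s, hs, his⟩ := Submodule.mem_sup.mp h1
  refine ⟨s, hs, ?_⟩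
  rw [← his, map_add, Ideal.Quotient.eq_zero_iff_mem.mpr hi, zero_add]

theorem ker_fB : LinearMap.ker (fB C' J A' I I₂ hI₂) = J • (⊤ : Submodule C' (A' ⧸ I₂)) := by
  apply le_antisymm
  · intro k hk
    obtain ⟨s, hs, rfl⟩ := mem_ker_fB C' J A' I I₂ hI₂ k hk
    have hs' : s ∈ J • (⊤ : Submodule C' A') := by
      rw [mem_smul_top_iff' (B := A'), smul_eq_mul, Ideal.mul_top]; exact hs
    have := Submodule.mem_map_of_mem (f := (Ideal.Quotient.mkₐ C' I₂).toLinearMap) hs'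
    rw [Submodule.map_smul''] at this
    exact Submodule.smul_mono le_rfl le_top this
  · intro k hk
    refine Submodule.smul_induction_on hk ?_ ?_
    · intro c hc m _
      obtain ⟨a, rfl⟩ := Ideal.Quotient.mk_surjective m
      rw [LinearMap.mem_ker]
      have h0 : c • (Ideal.Quotient.mk I₂ a) = Ideal.Quotient.mk I₂ (algebraMap C' A' c * a) := by
        rw [← Algebra.smul_def]; rfl
      rw [h0, fB_mk, map_mul]
      have : algebraMap A' ((A' ⧸ J.map (algebraMap C' A')) ⧸ I) (algebraMap C' A' c) = 0 := by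
        change Ideal.Quotient.mk I (Ideal.Quotient.mk _ (algebraMap C' A' c)) = 0
        rw [Ideal.Quotient.eq_zero_iff_mem.mpr (Ideal.mem_map_of_mem _ hc), map_zero]
      rw [this, zero_mul]
    · intro x y hx hy
      exact Submodule.add_mem _ hx hy

/-- `(C'/J) ⊗ (A'/I₂) ≃ B`, `C'`-linearly. -/
noncomputable def tensorEquiv :
    ((C' ⧸ J) ⊗[C'] (A' ⧸ I₂)) ≃ₗ[C'] ((A' ⧸ J.map (algebraMap C' A')) ⧸ I) :=
  (TensorProduct.quotTensorEquivQuotSMul (A' ⧸ I₂) J).trans
    ((Submodule.quotEquivOfEq _ _ (ker_fB C' J A' I I₂ hI₂).symm).trans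
      ((fB C' J A' I I₂ hI₂).quotKerEquivOfSurjective (fB_surjective C' J A' I I₂ hI₂)))

include hI₂ in
theorem flat_tensor [Module.Flat (C' ⧸ J) ((A' ⧸ J.map (algebraMap C' A')) ⧸ I)] :
    Module.Flat (C' ⧸ J) ((C' ⧸ J) ⊗[C'] (A' ⧸ I₂)) :=
  Module.Flat.of_linearEquiv
    (extendScalars (R := C') (S := C' ⧸ J) Ideal.Quotient.mk_surjective
      (tensorEquiv C' J A' I I₂ hI₂))

/-- `ν = mu` for the module `M = A'/I₂` over `C'`. -/
theorem nu_comm (t : ↥J ⊗[C'] (A' ⧸ I₂)) :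
    mu (B := C') (A' ⧸ I₂) J (TensorProduct.comm C' ↥J (A' ⧸ I₂) t) =
      TensorProduct.lid C' (A' ⧸ I₂) (LinearMap.rTensor (A' ⧸ I₂) J.subtype t) := by
  induction t with
  | zero => simp
  | add a b ha hb => rw [map_add, map_add, map_add, map_add, ha, hb]
  | tmul j m =>
    rw [TensorProduct.comm_tmul, mu_tmul, LinearMap.rTensor_tmul, TensorProduct.lid_tmul]
    rfl

theorem nu_rTensor (z : A' ⊗[C'] ↥J) :
    mu (B := C') (A' ⧸ I₂) J (LinearMap.rTensor ↥J (Ideal.Quotient.mkₐ C' I₂).toLinearMap z) =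
      Ideal.Quotient.mk I₂ (mu (B := A') A' J z) := by
  induction z with
  | zero => simp
  | add a b ha hb => rw [map_add, map_add, map_add, map_add, ha, hb]
  | tmul a j =>
    rw [LinearMap.rTensor_tmul, mu_tmul, mu_tmul]
    rfl

theorem tmul_eq_zero_of_mem_ker (hJJ : J * J = ⊥) (k : A' ⧸ I₂)
    (hk : k ∈ LinearMap.ker (fB C' J A' I I₂ hI₂)) (j : ↥J) :
    k ⊗ₜ[C'] j = 0 := by
  rw [ker_fB] at hk
  refine Submodule.smul_induction_on hk ?_ ?_
  · intro c hc m _
    rw [TensorProduct.smul_tmul]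
    have : c • j = 0 := by
      apply Subtype.ext
      have h1 : c * j.1 ∈ J * J := Ideal.mul_mem_mul hc j.2
      rw [hJJ, Ideal.mem_bot] at h1
      exact h1
    rw [this, TensorProduct.tmul_zero]
  · intro x y hx hy
    rw [TensorProduct.add_tmul, hx, hy, add_zero]

theorem rTensor_fB_injective (hJJ : J * J = ⊥) :
    Function.Injective (LinearMap.rTensor ↥J (fB C' J A' I I₂ hI₂)) := by
  rw [injective_iff_map_eq_zero]
  intro w hw
  have hex := rTensor_exact ↥J (f := (LinearMap.ker (fB C' J A' I I₂ hI₂)).subtype)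
    (g := fB C' J A' I I₂ hI₂)
    (LinearMap.exact_subtype_ker_map _) (fB_surjective C' J A' I I₂ hI₂)
  obtain ⟨x, rfl⟩ := (hex w).mp hw
  clear hw
  induction x with
  | zero => simp
  | add a b ha hb => rw [map_add, ha, hb, add_zero]
  | tmul k j =>
    rw [LinearMap.rTensor_tmul, Submodule.subtype_apply]
    exact tmul_eq_zero_of_mem_ker C' J A' I I₂ hI₂ hJJ k.1 k.2 j

theorem rho_eq_rTensor_fB (z : A' ⊗[C'] ↥J) :
    rho C' J A' I z = LinearMap.rTensor ↥J (fB C' J A' I I₂ hI₂)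
      (LinearMap.rTensor ↥J (Ideal.Quotient.mkₐ C' I₂).toLinearMap z) := by
  induction z with
  | zero => simp
  | add a b ha hb => rw [map_add, map_add, map_add, ha, hb]
  | tmul a j => rfl

include hI₂ in
theorem rTensor_subtype_injective (hJJ : J * J = ⊥)
    (hρ : ∀ z : A' ⊗[C'] ↥J, mu (B := A') A' J z ∈ I₂ → rho C' J A' I z = 0) :
    Function.Injective (LinearMap.rTensor (A' ⧸ I₂) J.subtype) := by
  rw [injective_iff_map_eq_zero]
  intro t ht
  have hsurj : Function.Surjective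
      (LinearMap.rTensor ↥J (Ideal.Quotient.mkₐ C' I₂).toLinearMap) :=
    LinearMap.rTensor_surjective _ (Ideal.Quotient.mkₐ_surjective C' I₂)
  obtain ⟨z, hz⟩ := hsurj (TensorProduct.comm C' ↥J (A' ⧸ I₂) t)
  have h1 : Ideal.Quotient.mk I₂ (mu (B := A') A' J z) = 0 := by
    rw [← nu_rTensor, hz, nu_comm, ht, map_zero]
  have h2 : rho C' J A' I z = 0 := hρ z (Ideal.Quotient.eq_zero_iff_mem.mp h1)
  rw [rho_eq_rTensor_fB C' J A' I I₂ hI₂, hz] at h2
  have h3 := (rTensor_fB_injective C' J A' I I₂ hI₂ hJJ) (h2.trans (map_zero _).symm)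
  exact (TensorProduct.comm C' ↥J (A' ⧸ I₂)).injective (h3.trans (map_zero _).symm)

include hI₂ in
theorem flat_quotient_of (hJJ : J * J = ⊥)
    [Module.Flat (C' ⧸ J) ((A' ⧸ J.map (algebraMap C' A')) ⧸ I)]
    (hρ : ∀ z : A' ⊗[C'] ↥J, mu (B := A') A' J z ∈ I₂ → rho C' J A' I z = 0) :
    Module.Flat C' (A' ⧸ I₂) :=
  Groth.Agent.Lib.Helper2.flat_of_nilpotent J ⟨2, by rw [pow_two, hJJ]; rfl⟩
    (rTensor_subtype_injective C' J A' I I₂ hI₂ hJJ hρ)
    (flat_tensor C' J A' I I₂ hI₂)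

end flat

include hI' in
theorem main65 (hJJ : J * J = ⊥)
    [Module.Flat (C' ⧸ J) ((A' ⧸ J.map (algebraMap C' A')) ⧸ I)] :
    ∃! I'' : Ideal A', Module.Flat C' (A' ⧸ I'') ∧
      I''.map (Ideal.Quotient.mk (J.map (algebraMap C' A'))) = I ∧
      (∀ (x : (A' ⧸ J.map (algebraMap C' A'))) (hx : x ∈ I) (x' x'' : A'), x' ∈ I' → x'' ∈ I'' →
          Ideal.Quotient.mk (J.map (algebraMap C' A')) x' = x → Ideal.Quotient.mk (J.map (algebraMap C' A')) x'' = x →
          ∀ z : A' ⊗[C'] ↥J, TensorProduct.rid C' A' (LinearMap.lTensor A' (Submodule.subtype J) z) = x'' - x' →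
            LinearMap.rTensor ↥J (IsScalarTower.toAlgHom C' A' ((A' ⧸ J.map (algebraMap C' A')) ⧸ I)).toLinearMap z = φ ⟨x, hx⟩) := by
  refine ⟨translate C' J A' I I' φ, ⟨?_, map_translate C' J A' I I' hI' φ, ?_⟩, ?_⟩
  · exact flat_quotient_of C' J A' I _ (map_translate C' J A' I I' hI' φ) hJJ
      (rho_eq_zero_of_mu_mem_translate C' J A' I I' hI' φ)
  · intro x hx x' x'' hx' hx'' h' h'' z hz
    exact translate_spec C' J A' I I' hI' φ x hx x' x'' hx' hx'' h' h'' z hz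
  · rintro I₂ ⟨hflat, hI₂, hP⟩
    apply le_antisymm
    · intro y hy₂
      have hy : Ideal.Quotient.mk (J.map (algebraMap C' A')) y ∈ I := by
        rw [← hI₂]; exact Ideal.mem_map_of_mem _ hy₂
      obtain ⟨x', hx', h'⟩ := exists_lift C' J A' I I' hI' _ hy
      have hd : y - x' ∈ J.map (algebraMap C' A') := by
        rw [← Ideal.Quotient.eq, h']
      obtain ⟨z, hz⟩ := exists_mu_eq C' J A' _ hd
      exact ⟨hy, x', z, hx', h', hz, hP _ hy x' y hx' hy₂ h' rfl z hz⟩
    · rintro y ⟨hy, x', z, hx', h', hz, hρ⟩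
      obtain ⟨y₂, hy₂, h₂⟩ := exists_lift C' J A' I I₂ hI₂ _ hy
      have hd : y₂ - x' ∈ J.map (algebraMap C' A') := by
        rw [← Ideal.Quotient.eq, h', h₂]
      obtain ⟨z₂, hz₂⟩ := exists_mu_eq C' J A' _ hd
      have h1 : rho C' J A' I z₂ = φ ⟨_, hy⟩ := hP _ hy x' y₂ hx' hy₂ h' h₂ z₂ hz₂
      have h0 : rho C' J A' I (z - z₂) = 0 := by rw [map_sub, hρ, h1, sub_self]
      have hm := mu_mem_of_rho_eq_zero C' J A' I hJJ I₂ hI₂ (z - z₂) h0
      rw [map_sub, hz, hz₂] at hm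
      have : y = y₂ + (y - x' - (y₂ - x')) := by ring
      rw [this]
      exact I₂.add_mem hy₂ hm

end Groth.Agent.Lib.Helper93.DefIdeal2
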