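import Mathlib

set_option autoImplicit false
universe u v w
namespace Groth.Agent.Lib.Helper93.Dieu

open Module

section semilin
variable {W : Type u} [CommRing W] (σ : W →+* W)
  {N : Type w} [AddCommGroup N] [Module W N] (VN : N →+ N)
  (hVN : ∀ (a : W) (n : N), VN (σ a • n) = a • VN n)

include hVN in
theorem mem_span_range_iff (x : N) : x ∈ Submodule.span W (Set.range VN) ↔ ∃ n, VN n = x := by
  constructor
  · intro hx
    induction hx using Submodule.span_induction with
    | mem x hx => exact hx
    | zero => exact ⟨0, map_zero _⟩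
    | add x y _ _ hx hy =>
      obtain ⟨n, rfl⟩ := hx
      obtain ⟨n', rfl⟩ := hy
      exact ⟨n + n', map_add _ _ _⟩
    | smul a x _ hx =>
      obtain ⟨n, rfl⟩ := hx
      exact ⟨σ a • n, hVN a n⟩
  · rintro ⟨n, rfl⟩
    exact Submodule.subset_span ⟨n, rfl⟩

end semilin

section inj
variable {W : Type u} [CommRing W] [IsDomain W] (π : W) (hπ0 : π ≠ 0)
  {N : Type w} [AddCommGroup N] [Module W N] [Module.Free W N] (FN VN : N →+ N)
  (hFVN : ∀ n : N, FN (VN n) = π • n)

include hπ0 hFVN in
theorem V_injective : Function.Injective VN := by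
  rw [injective_iff_map_eq_zero]
  intro n hn
  have h1 : π • n = 0 := by rw [← hFVN, hn, map_zero]
  let b := Module.Free.chooseBasis W N
  apply b.repr.injective
  ext i
  have h2 := congrArg (fun y => b.repr y i) h1
  simp only [map_smul, Finsupp.smul_apply, smul_eq_mul, map_zero, Finsupp.zero_apply] at h2
  rw [map_zero, Finsupp.zero_apply]
  exact (mul_eq_zero.1 h2).resolve_left hπ0

end inj

section partA
variable {W : Type u} [CommRing W] [IsDomain W] (π : W) (hπ0 : π ≠ 0) (σ : W →+* W)
  (hσ : Function.Surjective σ)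
  {M : Type v} [AddCommGroup M] [Module W M]
  {N : Type w} [AddCommGroup N] [Module W N] [Module.Free W N]
  (VM : M →+ M) (FN VN : N →+ N)
  (hVM : ∀ (a : W) (m : M), VM (σ a • m) = a • VM m)
  (hVN : ∀ (a : W) (n : N), VN (σ a • n) = a • VN n)
  (hFVN : ∀ n : N, FN (VN n) = π • n)

include hπ0 hσ hVM hVN hFVN in
theorem partA (h : M →ₗ[W] N) :
    (∀ m : M, h (VM m) ∈ Submodule.span W (Set.range VN)) ↔
      ∃ h' : M →ₗ[W] N, ∀ m : M, h (VM m) = VN (h' m) := by
  have hinj := V_injective π hπ0 FN VN hFVN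
  constructor
  · intro hmem
    have hex : ∀ m, ∃ n, VN n = h (VM m) := fun m => (mem_span_range_iff σ VN hVN _).1 (hmem m)
    choose h₀ hh₀ using hex
    refine ⟨{ toFun := h₀, map_add' := ?_, map_smul' := ?_ }, fun m => (hh₀ m).symm⟩
    · intro m m'
      apply hinj
      rw [map_add, hh₀, hh₀, hh₀, map_add, map_add]
    · intro a m
      obtain ⟨b, rfl⟩ := hσ a
      apply hinj
      rw [RingHom.id_apply, hh₀, hVM, map_smul, hVN, hh₀]
  · rintro ⟨h', hh'⟩ m
    rw [hh']
    exact Submodule.subset_span ⟨_, rfl⟩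

end partA


section smith
variable {W : Type u} [CommRing W] [IsDomain W] [IsDiscreteValuationRing W]
  (π : W) (hπ : Irreducible π)
  {M : Type v} [AddCommGroup M] [Module W M] [Module.Free W M] [Module.Finite W M]
  (L : Submodule W M) (hL : ∀ m : M, π • m ∈ L)

include hπ hL in
theorem finrank_eq : Module.finrank W L = Module.finrank W M := by
  apply le_antisymm
  · exact Submodule.finrank_le L
  · let φ : M →ₗ[W] L := (LinearMap.lsmul W M π).codRestrict L hL
    have hφ : Function.Injective φ := by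
      intro x y hxy
      have h1 : π • x = π • y := congrArg Subtype.val hxy
      exact smul_right_injective M hπ.ne_zero h1
    exact LinearMap.finrank_le_finrank_of_injective hφ

include hπ hL in
theorem smith_data :
    ∃ (ι : Type v) (_ : Fintype ι) (b' : Module.Basis ι W M) (a : ι → W),
      (∀ i, a i • b' i ∈ L) ∧
      (∀ x ∈ L, ∃ c : ι → W, x = ∑ i, c i • a i • b' i) ∧
      (∀ i, IsUnit (a i) ∨ ∃ u : Wˣ, a i = π * u) ∧
      Module.length W (M ⧸ L) = ∑ i, IsDiscreteValuationRing.addVal W (a i) := by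
  classical
  let ι := Module.Free.ChooseBasisIndex W M
  let b : Module.Basis ι W M := Module.Free.chooseBasis W M
  have hrank := finrank_eq π hπ L hL
  let a := Submodule.smithNormalFormCoeffs b hrank
  let b' := Submodule.smithNormalFormTopBasis b hrank
  let ab := Submodule.smithNormalFormBotBasis b hrank
  have hab : ∀ i, (ab i : M) = a i • b' i := Submodule.smithNormalFormBotBasis_def b hrank
  have h2 : ∀ x ∈ L, ∃ c : ι → W, x = ∑ i, c i • a i • b' i := by
    intro x hx
    refine ⟨fun i => ab.repr ⟨x, hx⟩ i, ?_⟩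
    have := ab.sum_repr ⟨x, hx⟩
    have h3 := congrArg (Subtype.val) this
    simp only [Submodule.coe_sum, Submodule.coe_smul] at h3
    refine h3.symm.trans ?_
    exact Finset.sum_congr rfl (fun i _ => by rw [hab])
  refine ⟨ι, inferInstance, b', a, fun i => hab i ▸ (ab i).2, h2, ?_, ?_⟩
  · intro i
    obtain ⟨c, hc⟩ := h2 (π • b' i) (hL _)
    have h3 := congrArg (fun y => b'.repr y i) hc
    simp only [map_smul, map_sum, Finsupp.smul_apply, Basis.repr_self, Finsupp.coe_finset_sum,
      Finset.sum_apply, Finsupp.single_apply, smul_eq_mul] at h3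
    simp only [mul_ite, mul_one, mul_zero, Finset.sum_ite_eq', Finset.mem_univ,
      ↓reduceIte] at h3
    -- h3 : π = c i * a i
    rcases hπ.isUnit_or_isUnit h3 with hc' | ha'
    · right
      refine ⟨hc'.unit⁻¹, ?_⟩
      rw [h3]
      have : c i * hc'.unit⁻¹ = 1 := by
        exact hc'.mul_val_inv
      calc a i = (c i * ↑hc'.unit⁻¹) * a i := by rw [this, one_mul]
        _ = c i * a i * ↑hc'.unit⁻¹ := by ring
    · exact Or.inl ha'
  · rw [(L.quotientEquivPiSpan b hrank).length_eq, Module.length_pi_of_fintype]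
    refine Finset.sum_congr rfl (fun i _ => ?_)
    exact Ring.ord_eq_addVal (R := W) _

end smith


section partBC
variable {W : Type u} [CommRing W] [IsDomain W] [IsDiscreteValuationRing W]
  (π : W) (hπ : Irreducible π) (σ : W →+* W)
  {M : Type v} [AddCommGroup M] [Module W M] [Module.Free W M] [Module.Finite W M]
  {N : Type w} [AddCommGroup N] [Module W N]

include hπ in
theorem partB_aux (L : Submodule W M) (hL : ∀ m : M, π • m ∈ L) (VN' : Submodule W N)
    (g : L →ₗ[W] N ⧸ VN') (hg : ∀ m : M, g ⟨π • m, hL m⟩ = 0) :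
    ∃ h : M →ₗ[W] N, ∀ x : L, VN'.mkQ (h x) = g x := by
  classical
  obtain ⟨ι, _, b', a, h1, h2, h3, -⟩ := smith_data π hπ L hL
  have hsurj := VN'.mkQ_surjective
  let lift : (N ⧸ VN') → N := fun q => (hsurj q).choose
  have hlift : ∀ q, VN'.mkQ (lift q) = q := fun q => (hsurj q).choose_spec
  let h : M →ₗ[W] N := b'.constr W
    (fun i => if hu : IsUnit (a i) then (↑hu.unit⁻¹ : W) • lift (g ⟨a i • b' i, h1 i⟩) else 0)
  have key : ∀ i, VN'.mkQ (h (a i • b' i)) = g ⟨a i • b' i, h1 i⟩ := by
    intro i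
    rw [map_smul, Basis.constr_basis]
    by_cases hu : IsUnit (a i)
    · rw [dif_pos hu, smul_smul, hu.mul_val_inv, one_smul, hlift]
    · rw [dif_neg hu, smul_zero, map_zero]
      obtain ⟨u, hau⟩ := (h3 i).resolve_left hu
      have : (⟨a i • b' i, h1 i⟩ : L) = ⟨π • ((u : W) • b' i), hL _⟩ := by
        apply Subtype.ext
        change a i • b' i = π • ((u : W) • b' i)
        rw [smul_smul, hau]
      rw [this, hg]
  refine ⟨h, ?_⟩
  rintro ⟨x, hx⟩
  obtain ⟨c, hc⟩ := h2 x hx
  have hx' : (⟨x, hx⟩ : L) = ∑ i, c i • (⟨a i • b' i, h1 i⟩ : L) := by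
    apply Subtype.ext
    simp only [Submodule.coe_sum, Submodule.coe_smul]
    exact hc
  rw [hx', map_sum]
  change VN'.mkQ (h ((∑ i, c i • (⟨a i • b' i, h1 i⟩ : L) : L) : M)) = _
  simp only [Submodule.coe_sum, Submodule.coe_smul, map_sum]
  exact Finset.sum_congr rfl (fun i _ => by rw [map_smul, map_smul, key i, map_smul])

include hπ in
theorem partC_aux (L : Submodule W M) (hL : ∀ m : M, π • m ∈ L) (VN' : Submodule W N)
    (hπN : ∀ n : N, π • n ∈ VN') (r₂ s₁ : ℕ)
    (hr₂ : Module.length W (N ⧸ VN') = r₂)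
    (hs₁ : (Module.finrank W M : ℕ∞) = Module.length W (M ⧸ L) + s₁) :
    Module.length W ((M →ₗ[W] N) ⧸
      ⨅ x : L, VN'.comap (LinearMap.applyₗ (x : M) : (M →ₗ[W] N) →ₗ[W] N)) = (r₂ * s₁ : ℕ) := by
  classical
  obtain ⟨ι, _, b', a, h1, h2, h3, h4⟩ := smith_data π hπ L hL
  have hsurj := VN'.mkQ_surjective
  let lift : (N ⧸ VN') → N := fun q => (hsurj q).choose
  have hlift : ∀ q, VN'.mkQ (lift q) = q := fun q => (hsurj q).choose_spec
  let U := {i : ι // IsUnit (a i)}
  let Θ : (M →ₗ[W] N) →ₗ[W] (U → N ⧸ VN') :=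
    LinearMap.pi (fun i : U => VN'.mkQ ∘ₗ (LinearMap.applyₗ (b' i.1) : (M →ₗ[W] N) →ₗ[W] N))
  have hΘ : ∀ (h : M →ₗ[W] N) (i : U), Θ h i = VN'.mkQ (h (b' i.1)) := fun h i => rfl
  have hΘsurj : Function.Surjective Θ := by
    intro y
    refine ⟨b'.constr W (fun i => if hu : IsUnit (a i) then lift (y ⟨i, hu⟩) else 0), ?_⟩
    funext ⟨i, hu⟩
    rw [hΘ, Basis.constr_basis, dif_pos hu, hlift]
  have hker : LinearMap.ker Θ = ⨅ x : L, VN'.comap
      (LinearMap.applyₗ (x : M) : (M →ₗ[W] N) →ₗ[W] N) := by
    ext h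
    rw [LinearMap.mem_ker, Submodule.mem_iInf]
    constructor
    · rintro hh ⟨x, hx⟩
      rw [Submodule.mem_comap, LinearMap.applyₗ_apply_apply]
      have hi : ∀ i, IsUnit (a i) → h (b' i) ∈ VN' := by
        intro i hu
        have := congrFun hh ⟨i, hu⟩
        rw [hΘ] at this
        exact (Submodule.Quotient.mk_eq_zero VN').1 this
      obtain ⟨c, hc⟩ := h2 x hx
      change h x ∈ VN'
      rw [hc, map_sum]
      refine Submodule.sum_mem _ (fun i _ => ?_)
      rw [map_smul, map_smul]
      refine Submodule.smul_mem _ _ ?_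
      by_cases hu : IsUnit (a i)
      · exact Submodule.smul_mem _ _ (hi i hu)
      · obtain ⟨u, hau⟩ := (h3 i).resolve_left hu
        rw [hau, mul_smul]
        exact hπN _
    · intro hh
      funext ⟨i, hu⟩
      rw [hΘ]
      change VN'.mkQ (h (b' i)) = 0
      rw [Submodule.mkQ_apply, Submodule.Quotient.mk_eq_zero]
      have hbL : b' i ∈ L := by
        have : b' i = (↑hu.unit⁻¹ : W) • (a i • b' i) := by
          rw [smul_smul, hu.val_inv_mul, one_smul]
        rw [this]
        exact Submodule.smul_mem _ _ (h1 i)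
      have := hh ⟨b' i, hbL⟩
      rw [Submodule.mem_comap, LinearMap.applyₗ_apply_apply] at this
      exact this
  rw [← hker, (Θ.quotKerEquivOfSurjective hΘsurj).length_eq, Module.length_pi, hr₂]
  -- count
  have haddval : ∀ i, IsDiscreteValuationRing.addVal W (a i) =
      if ¬ IsUnit (a i) then (1 : ℕ∞) else 0 := by
    intro i
    by_cases hu : IsUnit (a i)
    · rw [if_neg (not_not.2 hu)]
      have := IsDiscreteValuationRing.addVal_eq_zero_of_unit (R := W) hu.unit
      simpa using this
    · rw [if_pos hu]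
      obtain ⟨u, hau⟩ := (h3 i).resolve_left hu
      rw [hau, AddValuation.map_mul, IsDiscreteValuationRing.addVal_uniformizer hπ,
        IsDiscreteValuationRing.addVal_eq_zero_of_unit, add_zero]
  have hsum : ∑ i, IsDiscreteValuationRing.addVal W (a i) =
      ((Finset.univ.filter (fun i => ¬ IsUnit (a i))).card : ℕ∞) := by
    rw [Finset.sum_congr rfl (fun i _ => haddval i), Finset.sum_boole]
  have hcardU : ENat.card U = ((Finset.univ.filter (fun i => IsUnit (a i))).card : ℕ∞) := by
    rw [ENat.card_eq_coe_fintype_card, Fintype.card_subtype]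
  have hfin : Module.finrank W M = Fintype.card ι := Module.finrank_eq_card_basis b'
  have hsplit := Finset.card_filter_add_card_filter_not (s := (Finset.univ : Finset ι))
    (fun i => IsUnit (a i))
  rw [h4, hsum, hfin] at hs₁
  have hs₁' : Fintype.card ι = (Finset.univ.filter (fun i => ¬ IsUnit (a i))).card + s₁ := by
    exact_mod_cast hs₁
  rw [Finset.card_univ] at hsplit
  have hU : (Finset.univ.filter (fun i => IsUnit (a i))).card = s₁ := by omega
  rw [hcardU, hU]
  push_cast
  ring

end partBC


theorem main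
    (p : ℕ) [Fact p.Prime] (k : Type u) [Field k] [CharP k p] [PerfectRing k p]
    (M : Type v) [AddCommGroup M] [Module (WittVector p k) M]
    [Module.Free (WittVector p k) M] [Module.Finite (WittVector p k) M]
    (N : Type w) [AddCommGroup N] [Module (WittVector p k) N]
    [Module.Free (WittVector p k) N] [Module.Finite (WittVector p k) N]
    (FM VM : M →+ M) (FN VN : N →+ N)
    (hVM : ∀ (a : WittVector p k) (m : M), VM (WittVector.frobenius a • m) = a • VM m)
    (hVFM : ∀ m : M, VM (FM m) = (p : WittVector p k) • m)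
    (hVN : ∀ (a : WittVector p k) (n : N), VN (WittVector.frobenius a • n) = a • VN n)
    (hFVN : ∀ n : N, FN (VN n) = (p : WittVector p k) • n)
    (hVFN : ∀ n : N, VN (FN n) = (p : WittVector p k) • n)
    (r₂ s₁ : ℕ)
    (hr₂ : Module.length (WittVector p k) (N ⧸ Submodule.span (WittVector p k) (Set.range VN)) = r₂)
    (hs₁ : (Module.finrank (WittVector p k) M : ℕ∞) =
      Module.length (WittVector p k) (M ⧸ Submodule.span (WittVector p k) (Set.range VM)) + s₁) :
    (∀ h : M →ₗ[WittVector p k] N,
      (∀ m : M, h (VM m) ∈ Submodule.span (WittVector p k) (Set.range VN)) ↔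
        ∃ h' : M →ₗ[WittVector p k] N, ∀ m : M, h (VM m) = VN (h' m)) ∧
    (∀ g : Submodule.span (WittVector p k) (Set.range VM) →ₗ[WittVector p k]
        N ⧸ Submodule.span (WittVector p k) (Set.range VN),
      (∀ m : M, g ⟨VM (FM m), Submodule.subset_span ⟨FM m, rfl⟩⟩ = 0) →
      ∃ h : M →ₗ[WittVector p k] N, ∀ x : Submodule.span (WittVector p k) (Set.range VM),
        (Submodule.span (WittVector p k) (Set.range VN)).mkQ (h x) = g x) ∧
    Module.length (WittVector p k) ((M →ₗ[WittVector p k] N) ⧸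
      ⨅ m : M, (Submodule.span (WittVector p k) (Set.range VN)).comap
        (LinearMap.applyₗ (VM m) : (M →ₗ[WittVector p k] N) →ₗ[WittVector p k] N)) = (r₂ * s₁ : ℕ) := by
  have hπ : Irreducible (p : WittVector p k) := WittVector.irreducible p
  have hσ : Function.Surjective (WittVector.frobenius : WittVector p k →+* WittVector p k) :=
    (WittVector.frobenius_bijective p k).2
  have hL : ∀ m : M, (p : WittVector p k) • m ∈ Submodule.span (WittVector p k) (Set.range VM) :=
    fun m => by rw [← hVFM]; exact Submodule.subset_span ⟨_, rfl⟩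
  have hπN : ∀ n : N, (p : WittVector p k) • n ∈ Submodule.span (WittVector p k) (Set.range VN) :=
    fun n => by rw [← hVFN]; exact Submodule.subset_span ⟨_, rfl⟩
  refine ⟨fun h => partA (p : WittVector p k) hπ.ne_zero WittVector.frobenius hσ VM FN VN hVM hVN
    hFVN h, ?_, ?_⟩
  · intro g hg
    refine partB_aux (p : WittVector p k) hπ _ hL _ g (fun m => ?_)
    have : (⟨(p : WittVector p k) • m, hL m⟩ : Submodule.span (WittVector p k) (Set.range VM)) =
        ⟨VM (FM m), Submodule.subset_span ⟨FM m, rfl⟩⟩ := Subtype.ext (hVFM m).symm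
    rw [this]
    exact hg m
  · have hC := partC_aux (p : WittVector p k) hπ _ hL _ hπN r₂ s₁ hr₂ hs₁
    have hinf : (⨅ m : M, (Submodule.span (WittVector p k) (Set.range VN)).comap
        (LinearMap.applyₗ (VM m) : (M →ₗ[WittVector p k] N) →ₗ[WittVector p k] N)) =
        ⨅ x : Submodule.span (WittVector p k) (Set.range VM),
          (Submodule.span (WittVector p k) (Set.range VN)).comap
            (LinearMap.applyₗ (x : M) : (M →ₗ[WittVector p k] N) →ₗ[WittVector p k] N) := by
      apply le_antisymm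
      · refine le_iInf (fun x => ?_)
        obtain ⟨m, hm⟩ := (mem_span_range_iff WittVector.frobenius VM hVM _).1 x.2
        rw [← hm]
        exact iInf_le _ m
      · refine le_iInf (fun m => ?_)
        exact iInf_le (fun x : Submodule.span (WittVector p k) (Set.range VM) =>
          (Submodule.span (WittVector p k) (Set.range VN)).comap
            (LinearMap.applyₗ (x : M) : (M →ₗ[WittVector p k] N) →ₗ[WittVector p k] N))
          ⟨VM m, Submodule.subset_span ⟨m, rfl⟩⟩
    rw [(Submodule.quotEquivOfEq _ _ hinf).length_eq]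
    exact hC

end Groth.Agent.Lib.Helper93.Dieu
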