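import Mathlib

set_option autoImplicit false
universe u v
namespace Groth.Agent.Lib.Helper93.DvrLen

open Module Matrix

variable {B : Type u} [CommRing B] [IsDomain B] [IsDiscreteValuationRing B]

theorem length_self_eq_top : Module.length B B = ⊤ := by
  have h1 := Ring.ord_zero (R := B)
  have h2 := Ring.ord_eq_addVal (R := B) (0 : B)
  rw [← h1, h2]
  simp

/-- determinant zero: infinite length -/
theorem length_coker_of_det_eq_zero {r : ℕ} (A : Matrix (Fin r) (Fin r) B) (h0 : A.det = 0) :
    Module.length B ((Fin r → B) ⧸ LinearMap.range A.mulVecLin) = ⊤ := by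
  classical
  obtain ⟨w, hw, hwA⟩ := Matrix.exists_vecMul_eq_zero_iff.2 h0
  let φ : (Fin r → B) →ₗ[B] B :=
    { toFun := fun v => w ⬝ᵥ v
      map_add' := fun x y => dotProduct_add w x y
      map_smul' := fun c x => by simp [dotProduct_smul] }
  have hφ : LinearMap.range A.mulVecLin ≤ LinearMap.ker φ := by
    rintro _ ⟨v, rfl⟩
    change w ⬝ᵥ (A *ᵥ v) = 0
    rw [Matrix.dotProduct_mulVec, hwA, zero_dotProduct]
  let φ' : ((Fin r → B) ⧸ LinearMap.range A.mulVecLin) →ₗ[B] B :=
    (LinearMap.range A.mulVecLin).liftQ φ hφ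
  obtain ⟨j, hj⟩ : ∃ j, w j ≠ 0 := by
    by_contra hcon
    push Not at hcon
    exact hw (funext hcon)
  let ψ : B →ₗ[B] ((Fin r → B) ⧸ LinearMap.range A.mulVecLin) :=
    (LinearMap.range A.mulVecLin).mkQ ∘ₗ (LinearMap.toSpanSingleton B (Fin r → B) (Pi.single j 1))
  have hcomp : ∀ b : B, φ' (ψ b) = b * w j := by
    intro b
    change w ⬝ᵥ (b • (Pi.single j (1 : B) : Fin r → B)) = b * w j
    rw [dotProduct_smul, dotProduct_single, smul_eq_mul, mul_one]
  have hinj : Function.Injective ψ := by
    intro b b' hbb'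
    have := congrArg φ' hbb'
    rw [hcomp, hcomp] at this
    exact mul_right_cancel₀ hj this
  have := Module.length_le_of_injective ψ hinj
  rw [length_self_eq_top] at this
  exact top_le_iff.1 this

theorem addVal_prod {ι : Type*} (s : Finset ι) (f : ι → B) :
    IsDiscreteValuationRing.addVal B (∏ i ∈ s, f i) =
      ∑ i ∈ s, IsDiscreteValuationRing.addVal B (f i) := by
  classical
  induction s using Finset.induction_on with
  | empty => simp
  | insert a s ha ih =>
    rw [Finset.prod_insert ha, Finset.sum_insert ha, AddValuation.map_mul, ih]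

/-- determinant nonzero -/
theorem length_coker_of_det_ne_zero {r : ℕ} (A : Matrix (Fin r) (Fin r) B) (h0 : A.det ≠ 0) :
    Module.length B ((Fin r → B) ⧸ LinearMap.range A.mulVecLin) =
      IsDiscreteValuationRing.addVal B A.det := by
  classical
  set f : (Fin r → B) →ₗ[B] (Fin r → B) := A.mulVecLin with hf
  have hinj : Function.Injective f := by
    rw [← LinearMap.ker_eq_bot, LinearMap.ker_eq_bot']
    intro v hv
    by_contra hne
    exact h0 (Matrix.exists_mulVec_eq_zero_iff.1 ⟨v, hne, hv⟩)
  set N : Submodule B (Fin r → B) := LinearMap.range f with hN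
  let e : (Fin r → B) ≃ₗ[B] N := LinearEquiv.ofInjective f hinj
  have hrank : Module.finrank B N = Module.finrank B (Fin r → B) := e.symm.finrank_eq
  let b := Pi.basisFun B (Fin r)
  let a := Submodule.smithNormalFormCoeffs b hrank
  let b' := Submodule.smithNormalFormTopBasis b hrank
  let ab := Submodule.smithNormalFormBotBasis b hrank
  have hab : ∀ i, (ab i : Fin r → B) = a i • b' i := Submodule.smithNormalFormBotBasis_def b hrank
  -- length
  have hlen : Module.length B ((Fin r → B) ⧸ N) = ∑ i, IsDiscreteValuationRing.addVal B (a i) := by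
    rw [(N.quotientEquivPiSpan b hrank).length_eq, Module.length_pi_of_fintype]
    refine Finset.sum_congr rfl (fun i _ => ?_)
    exact Ring.ord_eq_addVal (R := B) _
  -- determinant
  let D : (Fin r → B) →ₗ[B] (Fin r → B) := b'.constr B (fun i => a i • b' i)
  have hD : LinearMap.det D = ∏ i, a i := by
    rw [← LinearMap.det_toMatrix b']
    have : LinearMap.toMatrix b' b' D = Matrix.diagonal a := by
      ext i j
      rw [LinearMap.toMatrix_apply, Basis.constr_basis, map_smul, Finsupp.smul_apply,
        Basis.repr_self, Matrix.diagonal_apply, Finsupp.single_apply, smul_eq_mul]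
      by_cases hij : i = j
      · subst hij; simp
      · rw [if_neg (Ne.symm hij), if_neg hij, mul_zero]
    rw [this, Matrix.det_diagonal]
  let ψ : (Fin r → B) ≃ₗ[B] N := b'.equiv ab (Equiv.refl _)
  have hψ : N.subtype ∘ₗ (ψ : (Fin r → B) →ₗ[B] N) = D := by
    apply b'.ext
    intro i
    simp only [LinearMap.coe_comp, Function.comp_apply, LinearEquiv.coe_coe, Submodule.subtype_apply]
    rw [Basis.equiv_apply, Equiv.refl_apply, hab, Basis.constr_basis]
  let g : (Fin r → B) ≃ₗ[B] (Fin r → B) := e.trans ψ.symm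
  have hfD : f = D ∘ₗ (g : (Fin r → B) →ₗ[B] (Fin r → B)) := by
    rw [← hψ]
    refine LinearMap.ext fun v => ?_
    simp only [LinearMap.coe_comp, Function.comp_apply, LinearEquiv.coe_coe, Submodule.subtype_apply, g,
      LinearEquiv.trans_apply, LinearEquiv.apply_symm_apply]
    rfl
  have hdet : A.det = (∏ i, a i) * LinearMap.det (g : (Fin r → B) →ₗ[B] (Fin r → B)) := by
    rw [← hD, ← LinearMap.det_comp, ← hfD, hf, ← Matrix.toLin'_apply', LinearMap.det_toLin']
  have hunit : IsUnit (LinearMap.det (g : (Fin r → B) →ₗ[B] (Fin r → B))) := g.isUnit_det'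
  have hu0 : IsDiscreteValuationRing.addVal B
      (LinearMap.det (g : (Fin r → B) →ₗ[B] (Fin r → B))) = 0 := by
    have := IsDiscreteValuationRing.addVal_eq_zero_of_unit (R := B) hunit.unit
    simpa using this
  rw [hdet, AddValuation.map_mul, hu0, add_zero, addVal_prod, hlen]


theorem length_coker {r : ℕ} (A : Matrix (Fin r) (Fin r) B) :
    Module.length B ((Fin r → B) ⧸ LinearMap.range A.mulVecLin) =
      IsDiscreteValuationRing.addVal B A.det := by
  by_cases h0 : A.det = 0
  · rw [length_coker_of_det_eq_zero A h0, h0]; simp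
  · exact length_coker_of_det_ne_zero A h0

section semilinear

variable (ω : B ≃+* B) {r : ℕ} {M N : Type v} [AddCommGroup M] [Module B M]
  [AddCommGroup N] [Module B N] (bM : Module.Basis (Fin r) B M) (bN : Module.Basis (Fin r) B N)
  (χ : M →+ N) (hχ : ∀ (b : B) (x : M), χ (b • x) = ω b • χ x)

include hχ in
theorem span_range_eq :
    Submodule.span B (Set.range χ) = Submodule.span B (Set.range fun c => χ (bM c)) := by
  apply le_antisymm
  · rw [Submodule.span_le]
    rintro _ ⟨m, rfl⟩
    rw [← bM.sum_repr m, map_sum]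
    refine Submodule.sum_mem _ (fun c _ => ?_)
    rw [hχ]
    exact Submodule.smul_mem _ _ (Submodule.subset_span ⟨c, rfl⟩)
  · apply Submodule.span_mono
    rintro _ ⟨c, rfl⟩
    exact ⟨bM c, rfl⟩

include hχ in
theorem map_span_range :
    Submodule.map (bN.equivFun : N →ₗ[B] (Fin r → B)) (Submodule.span B (Set.range χ)) =
      LinearMap.range (Matrix.of fun (a c : Fin r) => bN.repr (χ (bM c)) a).mulVecLin := by
  rw [span_range_eq ω bM χ hχ, Submodule.map_span, Matrix.range_mulVecLin, ← Set.range_comp]
  rfl

include hχ in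
theorem length_one :
    Module.length B (N ⧸ Submodule.span B (Set.range χ)) =
      IsDiscreteValuationRing.addVal B
        (Matrix.det (Matrix.of fun (a c : Fin r) => bN.repr (χ (bM c)) a)) := by
  rw [← length_coker]
  exact (Submodule.Quotient.equiv _ _ bN.equivFun (map_span_range ω bM bN χ hχ)).length_eq

end semilinear

theorem span_pi_eq {n : ℕ} (M N : Fin n → Type v) [∀ i, AddCommGroup (M i)] [∀ i, Module B (M i)]
    [∀ i, AddCommGroup (N i)] [∀ i, Module B (N i)] (χ : ∀ i, M i →+ N i) :
    Submodule.span B (Set.range (fun (x : ∀ i, M i) (i : Fin n) => χ i (x i))) =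
      Submodule.pi Set.univ (fun i => Submodule.span B (Set.range (χ i))) := by
  classical
  apply le_antisymm
  · rw [Submodule.span_le]
    rintro _ ⟨x, rfl⟩ i _
    exact Submodule.subset_span ⟨x i, rfl⟩
  · intro y hy
    rw [← Finset.univ_sum_single y]
    refine Submodule.sum_mem _ (fun i _ => ?_)
    have hle : Submodule.span B (Set.range (χ i)) ≤
        Submodule.comap (LinearMap.single B N i)
          (Submodule.span B (Set.range (fun (x : ∀ i, M i) (i : Fin n) => χ i (x i)))) := by
      rw [Submodule.span_le]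
      rintro _ ⟨m, rfl⟩
      refine Submodule.subset_span ⟨Pi.single i m, ?_⟩
      funext j
      by_cases hj : j = i
      · subst hj; simp
      · simp [Pi.single_eq_of_ne hj]
    exact hle (hy i (Set.mem_univ i))

theorem main {n : ℕ} (ω : B ≃+* B) (r : Fin n → ℕ)
    (M N : Fin n → Type v) [∀ i, AddCommGroup (M i)] [∀ i, Module B (M i)]
    [∀ i, AddCommGroup (N i)] [∀ i, Module B (N i)]
    (bM : ∀ i, Module.Basis (Fin (r i)) B (M i)) (bN : ∀ i, Module.Basis (Fin (r i)) B (N i))
    (χ : ∀ i, M i →+ N i) (hχ : ∀ i (b : B) (x : M i), χ i (b • x) = ω b • χ i x) :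
    Module.length B ((∀ i, N i) ⧸ Submodule.span B (Set.range (fun (x : ∀ i, M i) (i : Fin n) => χ i (x i)))) =
      IsDiscreteValuationRing.addVal B (∏ i, Matrix.det
        (Matrix.of fun (a c : Fin (r i)) => (bN i).repr (χ i (bM i c)) a)) := by
  classical
  rw [(Submodule.quotEquivOfEq _ _ (span_pi_eq M N χ)).length_eq,
    (Submodule.quotientPi (fun i => Submodule.span B (Set.range (χ i)))).length_eq,
    Module.length_pi_of_fintype, addVal_prod]
  refine Finset.sum_congr rfl (fun i _ => ?_)
  exact length_one ω (bM i) (bN i) (χ i) (hχ i)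

end Groth.Agent.Lib.Helper93.DvrLen
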