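import Mathlib

set_option autoImplicit false
universe u
open IsLocalRing

namespace Groth.Agent.Lib.Helper93.FlatIdeals

variable (A : Type u) [CommRing A]

/-- (4) ⇒ (3) -/
theorem flat_submodule_of_valuation
    (h4 : ∀ (p : Ideal A) [p.IsPrime], ∃ _ : IsDomain (Localization.AtPrime p), ValuationRing (Localization.AtPrime p))
    (M : Type u) [AddCommGroup M] [Module A M] [Module.Flat A M] (N : Submodule A M) :
    Module.Flat A N := by
  apply Module.flat_of_localized_maximal
  intro P hP
  obtain ⟨hdom, hval⟩ := h4 P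
  haveI : Module.Flat (Localization.AtPrime P) (LocalizedModule P.primeCompl N) := by
    rw [Module.Flat.flat_iff_torsion_eq_bot_of_isBezout, eq_bot_iff]
    rintro x ⟨⟨r, hr⟩, hx⟩
    rw [Submodule.mem_bot]
    have hinj := LocalizedModule.map_injective P.primeCompl N.subtype N.injective_subtype
    apply hinj
    rw [map_zero]
    have hreg : IsSMulRegular (LocalizedModule P.primeCompl M) r :=
      Module.Flat.isSMulRegular_of_nonZeroDivisors hr
    apply hreg
    simp only [smul_zero]
    rw [← map_smul]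
    have : r • x = 0 := hx
    rw [this, map_zero]
  exact Module.Flat.trans A (Localization.AtPrime P) (LocalizedModule P.primeCompl N)


variable {A}

/-- key: if a finite sum is outside the prime `p`, some term is. -/
theorem exists_not_mem_of_sum_not_mem {k : ℕ} (p : Ideal A) (g : Fin k → A)
    (h : ∑ j, g j ∉ p) : ∃ j, g j ∉ p := by
  by_contra hcon
  push Not at hcon
  exact h (Ideal.sum_mem _ fun j _ => hcon j)

theorem dvd_total (h2 : ∀ I : Ideal A, I.FG → Module.Flat A I) (p : Ideal A) [p.IsPrime] (x y : A) :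
    (∃ s ∉ p, ∃ c : A, s * y = c * x) ∨ (∃ s ∉ p, ∃ c : A, s * x = c * y) := by
  set I : Ideal A := Ideal.span {x, y} with hI
  have hfg : I.FG := Submodule.fg_span (Set.toFinite {x, y})
  haveI := h2 I hfg
  have hxI : x ∈ I := Ideal.subset_span (by simp)
  have hyI : y ∈ I := Ideal.subset_span (by simp)
  let m : Fin 2 → I := ![⟨x, hxI⟩, ⟨y, hyI⟩]
  let f : Fin 2 → A := ![y, -x]
  have hrel : ∑ i, f i • m i = 0 := by
    rw [Fin.sum_univ_two]
    apply Subtype.ext
    simp [f, m]
    ring
  obtain ⟨k, a, n, hm, hf⟩ := Module.Flat.isTrivialRelation_of_sum_smul_eq_zero hrel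
  have hn : ∀ j, ∃ c d : A, c * x + d * y = (n j : A) := fun j =>
    Ideal.mem_span_pair.mp (n j).2
  choose c d hcd using hn
  have hx : x = ∑ j, a 0 j * (c j * x + d j * y) := by
    have h0 := congrArg Subtype.val (hm 0)
    simp only [m, Matrix.cons_val_zero, Submodule.coe_sum, Submodule.coe_smul, smul_eq_mul] at h0
    refine h0.trans (Finset.sum_congr rfl fun j _ => by rw [hcd])
  have hy : ∀ j, y * a 0 j = x * a 1 j := by
    intro j
    have := hf j
    rw [Fin.sum_univ_two] at this
    simp only [f, Matrix.cons_val_zero, Matrix.cons_val_one] at this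
    linear_combination this
  set u := ∑ j, a 0 j * c j with hu
  set v := ∑ j, a 0 j * d j with hv
  have hxuv : (1 - u) * x = v * y := by
    have : x = u * x + v * y := by
      conv_lhs => rw [hx]
      rw [hu, hv, Finset.sum_mul, Finset.sum_mul, ← Finset.sum_add_distrib]
      refine Finset.sum_congr rfl fun j _ => by ring
    linear_combination this
  by_cases h1 : 1 - u ∈ p
  · -- then `u ∉ p`
    have hup : u ∉ p := by
      intro hup
      have : (1 : A) ∈ p := by
        have := Ideal.add_mem _ h1 hup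
        simpa using this
      exact (Ideal.IsPrime.ne_top ‹_›) ((Ideal.eq_top_iff_one _).mpr this)
    obtain ⟨j, hj⟩ := exists_not_mem_of_sum_not_mem p _ hup
    have haj : a 0 j ∉ p := fun h => hj (Ideal.mul_mem_right _ _ h)
    exact Or.inl ⟨a 0 j, haj, a 1 j, by rw [mul_comm, hy j, mul_comm]⟩
  · exact Or.inr ⟨1 - u, h1, v, hxuv⟩

theorem zero_or_zero (h2 : ∀ I : Ideal A, I.FG → Module.Flat A I) (p : Ideal A) [p.IsPrime] (x y : A)
    (hxy : y * x = 0) : (∃ s ∉ p, s * x = 0) ∨ (∃ s ∉ p, s * y = 0) := by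
  set I : Ideal A := Ideal.span {x} with hI
  have hfg : I.FG := Submodule.fg_span (Set.finite_singleton x)
  haveI := h2 I hfg
  have hxI : x ∈ I := Ideal.subset_span (by simp)
  let m : Fin 1 → I := ![⟨x, hxI⟩]
  let f : Fin 1 → A := ![y]
  have hrel : ∑ i, f i • m i = 0 := by
    rw [Fin.sum_univ_one]
    apply Subtype.ext
    simp [f, m, hxy]
  obtain ⟨k, a, n, hm, hf⟩ := Module.Flat.isTrivialRelation_of_sum_smul_eq_zero hrel
  have hn : ∀ j, ∃ c : A, c * x = (n j : A) := fun j =>
    Ideal.mem_span_singleton'.mp (n j).2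
  choose c hc using hn
  have hx : x = ∑ j, a 0 j * (c j * x) := by
    have h0 := congrArg Subtype.val (hm 0)
    simp only [m, Matrix.cons_val_zero, Submodule.coe_sum, Submodule.coe_smul, smul_eq_mul] at h0
    refine h0.trans (Finset.sum_congr rfl fun j _ => by rw [hc])
  have hy : ∀ j, y * a 0 j = 0 := by
    intro j
    have := hf j
    rw [Fin.sum_univ_one] at this
    simpa [f] using this
  set u := ∑ j, a 0 j * c j with hu
  have hxu : (1 - u) * x = 0 := by
    have : x = u * x := by
      conv_lhs => rw [hx]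
      rw [hu, Finset.sum_mul]
      refine Finset.sum_congr rfl fun j _ => by ring
    linear_combination this
  by_cases h1 : 1 - u ∈ p
  · have hup : u ∉ p := by
      intro hup
      have : (1 : A) ∈ p := by
        have := Ideal.add_mem _ h1 hup
        simpa using this
      exact (Ideal.IsPrime.ne_top ‹_›) ((Ideal.eq_top_iff_one _).mpr this)
    obtain ⟨j, hj⟩ := exists_not_mem_of_sum_not_mem p _ hup
    have haj : a 0 j ∉ p := fun h => hj (Ideal.mul_mem_right _ _ h)
    exact Or.inr ⟨a 0 j, haj, by rw [mul_comm]; exact hy j⟩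
  · exact Or.inl ⟨1 - u, h1, hxu⟩


theorem valuation_of_flat (h2 : ∀ I : Ideal A, I.FG → Module.Flat A I) (p : Ideal A) [p.IsPrime] :
    ∃ _ : IsDomain (Localization.AtPrime p), ValuationRing (Localization.AtPrime p) := by
  have hnzd : NoZeroDivisors (Localization.AtPrime p) := by
    refine ⟨fun {a b} hab => ?_⟩
    obtain ⟨x, s, rfl⟩ := IsLocalization.exists_mk'_eq p.primeCompl a
    obtain ⟨y, t, rfl⟩ := IsLocalization.exists_mk'_eq p.primeCompl b
    rw [← IsLocalization.mk'_mul, IsLocalization.mk'_eq_zero_iff] at hab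
    obtain ⟨w, hw⟩ := hab
    have hxy : (w * y) * x = 0 := by rw [← hw]; ring
    rcases zero_or_zero h2 p x (w * y) hxy with ⟨r, hr, h0⟩ | ⟨r, hr, h0⟩
    · left
      rw [IsLocalization.mk'_eq_zero_iff]
      exact ⟨⟨r, hr⟩, h0⟩
    · right
      rw [IsLocalization.mk'_eq_zero_iff]
      refine ⟨⟨r, hr⟩ * w, ?_⟩
      rw [← h0]
      simp only [Submonoid.coe_mul]
      ring
  have hdom : IsDomain (Localization.AtPrime p) := NoZeroDivisors.to_isDomain _
  refine ⟨hdom, @ValuationRing.mk _ _ hdom ⟨fun a b => ?_⟩⟩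
  obtain ⟨x, s, rfl⟩ := IsLocalization.exists_mk'_eq p.primeCompl a
  obtain ⟨y, t, rfl⟩ := IsLocalization.exists_mk'_eq p.primeCompl b
  rcases dvd_total h2 p x y with ⟨w, hw, c, hc⟩ | ⟨w, hw, c, hc⟩
  · refine ⟨IsLocalization.mk' _ (c * s) (⟨w, hw⟩ * t), Or.inl ?_⟩
    rw [← IsLocalization.mk'_mul, IsLocalization.mk'_eq_iff_eq]
    congr 1
    simp only [Submonoid.coe_mul]
    linear_combination (-(s : A) * t) * hc
  · refine ⟨IsLocalization.mk' _ (c * t) (⟨w, hw⟩ * s), Or.inr ?_⟩
    rw [← IsLocalization.mk'_mul, IsLocalization.mk'_eq_iff_eq]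
    congr 1
    simp only [Submonoid.coe_mul]
    linear_combination (-(s : A) * t) * hc

theorem main (A : Type u) [CommRing A] :
    List.TFAE [∀ I : Ideal A, Module.Flat A I,
      ∀ I : Ideal A, I.FG → Module.Flat A I,
      ∀ (M : Type u) [AddCommGroup M] [Module A M], Module.Flat A M → ∀ N : Submodule A M, Module.Flat A N,
      ∀ (p : Ideal A) [p.IsPrime], ∃ _ : IsDomain (Localization.AtPrime p), ValuationRing (Localization.AtPrime p)] := by
  tfae_have 1 → 2 := fun h I _ => h I
  tfae_have 2 → 4 := fun h p _ => valuation_of_flat h p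
  tfae_have 4 → 3 := fun h M _ _ hM N => flat_submodule_of_valuation A h M N
  tfae_have 3 → 1 := fun h I => h A inferInstance I
  tfae_finish

end Groth.Agent.Lib.Helper93.FlatIdeals
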