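import Mathlib

/-!
# A universally submersive morphism whose "equivalence relation" is covered by a universally open
family is universally open.

`universallyOpen_of_surjective_cover`: let `f : X ⟶ Y` be universally submersive, and
`ψ : Z ⟶ X ×_Y X` surjective such that `ψ ≫ p₂ : Z ⟶ X` is universally open. Then `f` is universally
open. (Applied to `Z = G × X`, `ψ = (σ, p₂)` for geometric quotients.)
-/

set_option autoImplicit false

open CategoryTheory Limits AlgebraicGeometry MorphismProperty Topology

namespace Groth.Agent.Lib.Helper93

universe u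

theorem universallyOpen_of_surjective_cover
    {X Y Z : Scheme.{u}} (f : X ⟶ Y) (ψ : Z ⟶ pullback f f) [Surjective ψ]
    [hopen : UniversallyOpen (ψ ≫ pullback.snd f f)]
    (hf : universally (topologically @IsQuotientMap) f) : UniversallyOpen f := by
  rw [UniversallyOpen.eq]
  intro X' Y' pr g f' h
  -- `h : IsPullback f' pr g f`
  have hq : IsQuotientMap f'.base := hf pr g f' h
  -- the natural map on fibre squares
  let nat : pullback f' f' ⟶ pullback f f :=
    pullback.lift (pullback.fst f' f' ≫ pr) (pullback.snd f' f' ≫ pr)
      (by simp only [Category.assoc, ← h.w]; rw [← Category.assoc, ← Category.assoc, pullback.condition])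
  have hnat1 : nat ≫ pullback.fst f f = pullback.fst f' f' ≫ pr := pullback.lift_fst _ _ _
  have hnat2 : nat ≫ pullback.snd f f = pullback.snd f' f' ≫ pr := pullback.lift_snd _ _ _
  -- S1 : the square (nat, p₂', p₂, pr) is cartesian
  have S2 : IsPullback (pullback.fst f f) (pullback.snd f f) f f := IsPullback.of_hasPullback f f
  have S3 : IsPullback (pullback.fst f' f') (pullback.snd f' f') f' f' := IsPullback.of_hasPullback f' f'
  have S4 : IsPullback pr f' f g := h.flip
  have S34 : IsPullback (pullback.fst f' f' ≫ pr) (pullback.snd f' f') f (f' ≫ g) :=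
    S3.paste_horiz S4
  have S1 : IsPullback nat (pullback.snd f' f') (pullback.snd f f) pr := by
    refine IsPullback.of_right ?_ hnat2 S2
    rw [hnat1, ← h.w]
    exact S34
  -- Z' and its projections
  have S0 : IsPullback (pullback.fst ψ nat) (pullback.snd ψ nat) ψ nat := IsPullback.of_hasPullback ψ nat
  have S01 : IsPullback (pullback.fst ψ nat) (pullback.snd ψ nat ≫ pullback.snd f' f')
      (ψ ≫ pullback.snd f f) pr := S0.paste_vert S1
  have hβ : UniversallyOpen (pullback.snd ψ nat ≫ pullback.snd f' f') :=
    MorphismProperty.of_isPullback S01 hopen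
  have hsurj : Surjective (pullback.snd ψ nat) := inferInstance
  -- now the topological argument
  intro U hU
  rw [← hq.isOpen_preimage]
  have key : f'.base ⁻¹' (f'.base '' U) =
      (pullback.snd ψ nat ≫ pullback.snd f' f').base ''
        ((pullback.snd ψ nat ≫ pullback.fst f' f').base ⁻¹' U) := by
    ext x₂
    constructor
    · rintro ⟨x₁, hx₁, hx⟩
      obtain ⟨w, hw1, hw2⟩ := Scheme.Pullback.exists_preimage_pullback (f := f') (g := f') x₁ x₂ hx
      obtain ⟨z, rfl⟩ := (pullback.snd ψ nat).surjective w
      refine ⟨z, ?_, ?_⟩
      · simpa [hw1] using hx₁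
      · simpa using hw2
    · rintro ⟨z, hz, rfl⟩
      refine ⟨_, hz, ?_⟩
      have := congrArg (fun φ : pullback ψ nat ⟶ Y' => φ.base z)
        (show (pullback.snd ψ nat ≫ pullback.fst f' f') ≫ f' =
          (pullback.snd ψ nat ≫ pullback.snd f' f') ≫ f' by
          simp only [Category.assoc, pullback.condition])
      simpa using this
  rw [key]
  exact (pullback.snd ψ nat ≫ pullback.snd f' f').isOpenMap _ ((pullback.snd ψ nat ≫ pullback.fst f' f').continuous.isOpen_preimage U hU)

end Groth.Agent.Lib.Helper93
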