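import Mathlib
import Groth.Prelude
import Groth.Agent.Lib.Helper93.LengthSemiLocal

set_option autoImplicit false
set_option linter.unusedSectionVars false
set_option linter.style.haveILetI false
universe u

namespace Groth.Agent.Lib.Helper93.GoodSeq
open Groth.Agent.Lib.Helper93.MultOne Groth.Agent.Lib.Helper93.MultThree
open Groth.Agent.Lib.Helper93.LengthSemiLocal
open CycDet

variable {R : Type u} [CommRing R] [IsLocalRing R] {M : Type u} [AddCommGroup M] [Module R M]

/-- the property of the successive quotients. -/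
def P (q : Ideal R) {l : ℕ} (x : Fin l → M) : Prop :=
  ∀ i : Fin l, Nonempty ((↥(spanBefore R M x (i + 1)) ⧸
    (spanBefore R M x i).submoduleOf (spanBefore R M x (i + 1))) ≃ₗ[R] (R ⧸ q))

theorem spanBefore_mono {l : ℕ} (x : Fin l → M) {i j : ℕ} (h : i ≤ j) :
    spanBefore R M x i ≤ spanBefore R M x j := by
  unfold spanBefore
  apply Submodule.span_mono
  apply Set.image_mono
  intro k hk
  exact lt_of_lt_of_le hk h

theorem spanBefore_zero {l : ℕ} (x : Fin l → M) : spanBefore R M x 0 = ⊥ := by
  unfold spanBefore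
  simp

theorem spanBefore_top {l : ℕ} (x : Fin l → M) : spanBefore R M x l = Submodule.span R (Set.range x) := by
  unfold spanBefore
  congr 1
  rw [← Set.image_univ]
  congr 1
  ext k
  simp

theorem count (q : Ideal R) [q.IsPrime] {l : ℕ} (x : Fin l → M) (hP : P q x) :
    ∀ k, k ≤ l → lenAt q (spanBefore R M x k) = k := by
  intro k
  induction k with
  | zero =>
    intro _
    rw [spanBefore_zero]
    simpa using lenAt_of_subsingleton (N := (⊥ : Submodule R M)) q
  | succ k ih =>
    intro hk
    have hk' : k < l := by omega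
    obtain ⟨e⟩ := hP ⟨k, hk'⟩
    have hle : spanBefore R M x k ≤ spanBefore R M x (k + 1) := spanBefore_mono x (by omega)
    rw [lenAt_eq_add q ((spanBefore R M x k).submoduleOf (spanBefore R M x (k + 1))),
      lenAt_congr q (Submodule.submoduleOfEquivOfLe hle), ih (by omega), lenAt_congr q e,
      lenAt_quot_self]
    simp

theorem part2 (q : PrimeSpectrum R) (l : ℕ) (x : Fin l → M)
    (hs : q ∉ Module.support R (M ⧸ Submodule.span R (Set.range x))) (hP : P q.asIdeal x) :
    (l : ℕ∞) = Module.length (Localization.AtPrime q.asIdeal) (LocalizedModule q.asIdeal.primeCompl M) := by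
  change _ = lenAt q.asIdeal M
  rw [lenAt_eq_add q.asIdeal (Submodule.span R (Set.range x)), ← spanBefore_top, count q.asIdeal x hP l le_rfl]
  rw [Module.mem_support_iff, not_nontrivial_iff_subsingleton, ← spanBefore_top] at hs
  rw [(lenAt_eq_zero_iff q.asIdeal).mpr hs, add_zero]


theorem spanBefore_snoc_le {l : ℕ} (x : Fin l → M) (y : M) {j : ℕ} (hj : j ≤ l) :
    spanBefore R M (Fin.snoc x y : Fin (l + 1) → M) j = spanBefore R M x j := by
  unfold spanBefore
  congr 1
  ext z
  constructor
  · rintro ⟨i, hi, rfl⟩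
    have hil : i.val < l := lt_of_lt_of_le hi hj
    refine ⟨⟨i.val, hil⟩, hi, ?_⟩
    exact (Fin.snoc_castSucc (α := fun _ => M) y x ⟨i.val, hil⟩).symm
  · rintro ⟨i, hi, rfl⟩
    exact ⟨i.castSucc, hi, Fin.snoc_castSucc ..⟩

theorem spanBefore_snoc_succ {l : ℕ} (x : Fin l → M) (y : M) :
    spanBefore R M (Fin.snoc x y : Fin (l + 1) → M) (l + 1) =
      Submodule.span R (Set.range x) ⊔ Submodule.span R {y} := by
  rw [spanBefore_top, Fin.range_snoc, Submodule.span_insert, sup_comm]

theorem P_snoc (q : Ideal R) {l : ℕ} (x : Fin l → M) (y : M) (hP : P q x)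
    (hy : (Submodule.span R (Set.range x)).colon {y} = q) :
    P q (Fin.snoc x y : Fin (l + 1) → M) := by
  intro i
  by_cases hi : (i : ℕ) < l
  · rw [spanBefore_snoc_le x y (show (i : ℕ) + 1 ≤ l by omega),
      spanBefore_snoc_le x y (show (i : ℕ) ≤ l by omega)]
    exact hP ⟨i, hi⟩
  · have hil : (i : ℕ) = l := by have := i.2; omega
    rw [hil, spanBefore_snoc_succ, spanBefore_snoc_le x y le_rfl, spanBefore_top]
    set N := Submodule.span R (Set.range x) with hN
    set A := N ⊔ Submodule.span R {y} with hA
    have hyA : y ∈ A := Submodule.mem_sup_right (Submodule.mem_span_singleton_self y)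
    let φ : R →ₗ[R] (↥A ⧸ N.submoduleOf A) :=
      (Submodule.mkQ _).comp (LinearMap.toSpanSingleton R ↥A ⟨y, hyA⟩)
    have hsurj : Function.Surjective φ := by
      intro z
      obtain ⟨⟨a, ha⟩, rfl⟩ := Submodule.Quotient.mk_surjective _ z
      obtain ⟨n, hn, b, hb, rfl⟩ := Submodule.mem_sup.mp ha
      obtain ⟨r, rfl⟩ := Submodule.mem_span_singleton.mp hb
      refine ⟨r, ?_⟩
      change Submodule.Quotient.mk (r • (⟨y, hyA⟩ : A)) = _
      rw [Submodule.Quotient.eq]
      change _ - _ ∈ Submodule.comap A.subtype N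
      rw [Submodule.mem_comap]
      simp only [Submodule.subtype_apply, AddSubgroupClass.coe_sub, SetLike.val_smul]
      have : r • y - (n + r • y) = -n := by abel
      rw [this]
      exact N.neg_mem hn
    have hker : LinearMap.ker φ = q := by
      rw [← hy]
      ext r
      rw [LinearMap.mem_ker, Submodule.mem_colon_singleton]
      change Submodule.Quotient.mk (r • (⟨y, hyA⟩ : A)) = 0 ↔ _
      rw [Submodule.Quotient.mk_eq_zero]
      change _ ∈ Submodule.comap A.subtype N ↔ _
      rw [Submodule.mem_comap]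
      rfl
    exact ⟨(LinearMap.quotKerEquivOfSurjective φ hsurj).symm.trans (Submodule.quotEquivOfEq _ _ hker)⟩

theorem exists_aux [IsNoetherianRing R] [Module.Finite R M] (q : PrimeSpectrum R)
    (hq : Minimal (fun p : PrimeSpectrum R => p ∈ Module.support R M) q) :
    ∀ N : Submodule R M, ∀ (l : ℕ) (x : Fin l → M), Submodule.span R (Set.range x) = N →
      P q.asIdeal x →
      ∃ (l' : ℕ) (x' : Fin l' → M),
        q ∉ Module.support R (M ⧸ Submodule.span R (Set.range x')) ∧ P q.asIdeal x' := by
  intro N
  induction N using WellFoundedGT.induction with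
  | ind N ih =>
  intro l x hx hP
  by_cases hs : q ∈ Module.support R (M ⧸ N)
  · -- `q` is a minimal prime of the support of `M/N`, hence associated
    have hmin : q.asIdeal ∈ (Module.annihilator R (M ⧸ N)).minimalPrimes := by
      refine ⟨⟨q.2, Module.mem_support_iff_of_finite.mp hs⟩, ?_⟩
      rintro p' ⟨hp', hann⟩ hle
      have h1 : (⟨p', hp'⟩ : PrimeSpectrum R) ∈ Module.support R (M ⧸ N) :=
        Module.mem_support_iff_of_finite.mpr hann
      have h2 : (⟨p', hp'⟩ : PrimeSpectrum R) ∈ Module.support R M :=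
        Module.support_subset_of_surjective N.mkQ (Submodule.mkQ_surjective N) h1
      have := hq.2 h2 (by exact hle)
      exact this
    have hass := Module.associatedPrimes.minimalPrimes_annihilator_subset_associatedPrimes R (M ⧸ N) hmin
    obtain ⟨-, ybar, hy⟩ := isAssociatedPrime_iff.mp hass
    obtain ⟨y, rfl⟩ := Submodule.Quotient.mk_surjective _ ybar
    have hcolon : N.colon {y} = q.asIdeal := by
      rw [hy]
      ext r
      rw [Submodule.mem_colon_singleton, Submodule.mem_colon_singleton, Submodule.mem_bot,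
        ← Submodule.Quotient.mk_smul, Submodule.Quotient.mk_eq_zero]
    have hyN : y ∉ N := by
      intro hyN
      have : (1 : R) ∈ N.colon {y} := by
        rw [Submodule.mem_colon_singleton, one_smul]; exact hyN
      rw [hcolon] at this
      exact q.2.ne_top ((Ideal.eq_top_iff_one _).mpr this)
    have hlt : N < N ⊔ Submodule.span R {y} := by
      refine lt_of_le_of_ne le_sup_left fun h => hyN ?_
      rw [h]
      exact Submodule.mem_sup_right (Submodule.mem_span_singleton_self y)
    refine ih _ hlt (l + 1) (Fin.snoc x y) ?_ (P_snoc q.asIdeal x y hP (hx ▸ hcolon))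
    rw [Fin.range_snoc, Submodule.span_insert, sup_comm, hx]
  · exact ⟨l, x, hx ▸ hs, hP⟩

theorem part1 [IsNoetherianRing R] [Module.Finite R M] (q : PrimeSpectrum R)
    (hq : Minimal (fun p : PrimeSpectrum R => p ∈ Module.support R M) q) :
    ∃ (l : ℕ) (x : Fin l → M),
      q ∉ Module.support R (M ⧸ Submodule.span R (Set.range x)) ∧ P q.asIdeal x := by
  refine exists_aux q hq ⊥ 0 Fin.elim0 ?_ ?_
  · simp
  · intro i
    exact i.elim0

end Groth.Agent.Lib.Helper93.GoodSeq
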