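import Mathlib
import Groth.Agent.Lib.Helper93.GrCIB
import Groth.Agent.Lib.Helper29.CM

namespace Groth.Agent.Lib.Helper93.GrassA
open MvPolynomial Groth.Agent.Lib.Helper93.GrCIA Groth.Agent.Lib.Helper93.GrCIB

universe u
variable {F : Type u} [Field F] {k : ℕ}

/-- the irrelevant ideal -/
noncomputable def irr (F : Type u) [Field F] (k : ℕ) : Ideal (MvPolynomial (Fin k) F) :=
  Ideal.span (Set.range (fun j => (X j : MvPolynomial (Fin k) F)))

theorem mem_irr_iff (p : MvPolynomial (Fin k) F) : p ∈ irr F k ↔ coeff 0 p = 0 := by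
  unfold irr
  have : Set.range (fun j => (X j : MvPolynomial (Fin k) F))
      = (X : Fin k → MvPolynomial (Fin k) F) '' Set.univ := by rw [Set.image_univ]
  rw [this, mem_ideal_span_X_image]
  constructor
  · intro h
    by_contra hne
    obtain ⟨i, _, hi⟩ := h 0 (mem_support_iff.mpr hne)
    simp at hi
  · intro h m hm
    have hm0 : m ≠ 0 := by
      rintro rfl
      exact (mem_support_iff.mp hm) h
    by_contra hcon
    push Not at hcon
    apply hm0
    ext i
    simpa using hcon i (Set.mem_univ i)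

theorem irr_eq_ker : irr F k = RingHom.ker (constantCoeff : MvPolynomial (Fin k) F →+* F) := by
  ext p
  rw [mem_irr_iff, RingHom.mem_ker]
  rfl

instance irr_isMaximal : (irr F k).IsMaximal := by
  rw [irr_eq_ker]
  exact RingHom.ker_isMaximal_of_surjective _ (fun c => ⟨C c, by simp⟩)

section conv
variable {R : Type*} [CommRing R] {n : ℕ}

theorem ofList_take_smul_top (g : Fin n → R) (j : ℕ) :
    (Ideal.ofList ((List.ofFn g).take j) • ⊤ : Submodule R R) = J g j := by
  rw [Ideal.smul_top_eq_map]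
  simp only [Algebra.algebraMap_self, Ideal.map_id]
  unfold J Ideal.ofList
  simp only [Submodule.restrictScalars_self]
  congr 1
  ext x
  simp only [Set.mem_setOf_eq, Set.mem_image]
  rw [List.mem_take_iff_getElem]
  constructor
  · rintro ⟨i, hi, rfl⟩
    simp only [List.length_ofFn, lt_inf_iff] at hi
    exact ⟨⟨i, hi.2⟩, hi.1, by simp⟩
  · rintro ⟨i, hi, rfl⟩
    by_cases hjn : j ≤ n
    · exact ⟨i.val, by simp [hi, hjn], by simp⟩
    · exact ⟨i.val, by simp; omega, by simp⟩

theorem reg_of_weaklyRegular' (g : Fin n → R)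
    (hreg : RingTheory.Sequence.IsWeaklyRegular R (List.ofFn g))
    (i : Fin n) (a : R) (ha : g i * a ∈ J g i.val) : a ∈ J g i.val := by
  have hlen : i.val < (List.ofFn g).length := by simp
  have h1 := hreg.regular_mod_prev i.val hlen
  have hJ := ofList_take_smul_top g i.val
  have h2 : (List.ofFn g)[i.val] = g i := by simp
  rw [h2] at h1
  have h3 := @h1 (Submodule.Quotient.mk a) 0 (by
    simp only [smul_zero]
    rw [← Submodule.Quotient.mk_smul, Submodule.Quotient.mk_eq_zero, hJ]
    exact ha)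
  rw [Submodule.Quotient.mk_eq_zero, hJ] at h3
  exact h3

theorem weaklyRegular_of_reg (g : Fin n → R)
    (h : ∀ (i : Fin n) (a : R), g i * a ∈ J g i.val → a ∈ J g i.val) :
    RingTheory.Sequence.IsWeaklyRegular R (List.ofFn g) := by
  refine ⟨fun i hi => ?_⟩
  have hin : i < n := by simpa using hi
  have h2 : (List.ofFn g)[i] = g ⟨i, hin⟩ := by simp
  rw [h2]
  have hJ := ofList_take_smul_top g i
  intro x y hxy
  obtain ⟨a, rfl⟩ := Submodule.Quotient.mk_surjective _ x
  obtain ⟨b, rfl⟩ := Submodule.Quotient.mk_surjective _ y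
  simp only at hxy
  rw [← Submodule.Quotient.mk_smul, ← Submodule.Quotient.mk_smul, Submodule.Quotient.eq, hJ] at hxy
  rw [Submodule.Quotient.eq, hJ]
  apply h ⟨i, hin⟩
  rw [smul_eq_mul, smul_eq_mul, ← mul_sub] at hxy
  exact hxy

end conv

theorem X_weaklyRegular :
    RingTheory.Sequence.IsWeaklyRegular (MvPolynomial (Fin k) F)
      (List.ofFn (fun j => (X j : MvPolynomial (Fin k) F))) :=
  weaklyRegular_of_reg _ (fun i a ha => X_reg i a ha)


open IsLocalRing RingTheory.Sequence

/-- the local ring at the origin -/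
abbrev Aloc (F : Type u) [Field F] (k : ℕ) := Localization.AtPrime (irr F k)

theorem dim_le : ringKrullDim (Aloc F k) ≤ k := by
  rw [IsLocalization.AtPrime.ringKrullDim_eq_height (irr F k) (Aloc F k)]
  have h1 : (irr F k).height ≤ (irr F k).spanFinrank :=
    Ideal.height_le_spanFinrank _ (Ideal.IsPrime.ne_top inferInstance)
  have h2 : (irr F k).spanFinrank ≤ k := by
    unfold irr
    refine le_trans (Submodule.spanFinrank_span_le_ncard_of_finite (Set.finite_range _)) ?_
    rw [← Set.image_univ]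
    refine le_trans (Set.ncard_image_le (Set.finite_univ)) ?_
    simp
  have h3 : (irr F k).height ≤ (k : ℕ∞) := le_trans h1 (by exact_mod_cast h2)
  exact_mod_cast h3

theorem depth_ge : (k : ℕ∞) ≤ LocCoh.depth (Aloc F k) (Aloc F k) := by
  have hreg := (X_weaklyRegular (F := F) (k := k)).of_isLocalization (Aloc F k) (irr F k).primeCompl
  have hmem : ∀ r ∈ (List.ofFn (fun j => (X j : MvPolynomial (Fin k) F))).map
      (algebraMap (MvPolynomial (Fin k) F) (Aloc F k)), r ∈ maximalIdeal (Aloc F k) := by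
    intro r hr
    obtain ⟨a, ha, rfl⟩ := List.mem_map.1 hr
    rw [IsLocalization.AtPrime.to_map_mem_maximal_iff (Aloc F k) (irr F k)]
    obtain ⟨j, rfl⟩ := (List.mem_ofFn' _ _).mp ha
    exact Ideal.subset_span ⟨j, rfl⟩
  have := Groth.Agent.Lib.Helper29.DepthLib.length_le_idealDepth (maximalIdeal (Aloc F k))
    (Aloc F k) hreg hmem
  simpa [LocCoh.depth] using this

theorem isCM : LocCoh.IsCohenMacaulayModule (Aloc F k) (Aloc F k) ∧
    Module.supportDim (Aloc F k) (Aloc F k) = k := by
  have h1 := Groth.Agent.Lib.Helper29.DepthLib.depth_le_supportDim (Aloc F k) (Aloc F k)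
  rw [Module.supportDim_self_eq_ringKrullDim] at h1
  have h2 := dim_le (F := F) (k := k)
  have h3 : ((k : ℕ∞) : WithBot ℕ∞) ≤ ((LocCoh.depth (Aloc F k) (Aloc F k) : ℕ∞) : WithBot ℕ∞) := by
    exact_mod_cast depth_ge (F := F) (k := k)
  have h4 : ringKrullDim (Aloc F k) = k := le_antisymm h2 (le_trans h3 h1)
  have h5 : ((LocCoh.depth (Aloc F k) (Aloc F k) : ℕ∞) : WithBot ℕ∞) = k :=
    le_antisymm (h4 ▸ h1) h3
  refine ⟨?_, ?_⟩
  · unfold LocCoh.IsCohenMacaulayModule
    rw [Module.supportDim_self_eq_ringKrullDim, h4, h5]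
  · rw [Module.supportDim_self_eq_ringKrullDim, h4]

end Groth.Agent.Lib.Helper93.GrassA
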