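import Mathlib
import Groth.Agent.Lib.Helper93.GrassA

namespace Groth.Agent.Lib.Helper93.GrassB
open MvPolynomial Groth.Agent.Lib.Helper93.GrCIA Groth.Agent.Lib.Helper93.GrCIB
  Groth.Agent.Lib.Helper93.GrassA IsLocalRing RingTheory.Sequence

attribute [local instance] MvPolynomial.weightedGradedAlgebra

universe u
variable {F : Type u} [Field F] {k : ℕ}

/-- a weighted homogeneous polynomial of positive degree lies in the irrelevant ideal -/
theorem mem_irr_of_homogeneous (δ : Fin k → ℕ) (g : MvPolynomial (Fin k) F) (e : ℕ) (he : 0 < e)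
    (hg : IsWeightedHomogeneous δ g e) : g ∈ irr F k := by
  rw [mem_irr_iff]
  by_contra hne
  have := hg hne
  simp at this
  omega

/-- primes of `S` containing an ideal of finite codimension are the irrelevant ideal -/
theorem prime_eq_irr (I : Ideal (MvPolynomial (Fin k) F))
    (hfin : Module.Finite F (MvPolynomial (Fin k) F ⧸ I))
    (P : Ideal (MvPolynomial (Fin k) F)) [hP : P.IsPrime] (hIP : I ≤ P) (hPirr : P ≤ irr F k) :
    P = irr F k := by
  haveI : Module.Finite F (MvPolynomial (Fin k) F ⧸ P) :=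
    Module.Finite.of_surjective (Ideal.Quotient.factorₐ F hIP).toLinearMap
      (Ideal.Quotient.factor_surjective hIP)
  haveI : IsDomain (MvPolynomial (Fin k) F ⧸ P) := Ideal.Quotient.isDomain P
  haveI : Algebra.IsIntegral F (MvPolynomial (Fin k) F ⧸ P) := Algebra.IsIntegral.of_finite _ _
  have hfield : IsField (MvPolynomial (Fin k) F ⧸ P) :=
    isField_of_isIntegral_of_isField' (Field.toIsField F)
  have hmax : P.IsMaximal := Ideal.Quotient.maximal_of_isField P hfield
  exact hmax.eq_of_le (Ideal.IsPrime.ne_top inferInstance) hPirr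

/-- dimension zero of the localized quotient -/
theorem supportDim_quot_eq_zero (I : Ideal (MvPolynomial (Fin k) F))
    (hfin : Module.Finite F (MvPolynomial (Fin k) F ⧸ I)) (hI : I ≤ irr F k) :
    Module.supportDim (Aloc F k)
      (Aloc F k ⧸ (I.map (algebraMap (MvPolynomial (Fin k) F) (Aloc F k)))) = 0 := by
  set IA := I.map (algebraMap (MvPolynomial (Fin k) F) (Aloc F k)) with hIA
  have hsupp : Module.support (Aloc F k) (Aloc F k ⧸ IA) = {IsLocalRing.closedPoint (Aloc F k)} := by
    rw [Module.support_eq_zeroLocus, Ideal.annihilator_quotient]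
    ext p
    simp only [PrimeSpectrum.mem_zeroLocus, SetLike.coe_subset_coe, Set.mem_singleton_iff]
    constructor
    · intro hp
      set P := p.asIdeal.comap (algebraMap (MvPolynomial (Fin k) F) (Aloc F k)) with hPdef
      haveI : P.IsPrime := Ideal.comap_isPrime _ _
      have hIP : I ≤ P := by
        intro x hx
        exact hp (Ideal.mem_map_of_mem _ hx)
      have hPirr : P ≤ irr F k := by
        intro x hx
        have h1 : algebraMap _ (Aloc F k) x ∈ maximalIdeal (Aloc F k) :=
          IsLocalRing.le_maximalIdeal (Ideal.IsPrime.ne_top p.2) hx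
        rwa [IsLocalization.AtPrime.to_map_mem_maximal_iff (Aloc F k) (irr F k)] at h1
      have hP := prime_eq_irr I hfin P hIP hPirr
      apply PrimeSpectrum.ext
      have h2 : p.asIdeal = P.map (algebraMap (MvPolynomial (Fin k) F) (Aloc F k)) :=
        (IsLocalization.map_comap (irr F k).primeCompl (Aloc F k) p.asIdeal).symm
      rw [h2, hP, Localization.AtPrime.map_eq_maximalIdeal]
      rfl
    · rintro rfl
      show IA ≤ maximalIdeal (Aloc F k)
      rw [hIA, Ideal.map_le_iff_le_comap]
      intro x hx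
      rw [Ideal.mem_comap, IsLocalization.AtPrime.to_map_mem_maximal_iff (Aloc F k) (irr F k)]
      exact hI hx
  unfold Module.supportDim
  rw [hsupp]
  exact Order.krullDim_eq_zero_of_unique


variable (δ : Fin k → ℕ)

theorem ofList_ofFn_eq {R : Type*} [CommRing R] {n : ℕ} (g : Fin n → R) :
    Ideal.ofList (List.ofFn g) = Ideal.span (Set.range g) := by
  unfold Ideal.ofList
  congr 1
  ext x
  simp [List.mem_ofFn']

theorem span_range_le_irr (g : Fin k → MvPolynomial (Fin k) F) (ε : Fin k → ℕ) (hε : ∀ i, 0 < ε i)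
    (hg : ∀ i, IsWeightedHomogeneous δ (g i) (ε i)) : Ideal.span (Set.range g) ≤ irr F k := by
  rw [Ideal.span_le]
  rintro x ⟨i, rfl⟩
  exact mem_irr_of_homogeneous δ (g i) (ε i) (hε i) (hg i)

/-- image sequence regular on A -/
theorem loc_weaklyRegular (g : Fin k → MvPolynomial (Fin k) F) (ε : Fin k → ℕ)
    (hε : ∀ i, 0 < ε i)
    (hg : ∀ i, IsWeightedHomogeneous δ (g i) (ε i))
    (hfin : Module.Finite F (MvPolynomial (Fin k) F ⧸ Ideal.span (Set.range g))) :
    IsWeaklyRegular (Aloc F k)
      (List.ofFn (fun i => algebraMap (MvPolynomial (Fin k) F) (Aloc F k) (g i))) := by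
  set xs := List.ofFn (fun i => algebraMap (MvPolynomial (Fin k) F) (Aloc F k) (g i)) with hxs
  have hmem : ∀ x ∈ xs, x ∈ maximalIdeal (Aloc F k) := by
    intro x hx
    obtain ⟨i, rfl⟩ := (List.mem_ofFn' _ _).mp hx
    rw [IsLocalization.AtPrime.to_map_mem_maximal_iff (Aloc F k) (irr F k)]
    exact mem_irr_of_homogeneous δ (g i) (ε i) (hε i) (hg i)
  obtain ⟨hCM, hdim⟩ := isCM (F := F) (k := k)
  have key := (Groth.Agent.Lib.Helper29.CMLib.isWeaklyRegular_iff_of_isCM (Aloc F k) xs (Aloc F k) hCM hmem).1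
  rw [key]
  have hI : (Ideal.ofList xs • ⊤ : Submodule (Aloc F k) (Aloc F k)) =
      (Ideal.span (Set.range g)).map (algebraMap (MvPolynomial (Fin k) F) (Aloc F k)) := by
    rw [Ideal.smul_top_eq_map]
    simp only [Algebra.algebraMap_self, Ideal.map_id, Submodule.restrictScalars_self]
    rw [hxs, ofList_ofFn_eq, Ideal.map_span]
    congr 1
    ext x
    simp
  rw [hdim]
  have h0 : Module.supportDim (Aloc F k)
      (Aloc F k ⧸ (Ideal.ofList xs • ⊤ : Submodule (Aloc F k) (Aloc F k))) = 0 := by
    rw [Module.supportDim_eq_of_equiv (Submodule.quotEquivOfEq _ _ hI)]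
    exact supportDim_quot_eq_zero _ hfin (span_range_le_irr δ g ε hε hg)
  rw [h0]
  simp [hxs]


theorem decompose_zero_eq (hδ : ∀ i, 0 < δ i) (t : MvPolynomial (Fin k) F) :
    (DirectSum.decompose (weightedHomogeneousSubmodule F δ) t 0 : MvPolynomial (Fin k) F)
      = C (coeff 0 t) := by
  have h1 : (DirectSum.decompose (weightedHomogeneousSubmodule F δ) t 0 : MvPolynomial (Fin k) F)
      = weightedHomogeneousComponent δ 0 t :=
    weightedDecomposition.decompose'_apply F δ t 0
  rw [h1]
  exact weightedHomogeneousComponent_zero (w := δ) (φ := t) (fun i => (hδ i).ne')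

/-- descent of regularity from the localization -/
theorem descent (hδ : ∀ i, 0 < δ i) (I : Ideal (MvPolynomial (Fin k) F))
    (hI : I.IsHomogeneous (weightedHomogeneousSubmodule F δ))
    (g : MvPolynomial (Fin k) F) (e : ℕ) (hg : IsWeightedHomogeneous δ g e)
    (hloc : ∀ a : Aloc F k, algebraMap (MvPolynomial (Fin k) F) (Aloc F k) g * a ∈
        I.map (algebraMap (MvPolynomial (Fin k) F) (Aloc F k)) →
      a ∈ I.map (algebraMap (MvPolynomial (Fin k) F) (Aloc F k)))
    (a : MvPolynomial (Fin k) F) (ha : g * a ∈ I) : a ∈ I := by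
  classical
  set 𝒜 := weightedHomogeneousSubmodule F δ with h𝒜
  have hg' : g ∈ 𝒜 e := hg
  -- reduce to homogeneous components
  suffices h : ∀ u, (DirectSum.decompose 𝒜 a u : MvPolynomial (Fin k) F) ∈ I by
    rw [← DirectSum.sum_support_decompose 𝒜 a]
    exact Ideal.sum_mem _ (fun u _ => h u)
  intro u
  set au : MvPolynomial (Fin k) F := (DirectSum.decompose 𝒜 a u : MvPolynomial (Fin k) F) with hau
  have hau_mem : au ∈ 𝒜 u := Submodule.coe_mem _
  have h1 : g * au ∈ I := by
    have h2 := hI (e + u) ha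
    rw [DirectSum.coe_decompose_mul_of_left_mem_of_le 𝒜 hg' (Nat.le_add_right e u),
      Nat.add_sub_cancel_left] at h2
    exact h2
  -- localize
  have h3 : algebraMap (MvPolynomial (Fin k) F) (Aloc F k) au ∈
      I.map (algebraMap (MvPolynomial (Fin k) F) (Aloc F k)) := by
    apply hloc
    rw [← map_mul]
    exact Ideal.mem_map_of_mem _ h1
  rw [IsLocalization.mem_map_algebraMap_iff (irr F k).primeCompl (Aloc F k)] at h3
  obtain ⟨⟨⟨i, hi⟩, ⟨s, hs⟩⟩, h4⟩ := h3
  simp only at h4
  rw [← map_mul, IsLocalization.eq_iff_exists (irr F k).primeCompl (Aloc F k)] at h4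
  obtain ⟨⟨c, hc⟩, h5⟩ := h4
  simp only at h5
  set t := c * s with ht
  have htI : t * au ∈ I := by
    have : t * au = c * i := by rw [ht, ← h5]; ring
    rw [this]
    exact I.mul_mem_left _ hi
  have htirr : t ∉ irr F k := by
    intro hmem
    rcases (Ideal.IsPrime.mem_or_mem inferInstance hmem) with h | h
    · exact hc h
    · exact hs h
  have hcoeff : coeff 0 t ≠ 0 := by
    intro h0
    exact htirr ((mem_irr_iff t).mpr h0)
  have h6 := hI u htI
  rw [DirectSum.coe_decompose_mul_of_right_mem_of_le 𝒜 hau_mem le_rfl, Nat.sub_self,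
    decompose_zero_eq δ hδ] at h6
  have h7 : au = C (coeff 0 t)⁻¹ * (C (coeff 0 t) * au) := by
    rw [← mul_assoc, ← C_mul, inv_mul_cancel₀ hcoeff, C_1, one_mul]
  rw [h7]
  exact I.mul_mem_left _ h6


/-- **Main general theorem**: a homogeneous system of parameters of the weighted polynomial ring
is a regular sequence. -/
theorem weaklyRegular_of_finite (hδ : ∀ i, 0 < δ i) (g : Fin k → MvPolynomial (Fin k) F)
    (ε : Fin k → ℕ) (hε : ∀ i, 0 < ε i)
    (hg : ∀ i, IsWeightedHomogeneous δ (g i) (ε i))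
    (hfin : Module.Finite F (MvPolynomial (Fin k) F ⧸ Ideal.span (Set.range g))) :
    IsWeaklyRegular (MvPolynomial (Fin k) F) (List.ofFn g) := by
  apply weaklyRegular_of_reg
  intro i a ha
  have hloc := loc_weaklyRegular δ g ε hε hg hfin
  have hA := reg_of_weaklyRegular'
    (fun i => algebraMap (MvPolynomial (Fin k) F) (Aloc F k) (g i)) hloc i
  have hJ : J (fun i => algebraMap (MvPolynomial (Fin k) F) (Aloc F k) (g i)) i.val =
      (J g i.val).map (algebraMap (MvPolynomial (Fin k) F) (Aloc F k)) := by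
    unfold J
    rw [Ideal.map_span]
    congr 1
    ext x
    simp only [Set.mem_image, Set.mem_setOf_eq]
    constructor
    · rintro ⟨j, hj, rfl⟩
      exact ⟨g j, ⟨j, hj, rfl⟩, rfl⟩
    · rintro ⟨_, ⟨j, hj, rfl⟩, rfl⟩
      exact ⟨j, hj, rfl⟩
  refine descent δ hδ (J g i.val)
    (J_homogeneous (weightedHomogeneousSubmodule F δ) g ε hg i.val) (g i) (ε i) (hg i) ?_ a ha
  intro a' h
  rw [← hJ] at h ⊢
  exact hA a' h

end Groth.Agent.Lib.Helper93.GrassB
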