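import Mathlib
import Groth.Agent.Lib.Helper93.GrassB
import Groth.Agent.Lib.Helper93.GrCIC

namespace Groth.Agent.Lib.Helper93.GrassC
open MvPolynomial Groth.Agent.Lib.Helper93.GrCIA Groth.Agent.Lib.Helper93.GrCIB
  Groth.Agent.Lib.Helper93.GrassA Groth.Agent.Lib.Helper93.GrassB

attribute [local instance] MvPolynomial.weightedGradedAlgebra

universe u
variable {R : Type u} [CommRing R] {k : ℕ}

/-- the total Chern class power series -/
noncomputable def cser (R : Type u) [CommRing R] (k : ℕ) : PowerSeries (MvPolynomial (Fin k) R) :=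
  1 + ∑ i : Fin k, PowerSeries.C (MvPolynomial.X i) *
    (PowerSeries.X : PowerSeries (MvPolynomial (Fin k) R)) ^ ((i : ℕ) + 1)

/-- its inverse -/
noncomputable def tser (R : Type u) [CommRing R] (k : ℕ) : PowerSeries (MvPolynomial (Fin k) R) :=
  PowerSeries.invOfUnit (cser R k) 1

/-- the weights `i + 1` -/
def wt (k : ℕ) : Fin k → ℕ := fun i => (i : ℕ) + 1

theorem coeff_cser (a : ℕ) : PowerSeries.coeff a (cser R k) =
    (if a = 0 then 1 else 0) + ∑ i : Fin k, if a = (i : ℕ) + 1 then X i else 0 := by
  unfold cser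
  rw [map_add, map_sum, PowerSeries.coeff_one]
  congr 1
  apply Finset.sum_congr rfl
  intro i _
  rw [PowerSeries.coeff_C_mul_X_pow]

theorem coeff_cser_eq_zero {a : ℕ} (ha : k < a) : PowerSeries.coeff a (cser R k) = 0 := by
  rw [coeff_cser, if_neg (by omega), zero_add]
  apply Finset.sum_eq_zero
  intro i _
  rw [if_neg]
  have := i.2
  omega

theorem coeff_cser_succ (i : Fin k) : PowerSeries.coeff ((i : ℕ) + 1) (cser R k) = X i := by
  rw [coeff_cser, if_neg (by omega), zero_add]
  rw [Finset.sum_eq_single i]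
  · simp
  · intro j _ hj
    rw [if_neg]
    intro h
    apply hj
    ext
    omega
  · intro h; exact absurd (Finset.mem_univ i) h

theorem constantCoeff_cser : PowerSeries.constantCoeff (cser R k) = ((1 : (MvPolynomial (Fin k) R)ˣ) : MvPolynomial (Fin k) R) := by
  rw [← PowerSeries.coeff_zero_eq_constantCoeff_apply, coeff_cser]
  simp

theorem cser_mul_tser : cser R k * tser R k = 1 :=
  PowerSeries.mul_invOfUnit _ _ constantCoeff_cser

theorem coeff_cser_mem (a : ℕ) :
    PowerSeries.coeff a (cser R k) ∈ weightedHomogeneousSubmodule R (wt k) a := by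
  rw [coeff_cser]
  apply Submodule.add_mem
  · split_ifs with h
    · subst h; exact isWeightedHomogeneous_one R _
    · exact Submodule.zero_mem _
  · apply Submodule.sum_mem
    intro i _
    split_ifs with h
    · subst h; exact isWeightedHomogeneous_X R (wt k) i
    · exact Submodule.zero_mem _

theorem coeff_inv_mem {σ : Type*} (w : σ → ℕ) (φ : PowerSeries (MvPolynomial σ R))
    (hφ : ∀ a, PowerSeries.coeff a φ ∈ weightedHomogeneousSubmodule R w a) (j : ℕ) :
    PowerSeries.coeff j (PowerSeries.invOfUnit φ 1) ∈ weightedHomogeneousSubmodule R w j := by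
  induction j using Nat.strong_induction_on with
  | _ j ih =>
    rw [PowerSeries.coeff_invOfUnit]
    split_ifs with h0
    · subst h0
      simp only [inv_one, Units.val_one]
      exact isWeightedHomogeneous_one R w
    · simp only [inv_one, Units.val_one, neg_mul, one_mul]
      apply Submodule.neg_mem
      apply Submodule.sum_mem
      intro x hx
      split_ifs with hlt
      · have hsum : x.1 + x.2 = j := Finset.HasAntidiagonal.mem_antidiagonal.mp hx
        rw [← hsum]
        exact IsWeightedHomogeneous.mul (hφ x.1) (ih x.2 hlt)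
      · exact Submodule.zero_mem _

theorem coeff_tser_mem (j : ℕ) :
    PowerSeries.coeff j (tser R k) ∈ weightedHomogeneousSubmodule R (wt k) j :=
  coeff_inv_mem (wt k) (cser R k) coeff_cser_mem j

theorem tser_mem (n : ℕ) (hkn : k ≤ n) (I : Ideal (MvPolynomial (Fin k) R))
    (hI : ∀ i : Fin k, PowerSeries.coeff (n - k + 1 + (i : ℕ)) (tser R k) ∈ I) :
    ∀ j, n - k < j → PowerSeries.coeff j (tser R k) ∈ I := by
  intro j
  induction j using Nat.strong_induction_on with
  | _ j ih =>
    intro hj
    by_cases hjn : j ≤ n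
    · have h1 : j = n - k + 1 + ((⟨j - (n - k + 1), by omega⟩ : Fin k) : ℕ) := by
        simp only
        omega
      rw [h1]
      exact hI _
    · unfold tser
      rw [PowerSeries.coeff_invOfUnit, if_neg (by omega)]
      apply I.mul_mem_left
      apply Ideal.sum_mem
      intro x hx
      have hsum : x.1 + x.2 = j := Finset.HasAntidiagonal.mem_antidiagonal.mp hx
      split_ifs with hlt
      · by_cases hxk : x.1 ≤ k
        · apply I.mul_mem_left
          exact ih x.2 hlt (by omega)
        · rw [coeff_cser_eq_zero (by omega), zero_mul]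
          exact I.zero_mem
      · exact I.zero_mem

theorem X_nilpotent (n : ℕ) (hkn : k ≤ n) (I : Ideal (MvPolynomial (Fin k) R))
    (hI : ∀ i : Fin k, PowerSeries.coeff (n - k + 1 + (i : ℕ)) (tser R k) ∈ I) (i : Fin k) :
    IsNilpotent (Ideal.Quotient.mk I (X i)) := by
  set φ := Ideal.Quotient.mk I with hφ
  set cP : Polynomial (MvPolynomial (Fin k) R ⧸ I) :=
    PowerSeries.trunc (k + 1) (PowerSeries.map φ (cser R k)) with hcP
  set tP : Polynomial (MvPolynomial (Fin k) R ⧸ I) :=
    PowerSeries.trunc (n - k + 1) (PowerSeries.map φ (tser R k)) with htP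
  have hc : (cP : PowerSeries _) = PowerSeries.map φ (cser R k) := by
    ext a
    rw [Polynomial.coeff_coe, PowerSeries.coeff_trunc]
    split_ifs with h
    · rfl
    · rw [PowerSeries.coeff_map, coeff_cser_eq_zero (by omega), map_zero]
  have ht : (tP : PowerSeries _) = PowerSeries.map φ (tser R k) := by
    ext a
    rw [Polynomial.coeff_coe, PowerSeries.coeff_trunc]
    split_ifs with h
    · rfl
    · rw [PowerSeries.coeff_map]
      symm
      exact Ideal.Quotient.eq_zero_iff_mem.mpr (tser_mem n hkn I hI a (by omega))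
  have hmul : cP * tP = 1 := by
    apply Polynomial.coe_injective
    rw [Polynomial.coe_mul, hc, ht, ← map_mul, Polynomial.coe_one, cser_mul_tser, map_one]
  have hunit : IsUnit cP := ⟨⟨cP, tP, hmul, (mul_comm tP cP).trans hmul⟩, rfl⟩
  have := (Polynomial.isUnit_iff_coeff_isUnit_isNilpotent.mp hunit).2 ((i : ℕ) + 1)
    (Nat.succ_ne_zero _)
  rw [hcP, PowerSeries.coeff_trunc, if_pos (by omega), PowerSeries.coeff_map, coeff_cser_succ] at this
  exact this

section field
variable (F : Type u) [Field F]

theorem finite_quot (n : ℕ) (hkn : k ≤ n) (I : Ideal (MvPolynomial (Fin k) F))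
    (hI : ∀ i : Fin k, PowerSeries.coeff (n - k + 1 + (i : ℕ)) (tser F k) ∈ I) :
    Module.Finite F (MvPolynomial (Fin k) F ⧸ I) := by
  have hnil := X_nilpotent n hkn I hI
  have hint : ∀ p : MvPolynomial (Fin k) F, IsIntegral F (Ideal.Quotient.mk I p) := by
    intro p
    induction p using MvPolynomial.induction_on with
    | C a => exact isIntegral_algebraMap (x := a)
    | add p q hp hq => rw [map_add]; exact hp.add hq
    | mul_X p i hp =>
      rw [map_mul]
      refine hp.mul ?_
      obtain ⟨N, hN⟩ := hnil i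
      exact ⟨Polynomial.X ^ N, Polynomial.monic_X_pow N, by simp [hN]⟩
  haveI : Algebra.IsIntegral F (MvPolynomial (Fin k) F ⧸ I) :=
    ⟨fun q => by obtain ⟨p, rfl⟩ := Ideal.Quotient.mk_surjective q; exact hint p⟩
  exact Algebra.IsIntegral.finite

end field


theorem sum_eps_sub (n k : ℕ) (hkn : k ≤ n) :
    ∑ i : Fin k, (n - k + 1 + (i : ℕ)) - ∑ i : Fin k, wt k i = k * (n - k) := by
  have h1 : ∑ i : Fin k, (n - k + 1 + (i : ℕ)) = k * (n - k) + ∑ i : Fin k, wt k i := by
    have : ∀ i : Fin k, (n - k + 1 + (i : ℕ)) = (n - k) + wt k i := by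
      intro i; unfold wt; omega
    simp_rw [this]
    rw [Finset.sum_add_distrib, Finset.sum_const, Finset.card_univ, Fintype.card_fin, smul_eq_mul]
  rw [h1, Nat.add_sub_cancel]

theorem prod_wt (k : ℕ) : ∏ i : Fin k, wt k i = k.factorial := by
  unfold wt
  rw [Fin.prod_univ_eq_prod_range (fun i => i + 1) k, Finset.prod_range_add_one_eq_factorial]

theorem prod_eps (n k : ℕ) (hkn : k ≤ n) :
    ∏ i : Fin k, (n - k + 1 + (i : ℕ)) = k.factorial * n.choose k := by
  rw [Fin.prod_univ_eq_prod_range (fun i => n - k + 1 + i) k, ← Nat.ascFactorial_eq_prod_range,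
    Nat.ascFactorial_eq_factorial_mul_choose, Nat.sub_add_cancel hkn]

theorem main (F : Type u) [Field F] (n k : ℕ) (hkn : k ≤ n) :
    RingTheory.Sequence.IsWeaklyRegular (MvPolynomial (Fin k) F)
        (List.ofFn fun i : Fin k => PowerSeries.coeff (n - k + 1 + (i : ℕ)) (tser F k)) ∧
      Module.Finite F (MvPolynomial (Fin k) F ⧸
        Ideal.span (Set.range fun i : Fin k => PowerSeries.coeff (n - k + 1 + (i : ℕ)) (tser F k))) ∧
      Module.finrank F (MvPolynomial (Fin k) F ⧸
        Ideal.span (Set.range fun i : Fin k => PowerSeries.coeff (n - k + 1 + (i : ℕ)) (tser F k)))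
          = n.choose k ∧
      Submodule.map (Ideal.Quotient.mkₐ F
          (Ideal.span (Set.range fun i : Fin k =>
            PowerSeries.coeff (n - k + 1 + (i : ℕ)) (tser F k)))).toLinearMap
        (MvPolynomial.weightedHomogeneousSubmodule F (fun i : Fin k => (i : ℕ) + 1) (k * (n - k))) ≠ ⊥ ∧
      ∀ u : ℕ, k * (n - k) < u →
        Submodule.map (Ideal.Quotient.mkₐ F
            (Ideal.span (Set.range fun i : Fin k =>
              PowerSeries.coeff (n - k + 1 + (i : ℕ)) (tser F k)))).toLinearMap
          (MvPolynomial.weightedHomogeneousSubmodule F (fun i : Fin k => (i : ℕ) + 1) u) = ⊥ := by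
  set g : Fin k → MvPolynomial (Fin k) F :=
    fun i : Fin k => PowerSeries.coeff (n - k + 1 + (i : ℕ)) (tser F k) with hgdef
  have hδ : ∀ i, 0 < wt k i := fun i => Nat.succ_pos _
  have hε : ∀ i : Fin k, 0 < n - k + 1 + (i : ℕ) := fun i => by omega
  have hgh : ∀ i, IsWeightedHomogeneous (wt k) (g i) (n - k + 1 + (i : ℕ)) :=
    fun i => coeff_tser_mem _
  have hfin : Module.Finite F (MvPolynomial (Fin k) F ⧸ Ideal.span (Set.range g)) :=
    finite_quot F n hkn _ (fun i => Ideal.subset_span ⟨i, rfl⟩)
  have hreg := weaklyRegular_of_finite (wt k) hδ g _ hε hgh hfin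
  obtain ⟨h1, h2, h3⟩ := Groth.Agent.Lib.Helper93.GrCIC.all_three (wt k) hδ g _ hε hgh hreg hfin
  rw [sum_eps_sub n k hkn] at h1 h2
  rw [prod_wt, prod_eps n k hkn, mul_comm] at h3
  refine ⟨hreg, hfin, ?_, h1, h2⟩
  exact Nat.eq_of_mul_eq_mul_left (Nat.factorial_pos k) h3

end Groth.Agent.Lib.Helper93.GrassC
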