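import Mathlib
import Groth.Agent.Lib.Helper93.DefIdeal2
import Groth.Agent.Lib.Helper93.QGorFlat3
import Groth.Agent.Lib.Helper65.FlatKer
/-!
# Lifting a Hilbert–Burch resolution along a small extension

Abstract part: a complex `K2 → K1 → K0` of flat modules over `R`, `J² = 0`, exact modulo `J` in the
two left places and with flat cokernel `K0 / im d1` over `R`: then it is exact (`range_eq_ker`,
`d2_injective`).  Concrete part: `(r+1) × r` matrices `φ'` over a flat `C'`-algebra `A'`, with signed
maximal minors `minors φ'`; `linearCombination_minors_mulVec` is the Laplace identity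
`minors · φ' = 0`; `flat_quot` is flatness of `A'/(minors φ')` (via `DefIdeal2.flat_quotient_of`);
`main57` assembles.
-/
set_option autoImplicit false
set_option linter.unusedSectionVars false
set_option linter.style.haveILetI false
universe u
open TensorProduct

namespace Groth.Agent.Lib.Helper93.HBLift

section abs
variable {R : Type u} [CommRing R] (J : Ideal R) (hJJ : J * J = ⊥)
  {K2 K1 K0 : Type u} [AddCommGroup K2] [Module R K2] [AddCommGroup K1] [Module R K1]
  [AddCommGroup K0] [Module R K0] [Module.Flat R K2] [Module.Flat R K1] [Module.Flat R K0]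
  (d2 : K2 →ₗ[R] K1) (d1 : K1 →ₗ[R] K0) (hd : ∀ v, d1 (d2 v) = 0)
  (H2 : ∀ v : K2, d2 v ∈ J • (⊤ : Submodule R K1) → v ∈ J • (⊤ : Submodule R K2))
  (H1 : ∀ z : K1, d1 z ∈ J • (⊤ : Submodule R K0) →
    ∃ w : K2, z - d2 w ∈ J • (⊤ : Submodule R K1))
  [HF : Module.Flat R (K0 ⧸ LinearMap.range d1)]

include hJJ in
theorem smul_smul_top_eq_zero {K : Type u} [AddCommGroup K] [Module R K] (j : R) (hj : j ∈ J)
    (e : K) (he : e ∈ J • (⊤ : Submodule R K)) : j • e = 0 := by
  refine Submodule.smul_induction_on he ?_ ?_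
  · intro c hc m _
    rw [smul_smul]
    have : j * c ∈ J * J := Ideal.mul_mem_mul hj hc
    rw [hJJ, Ideal.mem_bot] at this
    rw [this, zero_smul]
  · intro a b ha hb
    rw [smul_add, ha, hb, add_zero]

theorem flat_range_d1 : Module.Flat R (LinearMap.range d1) :=
  Groth.Agent.Lib.Helper65.flat_of_exact_of_flat (LinearMap.range d1).subtype
    (LinearMap.range d1).mkQ (Submodule.subtype_injective _) (Submodule.mkQ_surjective _)
    (LinearMap.exact_subtype_mkQ _)

theorem flat_ker_d1 : Module.Flat R (LinearMap.ker d1) := by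
  haveI := flat_range_d1 d1
  exact Groth.Agent.Lib.Helper65.flat_of_exact_of_flat (LinearMap.ker d1).subtype
    d1.rangeRestrict (Submodule.subtype_injective _) d1.surjective_rangeRestrict
    (by
      intro z
      constructor
      · intro hz
        exact ⟨⟨z, congrArg Subtype.val hz⟩, rfl⟩
      · rintro ⟨y, rfl⟩
        exact Subtype.ext y.2)

include hJJ hd H1 in
theorem ker_le_range : LinearMap.ker d1 ≤ LinearMap.range d2 := by
  intro z hz
  haveI := flat_range_d1 d1
  obtain ⟨w, hw⟩ := H1 z (by rw [LinearMap.mem_ker.mp hz]; exact Submodule.zero_mem _)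
  have hek : z - d2 w ∈ LinearMap.ker d1 := by
    rw [LinearMap.mem_ker, map_sub, LinearMap.mem_ker.mp hz, hd, sub_zero]
  have hpur := Groth.Agent.Lib.Helper93.QGorFlat3.mem_smul_top_of_flat_coker
    (LinearMap.ker d1).subtype d1.rangeRestrict (Submodule.subtype_injective _)
    d1.surjective_rangeRestrict
    (by
      intro z
      constructor
      · intro hz
        exact ⟨⟨z, congrArg Subtype.val hz⟩, rfl⟩
      · rintro ⟨y, rfl⟩
        exact Subtype.ext y.2) J ⟨z - d2 w, hek⟩ hw
  have key : ∀ n : LinearMap.ker d1, n ∈ J • (⊤ : Submodule R (LinearMap.ker d1)) →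
      (n : K1) ∈ LinearMap.range d2 := by
    intro n hn
    refine Submodule.smul_induction_on hn ?_ ?_
    · intro j hj n' _
      obtain ⟨w', hw'⟩ := H1 n'.1 (by rw [LinearMap.mem_ker.mp n'.2]; exact Submodule.zero_mem _)
      refine ⟨j • w', ?_⟩
      have h0 := smul_smul_top_eq_zero J hJJ j hj _ hw'
      rw [smul_sub, sub_eq_zero] at h0
      rw [map_smul, ← h0]
      rfl
    · intro a b ha hb
      exact Submodule.add_mem _ ha hb
  have h2 := key _ hpur
  have : z = (z - d2 w) + d2 w := by abel
  rw [this]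
  exact Submodule.add_mem _ h2 ⟨w, rfl⟩

include hJJ hd H1 in
theorem range_eq_ker : LinearMap.range d2 = LinearMap.ker d1 := by
  apply le_antisymm
  · rintro _ ⟨v, rfl⟩
    exact hd v
  · exact ker_le_range J hJJ d2 d1 hd H1

include hJJ hd H1 H2 in
theorem d2_injective : Function.Injective d2 := by
  rw [← LinearMap.ker_eq_bot, eq_bot_iff]
  intro v hv
  haveI : Module.Flat R (LinearMap.range d2) := by
    rw [range_eq_ker J hJJ d2 d1 hd H1]
    exact flat_ker_d1 d1
  have hvJ : v ∈ J • (⊤ : Submodule R K2) :=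
    H2 v (by rw [LinearMap.mem_ker.mp hv]; exact Submodule.zero_mem _)
  have hpur := Groth.Agent.Lib.Helper93.QGorFlat3.mem_smul_top_of_flat_coker
    (LinearMap.ker d2).subtype d2.rangeRestrict (Submodule.subtype_injective _)
    d2.surjective_rangeRestrict
    (by
      intro z
      constructor
      · intro hz
        exact ⟨⟨z, congrArg Subtype.val hz⟩, rfl⟩
      · rintro ⟨y, rfl⟩
        exact Subtype.ext y.2) J ⟨v, hv⟩ hvJ
  have key : ∀ n : LinearMap.ker d2, n ∈ J • (⊤ : Submodule R (LinearMap.ker d2)) →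
      (n : K2) = 0 := by
    intro n hn
    refine Submodule.smul_induction_on hn ?_ ?_
    · intro j hj n' _
      have hn'J : n'.1 ∈ J • (⊤ : Submodule R K2) :=
        H2 n'.1 (by rw [LinearMap.mem_ker.mp n'.2]; exact Submodule.zero_mem _)
      exact smul_smul_top_eq_zero J hJJ j hj _ hn'J
    · intro a b ha hb
      rw [Submodule.coe_add, ha, hb, add_zero]
  exact key _ hpur

end abs

section minors
variable {S : Type*} [CommRing S] {r : ℕ}

/-- signed maximal minors of an `(r+1) × r` matrix. -/
def minors (φ : Matrix (Fin (r + 1)) (Fin r) S) (i : Fin (r + 1)) : S :=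
  (-1 : S) ^ (i : ℕ) * (φ.submatrix i.succAbove id).det

theorem map_minors {T : Type*} [CommRing T] (f : S →+* T) (φ : Matrix (Fin (r + 1)) (Fin r) S)
    (i : Fin (r + 1)) : minors (φ.map f) i = f (minors φ i) := by
  unfold minors
  rw [map_mul, map_pow, map_neg, map_one, RingHom.map_det, RingHom.mapMatrix_apply,
    Matrix.submatrix_map]

theorem sum_mul_minors (φ : Matrix (Fin (r + 1)) (Fin r) S) (j : Fin r) :
    ∑ i, φ i j * minors φ i = 0 := by
  let M : Matrix (Fin (r + 1)) (Fin (r + 1)) S := fun i c => Fin.cons (α := fun _ => S) (φ i j) (φ i) c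
  have h0 : M.det = 0 := by
    apply Matrix.det_zero_of_column_eq (i := 0) (j := j.succ) (Fin.succ_ne_zero j).symm
    intro i
    simp [M]
  rw [Matrix.det_succ_column_zero] at h0
  rw [← h0]
  apply Finset.sum_congr rfl
  intro i _
  have hsub : M.submatrix i.succAbove Fin.succ = φ.submatrix i.succAbove id := by
    ext a b
    change Fin.cons (α := fun _ => S) (φ (i.succAbove a) j) (φ (i.succAbove a)) (Fin.succ b) = _
    rw [Fin.cons_succ]
    rfl
  rw [hsub]
  unfold minors
  simp only [M, Fin.cons_zero]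
  ring

theorem linearCombination_minors_mulVec (φ : Matrix (Fin (r + 1)) (Fin r) S) (v : Fin r → S) :
    Fintype.linearCombination S (minors φ) (φ.mulVecLin v) = 0 := by
  rw [Fintype.linearCombination_apply]
  simp only [Matrix.mulVecLin_apply, Matrix.mulVec, dotProduct, smul_eq_mul]
  simp_rw [Finset.sum_mul]
  rw [Finset.sum_comm]
  apply Finset.sum_eq_zero
  intro j _
  have := sum_mul_minors φ j
  calc ∑ i, φ i j * v j * minors φ i = v j * ∑ i, φ i j * minors φ i := by
        rw [Finset.mul_sum]; apply Finset.sum_congr rfl; intro i _; ring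
    _ = 0 := by rw [this, mul_zero]

end minors

section concrete
open Groth.Agent.Lib.Helper93.QGorFlat2 Groth.Agent.Lib.Helper93.DefIdeal
  Groth.Agent.Lib.Helper93.DefIdeal2
variable (C' : Type u) [CommRing C'] (J : Ideal C') (A' : Type u) [CommRing A'] [Algebra C' A']

theorem flat_pi [Module.Flat C' A'] (n : ℕ) : Module.Flat C' (Fin n → A') :=
  Module.Flat.of_linearEquiv (DirectSum.linearEquivFunOnFintype C' (Fin n) (fun _ => A')).symm

theorem mem_smul_top_self_iff (a : A') :
    a ∈ J • (⊤ : Submodule C' A') ↔ a ∈ J.map (algebraMap C' A') := by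
  rw [mem_smul_top_iff' (B := A'), smul_eq_mul, Ideal.mul_top]

theorem mem_smul_top_pi_iff (n : ℕ) (v : Fin n → A') :
    v ∈ J • (⊤ : Submodule C' (Fin n → A')) ↔ ∀ i, v i ∈ J.map (algebraMap C' A') := by
  constructor
  · intro hv
    refine Submodule.smul_induction_on hv ?_ ?_
    · intro c hc m _ i
      rw [Pi.smul_apply, Algebra.smul_def]
      exact Ideal.mul_mem_right _ _ (Ideal.mem_map_of_mem _ hc)
    · intro a b ha hb i
      exact Ideal.add_mem _ (ha i) (hb i)
  · intro hv
    rw [← Finset.univ_sum_single v]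
    apply Submodule.sum_mem
    intro i _
    have hi := (mem_smul_top_self_iff C' J A' (v i)).mpr (hv i)
    refine Submodule.smul_induction_on hi ?_ ?_
    · intro c hc b _
      rw [Pi.single_smul]
      exact Submodule.smul_mem_smul hc Submodule.mem_top
    · intro a b ha hb
      rw [Pi.single_add]
      exact Submodule.add_mem _ ha hb

section main
variable [Module.Flat C' A'] (r : ℕ) (φ' : Matrix (Fin (r + 1)) (Fin r) A')

theorem mk_linComb (z : Fin (r + 1) → A') :
    Ideal.Quotient.mk (J.map (algebraMap C' A')) (Fintype.linearCombination A' (minors φ') z) =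
      Fintype.linearCombination (A' ⧸ J.map (algebraMap C' A'))
        (minors (φ'.map (Ideal.Quotient.mk (J.map (algebraMap C' A')))))
        (Ideal.Quotient.mk (J.map (algebraMap C' A')) ∘ z) := by
  rw [Fintype.linearCombination_apply, Fintype.linearCombination_apply, map_sum]
  apply Finset.sum_congr rfl
  intro i _
  rw [smul_eq_mul, smul_eq_mul, map_mul, map_minors]
  rfl

variable
  (hφ : Function.Injective (φ'.map (Ideal.Quotient.mk (J.map (algebraMap C' A')))).mulVecLin ∧
    LinearMap.range (φ'.map (Ideal.Quotient.mk (J.map (algebraMap C' A')))).mulVecLin =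
      LinearMap.ker (Fintype.linearCombination (A' ⧸ J.map (algebraMap C' A'))
        (minors (φ'.map (Ideal.Quotient.mk (J.map (algebraMap C' A')))))))

include hφ in
theorem H2c (v : Fin r → A') (h : φ'.mulVecLin v ∈ J • (⊤ : Submodule C' (Fin (r + 1) → A'))) :
    v ∈ J • (⊤ : Submodule C' (Fin r → A')) := by
  rw [mem_smul_top_pi_iff] at h ⊢
  have h0 : (φ'.map (Ideal.Quotient.mk (J.map (algebraMap C' A')))).mulVecLin
      (Ideal.Quotient.mk (J.map (algebraMap C' A')) ∘ v) = 0 := by
    ext i
    rw [Matrix.mulVecLin_apply, ← RingHom.map_mulVec, Pi.zero_apply,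
      Ideal.Quotient.eq_zero_iff_mem]
    exact h i
  have h1 := hφ.1 (h0.trans (map_zero _).symm)
  intro i
  rw [← Ideal.Quotient.eq_zero_iff_mem]
  exact congrFun h1 i

include hφ in
theorem H1c (z : Fin (r + 1) → A')
    (h : Fintype.linearCombination A' (minors φ') z ∈ J.map (algebraMap C' A')) :
    ∃ w : Fin r → A', z - φ'.mulVecLin w ∈ J • (⊤ : Submodule C' (Fin (r + 1) → A')) := by
  rw [← Ideal.Quotient.eq_zero_iff_mem, mk_linComb] at h
  have h1 : (Ideal.Quotient.mk (J.map (algebraMap C' A')) ∘ z) ∈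
      LinearMap.range (φ'.map (Ideal.Quotient.mk (J.map (algebraMap C' A')))).mulVecLin := by
    rw [hφ.2]; exact h
  obtain ⟨wb, hwb⟩ := h1
  obtain ⟨w, rfl⟩ := (Ideal.Quotient.mk_surjective
    (I := J.map (algebraMap C' A'))).comp_left wb
  refine ⟨w, ?_⟩
  rw [mem_smul_top_pi_iff]
  intro i
  rw [← Ideal.Quotient.eq_zero_iff_mem, Pi.sub_apply, map_sub, Matrix.mulVecLin_apply,
    RingHom.map_mulVec, sub_eq_zero]
  exact (congrFun hwb i).symm

theorem map_span_minors :
    (Ideal.span (Set.range (minors φ'))).map (Ideal.Quotient.mk (J.map (algebraMap C' A'))) =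
      Ideal.span (Set.range (minors (φ'.map (Ideal.Quotient.mk (J.map (algebraMap C' A')))))) := by
  rw [Ideal.map_span, ← Set.range_comp]
  congr 2
  funext i
  exact (map_minors _ φ' i).symm

include hφ in
theorem hrho (z : A' ⊗[C'] ↥J)
    (hz : mu (B := A') A' J z ∈ Ideal.span (Set.range (minors φ'))) :
    rho C' J A' (Ideal.span (Set.range
      (minors (φ'.map (Ideal.Quotient.mk (J.map (algebraMap C' A'))))))) z = 0 := by
  obtain ⟨a, ha⟩ := Ideal.mem_span_range_iff_exists_fun.mp hz
  have ha' : Fintype.linearCombination A' (minors φ') a = mu (B := A') A' J z := by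
    rw [Fintype.linearCombination_apply]; exact ha
  obtain ⟨w, hw⟩ := H1c C' J A' r φ' hφ a (by rw [ha']; exact mu_mem C' J A' z)
  rw [mem_smul_top_pi_iff] at hw
  choose zi hzi using fun i => exists_mu_eq C' J A' _ (hw i)
  have hz' : z = ∑ i, minors φ' i • zi i := by
    apply mu_injective (B := A') A' J
    rw [← ha', map_sum]
    have h1 : a = φ'.mulVecLin w + (a - φ'.mulVecLin w) := by abel
    rw [h1, map_add, linearCombination_minors_mulVec, zero_add,
      Fintype.linearCombination_apply]
    apply Finset.sum_congr rfl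
    intro i _
    rw [map_smul, hzi, smul_eq_mul, smul_eq_mul, mul_comm]
  rw [hz', map_sum]
  apply Finset.sum_eq_zero
  intro i _
  rw [map_smul]
  apply smul_eq_zero_of_algebraMap_eq_zero
  change Ideal.Quotient.mk _ (Ideal.Quotient.mk _ (minors φ' i)) = 0
  rw [← map_minors, Ideal.Quotient.eq_zero_iff_mem]
  exact Ideal.subset_span ⟨i, rfl⟩

include hφ in
theorem flat_quot (hJJ : J * J = ⊥)
    [Module.Flat (C' ⧸ J) ((A' ⧸ J.map (algebraMap C' A')) ⧸ Ideal.span (Set.range
      (minors (φ'.map (Ideal.Quotient.mk (J.map (algebraMap C' A')))))))] :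
    Module.Flat C' (A' ⧸ Ideal.span (Set.range (minors φ'))) :=
  flat_quotient_of C' J A' _ _ (map_span_minors C' J A' r φ') hJJ (hrho C' J A' r φ' hφ)

include hφ in
theorem main57 (hJJ : J * J = ⊥)
    [Module.Flat (C' ⧸ J) ((A' ⧸ J.map (algebraMap C' A')) ⧸ Ideal.span (Set.range
      (minors (φ'.map (Ideal.Quotient.mk (J.map (algebraMap C' A')))))))] :
    Function.Injective φ'.mulVecLin ∧
      LinearMap.range φ'.mulVecLin =
        LinearMap.ker (Fintype.linearCombination A' (minors φ')) ∧
      Module.Flat C' (A' ⧸ Ideal.span (Set.range (minors φ'))) := by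
  haveI := flat_pi C' A' r
  haveI := flat_pi C' A' (r + 1)
  have hflat := flat_quot C' J A' r φ' hφ hJJ
  let d2 : (Fin r → A') →ₗ[C'] (Fin (r + 1) → A') := φ'.mulVecLin.restrictScalars C'
  let d1 : (Fin (r + 1) → A') →ₗ[C'] A' :=
    (Fintype.linearCombination A' (minors φ')).restrictScalars C'
  have hrange : LinearMap.range d1 =
      (Ideal.span (Set.range (minors φ'))).restrictScalars C' := by
    ext x
    rw [Submodule.restrictScalars_mem, Ideal.mem_span_range_iff_exists_fun]
    constructor
    · rintro ⟨a, rfl⟩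
      exact ⟨a, (Fintype.linearCombination_apply A' (minors φ') a).symm⟩
    · rintro ⟨a, ha⟩
      exact ⟨a, (Fintype.linearCombination_apply A' (minors φ') a).trans ha⟩
  haveI HF : Module.Flat C' (A' ⧸ LinearMap.range d1) :=
    Module.Flat.of_linearEquiv ((Submodule.quotEquivOfEq _ _ hrange).trans
      (Submodule.Quotient.restrictScalarsEquiv C' _))
  have hd : ∀ v, d1 (d2 v) = 0 := fun v => linearCombination_minors_mulVec φ' v
  have H2 : ∀ v, d2 v ∈ J • (⊤ : Submodule C' (Fin (r + 1) → A')) →
      v ∈ J • (⊤ : Submodule C' (Fin r → A')) := H2c C' J A' r φ' hφ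
  have H1 : ∀ z, d1 z ∈ J • (⊤ : Submodule C' A') →
      ∃ w, z - d2 w ∈ J • (⊤ : Submodule C' (Fin (r + 1) → A')) :=
    fun z hz => H1c C' J A' r φ' hφ z ((mem_smul_top_self_iff C' J A' _).mp hz)
  refine ⟨d2_injective J hJJ d2 d1 hd H2 H1, ?_, hflat⟩
  have hre := range_eq_ker J hJJ d2 d1 hd H1
  ext z
  exact SetLike.ext_iff.mp hre z

end main

end concrete

end Groth.Agent.Lib.Helper93.HBLift
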