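import Mathlib

set_option autoImplicit false
universe u
namespace Groth.Agent.Lib.Helper93.IntClosureReflexive
open Module

section
variable (A K L : Type u) [CommRing A] [IsDomain A] [Field K] [Algebra A K] [IsFractionRing A K]
  [Field L] [Algebra K L] [Algebra A L] [IsScalarTower A K L]

/-- descend a `K`-valued linear map with values in `A` -/
noncomputable def descend {M : Type*} [AddCommGroup M] [Module A M] (g : M →ₗ[A] K)
    (h : ∀ m, g m ∈ LinearMap.range (Algebra.linearMap A K)) : M →ₗ[A] A :=
  (LinearEquiv.ofInjective (Algebra.linearMap A K) (IsFractionRing.injective A K)).symm.toLinearMap ∘ₗ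
    (g.codRestrict _ h)

theorem algebraMap_descend {M : Type*} [AddCommGroup M] [Module A M] (g : M →ₗ[A] K)
    (h : ∀ m, g m ∈ LinearMap.range (Algebra.linearMap A K)) (m : M) :
    algebraMap A K (descend A K g h m) = g m := by
  have := (LinearEquiv.ofInjective (Algebra.linearMap A K)
    (IsFractionRing.injective A K)).apply_symm_apply (g.codRestrict _ h m)
  exact congrArg Subtype.val this

end


section main
variable (A K L : Type u) [CommRing A] [IsDomain A] [Field K] [Algebra A K]
  [IsFractionRing A K]
  [Field L] [Algebra K L] [Algebra A L] [IsScalarTower A K L]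

variable {ι : Type*} [Fintype ι] (e : Basis ι K L) (he : ∀ i, IsIntegral A (e i))

/-- basis element in B -/
noncomputable def eB (i : ι) : ↥(integralClosure A L) := ⟨e i, he i⟩

/-- K-linear extension -/
noncomputable def ext (f : ↥(integralClosure A L) →ₗ[A] A) : L →ₗ[K] K :=
  ∑ i, algebraMap A K (f (eB A K L e he i)) • e.coord i

theorem ext_basis (f : ↥(integralClosure A L) →ₗ[A] A) (j : ι) :
    ext A K L e he f (e j) = algebraMap A K (f (eB A K L e he j)) := by
  classical
  simp only [ext, LinearMap.sum_apply, LinearMap.smul_apply, Basis.coord_apply, Basis.repr_self,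
    Finsupp.single_apply, smul_eq_mul, mul_ite, mul_one, mul_zero]
  rw [Finset.sum_eq_single j]
  · simp
  · intro i _ hij
    rw [if_neg (Ne.symm hij)]
  · intro h; exact absurd (Finset.mem_univ j) h

theorem agree (ψ : L →ₗ[K] K) (f : ↥(integralClosure A L) →ₗ[A] A)
    (h : ∀ i, ψ (e i) = algebraMap A K (f (eB A K L e he i))) (b : ↥(integralClosure A L)) :
    ψ (b : L) = algebraMap A K (f b) := by
  obtain ⟨⟨a, ha⟩, hint⟩ := IsLocalization.exist_integer_multiples_of_finite
    (nonZeroDivisors A) (fun i => e.repr (b : L) i)
  choose r hr using hint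
  simp only at hr
  have ha0 : algebraMap A K a ≠ 0 := by
    intro h0
    exact nonZeroDivisors.ne_zero ha (IsFractionRing.injective A K (by rw [h0, map_zero]))
  have h1 : a • (b : L) = ∑ i, r i • e i := by
    conv_lhs => rw [← e.sum_repr (b : L), Finset.smul_sum]
    refine Finset.sum_congr rfl fun i _ => ?_
    rw [← algebraMap_smul K (r i) (e i), hr i, smul_assoc]
  have h2 : a • b = ∑ i, r i • eB A K L e he i := by
    apply Subtype.ext
    rw [AddSubmonoidClass.coe_finsetSum]
    exact h1
  have h3 : algebraMap A K a * ψ (b : L) = algebraMap A K a * algebraMap A K (f b) := by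
    have : ψ (a • (b : L)) = algebraMap A K a * ψ (b : L) := by
      rw [← algebraMap_smul K a (b : L), map_smul, smul_eq_mul]
    rw [← this, h1, map_sum, ← map_mul, ← smul_eq_mul, ← map_smul, h2, map_sum, map_sum]
    refine Finset.sum_congr rfl fun i _ => ?_
    rw [← algebraMap_smul K (r i) (e i), map_smul, h i, map_smul, smul_eq_mul, smul_eq_mul,
      map_mul]
  exact mul_left_cancel₀ ha0 h3


/-- two `K`-linear functionals agreeing on the basis are equal -/
theorem ext_unique (ψ ψ' : L →ₗ[K] K) (h : ∀ i, ψ (e i) = ψ' (e i)) : ψ = ψ' :=
  e.ext h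

/-- common denominator for the coordinate functionals on `B` -/
theorem exists_denominator [Module.Finite A ↥(integralClosure A L)] :
    ∃ a : A, a ≠ 0 ∧ ∀ (i : ι) (b : ↥(integralClosure A L)),
      algebraMap A K a * e.coord i (b : L) ∈ LinearMap.range (Algebra.linearMap A K) := by
  classical
  obtain ⟨S, hS⟩ := (Module.finite_def.1 (inferInstance : Module.Finite A ↥(integralClosure A L)))
  obtain ⟨⟨a, ha⟩, hint⟩ := IsLocalization.exist_integer_multiples_of_finset
    (nonZeroDivisors A) ((S ×ˢ (Finset.univ : Finset ι)).image
      (fun p => e.coord p.2 ((p.1 : ↥(integralClosure A L)) : L)))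
  refine ⟨a, nonZeroDivisors.ne_zero ha, fun i b => ?_⟩
  have hb : b ∈ Submodule.span A (S : Set ↥(integralClosure A L)) := hS ▸ Submodule.mem_top
  induction hb using Submodule.span_induction with
  | mem x hx =>
    obtain ⟨r, hr⟩ := hint (e.coord i (x : L))
      (Finset.mem_image.2 ⟨(x, i), Finset.mem_product.2 ⟨hx, Finset.mem_univ i⟩, rfl⟩)
    refine ⟨r, ?_⟩
    rw [Algebra.linearMap_apply, hr, Algebra.smul_def]
  | zero => simp
  | add x y _ _ hx hy =>
    rw [Subalgebra.coe_add, map_add, mul_add]
    exact Submodule.add_mem _ hx hy
  | smul c x _ hx =>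
    have : ((c • x : ↥(integralClosure A L)) : L) = (algebraMap A K c) • (x : L) := by
      rw [algebraMap_smul]; rfl
    rw [this, map_smul, smul_eq_mul, mul_left_comm, ← Algebra.smul_def]
    exact Submodule.smul_mem _ _ hx


include he in
theorem reflexive_aux [IsNoetherianRing A] [Module.Finite A ↥(integralClosure A L)] :
    Module.IsReflexive A ↥(integralClosure A L) := by
  classical
  obtain ⟨a, ha0, ha⟩ := exists_denominator A K L e
  have hinjA : Function.Injective (algebraMap A K) := IsFractionRing.injective A K
  have haK : algebraMap A K a ≠ 0 := fun h0 => ha0 (hinjA (by rw [h0, map_zero]))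
  let gi : ι → (↥(integralClosure A L) →ₗ[A] K) := fun i =>
    (algebraMap A K a) • (((e.coord i).restrictScalars A) ∘ₗ
      ((integralClosure A L).val.toLinearMap))
  have hgi : ∀ i b, gi i b = algebraMap A K a * e.coord i (b : L) := fun i b => rfl
  let fi : ι → (↥(integralClosure A L) →ₗ[A] A) := fun i =>
    descend A K (gi i) (fun b => by rw [hgi]; exact ha i b)
  have hfi : ∀ i b, algebraMap A K (fi i b) = algebraMap A K a * e.coord i (b : L) :=
    fun i b => algebraMap_descend A K (gi i) _ b
  -- ext of fi
  have hextfi : ∀ i, ext A K L e he (fi i) = (algebraMap A K a) • e.coord i := by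
    intro i
    apply ext_unique K L e
    intro j
    rw [ext_basis, hfi]
    rfl
  have hextB : ∀ (f : ↥(integralClosure A L) →ₗ[A] A) (b : ↥(integralClosure A L)),
      ext A K L e he f (b : L) = algebraMap A K (f b) :=
    fun f b => agree A K L e he _ f (fun i => ext_basis A K L e he f i) b
  refine ⟨⟨?_, ?_⟩⟩
  · -- injective
    rw [injective_iff_map_eq_zero]
    intro b hb
    apply Subtype.ext
    apply e.ext_elem
    intro i
    have h1 : fi i b = 0 := by
      have := LinearMap.congr_fun hb (fi i)
      simpa using this
    have h2 := hfi i b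
    rw [h1, map_zero] at h2
    have h3 : e.coord i (b : L) = 0 := by
      rcases mul_eq_zero.1 h2.symm with h | h
      · exact absurd h haK
      · exact h
    simpa using h3
  · -- surjective
    intro Λ
    let x : L := ∑ i, ((algebraMap A K (Λ (fi i))) / algebraMap A K a) • e i
    have hcoordx : ∀ j, e.coord j x = algebraMap A K (Λ (fi j)) / algebraMap A K a := by
      intro j
      simp only [x, map_sum, map_smul, Basis.coord_apply, Basis.repr_self, Finsupp.single_apply,
        smul_eq_mul, mul_ite, mul_one, mul_zero]
      rw [Finset.sum_eq_single j]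
      · simp
      · intro i _ hij; rw [if_neg hij]
      · intro h; exact absurd (Finset.mem_univ j) h
    have hsum : ∀ f : ↥(integralClosure A L) →ₗ[A] A,
        a • f = ∑ i, f (eB A K L e he i) • fi i := by
      intro f
      apply LinearMap.ext
      intro b
      apply hinjA
      rw [LinearMap.smul_apply, LinearMap.sum_apply, map_sum, smul_eq_mul, map_mul, ← hextB f b]
      conv_lhs => rw [ext, LinearMap.sum_apply, Finset.mul_sum]
      refine Finset.sum_congr rfl fun i _ => ?_
      rw [LinearMap.smul_apply, LinearMap.smul_apply, smul_eq_mul, smul_eq_mul, map_mul, hfi]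
      ring
    have H1 : ∀ f : ↥(integralClosure A L) →ₗ[A] A,
        ext A K L e he f x = algebraMap A K (Λ f) := by
      intro f
      have h1 : a * Λ f = ∑ i, f (eB A K L e he i) * Λ (fi i) := by
        have := congrArg Λ (hsum f)
        rw [map_smul, map_sum] at this
        simpa using this
      rw [ext, LinearMap.sum_apply]
      simp only [LinearMap.smul_apply, smul_eq_mul, hcoordx]
      rw [eq_comm, ← mul_right_inj' haK, ← map_mul, h1, map_sum, Finset.mul_sum]
      refine Finset.sum_congr rfl fun i _ => ?_
      rw [map_mul]
      field_simp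
    -- the module C
    let C : Submodule A L :=
      { carrier := {y | ∀ f : ↥(integralClosure A L) →ₗ[A] A,
          ext A K L e he f y ∈ LinearMap.range (Algebra.linearMap A K)}
        add_mem' := fun {y z} hy hz f => by
          rw [map_add]; exact Submodule.add_mem _ (hy f) (hz f)
        zero_mem' := fun f => by rw [map_zero]; exact Submodule.zero_mem _
        smul_mem' := fun c y hy f => by
          have : c • y = (algebraMap A K c) • y := (algebraMap_smul K c y).symm
          rw [this, map_smul, smul_eq_mul, ← Algebra.smul_def]
          exact Submodule.smul_mem _ _ (hy f) }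
    have hCmem : ∀ y, y ∈ C ↔ ∀ f : ↥(integralClosure A L) →ₗ[A] A,
          ext A K L e he f y ∈ LinearMap.range (Algebra.linearMap A K) := fun y => Iff.rfl
    have hxC : x ∈ C := fun f => ⟨Λ f, (H1 f).symm⟩
    have hBC : ∀ b : ↥(integralClosure A L), (b : L) ∈ C := fun b f => ⟨f b, (hextB f b).symm⟩
    have hC0 : C ≠ ⊥ := by
      intro h0
      have h1 : (1 : L) ∈ C := hBC 1
      rw [h0, Submodule.mem_bot] at h1
      exact one_ne_zero h1
    have hCfg : C.FG := by
      have hle : C ≤ Submodule.span A (Set.range fun i => (algebraMap A K a)⁻¹ • e i) := by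
        intro y hy
        have hr : ∀ i, ∃ r : A, algebraMap A K r = algebraMap A K a * e.coord i y := by
          intro i
          obtain ⟨r, hr⟩ := hy (fi i)
          refine ⟨r, ?_⟩
          rw [hextfi] at hr
          exact hr
        choose r hr using hr
        have : y = ∑ i, r i • ((algebraMap A K a)⁻¹ • e i) := by
          conv_lhs => rw [← e.sum_repr y]
          refine Finset.sum_congr rfl fun i _ => ?_
          rw [← algebraMap_smul K (r i), smul_smul, hr i, mul_comm, ← mul_assoc,
            inv_mul_cancel₀ haK, one_mul]
          rfl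
        rw [this]
        exact Submodule.sum_mem _ fun i _ =>
          Submodule.smul_mem _ _ (Submodule.subset_span ⟨i, rfl⟩)
      have hN : IsNoetherian A ↥(Submodule.span A
          (Set.range fun i => (algebraMap A K a)⁻¹ • e i)) :=
        isNoetherian_span_of_finite A (Set.finite_range _)
      exact isNoetherian_submodule.1 hN C hle
    have hmul : ∀ z ∈ C, ∀ y ∈ C, z * y ∈ C := by
      intro z hz y hy f
      let g : ↥(integralClosure A L) →ₗ[A] K :=
        ((ext A K L e he f).restrictScalars A) ∘ₗ (LinearMap.mulLeft A y) ∘ₗ
          ((integralClosure A L).val.toLinearMap)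
      have hgdef : ∀ b : ↥(integralClosure A L), g b = ext A K L e he f (y * (b : L)) :=
        fun b => rfl
      have hg : ∀ b, g b ∈ LinearMap.range (Algebra.linearMap A K) := by
        intro b
        have h1 : (ext A K L e he f) ∘ₗ (LinearMap.mulRight K (b : L)) =
            ext A K L e he (f ∘ₗ LinearMap.mulLeft A b) := by
          apply ext_unique K L e
          intro j
          rw [ext_basis, LinearMap.comp_apply, LinearMap.mulRight_apply, LinearMap.comp_apply,
            LinearMap.mulLeft_apply]
          have := hextB f (eB A K L e he j * b)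
          rw [mul_comm b]
          exact this
        have h2 := hy (f ∘ₗ LinearMap.mulLeft A b)
        rw [← h1] at h2
        rw [hgdef]
        exact h2
      let g' : ↥(integralClosure A L) →ₗ[A] A := descend A K g hg
      have hg' : ∀ b, algebraMap A K (g' b) = ext A K L e he f (y * (b : L)) :=
        fun b => algebraMap_descend A K g hg b
      have h3 : (ext A K L e he f) ∘ₗ (LinearMap.mulRight K y) = ext A K L e he g' := by
        apply ext_unique K L e
        intro j
        rw [ext_basis, hg', LinearMap.comp_apply, LinearMap.mulRight_apply, mul_comm]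
        rfl
      have h4 := hz g'
      rw [← h3] at h4
      exact h4
    have hxint : IsIntegral A x :=
      isIntegral_of_smul_mem_submodule (R := A) (A := L) (M := L) C hC0 hCfg x
        (fun n hn => hmul x hxC n hn)
    refine ⟨⟨x, hxint⟩, ?_⟩
    apply LinearMap.ext
    intro f
    apply hinjA
    rw [Module.Dual.eval_apply, ← H1 f]
    exact (hextB f ⟨x, hxint⟩).symm

theorem main [IsNoetherianRing A] [FiniteDimensional K L]
    [Module.Finite A ↥(integralClosure A L)] :
    Module.IsReflexive A ↥(integralClosure A L) := by
  obtain ⟨s, b, hb⟩ := FiniteDimensional.exists_is_basis_integral A K L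
  exact reflexive_aux A K L b hb

end main

end Groth.Agent.Lib.Helper93.IntClosureReflexive
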