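import Mathlib
import Groth.Agent.Lib.Helper93.ASRamH

namespace Groth.Agent.Lib.Helper93.KumA
open IsLocalRing Polynomial

universe u
variable {A : Type u} [CommRing A] [IsDomain A] [IsDiscreteValuationRing A]

section arith
variable (p : ℕ) (hp : p.Prime) (ζ : A) (hζ : aeval ζ (cyclotomic p ℤ) = 0)
include hp hζ

theorem zeta_pow : ζ ^ p = 1 := by
  haveI := Fact.mk hp
  have h1 := congrArg (aeval ζ) (cyclotomic_prime_mul_X_sub_one ℤ p)
  simp only [map_mul, map_sub, map_pow, aeval_X, map_one] at h1
  rw [hζ, zero_mul] at h1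
  exact (sub_eq_zero.mp h1.symm)

theorem w_mem [CharP (ResidueField A) p] : 1 - ζ ∈ maximalIdeal A := by
  haveI := Fact.mk hp
  rw [← residue_eq_zero_iff]
  have h1 : (residue A ζ - 1) ^ p = 0 := by
    rw [sub_pow_char, one_pow, ← map_pow, zeta_pow p hp ζ hζ, map_one, sub_self]
  have h2 := eq_zero_of_pow_eq_zero h1
  rw [map_sub, map_one, ← neg_sub, h2, neg_zero]

theorem w_ne_zero (hchar : (p : A) ≠ 0) : 1 - ζ ≠ 0 := by
  haveI := Fact.mk hp
  intro h0
  have h1 : ζ = 1 := (sub_eq_zero.mp h0).symm
  rw [h1] at hζ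
  have h2 : aeval (1 : A) (cyclotomic p ℤ) = (p : A) := by
    rw [aeval_def, eval₂_eq_eval_map, map_cyclotomic, eval_one_cyclotomic_prime]
  rw [h2] at hζ
  exact hchar hζ

end arith

section poly
variable (p : ℕ) (hp : p.Prime) (w : A) (hw0 : w ≠ 0) (P : A[X])
  (hP : C (w ^ p) * P = (1 + C w * X) ^ p - 1)
include hP

theorem coeff_formula (k : ℕ) :
    w ^ p * P.coeff k = (p.choose k : A) * w ^ k - (if k = 0 then 1 else 0) := by
  have h1 := congrArg (fun q => q.coeff k) hP
  simp only [coeff_C_mul, coeff_sub] at h1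
  rw [h1]
  have h2 : (1 + C w * X : A[X]) ^ p = ((1 + X) ^ p).comp (C w * X) := by
    simp only [pow_comp, add_comp, one_comp, X_comp]
  rw [h2, comp_C_mul_X_coeff, coeff_one_add_X_pow, coeff_one]

include hw0 hp

theorem coeff_zero : P.coeff 0 = 0 := by
  have := coeff_formula p w P hP 0
  simp only [Nat.choose_zero_right, Nat.cast_one, pow_zero, mul_one, if_true, sub_self] at this
  exact (mul_eq_zero.mp this).resolve_left (pow_ne_zero p hw0)

theorem coeff_p : P.coeff p = 1 := by
  have := coeff_formula p w P hP p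
  rw [Nat.choose_self, Nat.cast_one, one_mul, if_neg hp.ne_zero, sub_zero] at this
  exact mul_left_cancel₀ (pow_ne_zero p hw0) (this.trans (mul_one _).symm)

theorem coeff_gt (k : ℕ) (hk : p < k) : P.coeff k = 0 := by
  have := coeff_formula p w P hP k
  rw [Nat.choose_eq_zero_of_lt hk, Nat.cast_zero, zero_mul, if_neg (by omega), sub_zero] at this
  exact (mul_eq_zero.mp this).resolve_left (pow_ne_zero p hw0)

theorem natDegree_P : P.natDegree = p := by
  apply le_antisymm
  · rw [natDegree_le_iff_coeff_eq_zero]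
    intro k hk
    exact coeff_gt p hp w hw0 P hP k hk
  · apply le_natDegree_of_ne_zero
    rw [coeff_p p hp w hw0 P hP]
    exact one_ne_zero

theorem monic_P : P.Monic := by
  rw [Monic, leadingCoeff, natDegree_P p hp w hw0 P hP, coeff_p p hp w hw0 P hP]

/-- `w^(p-1) * ε = p` -/
theorem coeff_one : w ^ (p - 1) * P.coeff 1 = p := by
  have := coeff_formula p w P hP 1
  rw [Nat.choose_one_right, pow_one, if_neg one_ne_zero, sub_zero] at this
  have h2 : w ^ p = w * w ^ (p - 1) := by
    rw [← pow_succ', Nat.sub_add_cancel hp.one_le]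
  rw [h2, mul_assoc, mul_comm (p : A) w] at this
  exact mul_left_cancel₀ hw0 this

theorem coeff_mid (k : ℕ) (hk2 : 2 ≤ k) (hkp : k < p) :
    P.coeff k = w ^ (k - 1) * (P.coeff 1 * ((p.choose k / p : ℕ) : A)) := by
  have := coeff_formula p w P hP k
  rw [if_neg (by omega), sub_zero] at this
  have hdvd : p ∣ p.choose k := hp.dvd_choose_self (by omega) hkp
  obtain ⟨c, hc⟩ := hdvd
  have hc' : p.choose k / p = c := by rw [hc, Nat.mul_div_cancel_left _ hp.pos]
  rw [hc']
  rw [hc, Nat.cast_mul, ← coeff_one p hp w hw0 P hP] at this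
  have h2 : w ^ p = w ^ k * w ^ (p - k) := by rw [← pow_add, Nat.add_sub_cancel' hkp.le]
  have h3 : w ^ (p - 1) = w ^ (p - k) * w ^ (k - 1) := by
    rw [← pow_add]; congr 1; omega
  rw [h2, h3] at this
  have h4 : w ^ k * w ^ (p - k) * P.coeff k =
      w ^ k * w ^ (p - k) * (w ^ (k - 1) * (P.coeff 1 * (c : A))) := by
    rw [this]; ring
  exact mul_left_cancel₀ (mul_ne_zero (pow_ne_zero _ hw0) (pow_ne_zero _ hw0)) h4

end poly



section red
variable (p : ℕ) (hp : p.Prime) [CharP (ResidueField A) p] (w : A) (hw0 : w ≠ 0)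
  (hwm : w ∈ maximalIdeal A) (hwp : (1 - w) ^ p = 1) (P : A[X])
  (hP : C (w ^ p) * P = (1 + C w * X) ^ p - 1)
include hw0 hwp hP

theorem eval_neg_one : P.eval (-1) = 0 := by
  have h1 := congrArg (eval (-1)) hP
  simp only [eval_mul, eval_C, eval_sub, eval_pow, eval_add, eval_one, eval_X] at h1
  have : (1 + w * -1) = 1 - w := by ring
  rw [this, hwp, sub_self] at h1
  exact (mul_eq_zero.mp h1).resolve_left (pow_ne_zero p hw0)

include hp hwm

theorem map_residue : P.map (residue A) = X ^ p - X := by
  haveI := Fact.mk hp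
  have hp2 := hp.two_le
  have hform : P.map (residue A) = X ^ p + C (residue A (P.coeff 1)) * X := by
    ext k
    rw [coeff_map, coeff_add, coeff_X_pow, coeff_C_mul, coeff_X]
    rcases Nat.lt_trichotomy k p with hk | hk | hk
    · rcases Nat.lt_or_ge k 2 with hk2 | hk2
      · interval_cases k
        · rw [coeff_zero p hp w hw0 P hP, map_zero, if_neg (by omega), if_neg (by omega),
            mul_zero, add_zero]
        · rw [if_neg (by omega), if_pos rfl, mul_one, zero_add]
      · rw [coeff_mid p hp w hw0 P hP k hk2 hk, if_neg (by omega), if_neg (by omega), mul_zero,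
          add_zero, map_mul, map_pow, (residue_eq_zero_iff w).mpr hwm, zero_pow (by omega),
          zero_mul]
    · subst hk
      rw [coeff_p k hp w hw0 P hP, map_one, if_pos rfl, if_neg (by omega), mul_zero, add_zero]
    · rw [coeff_gt p hp w hw0 P hP k hk, map_zero, if_neg (by omega), if_neg (by omega),
        mul_zero, add_zero]
  have h1 : (P.map (residue A)).eval (-1) = 0 := by
    have := congrArg (residue A) (eval_neg_one p w hw0 hwp P hP)
    rw [map_zero] at this
    rw [← this, eval_map, ← map_one (residue A), ← map_neg, eval₂_hom]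
  rw [hform, eval_add, eval_pow, eval_X, eval_mul, eval_C, eval_X, neg_one_pow_char] at h1
  have h2 : residue A (P.coeff 1) = -1 := by
    have : residue A (P.coeff 1) + 1 = 0 := by
      have h3 : -1 + residue A (P.coeff 1) * -1 = -(residue A (P.coeff 1) + 1) := by ring
      rw [h3, neg_eq_zero] at h1
      exact h1
    exact eq_neg_of_add_eq_zero_left this
  rw [hform, h2, map_neg, map_one, neg_one_mul, sub_eq_add_neg]

end red

end Groth.Agent.Lib.Helper93.KumA
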