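import Mathlib
import Groth.Agent.Lib.Helper93.KumA

namespace Groth.Agent.Lib.Helper93.KumB
open IsLocalRing Polynomial Groth.Agent.Lib.Helper93.ASRamA Groth.Agent.Lib.Helper93.ASRamB
  Groth.Agent.Lib.Helper93.ASRamC Groth.Agent.Lib.Helper93.ASRamD Groth.Agent.Lib.Helper93.ASRamE
  Groth.Agent.Lib.Helper93.ASRamF Groth.Agent.Lib.Helper93.ASRamG

universe u
variable {A K L : Type u} [CommRing A] [IsDomain A] [IsDiscreteValuationRing A] [Field K]
  [Algebra A K] [IsFractionRing A K] [Field L] [Algebra K L] [Algebra A L] [IsScalarTower A K L]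

section gen
variable {V : ValuationSubring L} (h : EtRam.Dominates A (algebraMap A L) V)
include h

/-- polynomial values at elements of `V` are in `V` -/
theorem aeval_mem (F : A[X]) (x : L) (hx : x ∈ V) : aeval x F ∈ V := by
  rw [aeval_eq_sum_range]
  apply Subring.sum_mem
  intro i _
  rw [Algebra.smul_def]
  exact V.mul_mem _ _ (h.1 _) (pow_mem hx _)

theorem val_eq_pow_of_gt (F : A[X]) (hF : F.Monic) (x : L) (hx : 1 < V.valuation x) :
    V.valuation (aeval x F) = V.valuation x ^ F.natDegree := by
  have h1 := hF.as_sum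
  have h2 : aeval x F = x ^ F.natDegree +
      ∑ i ∈ Finset.range F.natDegree, algebraMap A L (F.coeff i) * x ^ i := by
    conv_lhs => rw [h1]
    simp only [map_add, map_pow, aeval_X, map_sum, map_mul, aeval_C]
  rw [h2]
  have h3 : V.valuation (∑ i ∈ Finset.range F.natDegree, algebraMap A L (F.coeff i) * x ^ i) <
      V.valuation (x ^ F.natDegree) := by
    rw [map_pow]
    rcases Nat.eq_zero_or_pos F.natDegree with hd | hd
    · rw [hd, Finset.range_zero, Finset.sum_empty, map_zero, pow_zero]
      exact zero_lt_one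
    · have h4 : V.valuation (∑ i ∈ Finset.range F.natDegree, algebraMap A L (F.coeff i) * x ^ i) ≤
          V.valuation x ^ (F.natDegree - 1) := by
        apply Valuation.map_sum_le
        intro i hi
        rw [Finset.mem_range] at hi
        rw [map_mul, map_pow]
        calc _ ≤ 1 * V.valuation x ^ i := mul_le_mul_left (val_le_one h _) _
          _ = V.valuation x ^ i := one_mul _
          _ ≤ _ := pow_le_pow_right₀ hx.le (by omega)
      refine lt_of_le_of_lt h4 ?_
      exact pow_lt_pow_right₀ hx (by omega)
  rw [Valuation.map_add_eq_of_lt_left _ h3, map_pow]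

theorem mem_of_monic_root (F : A[X]) (hF : F.Monic) (hd : 0 < F.natDegree) (x : L) (a : A)
    (hroot : aeval x F = algebraMap A L a) : x ∈ V := by
  rw [← V.valuation_le_one_iff]
  by_contra hgt
  push Not at hgt
  have h1 := val_eq_pow_of_gt h F hF x hgt
  rw [hroot] at h1
  have h2 := val_le_one h a
  rw [h1] at h2
  exact absurd h2 (not_le.mpr (one_lt_pow₀ hgt hd.ne'))

/-- evaluation in the residue field -/
theorem residue_eval (F : A[X]) (x : L) (hx : x ∈ V) (a : A)
    (hroot : aeval x F = algebraMap A L a) :
    letI : Algebra A V := (RingHom.codRestrict (algebraMap A L) V h.1).toAlgebra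
    ∀ [IsLocalHom (algebraMap A V)],
      eval₂ (algebraMap (ResidueField A) (ResidueField V)) (residue V ⟨x, hx⟩)
        (F.map (residue A)) = algebraMap (ResidueField A) (ResidueField V) (residue A a) := by
  letI : Algebra A V := (RingHom.codRestrict (algebraMap A L) V h.1).toAlgebra
  intro _
  rw [eval₂_map]
  have h1 : (algebraMap (ResidueField A) (ResidueField V)).comp (residue A) =
      (residue V).comp (algebraMap A V) := by
    ext a
    simp only [RingHom.comp_apply, ResidueField.algebraMap_residue]
  rw [h1, ← hom_eval₂, ResidueField.algebraMap_residue]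
  congr 1
  apply Subtype.ext
  have h2 : ((eval₂ (algebraMap A V) (⟨x, hx⟩ : V) F : V) : L) = aeval x F := by
    rw [aeval_def]
    have := hom_eval₂ F (algebraMap A V) V.subtype (⟨x, hx⟩ : V)
    exact this
  rw [h2, hroot]
  rfl

end gen



section newton
variable {V : ValuationSubring L} (h : EtRam.Dominates A (algebraMap A L) V)
include h

theorem lip (Q : A[X]) (x y : L) (hx : x ∈ V) (hy : y ∈ V) :
    V.valuation (aeval x Q - aeval y Q) ≤ V.valuation (x - y) := by
  letI : Algebra A V := (RingHom.codRestrict (algebraMap A L) V h.1).toAlgebra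
  obtain ⟨E, hE⟩ := Polynomial.sub_dvd_eval_sub (⟨x, hx⟩ : V) ⟨y, hy⟩ (Q.map (algebraMap A V))
  have hcoe : ∀ (w : L) (hw : w ∈ V),
      ((eval (⟨w, hw⟩ : V) (Q.map (algebraMap A V)) : V) : L) = aeval w Q := by
    intro w hw
    rw [eval_map, aeval_def]
    exact hom_eval₂ Q (algebraMap A V) V.subtype (⟨w, hw⟩ : V)
  have h1 := congrArg (fun e : V => (e : L)) hE
  simp only [AddSubgroupClass.coe_sub, MulMemClass.coe_mul] at h1
  rw [hcoe x hx, hcoe y hy] at h1
  rw [h1, map_mul]
  calc _ ≤ V.valuation (x - y) * 1 :=
        mul_le_mul_right ((V.valuation_le_one_iff _).mpr E.2) _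
    _ = _ := mul_one _

variable {π : A} (hπ : maximalIdeal A = Ideal.span {π})
include hπ

theorem val_le_pi_of_mem {a : A} (ha : a ∈ maximalIdeal A) :
    V.valuation (algebraMap A L a) ≤ V.valuation (algebraMap A L π) := by
  rw [hπ, Ideal.mem_span_singleton] at ha
  obtain ⟨a', rfl⟩ := ha
  rw [map_mul, map_mul]
  calc _ ≤ V.valuation (algebraMap A L π) * 1 := mul_le_mul_right (val_le_one h a') _
    _ = _ := mul_one _

theorem mem_of_val_lt {a : A} (ha : V.valuation (algebraMap A L a) < 1) : a ∈ maximalIdeal A := by
  by_contra hna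
  have hu : IsUnit a := by
    by_contra hnu
    exact hna hnu
  rw [val_unit h hu] at ha
  exact lt_irrefl _ ha

theorem newton (F : A[X]) (hu : IsUnit (F.coeff 1)) (t : L) (hlt : V.valuation t < 1)
    (hroot : aeval t F = 0) : IsApprox K V π t := by
  have htV : t ∈ V := (V.valuation_le_one_iff _).mp hlt.le
  set Q : A[X] := F.divX.divX with hQ
  set c₀ := F.coeff 0 with hc₀
  have hF : F = Q * X ^ 2 + C (F.coeff 1) * X + C c₀ := by
    have h1 := divX_mul_X_add F
    have h2 := divX_mul_X_add F.divX
    rw [coeff_divX] at h2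
    conv_lhs => rw [← h1, ← h2]
    ring
  obtain ⟨u, hu'⟩ := hu
  have hγ1 := val_pi_lt_one h hπ
  have hc1 : V.valuation (algebraMap A L (F.coeff 1)) = 1 := by
    rw [← hu']; exact val_unit h u.isUnit
  have hrootL : aeval t Q * t ^ 2 + algebraMap A L (F.coeff 1) * t + algebraMap A L c₀ = 0 := by
    rw [← hroot]
    conv_rhs => rw [hF]
    simp only [map_add, map_mul, map_pow, aeval_X, aeval_C]
  have hQt : V.valuation (aeval t Q) ≤ 1 := (V.valuation_le_one_iff _).mpr (aeval_mem h Q t htV)
  -- v(t) ≤ γ
  have hc₀m : c₀ ∈ maximalIdeal A := by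
    apply mem_of_val_lt h hπ
    have : algebraMap A L c₀ = -(aeval t Q * t + algebraMap A L (F.coeff 1)) * t := by
      linear_combination hrootL
    rw [this, map_mul]
    calc _ ≤ 1 * V.valuation t := by
          apply mul_le_mul_left
          rw [Valuation.map_neg]
          refine le_trans (Valuation.map_add _ _ _) (max_le ?_ hc1.le)
          rw [map_mul]
          exact mul_le_one' hQt hlt.le
      _ = V.valuation t := one_mul _
      _ < 1 := hlt
  have htγ : V.valuation t ≤ V.valuation (algebraMap A L π) := by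
    have h1 : (aeval t Q * t + algebraMap A L (F.coeff 1)) * t = -algebraMap A L c₀ := by
      linear_combination hrootL
    have h2 : V.valuation (aeval t Q * t + algebraMap A L (F.coeff 1)) = 1 := by
      have h3 : V.valuation (aeval t Q * t) < V.valuation (algebraMap A L (F.coeff 1)) := by
        rw [hc1, map_mul]
        calc _ ≤ 1 * V.valuation t := mul_le_mul_left hQt _
          _ = V.valuation t := one_mul _
          _ < 1 := hlt
      rw [Valuation.map_add_eq_of_lt_right _ h3, hc1]
    have h4 := congrArg V.valuation h1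
    rw [map_mul, h2, one_mul, Valuation.map_neg] at h4
    rw [h4]
    exact val_le_pi_of_mem h hπ hc₀m
  have hstep : ∀ N : ℕ, ∃ β : A, β ∈ maximalIdeal A ∧
      V.valuation (t - algebraMap A L β) ≤ V.valuation (algebraMap A L π) ^ (N + 1) := by
    intro N
    induction N with
    | zero => exact ⟨0, Ideal.zero_mem _, by rw [map_zero, sub_zero, zero_add, pow_one]; exact htγ⟩
    | succ N ih =>
      obtain ⟨β, hβm, hβ⟩ := ih
      set b : L := algebraMap A L β with hb
      have hbV : b ∈ V := h.1 β
      have hbγ : V.valuation b ≤ V.valuation (algebraMap A L π) := val_le_pi_of_mem h hπ hβm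
      refine ⟨-((u⁻¹ : Aˣ) : A) * (c₀ + β ^ 2 * Q.eval β), ?_, ?_⟩
      · apply Ideal.mul_mem_left
        exact Ideal.add_mem _ hc₀m (Ideal.mul_mem_right _ _ (Ideal.pow_mem_of_mem _ hβm 2 (by norm_num)))
      · set b' : L := algebraMap A L (-((u⁻¹ : Aˣ) : A) * (c₀ + β ^ 2 * Q.eval β)) with hb'
        have hQb : aeval b Q = algebraMap A L (Q.eval β) := by
          rw [hb, aeval_algebraMap_apply, coe_aeval_eq_eval]
        have h1 : algebraMap A L (F.coeff 1) * b' = -(algebraMap A L c₀ + b ^ 2 * aeval b Q) := by
          have hA : F.coeff 1 * (-((u⁻¹ : Aˣ) : A) * (c₀ + β ^ 2 * Q.eval β)) =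
              -(c₀ + β ^ 2 * Q.eval β) := by
            rw [← hu']
            have : (u : A) * ((u⁻¹ : Aˣ) : A) = 1 := Units.mul_inv u
            linear_combination (-(c₀ + β ^ 2 * eval β Q)) * this
          rw [hb', hQb, hb, ← map_mul, hA]
          simp only [map_neg, map_add, map_mul, map_pow]
        have h2 : algebraMap A L (F.coeff 1) * (t - b') =
            -((t - b) * ((t + b) * aeval t Q) + b ^ 2 * (aeval t Q - aeval b Q)) := by
          linear_combination hrootL - h1
        have h3 := congrArg V.valuation h2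
        rw [map_mul, hc1, one_mul, Valuation.map_neg] at h3
        rw [h3]
        refine le_trans (Valuation.map_add _ _ _) (max_le ?_ ?_)
        · rw [map_mul, map_mul, pow_succ]
          apply mul_le_mul' hβ
          calc _ ≤ V.valuation (algebraMap A L π) * 1 := by
                apply mul_le_mul' _ hQt
                exact le_trans (Valuation.map_add _ _ _) (max_le htγ hbγ)
            _ = _ := mul_one _
        · rw [map_mul, map_pow, pow_succ (V.valuation (algebraMap A L π)), mul_comm]
          apply mul_le_mul' (le_trans (lip h Q t b htV hbV) hβ)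
          calc V.valuation b ^ 2 = V.valuation b * V.valuation b := sq _
            _ ≤ V.valuation (algebraMap A L π) * 1 :=
                mul_le_mul' hbγ ((V.valuation_le_one_iff _).mpr hbV)
            _ = _ := mul_one _
  intro N
  obtain ⟨β, -, hβ⟩ := hstep N
  refine ⟨algebraMap A K β, ?_⟩
  rw [← IsScalarTower.algebraMap_apply]
  exact le_trans hβ (pow_le_pow_of_le_one zero_le' (val_le_one h π) (Nat.le_succ N))

end newton



section cores
variable (p : ℕ) (hp : p.Prime) (π : A) (hπ : maximalIdeal A = Ideal.span {π})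
  [FiniteDimensional K L] (hle : Module.finrank K L ≤ p)
include hp hπ hle

theorem caseB_core (t : L)
    (hvt : ∀ V : ValuationSubring L, EtRam.Dominates A (algebraMap A L) V →
      V.valuation t ^ p = V.valuation (algebraMap A L π)) :
    EtRam.IsTotallyRamified A (algebraMap A L) ∧ Module.finrank K L = p := by
  classical
  have hp0 : 0 < p := hp.pos
  obtain ⟨V₀, h₀⟩ := exists_dominating (A := A) (L := L)
  have ht0 : t ≠ 0 := by
    intro h0
    have := hvt V₀ h₀
    rw [h0, map_zero, zero_pow hp.ne_zero] at this
    exact (val_pi_pos h₀ (inj_AL (A := A) K L) hπ).ne this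
  have hindep : ∀ c : Fin p → K,
      ∑ i : Fin p, algebraMap K L (c i) * t ^ (i : ℕ) = 0 → ∀ i, c i = 0 := by
    intro c hc i
    have := mfB h₀ hπ p t (hvt V₀ h₀) hp0 c 0 (by rw [hc, map_zero]) i
    have h1 := le_antisymm this zero_le'
    rw [Valuation.zero_iff, mul_eq_zero] at h1
    rcases h1 with h1 | h1
    · exact (map_eq_zero_iff _ (algebraMap K L).injective).mp h1
    · exact absurd (eq_zero_of_pow_eq_zero h1) ht0
  obtain ⟨hfr, hrepr⟩ := exists_repr p hle t hindep
  refine ⟨⟨⟨V₀, h₀⟩, ?_, ?_⟩, hfr⟩
  · intro V V' h h'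
    ext x
    obtain ⟨c, rfl⟩ := hrepr x
    rw [memB h hπ p t (hvt V h) hp0 c, memB h' hπ p t (hvt V' h') hp0 c]
  · intro V h w
    obtain ⟨x, rfl⟩ := residue_surjective w
    obtain ⟨c, hc⟩ := hrepr (x : L)
    have hxle : V.valuation (x : L) ≤ 1 := (V.valuation_le_one_iff _).mpr x.2
    rw [hc] at hxle
    have hall := mfB h hπ p t (hvt V h) hp0 c 1 hxle
    have h0 := hall ⟨0, hp0⟩
    simp only [pow_zero, mul_one] at h0
    obtain ⟨a0, ha0⟩ := (mem_iff h _).mp ((V.valuation_le_one_iff _).mp h0)
    refine ⟨a0, ?_⟩
    show residue V _ = residue V x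
    rw [← sub_eq_zero, ← map_sub, residue_eq_zero_iff, ValuationSubring.valuation_lt_one_iff]
    have h1 : (((RingHom.codRestrict (algebraMap A L) V h.1 a0) - x : V) : L) =
        - ∑ i ∈ (Finset.univ : Finset (Fin p)).erase ⟨0, hp0⟩,
          algebraMap K L (c i) * t ^ (i : ℕ) := by
      have h2 := Finset.add_sum_erase (Finset.univ : Finset (Fin p))
        (fun i => algebraMap K L (c i) * t ^ (i : ℕ)) (Finset.mem_univ ⟨0, hp0⟩)
      simp only [pow_zero, mul_one] at h2
      have h3 : (((RingHom.codRestrict (algebraMap A L) V h.1 a0) - x : V) : L) =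
          algebraMap A L a0 - (x : L) := rfl
      rw [h3, hc, ← h2, IsScalarTower.algebraMap_apply A K L, ha0]
      ring
    rw [h1, Valuation.map_neg]
    apply Valuation.map_sum_lt _ one_ne_zero
    intro i hi
    have hi0 : i ≠ ⟨0, hp0⟩ := Finset.ne_of_mem_erase hi
    refine lt_of_le_of_ne (hall i) ?_
    intro heq
    by_cases hci : c i = 0
    · rw [hci, map_zero, zero_mul, map_zero] at heq
      exact zero_ne_one heq
    have h5 : V.valuation (algebraMap K L (c i) * t ^ (i : ℕ)) =
        V.valuation (algebraMap K L 1 * t ^ 0) := by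
      rw [heq, pow_zero, map_one, mul_one, map_one]
    have := distinctB h hπ p t (hvt V h) i 0 i.2 hp0 (c i) 1 hci one_ne_zero h5
    exact hi0 (Fin.ext this)

/-- totally ramified from an element of "valuation `-n/p`" -/
theorem caseB_of (x : L) (n : ℕ) (hpn : ¬ p ∣ n)
    (hx : ∀ V : ValuationSubring L, EtRam.Dominates A (algebraMap A L) V →
      V.valuation x ^ p * V.valuation (algebraMap A L π) ^ n = 1) :
    EtRam.IsTotallyRamified A (algebraMap A L) ∧ Module.finrank K L = p := by
  obtain ⟨c, d, hcd⟩ := exists_cd p n hp hpn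
  refine caseB_core p hp π hπ hle (x ^ c * algebraMap A L π ^ d) ?_
  intro V h
  have h1 := hx V h
  have h4 : V.valuation (x ^ c * algebraMap A L π ^ d) ^ p =
      (V.valuation x ^ p * V.valuation (algebraMap A L π) ^ n) ^ c *
        V.valuation (algebraMap A L π) := by
    rw [map_mul, map_pow, map_pow, mul_pow, ← pow_mul, ← pow_mul, mul_comm d p, ← hcd,
      mul_pow, ← pow_mul, ← pow_mul, pow_succ, mul_comm n c, mul_comm p c, mul_assoc]
  rw [h4, h1, one_pow, one_mul]

variable [CharP (ResidueField A) p]

theorem caseC_core (y : L) (a : A) (hres : ∀ r : A, residue A a ≠ residue A r ^ p)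
    (hyV : ∀ V : ValuationSubring L, EtRam.Dominates A (algebraMap A L) V → y ∈ V)
    (hroot : ∀ (V : ValuationSubring L) (h : EtRam.Dominates A (algebraMap A L) V),
      letI : Algebra A V := (RingHom.codRestrict (algebraMap A L) V h.1).toAlgebra
      ∀ [IsLocalHom (algebraMap A V)], (residue V ⟨y, hyV V h⟩) ^ p =
        algebraMap (ResidueField A) (ResidueField V) (residue A a)) :
    Case4 A L p ∧ Module.finrank K L = p := by
  haveI := Fact.mk hp
  have hbar : ∀ b : ResidueField A, b ^ p ≠ residue A a := by
    intro b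
    obtain ⟨r, rfl⟩ := residue_surjective b
    exact fun h => hres r h.symm
  set G : Polynomial (ResidueField A) := Polynomial.X ^ p - Polynomial.C (residue A a) with hG
  have hGirr : Irreducible G := X_pow_sub_C_irreducible_of_prime hp hbar
  have hGmon : G.Monic := Polynomial.monic_X_pow_sub_C _ hp.ne_zero
  have hGdeg : G.natDegree = p := Polynomial.natDegree_X_pow_sub_C
  have hroot' : ∀ (V : ValuationSubring L) (h : EtRam.Dominates A (algebraMap A L) V),
      letI : Algebra A V := (RingHom.codRestrict (algebraMap A L) V h.1).toAlgebra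
      ∀ [IsLocalHom (algebraMap A V)], Polynomial.aeval (residue V ⟨y, hyV V h⟩) G = 0 := by
    intro V h
    letI : Algebra A V := (RingHom.codRestrict (algebraMap A L) V h.1).toAlgebra
    intro _
    rw [hG, map_sub, map_pow, Polynomial.aeval_X, Polynomial.aeval_C, hroot V h, sub_self]
  have hind : ∀ V : ValuationSubring L, EtRam.Dominates A (algebraMap A L) V →
      Hind (A := A) V p y := by
    intro V h
    letI : Algebra A V := (RingHom.codRestrict (algebraMap A L) V h.1).toAlgebra
    haveI := isLocalHom_of_dominates V h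
    exact hind_of_irreducible V h p y (hyV V h) G hGirr hGmon hGdeg (hroot' V h)
  obtain ⟨V₀, h₀⟩ := exists_dominating (A := A) (L := L)
  refine ⟨⟨⟨V₀, h₀⟩, pkg_unique (K := K) p y hle hyV hind, ?_⟩,
    pkg_finrank (K := K) p y hle hyV hind V₀ h₀⟩
  intro V h
  letI : Algebra A V := (RingHom.codRestrict (algebraMap A L) V h.1).toAlgebra
  intro _
  have hrep := pkg_residue (K := K) p y hle hyV hind V h
  refine ⟨pkg_weaklyUnramified (K := K) p y hle hyV hind V h, ?_, ?_⟩
  · refine fl_purelyInseparable p (residue V ⟨y, hyV V h⟩) hrep ?_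
    exact ⟨residue A a, (hroot V h).symm⟩
  · exact fl_finrank p (residue V ⟨y, hyV V h⟩) hrep G hGirr hGmon hGdeg (hroot' V h)

theorem caseA_core (hdich : Module.finrank K L = 1 ∨ Module.finrank K L = p)
    (z : L) (halg : Algebra.adjoin K {z} = ⊤) (a : A)
    (hzV : ∀ V : ValuationSubring L, EtRam.Dominates A (algebraMap A L) V → z ∈ V)
    (hw : ∀ (V : ValuationSubring L) (h : EtRam.Dominates A (algebraMap A L) V),
      letI : Algebra A V := (RingHom.codRestrict (algebraMap A L) V h.1).toAlgebra
      ∀ [IsLocalHom (algebraMap A V)],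
        (residue V ⟨z, hzV V h⟩) ^ p - residue V ⟨z, hzV V h⟩ =
          algebraMap (ResidueField A) (ResidueField V) (residue A a))
    (happ : ∀ (V : ValuationSubring L) (_ : EtRam.Dominates A (algebraMap A L) V) (r : A),
      V.valuation (z - algebraMap A L r) < 1 → IsApprox K V π (z - algebraMap A L r)) :
    Module.finrank K L = 1 ∨
      (EtRam.IsUnramifiedExt A (algebraMap A L) ∧ Module.finrank K L = p) := by
  haveI := Fact.mk hp
  rcases hdich with hfr | hfr
  · left; exact hfr
  right
  refine ⟨?_, hfr⟩
  set G : Polynomial (ResidueField A) := X ^ p - X - C (residue A a) with hG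
  have hroot : ∀ (V : ValuationSubring L) (h : EtRam.Dominates A (algebraMap A L) V),
      letI : Algebra A V := (RingHom.codRestrict (algebraMap A L) V h.1).toAlgebra
      ∀ [IsLocalHom (algebraMap A V)], aeval (residue V ⟨z, hzV V h⟩) G = 0 := by
    intro V h
    letI : Algebra A V := (RingHom.codRestrict (algebraMap A L) V h.1).toAlgebra
    intro _
    rw [hG, map_sub, map_sub, map_pow, aeval_X, aeval_C, hw V h, sub_self]
  by_cases hirr : Irreducible G
  · have hind : ∀ V : ValuationSubring L, EtRam.Dominates A (algebraMap A L) V →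
        Hind (A := A) V p z := by
      intro V h
      letI : Algebra A V := (RingHom.codRestrict (algebraMap A L) V h.1).toAlgebra
      haveI := isLocalHom_of_dominates V h
      exact hind_of_irreducible V h p z (hzV V h) G hirr (monic_AS p _) (natDegree_AS p _)
        (hroot V h)
    intro V h
    letI : Algebra A V := (RingHom.codRestrict (algebraMap A L) V h.1).toAlgebra
    intro _
    have hrep := pkg_residue (K := K) p z hle hzV hind V h
    refine ⟨pkg_weaklyUnramified (K := K) p z hle hzV hind V h, ?_⟩
    refine fl_separable p (residue V ⟨z, hzV V h⟩) hrep ?_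
    exact (separable_AS p _).of_dvd (minpoly.dvd _ _ (hroot V h))
  · intro V h
    letI : Algebra A V := (RingHom.codRestrict (algebraMap A L) V h.1).toAlgebra
    intro _
    have hint : IsIntegral (ResidueField A) (residue V ⟨z, hzV V h⟩) :=
      ⟨G, monic_AS p _, hroot V h⟩
    have hd1 : (minpoly (ResidueField A) (residue V ⟨z, hzV V h⟩)).natDegree = 1 := by
      rcases natDegree_minpoly p (residue A a) (residue V ⟨z, hzV V h⟩) (hw V h) with h1 | h1
      · exact h1
      · exfalso
        apply hirr
        have : G = minpoly (ResidueField A) (residue V ⟨z, hzV V h⟩) :=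
          eq_of_monic_of_dvd_of_natDegree_le (minpoly.monic hint) (monic_AS p _)
            (minpoly.dvd _ _ (hroot V h)) (by rw [hG, natDegree_AS, h1])
        rw [this]
        exact minpoly.irreducible hint
    obtain ⟨rbar, hrbar⟩ := minpoly.natDegree_eq_one_iff.mp hd1
    obtain ⟨r, rfl⟩ := residue_surjective rbar
    set t : L := z - algebraMap A L r with ht
    have hlt : V.valuation t < 1 := by
      rw [ResidueField.algebraMap_residue, ← sub_eq_zero, ← map_sub, residue_eq_zero_iff,
        ValuationSubring.valuation_lt_one_iff] at hrbar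
      have h1 : ((algebraMap A V r - ⟨z, hzV V h⟩ : V) : L) = - t := by
        rw [ht, neg_sub]; rfl
      rw [h1, Valuation.map_neg] at hrbar
      exact hrbar
    have happ_t : IsApprox K V π t := happ V h r hlt
    have happ_z : IsApprox K V π z := by
      have : z = t + algebraMap K L (algebraMap A K r) := by
        rw [← IsScalarTower.algebraMap_apply, ht]; ring
      rw [this]
      exact approx_add h hπ _ _ happ_t (approx_K h hπ _)
    have hall := approx_all h hπ z halg happ_z
    exact ⟨wu_of_approx h hπ hall, sep_of_approx h hπ hall⟩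

end cores

end Groth.Agent.Lib.Helper93.KumB
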