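import Mathlib
import Groth.Agent.Lib.Helper93.KumB

namespace Groth.Agent.Lib.Helper93.KumC
open IsLocalRing Polynomial Groth.Agent.Lib.Helper93.ASRamA Groth.Agent.Lib.Helper93.ASRamB
  Groth.Agent.Lib.Helper93.ASRamC Groth.Agent.Lib.Helper93.ASRamD Groth.Agent.Lib.Helper93.ASRamE
  Groth.Agent.Lib.Helper93.ASRamF Groth.Agent.Lib.Helper93.ASRamG Groth.Agent.Lib.Helper93.KumA
  Groth.Agent.Lib.Helper93.KumB IntermediateField

universe u
variable {A K L : Type u} [CommRing A] [IsDomain A] [IsDiscreteValuationRing A] [Field K]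
  [Algebra A K] [IsFractionRing A K] [Field L] [Algebra K L] [Algebra A L] [IsScalarTower A K L]

section kummer
variable (p : ℕ) (hp : p.Prime) [CharZero K] (w : A) (hw0 : w ≠ 0) (hwp : (1 - w) ^ p = 1)
include hp hw0 hwp

theorem prim_K : IsPrimitiveRoot (algebraMap A K (1 - w)) p := by
  haveI := Fact.mk hp
  have h1 : (algebraMap A K (1 - w)) ^ p = 1 := by rw [← map_pow, hwp, map_one]
  have h2 : algebraMap A K (1 - w) ≠ 1 := by
    intro h
    have := IsFractionRing.injective A K (h.trans (map_one _).symm)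
    exact hw0 (by linear_combination -this)
  rw [← orderOf_eq_prime h1 h2]
  exact IsPrimitiveRoot.orderOf _

theorem prim_L (hinj : Function.Injective (algebraMap A L)) :
    IsPrimitiveRoot (algebraMap A L (1 - w)) p := by
  haveI := Fact.mk hp
  have h1 : (algebraMap A L (1 - w)) ^ p = 1 := by rw [← map_pow, hwp, map_one]
  have h2 : algebraMap A L (1 - w) ≠ 1 := by
    intro h
    have := hinj (h.trans (map_one _).symm)
    exact hw0 (by linear_combination -this)
  rw [← orderOf_eq_prime h1 h2]
  exact IsPrimitiveRoot.orderOf _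

theorem kummer_finrank (u : K) (y : L) (hy : y ^ p = algebraMap K L u) (hgen : K⟮y⟯ = ⊤) :
    FiniteDimensional K L ∧ Module.finrank K L ≤ p ∧
      (Module.finrank K L = 1 ∨ Module.finrank K L = p) := by
  have hmon : (X ^ p - C u : K[X]).Monic := monic_X_pow_sub_C u hp.ne_zero
  have hdeg : (X ^ p - C u : K[X]).natDegree = p := natDegree_X_pow_sub_C
  have hroot : aeval y (X ^ p - C u : K[X]) = 0 := by
    simp only [map_sub, map_pow, aeval_X, aeval_C]
    rw [hy, sub_self]
  have hint : IsIntegral K y := ⟨_, hmon, hroot⟩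
  haveI : FiniteDimensional K (IntermediateField.adjoin K {y}) :=
    IntermediateField.adjoin.finiteDimensional hint
  have h1 := IntermediateField.adjoin.finrank hint
  have e : (IntermediateField.adjoin K {y}) ≃ₗ[K] L := by
    rw [hgen]
    exact IntermediateField.topEquiv.toLinearEquiv
  have hfr : Module.finrank K L = (minpoly K y).natDegree := by rw [← e.finrank_eq, h1]
  have h2 : (minpoly K y).natDegree ≤ p := by
    rw [← hdeg]
    exact natDegree_le_of_dvd (minpoly.dvd K y hroot) hmon.ne_zero
  refine ⟨Module.Finite.equiv e, hfr ▸ h2, ?_⟩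
  rw [hfr]
  by_cases hb : ∃ b : K, b ^ p = u
  · left
    rw [minpoly.natDegree_eq_one_iff]
    obtain ⟨b, rfl⟩ := hb
    by_cases hb0 : b = 0
    · refine ⟨0, ?_⟩
      rw [hb0, zero_pow hp.ne_zero, map_zero] at hy
      rw [map_zero, eq_zero_of_pow_eq_zero hy]
    · have hbL : algebraMap K L b ≠ 0 := by
        rwa [Ne, map_eq_zero_iff _ (algebraMap K L).injective]
      have h3 : (y / algebraMap K L b) ^ p = 1 := by
        rw [div_pow, hy, map_pow, div_self (pow_ne_zero p hbL)]
      haveI : NeZero p := ⟨hp.ne_zero⟩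
      obtain ⟨i, -, hi⟩ := (prim_L p hp w hw0 hwp (inj_AL (A := A) K L)).eq_pow_of_pow_eq_one h3
      refine ⟨algebraMap A K (1 - w) ^ i * b, ?_⟩
      rw [map_mul, map_pow, ← IsScalarTower.algebraMap_apply, hi, div_mul_cancel₀ _ hbL]
  · right
    push Not at hb
    have hirr : Irreducible (X ^ p - C u : K[X]) := X_pow_sub_C_irreducible_of_prime hp hb
    rw [← minpoly.eq_of_irreducible_of_monic hirr hroot hmon, hdeg]

theorem kummer_galois (u : K) (y : L) (hy : y ^ p = algebraMap K L u) (hgen : K⟮y⟯ = ⊤) :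
    IsGalois K L := by
  obtain ⟨hfd, -, -⟩ := kummer_finrank p hp w hw0 hwp u y hy hgen
  by_cases hu : u = 0
  · rw [hu, map_zero] at hy
    have hy0 : y = 0 := eq_zero_of_pow_eq_zero hy
    have hbt : (⊥ : IntermediateField K L) = ⊤ := by
      rw [← hgen, hy0, eq_comm, IntermediateField.adjoin_simple_eq_bot_iff]
      exact zero_mem _
    have e : K ≃ₐ[K] L :=
      (IntermediateField.botEquiv K L).symm.trans
        ((IntermediateField.equivOfEq hbt).trans IntermediateField.topEquiv)
    exact IsGalois.of_algEquiv e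
  · have hsplit : (X ^ p - C u : K[X]).IsSplittingField K L := by
      have hint : IsIntegral K y := IsIntegral.of_finite K y
      refine ⟨?_, ?_⟩
      · rw [Polynomial.map_sub, Polynomial.map_pow, Polynomial.map_C, Polynomial.map_X]
        exact X_pow_sub_C_splits_of_isPrimitiveRoot (prim_L p hp w hw0 hwp (inj_AL (A := A) K L)) hy
      · rw [eq_top_iff, ← IntermediateField.top_toSubalgebra, ← hgen,
          IntermediateField.adjoin_simple_toSubalgebra_of_isAlgebraic hint.isAlgebraic]
        apply Algebra.adjoin_mono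
        rw [Set.singleton_subset_iff, mem_rootSet]
        refine ⟨(monic_X_pow_sub_C u hp.ne_zero).ne_zero, ?_⟩
        simp only [map_sub, map_pow, aeval_X, aeval_C]
        rw [hy, sub_self]
    have hpK : (p : K) ≠ 0 := Nat.cast_ne_zero.mpr hp.ne_zero
    exact IsGalois.of_separable_splitting_field (separable_X_pow_sub_C u hpK hu)

end kummer



section conv
variable (p : ℕ) (w : A) (hw0 : w ≠ 0) (P : A[X])
  (hP : C (w ^ p) * P = (1 + C w * X) ^ p - 1)
include hP

theorem kform (z : L) (ξ : K) (hz : aeval z P = algebraMap K L ξ) :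
    (1 + algebraMap A L w * z) ^ p = algebraMap K L (1 + algebraMap A K w ^ p * ξ) := by
  have h1 := congrArg (aeval z) hP
  simp only [map_mul, aeval_C, map_sub, map_pow, map_add, map_one, aeval_X] at h1
  rw [hz] at h1
  rw [map_add, map_one, map_mul, map_pow, ← IsScalarTower.algebraMap_apply]
  linear_combination -h1

include hw0

theorem kgen (z : L) (hgen : K⟮z⟯ = ⊤) : K⟮1 + algebraMap A L w * z⟯ = ⊤ := by
  rw [eq_top_iff, ← hgen, adjoin_le_iff, Set.singleton_subset_iff]
  have hwL : algebraMap A L w ≠ 0 := (map_ne_zero_iff _ (inj_AL (A := A) K L)).mpr hw0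
  have h1 : z = ((1 + algebraMap A L w * z) - 1) / algebraMap K L (algebraMap A K w) := by
    rw [← IsScalarTower.algebraMap_apply]
    field_simp
    ring
  have h2 := div_mem (sub_mem (mem_adjoin_simple_self K (1 + algebraMap A L w * z)) (one_mem _))
    (IntermediateField.algebraMap_mem (K⟮1 + algebraMap A L w * z⟯) (algebraMap A K w))
  rwa [← h1] at h2

theorem kconv (u : K) (y : L) (hy : y ^ p = algebraMap K L u) (hgen : K⟮y⟯ = ⊤) :
    aeval ((y - 1) / algebraMap A L w) P = algebraMap K L ((u - 1) / algebraMap A K w ^ p) ∧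
      K⟮(y - 1) / algebraMap A L w⟯ = ⊤ := by
  have hwL : algebraMap A L w ≠ 0 := (map_ne_zero_iff _ (inj_AL (A := A) K L)).mpr hw0
  constructor
  · have h1 := congrArg (aeval ((y - 1) / algebraMap A L w)) hP
    simp only [map_mul, aeval_C, map_sub, map_pow, map_add, map_one, aeval_X] at h1
    have h2 : 1 + algebraMap A L w * ((y - 1) / algebraMap A L w) = y := by
      field_simp
      ring
    rw [h2, hy] at h1
    rw [map_div₀, map_sub, map_one, map_pow, ← IsScalarTower.algebraMap_apply,
      eq_div_iff (pow_ne_zero p hwL), mul_comm]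
    exact h1
  · rw [eq_top_iff, ← hgen, adjoin_le_iff, Set.singleton_subset_iff]
    have h1 : y = 1 + algebraMap K L (algebraMap A K w) * ((y - 1) / algebraMap A L w) := by
      rw [← IsScalarTower.algebraMap_apply]
      field_simp
      ring
    have h2 := add_mem (one_mem _) (mul_mem
      (IntermediateField.algebraMap_mem (K⟮(y - 1) / algebraMap A L w⟯) (algebraMap A K w))
      (mem_adjoin_simple_self K ((y - 1) / algebraMap A L w)))
    rwa [← h1] at h2

end conv



section kcases
variable (p : ℕ) (hp : p.Prime) [CharZero K] [CharP (ResidueField A) p] (w : A) (hw0 : w ≠ 0)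
  (hwm : w ∈ maximalIdeal A) (hwp : (1 - w) ^ p = 1) (P : A[X])
  (hP : C (w ^ p) * P = (1 + C w * X) ^ p - 1)
  (π : A) (hπ : maximalIdeal A = Ideal.span {π})
  (ξ : K) (z : L) (hz : aeval z P = algebraMap K L ξ) (hgen : K⟮z⟯ = ⊤)
include hp hw0 hwm hwp hP hπ hz hgen

theorem kfin : FiniteDimensional K L ∧ Module.finrank K L ≤ p ∧
    (Module.finrank K L = 1 ∨ Module.finrank K L = p) :=
  kummer_finrank p hp w hw0 hwp _ _ (kform p w P hP z ξ hz) (kgen p w hw0 P hP z hgen)

theorem kcaseA (a : A) (hξ : algebraMap A K a = ξ) :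
    Module.finrank K L = 1 ∨
      (EtRam.IsUnramifiedExt A (algebraMap A L) ∧ Module.finrank K L = p) := by
  haveI := Fact.mk hp
  obtain ⟨hfd, hle, hdich⟩ := kfin p hp w hw0 hwm hwp P hP π hπ ξ z hz hgen
  have hPmon := monic_P p hp w hw0 P hP
  have hPdeg := natDegree_P p hp w hw0 P hP
  have hPres := map_residue p hp w hw0 hwm hwp P hP
  have hzL : aeval z P = algebraMap A L a := by
    rw [hz, ← hξ, ← IsScalarTower.algebraMap_apply]
  have hint : IsIntegral K z := IsIntegral.of_finite K z
  have halg : Algebra.adjoin K {z} = ⊤ := by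
    rw [← IntermediateField.adjoin_simple_toSubalgebra_of_isAlgebraic hint.isAlgebraic, hgen,
      IntermediateField.top_toSubalgebra]
  have hzV : ∀ V : ValuationSubring L, EtRam.Dominates A (algebraMap A L) V → z ∈ V :=
    fun V h => mem_of_monic_root h P hPmon (hPdeg ▸ hp.pos) z a hzL
  refine caseA_core p hp π hπ hle hdich z halg a hzV ?_ ?_
  · intro V h
    letI : Algebra A V := (RingHom.codRestrict (algebraMap A L) V h.1).toAlgebra
    intro _
    have := residue_eval h P z (hzV V h) a hzL
    rw [hPres, eval₂_sub, eval₂_pow, eval₂_X] at this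
    exact this
  · intro V h r hlt
    set F : A[X] := (P - C a).comp (X + C r) with hF
    have hroot : aeval (z - algebraMap A L r) F = 0 := by
      rw [hF, aeval_comp, map_add, aeval_X, aeval_C, sub_add_cancel, map_sub, aeval_C, hzL,
        sub_self]
    have hcoeff : residue A (F.coeff 1) = -1 := by
      rw [← coeff_map, hF, Polynomial.map_comp, Polynomial.map_sub, hPres, Polynomial.map_add,
        map_X, map_C, map_C, sub_comp, sub_comp, pow_comp, X_comp, C_comp, add_pow_char]
      simp only [coeff_sub, coeff_add, coeff_X_pow, coeff_X, coeff_C, ← C_pow]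
      have hp1 : (1 : ℕ) ≠ p := hp.one_lt.ne
      simp [hp1]
    have hu : IsUnit (F.coeff 1) := by
      by_contra hnu
      have : F.coeff 1 ∈ maximalIdeal A := hnu
      rw [← residue_eq_zero_iff, hcoeff] at this
      exact one_ne_zero (neg_eq_zero.mp this)
    exact newton h hπ F hu _ hlt hroot

theorem kcaseB (n : ℕ) (a : Aˣ) (hn : 0 < n) (hpn : ¬ p ∣ n)
    (hξ : ξ * algebraMap A K π ^ n = algebraMap A K a) :
    EtRam.IsTotallyRamified A (algebraMap A L) ∧ Module.finrank K L = p := by
  obtain ⟨hfd, hle, -⟩ := kfin p hp w hw0 hwm hwp P hP π hπ ξ z hz hgen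
  have hPmon := monic_P p hp w hw0 P hP
  have hPdeg := natDegree_P p hp w hw0 P hP
  refine caseB_of p hp π hπ hle z n hpn ?_
  intro V h
  have hγ1 := val_pi_lt_one h hπ
  have h1 : V.valuation (algebraMap K L ξ) * V.valuation (algebraMap A L π) ^ n = 1 := by
    rw [← map_pow, ← map_mul, IsScalarTower.algebraMap_apply A K L, ← map_pow, ← map_mul, hξ,
      ← IsScalarTower.algebraMap_apply]
    exact val_unit h a.isUnit
  have hξ1 : 1 < V.valuation (algebraMap K L ξ) := by
    by_contra hle'
    push Not at hle'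
    have : V.valuation (algebraMap K L ξ) * V.valuation (algebraMap A L π) ^ n < 1 :=
      calc _ ≤ 1 * V.valuation (algebraMap A L π) ^ n := mul_le_mul_left hle' _
        _ = V.valuation (algebraMap A L π) ^ n := one_mul _
        _ < 1 := pow_lt_one₀ zero_le' hγ1 hn.ne'
    rw [h1] at this; exact lt_irrefl _ this
  have hz1 : 1 < V.valuation z := by
    by_contra hle'
    push Not at hle'
    have := aeval_mem h P z ((V.valuation_le_one_iff _).mp hle')
    rw [hz, ← V.valuation_le_one_iff] at this
    exact absurd this (not_le.mpr hξ1)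
  have h3 := val_eq_pow_of_gt h P hPmon z hz1
  rw [hz, hPdeg] at h3
  rw [← h3]
  exact h1

theorem kcaseC (n : ℕ) (a : A) (hn : 0 < n) (hpn : p ∣ n)
    (hres : ∀ r : A, residue A a ≠ residue A r ^ p)
    (hξ : ξ * algebraMap A K π ^ n = algebraMap A K a) :
    Case4 A L p ∧ Module.finrank K L = p := by
  obtain ⟨hfd, hle, -⟩ := kfin p hp w hw0 hwm hwp P hP π hπ ξ z hz hgen
  have hPmon := monic_P p hp w hw0 P hP
  have hPdeg := natDegree_P p hp w hw0 P hP
  obtain ⟨m, rfl⟩ := hpn
  have hm : 0 < m := Nat.pos_of_ne_zero (by rintro rfl; simp at hn)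
  set Pt : A[X] := scaleRoots P (π ^ m) with hPt
  set y : L := algebraMap A L (π ^ m) * z with hy
  have hPtmon : Pt.Monic := (monic_scaleRoots_iff _).mpr hPmon
  have hPtdeg : Pt.natDegree = p := by rw [hPt, natDegree_scaleRoots, hPdeg]
  have hyL : aeval y Pt = algebraMap A L a := by
    rw [hy, hPt, aeval_def, scaleRoots_eval₂_mul, ← aeval_def, hz, hPdeg]
    have h1 : algebraMap K L (ξ * algebraMap A K π ^ (p * m)) = algebraMap A L a := by
      rw [hξ, ← IsScalarTower.algebraMap_apply]
    rw [← h1, map_mul]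
    simp only [map_pow]
    rw [← IsScalarTower.algebraMap_apply, ← pow_mul, mul_comm m p, mul_comm]
  have hPtres : Pt.map (residue A) = X ^ p := by
    ext k
    rw [coeff_map, hPt, coeff_scaleRoots, hPdeg, coeff_X_pow, map_mul, map_pow, map_pow]
    have hπres : residue A π = 0 := by
      rw [residue_eq_zero_iff, hπ]; exact Ideal.mem_span_singleton_self π
    rcases Nat.lt_trichotomy k p with hk | hk | hk
    · rw [if_neg hk.ne, hπres, zero_pow hm.ne', zero_pow (by omega), mul_zero]
    · subst hk
      rw [coeff_p k hp w hw0 P hP, map_one, Nat.sub_self, pow_zero, mul_one, if_pos rfl]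
    · rw [coeff_gt p hp w hw0 P hP k hk, map_zero, zero_mul, if_neg (by omega)]
  have hyV : ∀ V : ValuationSubring L, EtRam.Dominates A (algebraMap A L) V → y ∈ V :=
    fun V h => mem_of_monic_root h Pt hPtmon (hPtdeg ▸ hp.pos) y a hyL
  refine caseC_core p hp π hπ hle y a hres hyV ?_
  intro V h
  letI : Algebra A V := (RingHom.codRestrict (algebraMap A L) V h.1).toAlgebra
  intro _
  have := residue_eval h Pt y (hyV V h) a hyL
  rw [hPtres, eval₂_pow, eval₂_X] at this
  exact this

end kcases

end Groth.Agent.Lib.Helper93.KumC
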