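import Mathlib
import Groth.Agent.Lib.Helper93.KumC

namespace Groth.Agent.Lib.Helper93.KumD
open IsLocalRing Polynomial Groth.Agent.Lib.Helper93.ASRamA Groth.Agent.Lib.Helper93.ASRamB
  Groth.Agent.Lib.Helper93.ASRamC Groth.Agent.Lib.Helper93.ASRamD Groth.Agent.Lib.Helper93.ASRamE
  Groth.Agent.Lib.Helper93.ASRamF Groth.Agent.Lib.Helper93.ASRamG Groth.Agent.Lib.Helper93.ASRamH
  Groth.Agent.Lib.Helper93.KumA
  Groth.Agent.Lib.Helper93.KumB Groth.Agent.Lib.Helper93.KumC IntermediateField

universe u
variable {A K L : Type u} [CommRing A] [IsDomain A] [IsDiscreteValuationRing A] [Field K]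
  [Algebra A K] [IsFractionRing A K] [Field L] [Algebra K L] [Algebra A L] [IsScalarTower A K L]

section scale
variable (p : ℕ) (hp : p.Prime) (w : A) (hw0 : w ≠ 0) (P : A[X])
  (hP : C (w ^ p) * P = (1 + C w * X) ^ p - 1)
  (π : A) (hπ : maximalIdeal A = Ideal.span {π})
include hp hw0 hP hπ

theorem scale_residue (m : ℕ) (hm : 0 < m) :
    (scaleRoots P (π ^ m)).map (residue A) = X ^ p := by
  have hPdeg := natDegree_P p hp w hw0 P hP
  ext k
  rw [coeff_map, coeff_scaleRoots, hPdeg, coeff_X_pow, map_mul, map_pow, map_pow]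
  have hπres : residue A π = 0 := by
    rw [residue_eq_zero_iff, hπ]; exact Ideal.mem_span_singleton_self π
  rcases Nat.lt_trichotomy k p with hk | hk | hk
  · rw [if_neg hk.ne, hπres, zero_pow hm.ne', zero_pow (by omega), mul_zero]
  · subst hk
    rw [coeff_p k hp w hw0 P hP, map_one, Nat.sub_self, pow_zero, mul_one, if_pos rfl]
  · rw [coeff_gt p hp w hw0 P hP k hk, map_zero, zero_mul, if_neg (by omega)]

end scale

section red
variable (p : ℕ) (hp : p.Prime) [CharZero K] [CharP (ResidueField A) p] (w : A) (hw0 : w ≠ 0)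
  (hwm : w ∈ maximalIdeal A) (hwp : (1 - w) ^ p = 1) (P : A[X])
  (hP : C (w ^ p) * P = (1 + C w * X) ^ p - 1)
  (π : A) (hπ : maximalIdeal A = Ideal.span {π})
include hp hw0 hwm hwp hP hπ

/-- the reduction for pole order `< p * e₀` -/
theorem kred (e₀ : ℕ) (ω : Aˣ) (hwω : w = ω * π ^ e₀) (n : ℕ) : n < p * e₀ →
    ∀ (ξ : K) (z : L), aeval z P = algebraMap K L ξ → K⟮z⟯ = ⊤ →
    (∃ a : A, ξ * algebraMap A K π ^ n = algebraMap A K a) → Cases A K L p := by
  haveI := Fact.mk hp
  have hirr := (IsDiscreteValuationRing.irreducible_iff_uniformizer π).mpr hπ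
  have hϖ0 : algebraMap A K π ≠ 0 := by
    rw [Ne, map_eq_zero_iff _ (IsFractionRing.injective A K)]
    exact hirr.ne_zero
  have hwK0 : algebraMap A K w ≠ 0 := by
    rw [Ne, map_eq_zero_iff _ (IsFractionRing.injective A K)]
    exact hw0
  have hwL0 : algebraMap A L w ≠ 0 := by
    rw [Ne, map_eq_zero_iff _ (inj_AL (A := A) K L)]
    exact hw0
  induction n with
  | zero =>
    intro _ ξ z hz hgen ⟨a, ha⟩
    rw [pow_zero, mul_one] at ha
    rcases kcaseA p hp w hw0 hwm hwp P hP π hπ ξ z hz hgen a ha.symm with h1 | h1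
    · exact Or.inl h1
    · exact Or.inr (Or.inl h1)
  | succ n ih =>
    intro hlt ξ z hz hgen ⟨a, ha⟩
    have ih' := ih (by omega)
    by_cases ham : a ∈ maximalIdeal A
    · rw [hπ, Ideal.mem_span_singleton] at ham
      obtain ⟨a', rfl⟩ := ham
      refine ih' ξ z hz hgen ⟨a', ?_⟩
      apply mul_right_cancel₀ hϖ0
      rw [mul_assoc, ← pow_succ, ha, map_mul, mul_comm]
    · have hau : IsUnit a := by
        by_contra hnu
        exact ham hnu
      obtain ⟨ua, rfl⟩ := hau
      by_cases hpn : p ∣ n + 1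
      · by_cases hres : ∀ r : A, residue A (ua : A) ≠ residue A r ^ p
        · exact Or.inr (Or.inr (Or.inr
            (kcaseC p hp w hw0 hwm hwp P hP π hπ ξ z hz hgen (n + 1) ua (Nat.succ_pos n)
              hpn hres ha).1))
        · push Not at hres
          obtain ⟨r, hr⟩ := hres
          obtain ⟨m, hm⟩ := hpn
          have hm1 : 1 ≤ m := by
            rcases Nat.eq_zero_or_pos m with h0 | h0
            · rw [h0, mul_zero] at hm; omega
            · exact h0
          have hme : m < e₀ := by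
            by_contra hge
            push Not at hge
            have : p * e₀ ≤ p * m := Nat.mul_le_mul_left p hge
            omega
          obtain ⟨j, hj⟩ := Nat.exists_eq_add_of_lt hme
          -- e₀ = m + j + 1
          set ϖ := algebraMap A K π with hϖ
          set b : K := algebraMap A K r / ϖ ^ m with hb
          have hbm : ϖ ^ m * b = algebraMap A K r := by
            rw [hb, mul_div_cancel₀ _ (pow_ne_zero m hϖ0)]
          -- q
          set s : A := ω * π ^ (j + 1) * r with hs
          have hsm : s ∈ maximalIdeal A := by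
            rw [hs, hπ, Ideal.mem_span_singleton]
            exact ⟨ω * π ^ j * r, by ring⟩
          have hswb : algebraMap A K s = algebraMap A K w * b := by
            rw [hs, hwω, hj, map_mul, map_mul, map_mul, map_pow, map_pow, ← hϖ, ← hbm]
            ring
          have hqu : IsUnit (1 + s) := by
            by_contra hnu
            have h1 : (1 + s) ∈ maximalIdeal A := hnu
            have := Ideal.sub_mem _ h1 hsm
            rw [add_sub_cancel_right] at this
            exact (Ideal.ne_top_iff_one _).mp (Ideal.IsPrime.ne_top inferInstance) this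
          obtain ⟨q, hq⟩ := hqu
          have hqK : algebraMap A K (q : A) = 1 + algebraMap A K w * b := by
            rw [hq, map_add, map_one, hswb]
          have hqK0 : algebraMap A K (q : A) ≠ 0 := by
            rw [Ne, map_eq_zero_iff _ (IsFractionRing.injective A K)]
            exact q.ne_zero
          -- the scaled polynomial
          set Pt : A[X] := scaleRoots P (π ^ m) with hPt
          have hPdeg := natDegree_P p hp w hw0 P hP
          have hPb : aeval b P * ϖ ^ (p * m) = algebraMap A K (Pt.eval r) := by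
            have h1 := scaleRoots_eval₂_mul (p := P) (algebraMap A K) b (π ^ m)
            rw [map_pow, ← hϖ, hbm, eval₂_hom, hPdeg, ← aeval_def, ← pow_mul, mul_comm m p] at h1
            rw [← hPt] at h1
            rw [h1, mul_comm]
          have h2 : (ua : A) - Pt.eval r ∈ maximalIdeal A := by
            rw [← residue_eq_zero_iff, map_sub, hr, ← eval₂_hom, ← eval_map, hPt,
              scale_residue p hp w hw0 P hP π hπ m hm1, eval_pow, eval_X, sub_self]
          rw [hπ, Ideal.mem_span_singleton] at h2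
          obtain ⟨a₂, ha₂⟩ := h2
          -- w^p P(b) = q^p - 1
          have hPq : algebraMap A K w ^ p * aeval b P = algebraMap A K (q : A) ^ p - 1 := by
            have h1 := congrArg (aeval b) hP
            simp only [map_mul, aeval_C, map_sub, map_pow, map_add, map_one, aeval_X] at h1
            rw [hqK]
            exact h1
          -- new data
          set y : L := 1 + algebraMap A L w * z with hy
          set u : K := 1 + algebraMap A K w ^ p * ξ with hu
          have hyu : y ^ p = algebraMap K L u := kform p w P hP z ξ hz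
          have hygen : K⟮y⟯ = ⊤ := kgen p w hw0 P hP z hgen
          set qK := algebraMap A K (q : A) with hqKdef
          have hy'u : (y / algebraMap K L qK) ^ p = algebraMap K L (u / qK ^ p) := by
            rw [div_pow, hyu, map_div₀, map_pow]
          have hy'gen : K⟮y / algebraMap K L qK⟯ = ⊤ := by
            rw [eq_top_iff, ← hygen, adjoin_le_iff, Set.singleton_subset_iff]
            have hqL0 : algebraMap K L qK ≠ 0 := by
              rwa [Ne, map_eq_zero_iff _ (algebraMap K L).injective]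
            have h3 := mul_mem (mem_adjoin_simple_self K (y / algebraMap K L qK))
              (IntermediateField.algebraMap_mem (K⟮y / algebraMap K L qK⟯) qK)
            rwa [div_mul_cancel₀ _ hqL0] at h3
          obtain ⟨hz', hgen'⟩ := kconv p w hw0 P hP _ _ hy'u hy'gen
          refine ih' _ _ hz' hgen' ⟨a₂ * ((q⁻¹ : Aˣ) : A) ^ p, ?_⟩
          -- the computation
          have hqinv : algebraMap A K ((q⁻¹ : Aˣ) : A) = qK⁻¹ := by
            have : qK * algebraMap A K ((q⁻¹ : Aˣ) : A) = 1 := by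
              rw [hqKdef, ← map_mul, Units.mul_inv, map_one]
            exact eq_inv_of_mul_eq_one_right this
          have e1 : (ξ - aeval b P) * ϖ ^ (p * m) = ϖ * algebraMap A K a₂ := by
            rw [sub_mul, hPb, ← hm, ha, ← map_sub, ha₂, map_mul]
          have e2 : (ξ - aeval b P) * ϖ ^ n = algebraMap A K a₂ := by
            apply mul_right_cancel₀ hϖ0
            rw [mul_assoc, ← pow_succ, hm, e1, mul_comm]
          have e3 : (u / qK ^ p - 1) / algebraMap A K w ^ p = (ξ - aeval b P) / qK ^ p := by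
            have hqp0 : qK ^ p ≠ 0 := pow_ne_zero p hqK0
            have hwp0 : algebraMap A K w ^ p ≠ 0 := pow_ne_zero p hwK0
            rw [div_eq_div_iff hwp0 hqp0, hu]
            have : qK ^ p = algebraMap A K w ^ p * aeval b P + 1 := by rw [hPq]; ring
            field_simp
            rw [this]
            ring
          rw [e3, div_mul_eq_mul_div, e2, map_mul, map_pow, hqinv, inv_pow, div_eq_mul_inv]
      · exact Or.inr (Or.inr (Or.inl
          (kcaseB p hp w hw0 hwm hwp P hP π hπ ξ z hz hgen (n + 1) ua (Nat.succ_pos n) hpn ha)))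

end red



section norm
variable (p : ℕ) (hp : p.Prime) [CharZero K] [CharP (ResidueField A) p] (w : A) (hw0 : w ≠ 0)
  (hwm : w ∈ maximalIdeal A) (hwp : (1 - w) ^ p = 1) (P : A[X])
  (hP : C (w ^ p) * P = (1 + C w * X) ^ p - 1)
  (π : A) (hπ : maximalIdeal A = Ideal.span {π})
include hp hw0 hwm hwp hP hπ

theorem KP3 (u₂ : A) (hu₂ : u₂ - 1 ∈ maximalIdeal A) (y : L)
    (hy : y ^ p = algebraMap K L (algebraMap A K u₂)) (hgen : K⟮y⟯ = ⊤) : Cases A K L p := by
  have hirr := (IsDiscreteValuationRing.irreducible_iff_uniformizer π).mpr hπ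
  have hϖ0 : algebraMap A K π ≠ 0 := by
    rw [Ne, map_eq_zero_iff _ (IsFractionRing.injective A K)]
    exact hirr.ne_zero
  obtain ⟨e₀, ω, hwω⟩ := IsDiscreteValuationRing.eq_unit_mul_pow_irreducible hw0 hirr
  have he₀ : 1 ≤ e₀ := by
    rcases Nat.eq_zero_or_pos e₀ with h0 | h0
    · exfalso
      rw [h0, pow_zero, mul_one] at hwω
      rw [hwω] at hwm
      exact hwm ω.isUnit
    · exact h0
  obtain ⟨hz', hgen'⟩ := kconv p w hw0 P hP _ _ hy hgen
  have hpe : 1 ≤ p * e₀ := Nat.mul_pos hp.pos he₀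
  refine kred p hp w hw0 hwm hwp P hP π hπ e₀ ω hwω (p * e₀ - 1) (by omega) _ _ hz' hgen' ?_
  rw [hπ, Ideal.mem_span_singleton] at hu₂
  obtain ⟨x', hx'⟩ := hu₂
  refine ⟨x' * ((ω⁻¹ : Aˣ) : A) ^ p, ?_⟩
  have hωinv : algebraMap A K ((ω⁻¹ : Aˣ) : A) = (algebraMap A K (ω : A))⁻¹ := by
    have : algebraMap A K (ω : A) * algebraMap A K ((ω⁻¹ : Aˣ) : A) = 1 := by
      rw [← map_mul, Units.mul_inv, map_one]
    exact eq_inv_of_mul_eq_one_right this
  have hω0 : algebraMap A K (ω : A) ≠ 0 := by
    rw [Ne, map_eq_zero_iff _ (IsFractionRing.injective A K)]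
    exact ω.ne_zero
  have h1 : algebraMap A K u₂ - 1 = algebraMap A K π * algebraMap A K x' := by
    rw [← map_one (algebraMap A K), ← map_sub, hx', map_mul]
  have h2 : algebraMap A K w ^ p =
      algebraMap A K (ω : A) ^ p * (algebraMap A K π ^ (p * e₀ - 1) * algebraMap A K π) := by
    rw [← pow_succ, Nat.sub_add_cancel hpe, hwω, map_mul, map_pow, mul_pow, ← pow_mul,
      mul_comm e₀ p]
  rw [h1, h2, map_mul, map_pow, hωinv, inv_pow]
  field_simp

theorem KP2 (u₀ : Aˣ) (y : L)
    (hy : y ^ p = algebraMap K L (algebraMap A K (u₀ : A))) (hgen : K⟮y⟯ = ⊤) :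
    Cases A K L p := by
  obtain ⟨hfd, hle, -⟩ := kummer_finrank p hp w hw0 hwp _ y hy hgen
  have hyL : aeval y (X ^ p : A[X]) = algebraMap A L (u₀ : A) := by
    rw [map_pow, aeval_X, hy, ← IsScalarTower.algebraMap_apply]
  by_cases hres : ∀ r : A, residue A (u₀ : A) ≠ residue A r ^ p
  · have hyV : ∀ V : ValuationSubring L, EtRam.Dominates A (algebraMap A L) V → y ∈ V :=
      fun V h => mem_of_monic_root h (X ^ p) (monic_X_pow p)
        (by rw [natDegree_X_pow]; exact hp.pos) y u₀ hyL
    refine Or.inr (Or.inr (Or.inr (caseC_core p hp π hπ hle y u₀ hres hyV ?_).1))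
    intro V h
    letI : Algebra A V := (RingHom.codRestrict (algebraMap A L) V h.1).toAlgebra
    intro _
    have := residue_eval h (X ^ p) y (hyV V h) u₀ hyL
    rw [Polynomial.map_pow, map_X, eval₂_pow, eval₂_X] at this
    exact this
  · push Not at hres
    obtain ⟨r, hr⟩ := hres
    have hru : IsUnit r := by
      by_contra hnu
      have hrm : r ∈ maximalIdeal A := hnu
      rw [(residue_eq_zero_iff r).mpr hrm, zero_pow hp.ne_zero, residue_eq_zero_iff] at hr
      exact hr u₀.isUnit
    obtain ⟨ρ, rfl⟩ := hru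
    have hρK0 : algebraMap A K (ρ : A) ≠ 0 := by
      rw [Ne, map_eq_zero_iff _ (IsFractionRing.injective A K)]
      exact ρ.ne_zero
    have hρL0 : algebraMap K L (algebraMap A K (ρ : A)) ≠ 0 := by
      rwa [Ne, map_eq_zero_iff _ (algebraMap K L).injective]
    have hρinv : algebraMap A K ((ρ⁻¹ : Aˣ) : A) = (algebraMap A K (ρ : A))⁻¹ := by
      have : algebraMap A K (ρ : A) * algebraMap A K ((ρ⁻¹ : Aˣ) : A) = 1 := by
        rw [← map_mul, Units.mul_inv, map_one]
      exact eq_inv_of_mul_eq_one_right this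
    refine KP3 p hp w hw0 hwm hwp P hP π hπ ((u₀ : A) * ((ρ⁻¹ : Aˣ) : A) ^ p) ?_
      (y / algebraMap K L (algebraMap A K (ρ : A))) ?_ ?_
    · rw [← residue_eq_zero_iff, map_sub, map_mul, map_pow, map_one, hr, ← mul_pow, ← map_mul,
        Units.mul_inv, map_one, one_pow, sub_self]
    · rw [div_pow, hy, map_mul, map_pow, hρinv, map_mul, map_pow, map_inv₀, inv_pow,
        div_eq_mul_inv]
    · rw [eq_top_iff, ← hgen, adjoin_le_iff, Set.singleton_subset_iff]
      have h3 := mul_mem
        (mem_adjoin_simple_self K (y / algebraMap K L (algebraMap A K (ρ : A))))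
        (IntermediateField.algebraMap_mem
          (K⟮y / algebraMap K L (algebraMap A K (ρ : A))⟯) (algebraMap A K (ρ : A)))
      rwa [div_mul_cancel₀ _ hρL0] at h3

theorem KP (u : K) (y : L) (hy : y ^ p = algebraMap K L u) (hgen : K⟮y⟯ = ⊤) :
    Cases A K L p := by
  have hirr := (IsDiscreteValuationRing.irreducible_iff_uniformizer π).mpr hπ
  have hϖ0 : algebraMap A K π ≠ 0 := by
    rw [Ne, map_eq_zero_iff _ (IsFractionRing.injective A K)]
    exact hirr.ne_zero
  have hπL0 : algebraMap K L (algebraMap A K π) ≠ 0 := by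
    rwa [Ne, map_eq_zero_iff _ (algebraMap K L).injective]
  obtain ⟨hfd, hle, -⟩ := kummer_finrank p hp w hw0 hwp u y hy hgen
  by_cases hu0 : u = 0
  · left
    rw [hu0, map_zero] at hy
    have hy0 : y = 0 := eq_zero_of_pow_eq_zero hy
    rw [← IntermediateField.bot_eq_top_iff_finrank_eq_one, ← hgen, hy0, eq_comm,
      IntermediateField.adjoin_simple_eq_bot_iff]
    exact zero_mem _
  -- u ϖ^M = u₀ ϖ^l
  obtain ⟨M, a, ha⟩ := exists_mul_pow hπ u
  have ha0 : a ≠ 0 := by
    rintro rfl
    rw [map_zero] at ha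
    exact (mul_ne_zero hu0 (pow_ne_zero M hϖ0)) ha
  obtain ⟨l, u₀, rfl⟩ := IsDiscreteValuationRing.eq_unit_mul_pow_irreducible ha0 hirr
  -- replace y by y π^M
  set ϖL := algebraMap K L (algebraMap A K π) with hϖL
  set y' : L := y * ϖL ^ M with hy'
  set s : ℕ := l + (p - 1) * M with hs
  have hy'p : y' ^ p = algebraMap K L (algebraMap A K (u₀ : A) * algebraMap A K π ^ s) := by
    have hpM : p * M = M + (p - 1) * M := by
      have := hp.one_le
      nlinarith [Nat.sub_add_cancel this]
    rw [hy', mul_pow, hy, ← pow_mul, mul_comm M p, hpM, pow_add, ← mul_assoc, hϖL, ← map_pow,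
      ← map_mul, ha, hs, pow_add]
    simp only [map_mul, map_pow]
    ring
  have hy'gen : K⟮y'⟯ = ⊤ := by
    rw [eq_top_iff, ← hgen, adjoin_le_iff, Set.singleton_subset_iff]
    have h3 := div_mem (mem_adjoin_simple_self K y')
      (pow_mem (IntermediateField.algebraMap_mem (K⟮y'⟯) (algebraMap A K π)) M)
    rwa [hy', mul_div_cancel_right₀ _ (pow_ne_zero M hπL0)] at h3
  have hy'0 : y' ≠ 0 := mul_ne_zero (by
    intro h0; rw [h0, zero_pow hp.ne_zero] at hy
    exact hu0 ((map_eq_zero_iff _ (algebraMap K L).injective).mp hy.symm)) (pow_ne_zero M hπL0)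
  by_cases hps : p ∣ s
  · obtain ⟨s', hs'⟩ := hps
    refine KP2 p hp w hw0 hwm hwp P hP π hπ u₀ (y' / ϖL ^ s') ?_ ?_
    · rw [div_pow, hy'p, hs', map_mul, map_pow, ← hϖL, ← pow_mul, mul_comm s' p,
        mul_div_cancel_right₀ _ (pow_ne_zero _ hπL0)]
    · rw [eq_top_iff, ← hy'gen, adjoin_le_iff, Set.singleton_subset_iff]
      have h3 := mul_mem (mem_adjoin_simple_self K (y' / ϖL ^ s'))
        (pow_mem (IntermediateField.algebraMap_mem (K⟮y' / ϖL ^ s'⟯) (algebraMap A K π)) s')
      rwa [div_mul_cancel₀ _ (pow_ne_zero s' hπL0)] at h3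
  · refine Or.inr (Or.inr (Or.inl (caseB_of p hp π hπ hle y'⁻¹ s hps ?_)))
    intro V h
    have h1 : V.valuation y' ^ p = V.valuation (algebraMap A L π) ^ s := by
      rw [← map_pow, hy'p, map_mul, map_pow, ← IsScalarTower.algebraMap_apply,
        ← IsScalarTower.algebraMap_apply, map_mul, map_pow, val_unit h u₀.isUnit, one_mul]
    have hv0 : V.valuation (algebraMap A L π) ^ s ≠ 0 :=
      pow_ne_zero _ (val_pi_pos h (inj_AL (A := A) K L) hπ).ne'
    rw [map_inv₀, inv_pow, h1, inv_mul_cancel₀ hv0]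

end norm



theorem main (p : ℕ) (hp : p.Prime) (A K L : Type u) [CommRing A] [IsDomain A]
    [IsDiscreteValuationRing A] [Field K] [Algebra A K] [IsFractionRing A K] [Field L] [Algebra K L] [Algebra A L]
    [IsScalarTower A K L] [CharZero K] [CharP (IsLocalRing.ResidueField A) p] (ζ : A)
    (hζ : aeval ζ (cyclotomic p ℤ) = 0) (P : A[X]) (hP : C ((1 - ζ) ^ p) * P = (1 + C (1 - ζ) * X) ^ p - 1) (π : A) (hπ : IsLocalRing.maximalIdeal A = Ideal.span {π})
    (ξ : K) (z : L) (hz : aeval z P = algebraMap K L ξ) (hgen : IntermediateField.adjoin K {z} = ⊤) :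
    let g : A →+* L := algebraMap A L
    let case1 : Prop := Module.finrank K L = 1
    let case2 : Prop := EtRam.IsUnramifiedExt A g ∧ Module.finrank K L = p
    let case3 : Prop := EtRam.IsTotallyRamified A g ∧ Module.finrank K L = p
    let case4 : Prop := (∃ V : ValuationSubring L, EtRam.Dominates A g V) ∧
      (∀ V V' : ValuationSubring L, EtRam.Dominates A g V → EtRam.Dominates A g V' → V = V') ∧
      ∀ (V : ValuationSubring L) (h : EtRam.Dominates A g V),
        letI : Algebra A V := (RingHom.codRestrict g V h.1).toAlgebra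
        ∀ [IsLocalHom (algebraMap A V)],
          EtRam.IsWeaklyUnramified A V ∧
            IsPurelyInseparable (IsLocalRing.ResidueField A) (IsLocalRing.ResidueField V) ∧
            Module.finrank (IsLocalRing.ResidueField A) (IsLocalRing.ResidueField V) = p
    IsGalois K L ∧ (case1 ∨ case2 ∨ case3 ∨ case4) ∧
      ((∃ a : A, algebraMap A K a = ξ) → case1 ∨ case2) ∧
      (∀ (n : ℕ) (a : Aˣ), 0 < n → ¬ p ∣ n → ξ * algebraMap A K π ^ n = algebraMap A K a → case3) ∧
      (∀ (n : ℕ) (a : A), 0 < n → p ∣ n → (∀ r : A, IsLocalRing.residue A a ≠ IsLocalRing.residue A r ^ p) →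
          ξ * algebraMap A K π ^ n = algebraMap A K a → case4) := by
  intro g case1 case2 case3 case4
  have hpA : (p : A) ≠ 0 := by
    intro h0
    have := congrArg (algebraMap A K) h0
    rw [map_natCast, map_zero] at this
    exact hp.ne_zero (Nat.cast_eq_zero.mp this)
  have hw0 : 1 - ζ ≠ 0 := w_ne_zero p hp ζ hζ hpA
  have hwm : 1 - ζ ∈ maximalIdeal A := w_mem p hp ζ hζ
  have hwp : (1 - (1 - ζ)) ^ p = 1 := by rw [sub_sub_cancel]; exact zeta_pow p hp ζ hζ
  refine ⟨kummer_galois p hp (1 - ζ) hw0 hwp _ _ (kform p (1 - ζ) P hP z ξ hz)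
    (kgen p (1 - ζ) hw0 P hP z hgen), ?_, ?_, ?_, ?_⟩
  · exact KP p hp (1 - ζ) hw0 hwm hwp P hP π hπ _ _ (kform p (1 - ζ) P hP z ξ hz)
      (kgen p (1 - ζ) hw0 P hP z hgen)
  · rintro ⟨a, ha⟩
    exact kcaseA p hp (1 - ζ) hw0 hwm hwp P hP π hπ ξ z hz hgen a ha
  · intro n a hn hpn hξ
    exact kcaseB p hp (1 - ζ) hw0 hwm hwp P hP π hπ ξ z hz hgen n a hn hpn hξ
  · intro n a hn hpn hres hξ
    exact (kcaseC p hp (1 - ζ) hw0 hwm hwp P hP π hπ ξ z hz hgen n a hn hpn hres hξ).1

end Groth.Agent.Lib.Helper93.KumD
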