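import Mathlib
import Groth.Agent.Lib.Helper95.LengthT

set_option autoImplicit false
namespace Groth.Agent.Lib.Helper93.Lattice1
open Groth.Agent.Lib.Helper95.LengthT

variable {R K V : Type*} [CommRing R] [IsDomain R] [Field K] [Algebra R K]
  [IsFractionRing R K] [AddCommGroup V] [Module K V] [Module R V] [IsScalarTower R K V]

theorem exists_smul_mem (M : Submodule R V) [Submodule.IsLattice K M] (x : V) :
    ∃ s : R, s ≠ 0 ∧ s • x ∈ M := by
  have hx : x ∈ Submodule.span K (M : Set V) := by
    rw [Submodule.IsLattice.span_eq_top]; trivial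
  induction hx using Submodule.span_induction with
  | mem y hy => exact ⟨1, one_ne_zero, by rwa [one_smul]⟩
  | zero => exact ⟨1, one_ne_zero, by simp⟩
  | add y z _ _ hy hz =>
    obtain ⟨s, hs, hsy⟩ := hy
    obtain ⟨t, ht, htz⟩ := hz
    refine ⟨s * t, mul_ne_zero hs ht, ?_⟩
    rw [smul_add]
    refine add_mem ?_ ?_
    · rw [mul_comm, mul_smul]; exact M.smul_mem _ hsy
    · rw [mul_smul]; exact M.smul_mem _ htz
  | smul c y _ hy =>
    obtain ⟨s, hs, hsy⟩ := hy
    obtain ⟨a, t, ht, rfl⟩ := IsFractionRing.div_surjective (A := R) c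
    have ht0 : t ≠ 0 := nonZeroDivisors.ne_zero ht
    have ht' : algebraMap R K t ≠ 0 := by
      simpa using (IsFractionRing.injective R K).ne ht0
    refine ⟨s * t, mul_ne_zero hs ht0, ?_⟩
    have : (s * t) • ((algebraMap R K a / algebraMap R K t) • y) = a • (s • y) := by
      rw [mul_smul, ← algebraMap_smul K t, smul_smul, mul_div_cancel₀ _ ht', algebraMap_smul,
        smul_comm]
    rw [this]
    exact M.smul_mem _ hsy

theorem exists_smul_le (M : Submodule R V) [Submodule.IsLattice K M] (N : Submodule R V)
    (hN : N.FG) : ∃ s : R, s ≠ 0 ∧ ∀ x ∈ N, s • x ∈ M := by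
  classical
  obtain ⟨t, ht⟩ := hN
  have h1 : ∀ y : V, ∃ s : R, s ≠ 0 ∧ s • y ∈ M := fun y => exists_smul_mem (K := K) M y
  choose s hs hsy using h1
  refine ⟨∏ y ∈ t, s y, Finset.prod_ne_zero_iff.mpr fun y _ => hs y, ?_⟩
  intro y hy
  rw [← ht] at hy
  have hle : Submodule.span R (t : Set V) ≤
      M.comap (LinearMap.lsmul R V (∏ y ∈ t, s y)) := by
    rw [Submodule.span_le]
    intro z hz
    have hz' : z ∈ t := hz
    show (∏ y ∈ t, s y) • z ∈ M
    rw [← Finset.mul_prod_erase t s hz', mul_comm, mul_smul]
    exact M.smul_mem _ (hsy z)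
  exact hle hy


section main
variable [IsNoetherianRing R] [IsLocalRing R]

/-- (1a) -/
theorem length_ne_top (hdim : ringKrullDim R = 1) (M M' : Submodule R V) [Submodule.IsLattice K M]
    (hfg : M'.FG) :
    Module.length R (M' ⧸ Submodule.comap M'.subtype M) ≠ ⊤ := by
  obtain ⟨s, hs, hsM⟩ := exists_smul_le (K := K) M M' hfg
  have : Module.Finite R M' := Module.Finite.iff_fg.2 hfg
  rw [Module.length_ne_top_iff]
  apply isFiniteLength_of_smul_eq_zero s
    (isFiniteLength_quot_span hdim s (mem_nonZeroDivisors_of_ne_zero hs))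
  intro x
  obtain ⟨y, rfl⟩ := Submodule.Quotient.mk_surjective _ x
  rw [← Submodule.Quotient.mk_smul, Submodule.Quotient.mk_eq_zero]
  exact hsM y.1 y.2

/-- torsion of finite length quotients -/
theorem exists_smul_mem_of_length (hdim : ringKrullDim R = 1) (M M' : Submodule R V)
    (hlen : Module.length R (M ⧸ Submodule.comap M.subtype M') ≠ ⊤) (x : V) (hx : x ∈ M) :
    ∃ s : R, s ≠ 0 ∧ s • x ∈ M' := by
  by_contra hcon
  push Not at hcon
  let φ : R →ₗ[R] (M ⧸ Submodule.comap M.subtype M') :=
    LinearMap.toSpanSingleton R _ (Submodule.Quotient.mk ⟨x, hx⟩)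
  have hφ : Function.Injective φ := by
    rw [← LinearMap.ker_eq_bot, Submodule.eq_bot_iff]
    intro s hs
    by_contra hs0
    apply hcon s hs0
    have : s • (Submodule.Quotient.mk (⟨x, hx⟩ : M) : M ⧸ Submodule.comap M.subtype M') = 0 := hs
    rw [← Submodule.Quotient.mk_smul, Submodule.Quotient.mk_eq_zero] at this
    exact this
  have hR : Module.length R R ≠ ⊤ :=
    ne_top_of_le_ne_top hlen (Module.length_le_of_injective φ hφ)
  have hart : IsArtinianRing R :=
    (isArtinianRing_iff_isFiniteLength (R := R)).mpr (Module.length_ne_top_iff.mp hR)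
  have h0 : Ring.KrullDimLE 0 R := inferInstance
  rw [Ring.krullDimLE_iff, hdim] at h0
  exact absurd h0 (by decide)

theorem main9164 (R K V : Type*) [CommRing R] [IsDomain R]
    [IsNoetherianRing R] [IsLocalRing R] (hdim : ringKrullDim R = 1) [Field K] [Algebra R K]
    [IsFractionRing R K] [AddCommGroup V] [Module K V] [Module R V] [IsScalarTower R K V]
    [FiniteDimensional K V] (M : Submodule R V) [Submodule.IsLattice K M] :
    (∀ M' : Submodule R V, M ≤ M' →
        (Submodule.IsLattice K M' ↔ Module.length R (M' ⧸ Submodule.comap M'.subtype M) ≠ ⊤) ∧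
          (Submodule.IsLattice K M' ↔ M'.FG)) ∧
      (∀ M' : Submodule R V, M' ≤ M →
        (Submodule.IsLattice K M' ↔ Module.length R (M ⧸ Submodule.comap M.subtype M') ≠ ⊤)) ∧
      ∀ M' : Submodule R V, Submodule.IsLattice K M' → Submodule.IsLattice K (M ⊓ M') := by
  refine ⟨fun M' hle => ?_, fun M' hle => ?_, fun M' hM' => ?_⟩
  · have h2 : Submodule.IsLattice K M' ↔ M'.FG :=
      ⟨fun h => h.fg, fun h => Submodule.IsLattice.of_le_of_isLattice_of_fg K hle h⟩
    refine ⟨⟨fun h => length_ne_top (K := K) hdim M M' h.fg, fun h => ?_⟩, h2⟩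
    rw [h2]
    have hfl : IsFiniteLength R (M' ⧸ Submodule.comap M'.subtype M) := Module.length_ne_top_iff.mp h
    have hN : IsNoetherian R (M' ⧸ Submodule.comap M'.subtype M) :=
      (isFiniteLength_iff_isNoetherian_isArtinian.mp hfl).1
    have h1 : Module.Finite R (Submodule.comap M'.subtype M) :=
      Module.Finite.equiv (Submodule.comapSubtypeEquivOfLe hle).symm
    have : Module.Finite R M' := Module.Finite.of_submodule_quotient (Submodule.comap M'.subtype M)
    exact Module.Finite.iff_fg.1 this
  · constructor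
    · intro h
      exact length_ne_top (K := K) hdim M' M Submodule.IsLattice.fg
    · intro h
      have hNoeth : IsNoetherian R M := isNoetherian_of_isNoetherianRing_of_finite R M
      refine ⟨?_, ?_⟩
      · have : IsNoetherian R M' := isNoetherian_of_le hle
        exact Module.Finite.iff_fg.1 inferInstance
      · rw [eq_top_iff, ← Submodule.IsLattice.span_eq_top (A := K) (M := M), Submodule.span_le]
        intro x hx
        obtain ⟨s, hs, hsx⟩ := exists_smul_mem_of_length hdim M M' h x hx
        have hs' : algebraMap R K s ≠ 0 := by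
          simpa using (IsFractionRing.injective R K).ne hs
        have : x = (algebraMap R K s)⁻¹ • (s • x) := by
          rw [← algebraMap_smul K s x, smul_smul, inv_mul_cancel₀ hs', one_smul]
        rw [this]
        exact Submodule.smul_mem _ _ (Submodule.subset_span hsx)
  · have hNoeth : IsNoetherian R M := isNoetherian_of_isNoetherianRing_of_finite R M
    refine ⟨?_, ?_⟩
    · have : IsNoetherian R ↥(M ⊓ M') := isNoetherian_of_le inf_le_left
      exact Module.Finite.iff_fg.1 inferInstance
    · obtain ⟨s, hs, hsM⟩ := exists_smul_le (K := K) M' M Submodule.IsLattice.fg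
      rw [eq_top_iff, ← Submodule.IsLattice.span_eq_top (A := K) (M := M), Submodule.span_le]
      intro x hx
      have hs' : algebraMap R K s ≠ 0 := by
        simpa using (IsFractionRing.injective R K).ne hs
      have : x = (algebraMap R K s)⁻¹ • (s • x) := by
        rw [← algebraMap_smul K s x, smul_smul, inv_mul_cancel₀ hs', one_smul]
      rw [this]
      exact Submodule.smul_mem _ _ (Submodule.subset_span ⟨M.smul_mem _ hx, hsM x hx⟩)

end main

end Groth.Agent.Lib.Helper93.Lattice1
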