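import Mathlib
import Groth.Prelude.Def_Found

set_option autoImplicit false
universe u
namespace Groth.Agent.Lib.Helper93.LaurentN1
open Polynomial

variable (R : Type u) [CommRing R] [IsDomain R]
    (S : Type u) [CommRing S] [IsDomain S] [Algebra (Polynomial R) S]
    [IsLocalization.Away (Polynomial.X : Polynomial R) S]

local notation "K" => FractionRing R
local notation "F" => FractionRing S
local notation "Q" => RatFunc (FractionRing R)

noncomputable def g : R[X] →+* Q :=
  (algebraMap K[X] Q).comp (Polynomial.mapRingHom (algebraMap R K))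

lemma g_inj : Function.Injective (g R) :=
  (IsFractionRing.injective K[X] Q).comp
    (Polynomial.map_injective _ (IsFractionRing.injective R K))

lemma g_X : g R X = RatFunc.X := by
  simp [g, RatFunc.algebraMap_X]

lemma g_X_unit : IsUnit (g R X) := by
  rw [g_X]; exact RatFunc.X_ne_zero.isUnit

noncomputable def g' : S →+* Q :=
  IsLocalization.Away.lift (Polynomial.X : R[X]) (g_X_unit R)

lemma g'_algebraMap (p : R[X]) : g' R S (algebraMap R[X] S p) = g R p :=
  IsLocalization.Away.lift_eq _ (g_X_unit R) p

lemma g'_inj : Function.Injective (g' R S) := by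
  rw [injective_iff_map_eq_zero]
  intro s hs
  obtain ⟨⟨p, ⟨_, n, rfl⟩⟩, hp⟩ := IsLocalization.surj (Submonoid.powers (X : R[X])) s
  simp only at hp
  have h1 : g R p = 0 := by
    rw [← g'_algebraMap R S, ← hp, map_mul, hs, zero_mul]
  have h2 : p = 0 := g_inj R (by rw [h1, map_zero])
  rw [h2, map_zero] at hp
  have hu : IsUnit (algebraMap R[X] S (X ^ n)) :=
    IsLocalization.map_units S (⟨X ^ n, n, rfl⟩ : Submonoid.powers (X : R[X]))
  exact (hu.mul_left_eq_zero).1 hp

noncomputable def j : F →+* Q := IsFractionRing.lift (g'_inj R S)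

lemma j_algebraMap (s : S) : j R S (algebraMap S F s) = g' R S s :=
  IsFractionRing.lift_algebraMap _ s

noncomputable def σ : R →+* S := (algebraMap R[X] S).comp Polynomial.C

lemma σ_inj : Function.Injective (σ R S) := by
  intro a b hab
  have : g' R S (σ R S a) = g' R S (σ R S b) := by rw [hab]
  simp only [σ, RingHom.comp_apply, g'_algebraMap] at this
  exact Polynomial.C_injective (g_inj R this)

noncomputable def ι : K →+* F :=
  IsFractionRing.lift (g := (algebraMap S F).comp (σ R S))
    ((IsFractionRing.injective S F).comp (σ_inj R S))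

lemma ι_algebraMap (r : R) : ι R S (algebraMap R K r) = algebraMap S F (σ R S r) :=
  IsFractionRing.lift_algebraMap _ r

lemma j_ι (y : K) : j R S (ι R S y) = algebraMap K Q y := by
  have : (j R S).comp (ι R S) = algebraMap K Q := by
    apply IsLocalization.ringHom_ext (nonZeroDivisors R)
    ext r
    simp only [RingHom.comp_apply, ι_algebraMap, j_algebraMap, σ, g'_algebraMap, g]
    simp [IsScalarTower.algebraMap_apply K K[X] Q]
  exact congrFun (congrArg DFunLike.coe this) y


lemma ι_integral (y : K) (hy : IsIntegral R y) : IsIntegral S (ι R S y) := by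
  obtain ⟨p, hmonic, hp⟩ := hy
  refine ⟨p.map (σ R S), hmonic.map _, ?_⟩
  rw [Polynomial.eval₂_map]
  have hcomp : (algebraMap S F).comp (σ R S) = (ι R S).comp (algebraMap R K) := by
    ext r
    simp [ι_algebraMap]
  rw [hcomp, ← Polynomial.hom_eval₂, hp, map_zero]

theorem key [IsNoetherianRing R] (h : CAlg.IsN1 S) :
    (Subalgebra.toSubmodule (integralClosure R K)).FG := by
  classical
  haveI : IsNoetherianRing S :=
    IsLocalization.isNoetherianRing (Submonoid.powers (X : R[X])) S inferInstance
  haveI : Module.Finite S ↥(integralClosure S F) := h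
  have hNoeth : IsNoetherian S ↥(Subalgebra.toSubmodule (integralClosure S F)) :=
    isNoetherian_of_isNoetherianRing_of_finite S ↥(integralClosure S F)
  let Rt : Set K := (integralClosure R K : Set K)
  let N : Submodule S F := Submodule.span S (ι R S '' Rt)
  have hN : N ≤ Subalgebra.toSubmodule (integralClosure S F) := by
    rw [Submodule.span_le]
    rintro _ ⟨y, hy, rfl⟩
    exact ι_integral R S y hy
  have hNfg : N.FG := isNoetherian_submodule.1 hNoeth N hN
  obtain ⟨t, ht, hspan⟩ := (Submodule.fg_span_iff_fg_span_finset_subset _).1 hNfg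
  have hpre : ∀ c : F, ∃ c' : K, c ∈ t → c' ∈ Rt ∧ ι R S c' = c := by
    intro c
    by_cases hc : c ∈ t
    · obtain ⟨c', hc', rfl⟩ := ht hc
      exact ⟨c', fun _ => ⟨hc', rfl⟩⟩
    · exact ⟨0, fun h => absurd h hc⟩
  choose pre hpre using hpre
  refine ⟨t.image pre, ?_⟩
  apply le_antisymm
  · rw [Submodule.span_le]
    intro c' hc'
    rw [Finset.coe_image] at hc'
    obtain ⟨c, hc, rfl⟩ := hc'
    exact (hpre c hc).1
  · intro y hy
    have hyN : ι R S y ∈ N := Submodule.subset_span ⟨y, hy, rfl⟩
    have hyN' : ι R S y ∈ Submodule.span S (t : Set F) := hspan ▸ hyN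
    rw [Submodule.mem_span_finset] at hyN'
    obtain ⟨f, -, hf⟩ := hyN'
    obtain ⟨⟨_, m, rfl⟩, hb⟩ := IsLocalization.exist_integer_multiples
      (Submonoid.powers (X : R[X])) t f
    choose! q hq using hb
    -- the identity in Q
    have hQ : algebraMap K[X] Q (X ^ m * C y) =
        algebraMap K[X] Q (∑ c ∈ t, (q c).map (algebraMap R K) * C (pre c)) := by
      rw [map_mul, map_sum]
      have h1 : algebraMap K[X] Q (C y) = j R S (ι R S y) := by
        rw [j_ι, IsScalarTower.algebraMap_apply K K[X] Q, Polynomial.algebraMap_apply,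
          Algebra.algebraMap_self, RingHom.id_apply]
      rw [h1, ← hf, map_sum, Finset.mul_sum]
      refine Finset.sum_congr rfl fun c hc => ?_
      rw [Algebra.smul_def, map_mul, j_algebraMap, map_mul]
      have h2 : j R S c = algebraMap K[X] Q (C (pre c)) := by
        conv_lhs => rw [← (hpre c hc).2]
        rw [j_ι, IsScalarTower.algebraMap_apply K K[X] Q, Polynomial.algebraMap_apply,
          Algebra.algebraMap_self, RingHom.id_apply]
      have h3 : algebraMap K[X] Q (X ^ m) * g' R S (f c) =
          algebraMap K[X] Q ((q c).map (algebraMap R K)) := by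
        have := hq c hc
        simp only [Algebra.smul_def] at this
        have h4 := congrArg (g' R S) this
        rw [g'_algebraMap, map_mul, g'_algebraMap] at h4
        have h5 : g R (X ^ m) = algebraMap K[X] Q (X ^ m) := by simp [g]
        have h6 : g R (q c) = algebraMap K[X] Q ((q c).map (algebraMap R K)) := by simp [g]
        rw [← h5, ← h4, h6]
      rw [h2, ← mul_assoc, h3]
    have hP := IsFractionRing.injective K[X] Q hQ
    have hE := congrArg (Polynomial.eval 1) hP
    simp only [eval_mul, eval_pow, eval_X, one_pow, one_mul, eval_C, eval_finsetSum,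
      eval_map, eval₂_at_one] at hE
    rw [hE]
    refine Submodule.sum_mem _ fun c hc => ?_
    rw [← Algebra.smul_def]
    refine Submodule.smul_mem _ _ (Submodule.subset_span ?_)
    rw [Finset.coe_image]
    exact ⟨c, hc, rfl⟩

theorem main [IsNoetherianRing R] (h : CAlg.IsN1 S) : CAlg.IsN1 R := by
  have := key R S h
  have h2 : Module.Finite R ↥(Subalgebra.toSubmodule (integralClosure R K)) :=
    Module.Finite.iff_fg.2 this
  exact h2

end Groth.Agent.Lib.Helper93.LaurentN1
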