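import Mathlib

set_option autoImplicit false
namespace Groth.Agent.Lib.Helper93.LeftInv
open TensorProduct

variable {A : Type*} [CommRing A] {M N : Type*} [AddCommGroup M] [Module A M] [Module.Finite A M]
  [AddCommGroup N] [Module A N] [Module.Projective A N]

theorem exists_finite_retract (u : M →ₗ[A] N) :
    ∃ (I₀ : Finset N) (π₀ : N →ₗ[A] (I₀ → A)) (ρ₀ : (I₀ → A) →ₗ[A] N),
      ∀ x, ρ₀ (π₀ (u x)) = u x := by
  classical
  obtain ⟨s, hs⟩ := Module.projective_def'.1 (inferInstance : Module.Projective A N)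
  obtain ⟨T, hT⟩ := Module.finite_def.1 (inferInstance : Module.Finite A M)
  let I₀ : Finset N := T.biUnion fun x => (s (u x)).support
  have hsupp : ∀ x : M, ∀ i, i ∉ I₀ → s (u x) i = 0 := by
    intro x
    have hx : x ∈ Submodule.span A (T : Set M) := by rw [hT]; trivial
    induction hx using Submodule.span_induction with
    | mem y hy =>
      intro i hi
      by_contra h0
      apply hi
      exact Finset.mem_biUnion.2 ⟨y, hy, Finsupp.mem_support_iff.2 h0⟩
    | zero => intro i _; simp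
    | add y z _ _ hy hz => intro i hi; simp [hy i hi, hz i hi]
    | smul c y _ hy => intro i hi; simp [hy i hi]
  refine ⟨I₀, LinearMap.pi (fun i => (Finsupp.lapply i.1) ∘ₗ s),
    Fintype.linearCombination A (fun i : I₀ => (i.1 : N)), ?_⟩
  intro x
  rw [Fintype.linearCombination_apply]
  have h1 : u x = Finsupp.linearCombination A id (s (u x)) := by
    have := LinearMap.congr_fun hs (u x)
    exact this.symm
  conv_rhs => rw [h1]
  rw [Finsupp.linearCombination_apply, Finsupp.sum]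
  have h2 : ∑ i : I₀, (LinearMap.pi fun i : I₀ => Finsupp.lapply i.1 ∘ₗ s) (u x) i • (i.1 : N) =
      ∑ i ∈ I₀, s (u x) i • i := by
    rw [← Finset.sum_coe_sort I₀ (fun i => s (u x) i • i)]
    rfl
  rw [h2]
  symm
  refine Finset.sum_subset ?_ ?_
  · intro i hi
    by_contra h
    exact (Finsupp.mem_support_iff.1 hi) (hsupp x i h)
  · intro i _ hi
    rw [Finsupp.notMem_support_iff.1 hi, zero_smul]


/-- the ideal of scalars `c` such that `c • id` factors through `u`. -/
def aIdeal (u : M →ₗ[A] N) : Ideal A where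
  carrier := {c | ∃ v : N →ₗ[A] M, v ∘ₗ u = c • LinearMap.id}
  zero_mem' := ⟨0, by simp⟩
  add_mem' := by
    rintro c d ⟨v₁, h₁⟩ ⟨v₂, h₂⟩
    exact ⟨v₁ + v₂, by rw [LinearMap.add_comp, h₁, h₂, add_smul]⟩
  smul_mem' := by
    rintro c x ⟨v, h⟩
    exact ⟨c • v, by rw [LinearMap.smul_comp, h, smul_smul]; rfl⟩

theorem leftInv_iff_aIdeal (u : M →ₗ[A] N) :
    (∃ w : N →ₗ[A] M, w ∘ₗ u = LinearMap.id) ↔ aIdeal u = ⊤ := by
  rw [Ideal.eq_top_iff_one]
  constructor
  · rintro ⟨w, hw⟩; exact ⟨w, by rw [hw, one_smul]⟩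
  · rintro ⟨w, hw⟩; exact ⟨w, by rw [hw, one_smul]⟩

theorem part1 (u : M →ₗ[A] N) :
    (∃ w : N →ₗ[A] M, w ∘ₗ u = LinearMap.id) ↔
      ∀ (m : Ideal A) [m.IsMaximal],
        ∃ w : LocalizedModule m.primeCompl N →ₗ[A] LocalizedModule m.primeCompl M,
          w ∘ₗ (LocalizedModule.map m.primeCompl u).restrictScalars A = LinearMap.id := by
  constructor
  · rintro ⟨w, hw⟩ m _
    refine ⟨(LocalizedModule.map m.primeCompl w).restrictScalars A, ?_⟩
    ext x
    induction x using LocalizedModule.induction_on with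
    | h y t =>
      have := LinearMap.congr_fun hw y
      simp only [LinearMap.comp_apply, LinearMap.id_apply] at this
      simp only [LinearMap.comp_apply, LinearMap.coe_restrictScalars, LocalizedModule.map_mk,
        LinearMap.id_apply, this]
  · intro h
    rw [leftInv_iff_aIdeal]
    by_contra hne
    obtain ⟨m, hm, hle⟩ := Ideal.exists_le_maximal _ hne
    obtain ⟨wm, hwm⟩ := h m
    obtain ⟨I₀, π₀, ρ₀, hret⟩ := exists_finite_retract u
    let g : (I₀ → A) →ₗ[A] LocalizedModule m.primeCompl M := wm ∘ₗ LocalizedModule.mkLinearMap m.primeCompl N ∘ₗ ρ₀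
    obtain ⟨v₀, t, hv₀⟩ := Module.FinitePresentation.exists_lift_of_isLocalizedModule m.primeCompl
      (LocalizedModule.mkLinearMap m.primeCompl M) g
    have h1 : LocalizedModule.mkLinearMap m.primeCompl M ∘ₗ ((v₀ ∘ₗ π₀) ∘ₗ u) =
        LocalizedModule.mkLinearMap m.primeCompl M ∘ₗ (t.1 • LinearMap.id) := by
      ext x
      have e1 : LocalizedModule.mkLinearMap m.primeCompl M (v₀ (π₀ (u x))) = t • g (π₀ (u x)) := by
        have := LinearMap.congr_fun hv₀ (π₀ (u x))
        simpa using this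
      have e2 : g (π₀ (u x)) = LocalizedModule.mkLinearMap m.primeCompl M x := by
        show wm (LocalizedModule.mkLinearMap m.primeCompl N (ρ₀ (π₀ (u x)))) = _
        rw [hret]
        have := LinearMap.congr_fun hwm (LocalizedModule.mkLinearMap m.primeCompl M x)
        simpa using this
      simp only [LinearMap.comp_apply, LinearMap.smul_apply, LinearMap.id_apply]
      rw [e1, e2, Submonoid.smul_def, map_smul]
    obtain ⟨s, hs⟩ := Module.Finite.exists_smul_of_comp_eq_of_isLocalizedModule m.primeCompl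
      (LocalizedModule.mkLinearMap m.primeCompl M) ((v₀ ∘ₗ π₀) ∘ₗ u) (t.1 • LinearMap.id) h1
    have hmem : s.1 * t.1 ∈ aIdeal u := by
      refine ⟨s.1 • (v₀ ∘ₗ π₀), ?_⟩
      rw [LinearMap.smul_comp, mul_smul]
      simpa [Submonoid.smul_def] using hs
    exact (m.primeCompl.mul_mem s.2 t.2) (hle hmem)


theorem part2 (u : M →ₗ[A] N) (A' : Type*) [CommRing A'] [Algebra A A'] [Module.FaithfullyFlat A A'] :
    (∃ w : N →ₗ[A] M, w ∘ₗ u = LinearMap.id) ↔
      ∃ w : A' ⊗[A] N →ₗ[A'] A' ⊗[A] M, w ∘ₗ u.baseChange A' = LinearMap.id := by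
  constructor
  · rintro ⟨w, hw⟩
    exact ⟨w.baseChange A', by rw [← LinearMap.baseChange_comp, hw, LinearMap.baseChange_id]⟩
  · rintro ⟨w', hw'⟩
    obtain ⟨I₀, π₀, ρ₀, hret⟩ := exists_finite_retract u
    obtain ⟨r, x, hx⟩ := Module.Finite.exists_fin (R := A) (M := M)
    let Θ : ((I₀ → A) →ₗ[A] M) →ₗ[A] (Fin r → M) :=
      LinearMap.pi (fun j => LinearMap.applyₗ (π₀ (u (x j))))
    have hb := Module.isBaseChange_map_of_finite_free (R := A) M A' I₀
    let E : (A' ⊗[A] (I₀ → A) →ₗ[A'] A' ⊗[A] M) →ₗ[A'] (Fin r → A' ⊗[A] M) :=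
      LinearMap.pi (fun j => LinearMap.applyₗ ((1 : A') ⊗ₜ[A] π₀ (u (x j))))
    let q' : A' ⊗[A] (Fin r → M) →ₗ[A'] A' ⊗[A] ((Fin r → M) ⧸ LinearMap.range Θ) :=
      (LinearMap.range Θ).mkQ.baseChange A'
    let Λ : (A' ⊗[A] (I₀ → A) →ₗ[A'] A' ⊗[A] M) →ₗ[A']
        A' ⊗[A] ((Fin r → M) ⧸ LinearMap.range Θ) :=
      q' ∘ₗ (TensorProduct.piRight A A' A' (fun _ : Fin r => M)).symm.toLinearMap ∘ₗ E
    have hΛ : Λ = 0 := by
      refine hb.algHom_ext Λ 0 (fun v => ?_)
      have h1 : E (LinearMap.baseChangeHom A A' (I₀ → A) M v) = fun j => (1 : A') ⊗ₜ[A] Θ v j := by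
        ext j
        show (v.baseChange A') ((1 : A') ⊗ₜ[A] π₀ (u (x j))) = _
        rw [LinearMap.baseChange_tmul]; rfl
      show q' ((TensorProduct.piRight A A' A' (fun _ : Fin r => M)).symm
        (E (LinearMap.baseChangeHom A A' (I₀ → A) M v))) = 0
      rw [h1, TensorProduct.piRight_symm_apply]
      show (LinearMap.range Θ).mkQ.baseChange A' ((1 : A') ⊗ₜ[A] Θ v) = 0
      rw [LinearMap.baseChange_tmul]
      have : (LinearMap.range Θ).mkQ (Θ v) = 0 := by
        rw [Submodule.mkQ_apply, Submodule.Quotient.mk_eq_zero]; exact ⟨v, rfl⟩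
      rw [this, TensorProduct.tmul_zero]
    let g' : A' ⊗[A] (I₀ → A) →ₗ[A'] A' ⊗[A] M := w' ∘ₗ ρ₀.baseChange A'
    have h2 : E g' = fun j => (1 : A') ⊗ₜ[A] x j := by
      ext j
      show w' (ρ₀.baseChange A' ((1 : A') ⊗ₜ[A] π₀ (u (x j)))) = _
      rw [LinearMap.baseChange_tmul, hret, ← LinearMap.baseChange_tmul]
      exact LinearMap.congr_fun hw' _
    have h3 : Λ g' = (1 : A') ⊗ₜ[A] (LinearMap.range Θ).mkQ x := by
      show q' ((TensorProduct.piRight A A' A' (fun _ : Fin r => M)).symm (E g')) = _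
      rw [h2, TensorProduct.piRight_symm_apply]
      show (LinearMap.range Θ).mkQ.baseChange A' ((1 : A') ⊗ₜ[A] x) = _
      rw [LinearMap.baseChange_tmul]
    rw [hΛ, LinearMap.zero_apply] at h3
    have h4 : (LinearMap.range Θ).mkQ x = 0 := by
      apply Module.FaithfullyFlat.tensorProduct_mk_injective (A := A) (B := A')
      rw [map_zero]
      exact h3.symm
    rw [Submodule.mkQ_apply, Submodule.Quotient.mk_eq_zero] at h4
    obtain ⟨v, hv⟩ := h4
    refine ⟨v ∘ₗ π₀, ?_⟩
    apply LinearMap.ext_on_range hx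
    intro j
    have := congrFun hv j
    exact this

end Groth.Agent.Lib.Helper93.LeftInv
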