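import Mathlib

set_option autoImplicit false
universe u v
namespace Groth.Agent.Lib.Helper93.LiftSum

open TensorProduct

variable {R : Type u} [CommRing R] (𝔫 : Ideal R)

section basics
variable (M : Type v) [AddCommGroup M] [Module R M]

theorem one_tmul_surjective (y : (R ⧸ 𝔫) ⊗[R] M) : ∃ m : M, (1 : R ⧸ 𝔫) ⊗ₜ[R] m = y := by
  obtain ⟨m, hm⟩ := Submodule.Quotient.mk_surjective _ (quotTensorEquivQuotSMul M 𝔫 y)
  refine ⟨m, (quotTensorEquivQuotSMul M 𝔫).injective ?_⟩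
  rw [quotTensorEquivQuotSMul_mk_one_tmul, hm]

variable {M}

theorem one_tmul_eq_zero_iff (m : M) :
    (1 : R ⧸ 𝔫) ⊗ₜ[R] m = 0 ↔ m ∈ (𝔫 • ⊤ : Submodule R M) := by
  rw [← Submodule.Quotient.mk_eq_zero, ← quotTensorEquivQuotSMul_mk_one_tmul,
    LinearEquiv.map_eq_zero_iff]

theorem mem_baseChange_iff (p : Submodule R M) (x : (R ⧸ 𝔫) ⊗[R] M) :
    x ∈ p.baseChange (R ⧸ 𝔫) ↔ ∃ m ∈ p, (1 : R ⧸ 𝔫) ⊗ₜ[R] m = x := by
  constructor
  · rintro ⟨w, rfl⟩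
    obtain ⟨m', rfl⟩ := one_tmul_surjective 𝔫 p w
    exact ⟨m', m'.2, by rw [LinearMap.baseChange_tmul]; rfl⟩
  · rintro ⟨m, hm, rfl⟩
    exact Submodule.tmul_mem_baseChange_of_mem _ hm

end basics

theorem exists_compl_of_projective {M : Type v} [AddCommGroup M] [Module R M] (p : Submodule R M)
    [Module.Projective R (M ⧸ p)] :
    ∃ s : (M ⧸ p) →ₗ[R] M, p.mkQ ∘ₗ s = LinearMap.id := 
  Module.projective_lifting_property p.mkQ LinearMap.id p.mkQ_surjective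

theorem main
    (H₁ : Type v) (H : Type v) (H₂ : Type v)
    [AddCommGroup H₁] [Module R H₁] [AddCommGroup H] [Module R H] [AddCommGroup H₂] [Module R H₂]
    [Module.Projective R H₂]
    (f : H₁ →ₗ[R] H) (g : H →ₗ[R] H₂) (hf : Function.Injective f) (hg : Function.Surjective g)
    (hfg : Function.Exact f g)
    (F₁ : Submodule R H₁) (F₂ : Submodule R H₂) [Module.Projective R (H₁ ⧸ F₁)]
    [Module.Projective R (H₂ ⧸ F₂)]
    (Fb : Submodule (R ⧸ 𝔫) ((R ⧸ 𝔫) ⊗[R] H))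
    (h1 : Fb ⊓ LinearMap.range (f.baseChange (R ⧸ 𝔫)) =
      Submodule.map (f.baseChange (R ⧸ 𝔫)) (F₁.baseChange (R ⧸ 𝔫)))
    (h2 : Submodule.map (g.baseChange (R ⧸ 𝔫)) Fb = F₂.baseChange (R ⧸ 𝔫)) :
    ∃ F : Submodule R H, (∃ C : Submodule R H, IsCompl F C) ∧
      F ⊓ LinearMap.range f = Submodule.map f F₁ ∧
      F.baseChange (R ⧸ 𝔫) = Fb ∧ Submodule.map g F = F₂ := by
  classical
  -- sections
  obtain ⟨s₁, hs₁⟩ := exists_compl_of_projective F₁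
  obtain ⟨s₂, hs₂⟩ := exists_compl_of_projective F₂
  have hs₁' : ∀ q, F₁.mkQ (s₁ q) = q := fun q => LinearMap.congr_fun hs₁ q
  have hs₂' : ∀ q, F₂.mkQ (s₂ q) = q := fun q => LinearMap.congr_fun hs₂ q
  -- F₂ is projective
  let ρ : H₂ →ₗ[R] F₂ := (LinearMap.id - s₂ ∘ₗ F₂.mkQ).codRestrict F₂ (fun x => by
    rw [← Submodule.Quotient.mk_eq_zero, ← Submodule.mkQ_apply]
    simp only [LinearMap.sub_apply, LinearMap.id_apply, LinearMap.comp_apply, map_sub, hs₂', sub_self])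
  have hρ : ρ ∘ₗ F₂.subtype = LinearMap.id := by
    ext u
    simp only [ρ, LinearMap.comp_apply, LinearMap.codRestrict_apply, LinearMap.sub_apply,
      LinearMap.id_apply, Submodule.subtype_apply, Submodule.mkQ_apply]
    rw [(Submodule.Quotient.mk_eq_zero F₂).2 u.2, map_zero, sub_zero]
  haveI : Module.Projective R F₂ := Module.Projective.of_split F₂.subtype ρ hρ
  -- base change facts
  have hgπ : ∀ h : H, g.baseChange (R ⧸ 𝔫) ((1 : R ⧸ 𝔫) ⊗ₜ[R] h) = (1 : R ⧸ 𝔫) ⊗ₜ[R] g h :=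
    fun h => LinearMap.baseChange_tmul _ _ _
  have hfπ : ∀ a : H₁, f.baseChange (R ⧸ 𝔫) ((1 : R ⧸ 𝔫) ⊗ₜ[R] a) = (1 : R ⧸ 𝔫) ⊗ₜ[R] f a :=
    fun h => LinearMap.baseChange_tmul _ _ _
  have hexact : Function.Exact (f.baseChange (R ⧸ 𝔫)) (g.baseChange (R ⧸ 𝔫)) := by
    rw [LinearMap.baseChange_eq_ltensor, LinearMap.baseChange_eq_ltensor]
    exact lTensor_exact (R ⧸ 𝔫) hfg hg
  -- the submodule P
  let P : Submodule R H :=
    (Fb.restrictScalars R).comap (TensorProduct.mk R (R ⧸ 𝔫) H 1) ⊓ F₂.comap g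
  have hP : ∀ h : H, h ∈ P ↔ ((1 : R ⧸ 𝔫) ⊗ₜ[R] h ∈ Fb ∧ g h ∈ F₂) := fun h => Iff.rfl
  let gP : P →ₗ[R] F₂ := (g ∘ₗ P.subtype).codRestrict F₂ (fun x => ((hP x.1).1 x.2).2)
  have hgP : Function.Surjective gP := by
    intro u
    have hu : (1 : R ⧸ 𝔫) ⊗ₜ[R] (u : H₂) ∈ F₂.baseChange (R ⧸ 𝔫) :=
      Submodule.tmul_mem_baseChange_of_mem _ u.2
    rw [← h2] at hu
    obtain ⟨y, hy, hyu⟩ := hu
    obtain ⟨h₀, rfl⟩ := one_tmul_surjective 𝔫 H y
    rw [hgπ] at hyu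
    have hdiff : g h₀ - u ∈ (𝔫 • ⊤ : Submodule R H₂) := by
      rw [← one_tmul_eq_zero_iff, tmul_sub, hyu, sub_self]
    have hmap : (𝔫 • ⊤ : Submodule R H₂) = Submodule.map g (𝔫 • ⊤ : Submodule R H) := by
      rw [Submodule.map_smul'', Submodule.map_top, LinearMap.range_eq_top.2 hg]
    rw [hmap] at hdiff
    obtain ⟨t, ht, htg⟩ := hdiff
    have ht0 : (1 : R ⧸ 𝔫) ⊗ₜ[R] t = 0 := (one_tmul_eq_zero_iff 𝔫 t).2 ht
    have hmem : h₀ - t ∈ P := by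
      rw [hP]
      refine ⟨?_, ?_⟩
      · rw [tmul_sub, ht0, sub_zero]; exact hy
      · rw [map_sub, htg, sub_sub_cancel]; exact u.2
    refine ⟨⟨h₀ - t, hmem⟩, Subtype.ext ?_⟩
    change g (h₀ - t) = u
    rw [map_sub, htg, sub_sub_cancel]
  obtain ⟨τ, hτ⟩ := Module.projective_lifting_property gP LinearMap.id hgP
  let τ' : F₂ →ₗ[R] H := P.subtype ∘ₗ τ
  have hτg : ∀ u : F₂, g (τ' u) = u := by
    intro u
    have := LinearMap.congr_fun hτ u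
    exact congrArg Subtype.val this
  have hτFb : ∀ u : F₂, (1 : R ⧸ 𝔫) ⊗ₜ[R] (τ' u) ∈ Fb := fun u => ((hP _).1 (τ u).2).1
  -- the submodule F
  refine ⟨Submodule.map f F₁ ⊔ LinearMap.range τ', ?_, ?_, ?_, ?_⟩
  · obtain ⟨σ, hσ⟩ := Module.projective_lifting_property g s₂ hg
    have hσ' : ∀ q, g (σ q) = s₂ q := fun q => LinearMap.congr_fun hσ q
    refine ⟨Submodule.map f (LinearMap.range s₁) ⊔ LinearMap.range σ, ?_, ?_⟩
    · -- disjoint
      rw [Submodule.disjoint_def]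
      intro x hxF hxC
      obtain ⟨y, hy, z, hz, rfl⟩ := Submodule.mem_sup.1 hxF
      obtain ⟨u, rfl⟩ := hz
      obtain ⟨a, ha, rfl⟩ := hy
      obtain ⟨y', hy', z', hz', hxe⟩ := Submodule.mem_sup.1 hxC
      obtain ⟨q, rfl⟩ := hz'
      obtain ⟨c, ⟨q₁, rfl⟩, rfl⟩ := hy'
      have hg1 := congrArg g hxe
      rw [map_add, map_add, (hfg _).2 ⟨_, rfl⟩, (hfg _).2 ⟨_, rfl⟩, zero_add, zero_add, hσ',
        hτg] at hg1
      have hq : q = 0 := by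
        have := congrArg F₂.mkQ hg1
        rw [hs₂', Submodule.mkQ_apply, (Submodule.Quotient.mk_eq_zero F₂).2 u.2] at this
        exact this
      have hu : u = 0 := Subtype.ext (by rw [← hg1, hq, map_zero]; rfl)
      rw [hq, hu, map_zero, map_zero, add_zero, add_zero] at hxe
      have hac : s₁ q₁ = a := hf hxe
      have hq₁ : q₁ = 0 := by
        have := congrArg F₁.mkQ hac
        rw [hs₁', Submodule.mkQ_apply, (Submodule.Quotient.mk_eq_zero F₁).2 ha] at this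
        exact this
      rw [hu, map_zero, add_zero, ← hac, hq₁, map_zero, map_zero]
    · -- codisjoint
      rw [codisjoint_iff, eq_top_iff]
      intro x _
      set q := F₂.mkQ (g x) with hq
      have hu : g x - s₂ q ∈ F₂ := by
        rw [← Submodule.Quotient.mk_eq_zero, ← Submodule.mkQ_apply, map_sub, hs₂', hq, sub_self]
      set z := τ' ⟨_, hu⟩ with hz
      have hker : g (x - z - σ q) = 0 := by
        rw [map_sub, map_sub, hz, hτg, hσ']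
        simp
      obtain ⟨b, hb⟩ := (hfg _).1 hker
      have hb1 : b - s₁ (F₁.mkQ b) ∈ F₁ := by
        rw [← Submodule.Quotient.mk_eq_zero, ← Submodule.mkQ_apply, map_sub, hs₁', sub_self]
      have hx : x = (f (b - s₁ (F₁.mkQ b)) + z) + (f (s₁ (F₁.mkQ b)) + σ q) := by
        rw [map_sub, hb]; abel
      rw [hx]
      exact Submodule.add_mem_sup (Submodule.add_mem_sup ⟨_, hb1, rfl⟩ ⟨_, rfl⟩)
        (Submodule.add_mem_sup ⟨_, ⟨_, rfl⟩, rfl⟩ ⟨_, rfl⟩)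
  · apply le_antisymm
    · rintro x ⟨hxF, hxf⟩
      obtain ⟨y, hy, z, hz, rfl⟩ := Submodule.mem_sup.1 hxF
      obtain ⟨u, rfl⟩ := hz
      obtain ⟨a, ha, rfl⟩ := hy
      have hg0 : g (f a + τ' u) = 0 := (hfg _).2 hxf
      rw [map_add, (hfg _).2 ⟨a, rfl⟩, zero_add, hτg] at hg0
      have hu : u = 0 := Subtype.ext hg0
      rw [hu, map_zero, add_zero]
      exact ⟨a, ha, rfl⟩
    · exact le_inf le_sup_left (by rintro _ ⟨a, _, rfl⟩; exact ⟨a, rfl⟩)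
  · apply le_antisymm
    · intro x hx
      obtain ⟨m, hm, rfl⟩ := (mem_baseChange_iff 𝔫 _ x).1 hx
      obtain ⟨y, hy, z, hz, rfl⟩ := Submodule.mem_sup.1 hm
      obtain ⟨u, rfl⟩ := hz
      obtain ⟨a, ha, rfl⟩ := hy
      rw [tmul_add]
      refine Fb.add_mem ?_ (hτFb u)
      have : (1 : R ⧸ 𝔫) ⊗ₜ[R] f a ∈
          Submodule.map (f.baseChange (R ⧸ 𝔫)) (F₁.baseChange (R ⧸ 𝔫)) :=
        ⟨1 ⊗ₜ a, Submodule.tmul_mem_baseChange_of_mem _ ha, hfπ a⟩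
      rw [← h1] at this
      exact this.1
    · intro y hy
      have hgy : g.baseChange (R ⧸ 𝔫) y ∈ F₂.baseChange (R ⧸ 𝔫) := h2 ▸ ⟨y, hy, rfl⟩
      obtain ⟨u, hu, hgu⟩ := (mem_baseChange_iff 𝔫 _ _).1 hgy
      set z := τ' ⟨u, hu⟩ with hz
      have hker : g.baseChange (R ⧸ 𝔫) (y - 1 ⊗ₜ z) = 0 := by
        rw [map_sub, hgπ, hz, hτg, hgu, sub_self]
      have hmem : y - 1 ⊗ₜ z ∈ Fb ⊓ LinearMap.range (f.baseChange (R ⧸ 𝔫)) :=
        ⟨Fb.sub_mem hy (hτFb _), (hexact _).1 hker⟩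
      rw [h1] at hmem
      obtain ⟨w, hw, hwy⟩ := hmem
      obtain ⟨a, ha, rfl⟩ := (mem_baseChange_iff 𝔫 _ _).1 hw
      rw [hfπ] at hwy
      have : y = 1 ⊗ₜ (f a + z) := by rw [tmul_add, hwy]; abel
      rw [this]
      exact Submodule.tmul_mem_baseChange_of_mem _ (Submodule.add_mem_sup ⟨a, ha, rfl⟩ ⟨_, rfl⟩)
  · rw [Submodule.map_sup, ← Submodule.map_comp, ← LinearMap.range_comp]
    have h0 : g ∘ₗ f = 0 := hfg.linearMap_comp_eq_zero
    rw [h0, Submodule.map_zero, bot_sup_eq]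
    have : g ∘ₗ τ' = F₂.subtype := LinearMap.ext hτg
    rw [this, Submodule.range_subtype]

end Groth.Agent.Lib.Helper93.LiftSum
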