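import Mathlib

namespace Groth.Agent.Lib.Helper93.MonoCurve

universe u

open PowerSeries TensorProduct

section
variable {k : Type*} [Field k]




/-- semigroup generated by `n` and `n+1` contains everything from `n*n` on. -/
theorem semigroup_large (Γ : Set ℕ) (h0 : 0 ∈ Γ) (hadd : ∀ x ∈ Γ, ∀ y ∈ Γ, x + y ∈ Γ)
    (n : ℕ) (hn : n ∈ Γ) (hn1 : n + 1 ∈ Γ) : ∀ m, n * n ≤ m → m ∈ Γ := by
  have hmul : ∀ a b : ℕ, a * n + b * (n + 1) ∈ Γ := by
    intro a b
    induction a with
    | zero =>
      induction b with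
      | zero => simpa using h0
      | succ b ih =>
        have := hadd _ ih _ hn1
        have e : 0 * n + (b + 1) * (n + 1) = 0 * n + b * (n + 1) + (n + 1) := by ring
        rw [e]; exact this
    | succ a ih =>
      have := hadd _ ih _ hn
      have e : (a + 1) * n + b * (n + 1) = a * n + b * (n + 1) + n := by ring
      rw [e]; exact this
  intro m hm
  rcases Nat.eq_zero_or_pos n with h | h
  · subst h
    have := hmul 0 m
    simpa using this
  · have hq : n ≤ m / n := by
      rw [Nat.le_div_iff_mul_le h]; exact hm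
    have hr : m % n < n := Nat.mod_lt _ h
    have := hmul (m / n - m % n) (m % n)
    have e : (m / n - m % n) * n + (m % n) * (n + 1) = m := by
      have h1 : m % n ≤ m / n := by omega
      have h2 := Nat.div_add_mod m n
      have h3 : (m / n - m % n) * n = (m / n) * n - (m % n) * n := Nat.sub_mul _ _ _
      have h4 : (m % n) * n ≤ (m / n) * n := Nat.mul_le_mul_right _ h1
      have h5 : n * (m / n) = (m / n) * n := Nat.mul_comm _ _
      rw [h3, Nat.mul_add, Nat.mul_one]
      omega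
    rw [e] at this; exact this

theorem Gamma_facts (A : Subalgebra k (PowerSeries k))
    (hbir : ∀ f : PowerSeries k, ∃ a ∈ A, a ≠ 0 ∧ a * f ∈ A) (Γ : Set ℕ)
    (hΓ : ∀ n : ℕ, n ∈ Γ ↔ ∃ f ∈ A, PowerSeries.order f = n)
    (hmono : ∀ f : PowerSeries k, f ∈ A ↔ ∀ n : ℕ, PowerSeries.coeff n f ≠ 0 → n ∈ Γ) :
    0 ∈ Γ ∧ (∀ x ∈ Γ, ∀ y ∈ Γ, x + y ∈ Γ) ∧ Γᶜ.Finite ∧
      ∃ c : ℕ, (∀ m, c ≤ m → m ∈ Γ) ∧ ∀ g : PowerSeries k, X ^ c * g ∈ A := by
  have h0 : 0 ∈ Γ := (hΓ 0).mpr ⟨1, A.one_mem, by simp⟩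
  have hadd : ∀ x ∈ Γ, ∀ y ∈ Γ, x + y ∈ Γ := by
    intro x hx y hy
    obtain ⟨f, hf, hfo⟩ := (hΓ x).mp hx
    obtain ⟨g, hg, hgo⟩ := (hΓ y).mp hy
    exact (hΓ _).mpr ⟨f * g, A.mul_mem hf hg, by rw [order_mul, hfo, hgo]; simp⟩
  obtain ⟨a, haA, ha0, haX⟩ := hbir X
  have hn : a.order.toNat ∈ Γ := (hΓ _).mpr ⟨a, haA, (coe_toNat_order ha0).symm⟩
  have hn1 : a.order.toNat + 1 ∈ Γ :=
    (hΓ _).mpr ⟨a * X, haX, by rw [order_mul, order_X, ← coe_toNat_order ha0]; simp⟩
  have hlarge := semigroup_large Γ h0 hadd _ hn hn1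
  refine ⟨h0, hadd, ?_, a.order.toNat * a.order.toNat, hlarge, ?_⟩
  · refine (Set.finite_lt_nat (a.order.toNat * a.order.toNat)).subset ?_
    intro m hm
    by_contra hlt
    exact hm (hlarge m (not_lt.mp hlt))
  · intro g
    rw [hmono]
    intro m hm
    apply hlarge
    by_contra hlt
    apply hm
    rw [coeff_X_pow_mul']
    simp [not_le.mp hlt |> not_le.mpr]






theorem dvd_of_order_le {u h : PowerSeries k} (hu : u ≠ 0)
    (hle : h = 0 ∨ u.order.toNat ≤ h.order.toNat) : u ∣ h := by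
  rcases hle with rfl | hle
  · exact dvd_zero _
  have h1 : (X : PowerSeries k) ^ u.order.toNat ∣ h := by
    rw [X_pow_dvd_iff]
    intro m hm
    exact coeff_of_lt_order_toNat m (lt_of_lt_of_le hm hle)
  have hw : IsUnit (divXPowOrder u) := by
    rw [isUnit_iff_constantCoeff, constantCoeff_divXPowOrder]
    exact isUnit_iff_ne_zero.mpr (coeff_order hu)
  obtain ⟨h', rfl⟩ := h1
  obtain ⟨w, hw'⟩ := hw
  refine ⟨↑w⁻¹ * h', ?_⟩
  have : u = X ^ u.order.toNat * (w : PowerSeries k) := by
    rw [hw']; exact (X_pow_order_mul_divXPowOrder).symm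
  conv_rhs => rw [this]
  rw [mul_assoc, ← mul_assoc (w : PowerSeries k), Units.mul_inv, one_mul]

/-- normalise a nonzero submodule so that it contains `1`. -/
theorem exists_normalised (A : Subalgebra k (PowerSeries k))
    (N : Submodule ↥A (PowerSeries k)) (hN : N ≠ ⊥) :
    ∃ N₃ : Submodule ↥A (PowerSeries k), (1 : PowerSeries k) ∈ N₃ ∧ Nonempty (N ≃ₗ[↥A] N₃) := by
  classical
  have hex : ∃ v : ℕ, ∃ g ∈ N, g ≠ 0 ∧ g.order.toNat = v := by
    obtain ⟨g, hg, hg0⟩ := (Submodule.ne_bot_iff N).mp hN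
    exact ⟨_, g, hg, hg0, rfl⟩
  obtain ⟨u₀, hu₀N, hu₀, hv⟩ := Nat.find_spec hex
  have hmin : ∀ g ∈ N, g ≠ 0 → u₀.order.toNat ≤ g.order.toNat := by
    intro g hg hg0
    rw [hv]
    exact Nat.find_min' hex ⟨g, hg, hg0, rfl⟩
  have hdvd : ∀ g ∈ N, u₀ ∣ g := by
    intro g hg
    apply dvd_of_order_le hu₀
    by_cases hg0 : g = 0
    · exact Or.inl hg0
    · exact Or.inr (hmin g hg hg0)
  let μ : PowerSeries k →ₗ[↥A] PowerSeries k := LinearMap.mulLeft ↥A u₀
  let N₃ : Submodule ↥A (PowerSeries k) := N.comap μ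
  have h1 : (1 : PowerSeries k) ∈ N₃ := by
    show μ 1 ∈ N
    simpa [μ] using hu₀N
  let f : N₃ →ₗ[↥A] N := μ.restrict (fun x hx => hx)
  have hf : Function.Bijective f := by
    constructor
    · intro x y hxy
    
      have h2 : u₀ * (x : PowerSeries k) = u₀ * (y : PowerSeries k) := congrArg Subtype.val hxy
      exact Subtype.ext (mul_left_cancel₀ hu₀ h2)
    · intro y
      obtain ⟨g, hg⟩ := hdvd y.1 y.2
      have hgN : g ∈ N₃ := by
        show μ g ∈ N
        have : μ g = y.1 := by simp [μ, hg]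
        rw [this]; exact y.2
      exact ⟨⟨g, hgN⟩, Subtype.ext (by simp [f, μ, hg])⟩
  exact ⟨N₃, h1, ⟨(LinearEquiv.ofBijective f hf).symm⟩⟩






/-- coefficient projection along an index map -/
noncomputable def coeffProj {ι : Type*} (g : ι → ℕ) : PowerSeries k →ₗ[k] (ι → k) :=
  LinearMap.pi (fun i => PowerSeries.coeff (g i))

@[simp] theorem coeffProj_apply {ι : Type*} (g : ι → ℕ) (f : PowerSeries k) (i : ι) :
    coeffProj g f i = coeff (g i) f := rfl

theorem coeffProj_surjective {ι : Type*} (g : ι → ℕ) (hg : Function.Injective g) :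
    Function.Surjective (coeffProj (k := k) g) := by
  classical
  intro y
  refine ⟨PowerSeries.mk (fun n => if h : ∃ i, g i = n then y h.choose else 0), ?_⟩
  funext i
  have hex : ∃ i', g i' = g i := ⟨i, rfl⟩
  simp only [coeffProj_apply, coeff_mk, dif_pos hex]
  congr 1
  exact hg hex.choose_spec

theorem finrank_quot_eq_card {ι : Type*} [Fintype ι] (g : ι → ℕ) (hg : Function.Injective g)
    (K : Submodule k (PowerSeries k)) (hK : ∀ f, f ∈ K ↔ ∀ i, coeff (g i) f = 0) :
    Module.finrank k (PowerSeries k ⧸ K) = Fintype.card ι ∧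
      FiniteDimensional k (PowerSeries k ⧸ K) := by
  have hker : LinearMap.ker (coeffProj (k := k) g) = K := by
    ext f
    rw [LinearMap.mem_ker, hK]
    constructor
    · intro h i; exact congrFun h i
    · intro h; funext i; exact h i
  let e : (PowerSeries k ⧸ K) ≃ₗ[k] (ι → k) :=
    (Submodule.quotEquivOfEq _ _ hker.symm).trans
      ((coeffProj (k := k) g).quotKerEquivOfSurjective (coeffProj_surjective g hg))
  refine ⟨?_, ?_⟩
  · rw [e.finrank_eq, Module.finrank_fintype_fun_eq_card]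
  · exact Module.Finite.equiv e.symm

/-- colength of the monomial ring -/
theorem finrank_quot_monomial (A : Subalgebra k (PowerSeries k)) (Γ : Set ℕ) (hfin : Γᶜ.Finite)
    (hmono : ∀ f : PowerSeries k, f ∈ A ↔ ∀ n : ℕ, PowerSeries.coeff n f ≠ 0 → n ∈ Γ) :
    Module.finrank k (PowerSeries k ⧸ Subalgebra.toSubmodule A) = Γᶜ.ncard ∧
      FiniteDimensional k (PowerSeries k ⧸ Subalgebra.toSubmodule A) := by
  classical
  haveI : Fintype ↥(Γᶜ) := hfin.fintype
  have := finrank_quot_eq_card (k := k) (fun i : ↥(Γᶜ) => (i : ℕ)) Subtype.val_injective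
    (Subalgebra.toSubmodule A) (by
      intro f
      rw [Subalgebra.mem_toSubmodule, hmono]
      constructor
      · intro h i
        by_contra hne
        exact i.2 (h _ hne)
      · intro h n hn
        by_contra hnΓ
        exact hn (h ⟨n, hnΓ⟩))
  rw [Set.ncard_eq_toFinset_card', Set.toFinset_card]
  exact this

/-- quotient by `X^e` -/
theorem finrank_quot_X_pow (e : ℕ) (K : Submodule k (PowerSeries k))
    (hK : ∀ f, f ∈ K ↔ (X : PowerSeries k) ^ e ∣ f) :
    Module.finrank k (PowerSeries k ⧸ K) = e := by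
  have := (finrank_quot_eq_card (k := k) (fun i : Fin e => (i : ℕ)) Fin.val_injective K (by
    intro f
    rw [hK, X_pow_dvd_iff]
    constructor
    · intro h i; exact h _ i.2
    · intro h m hm; exact h ⟨m, hm⟩)).1
  simpa using this






theorem coeff_sum_monomials {G : Finset ℕ} (a : ↥G → k) (m : ℕ) :
    coeff m (∑ y : ↥G, a y • (X : PowerSeries k) ^ (y : ℕ)) =
      if h : m ∈ G then a ⟨m, h⟩ else 0 := by
  classical
  rw [map_sum]
  simp only [coeff_smul, coeff_X_pow, smul_eq_mul, mul_ite, mul_one, mul_zero]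
  split_ifs with h
  · rw [Finset.sum_eq_single ⟨m, h⟩]
    · simp
    · intro b _ hb
      rw [if_neg]
      intro hmb
      exact hb (Subtype.ext hmb.symm)
    · intro hne; exact absurd (Finset.mem_univ _) hne
  · apply Finset.sum_eq_zero
    intro b _
    rw [if_neg]
    intro hmb
    exact h (hmb ▸ b.2)

/-- monomials at non-orders are independent modulo the subspace -/
theorem linearIndependent_monomials (N' : Submodule k (PowerSeries k)) (G : Finset ℕ)
    (hG : ∀ y ∈ G, ∀ g ∈ N', g.order ≠ (y : ℕ∞)) :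
    LinearIndependent k (fun y : ↥G => (Submodule.Quotient.mk ((X : PowerSeries k) ^ (y : ℕ)) :
      PowerSeries k ⧸ N')) := by
  classical
  rw [Fintype.linearIndependent_iff]
  intro a ha
  by_contra hcon
  push Not at hcon
  have hf : (∑ y : ↥G, a y • (X : PowerSeries k) ^ (y : ℕ)) ∈ N' := by
    rw [← Submodule.Quotient.mk_eq_zero, ← Submodule.mkQ_apply, map_sum]
    simpa [map_smul] using ha
  set f := ∑ y : ↥G, a y • (X : PowerSeries k) ^ (y : ℕ) with hfdef
  -- minimal index with nonzero coefficient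
  have hex : ∃ m : ℕ, ∃ h : m ∈ G, a ⟨m, h⟩ ≠ 0 := by
    obtain ⟨y, hy⟩ := hcon
    exact ⟨y.1, y.2, hy⟩
  obtain ⟨hm₀G, hm₀⟩ := Nat.find_spec hex
  have hord : f.order = ((Nat.find hex : ℕ) : ℕ∞) := by
    rw [order_eq_nat]
    constructor
    · rw [hfdef, coeff_sum_monomials, dif_pos hm₀G]; exact hm₀
    · intro i hi
      rw [hfdef, coeff_sum_monomials]
      split_ifs with h
      · by_contra hne
        exact Nat.find_min hex hi ⟨h, hne⟩
      · rfl
  exact hG _ hm₀G f hf hord

/-- conductor bound -/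
theorem conductor_bound (A : Subalgebra k (PowerSeries k)) (Γ : Set ℕ)
    (hΓ : ∀ n : ℕ, n ∈ Γ ↔ ∃ f ∈ A, PowerSeries.order f = n) (hfin : Γᶜ.Finite)
    (N' : Submodule k (PowerSeries k)) (hAN : ∀ a ∈ A, ∀ g ∈ N', a * g ∈ N')
    (c : ℕ) (hc : ∀ g : PowerSeries k, X ^ c * g ∈ N')
    [FiniteDimensional k (PowerSeries k ⧸ N')] :
    ∀ g : PowerSeries k, X ^ (Γᶜ.ncard + Module.finrank k (PowerSeries k ⧸ N')) * g ∈ N' := by
  classical
  have hex : ∃ c', ∀ g : PowerSeries k, X ^ c' * g ∈ N' := ⟨c, hc⟩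
  have hc₁ := Nat.find_spec hex
  suffices hle : Nat.find hex ≤ Γᶜ.ncard + Module.finrank k (PowerSeries k ⧸ N') by
    intro g
    obtain ⟨t, ht⟩ := Nat.exists_eq_add_of_le hle
    rw [ht, pow_add, mul_assoc]
    exact hc₁ _
  rcases Nat.eq_zero_or_pos (Nat.find hex) with h0 | hpos
  · rw [h0]; exact Nat.zero_le _
  obtain ⟨c₂, hc₂⟩ := Nat.exists_eq_succ_of_ne_zero hpos.ne'
  have hnot : ¬ ∀ g : PowerSeries k, X ^ c₂ * g ∈ N' :=
    Nat.find_min hex (by rw [hc₂]; exact Nat.lt_succ_self _)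
  -- (i) no element of order c₂
  have h1 : ∀ g ∈ N', g.order ≠ (c₂ : ℕ∞) := by
    intro g hg hord
    apply hnot
    intro f
    rw [order_eq_nat] at hord
    obtain ⟨ha, hlow⟩ := hord
    set b := constantCoeff f / coeff c₂ g with hb
    have hdvd : (X : PowerSeries k) ^ (c₂ + 1) ∣ X ^ c₂ * f - b • g := by
      rw [X_pow_dvd_iff]
      intro m hm
      rw [map_sub, coeff_smul, coeff_X_pow_mul']
      rcases Nat.lt_succ_iff_lt_or_eq.mp hm with hlt | heq
      · rw [if_neg (not_le.mpr hlt), hlow m hlt]; simp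
      · subst heq
        rw [if_pos le_rfl, Nat.sub_self, coeff_zero_eq_constantCoeff_apply, hb, smul_eq_mul,
          div_mul_cancel₀ _ ha, sub_self]
    obtain ⟨h, hh⟩ := hdvd
    have : X ^ c₂ * f = b • g + X ^ (c₂ + 1) * h := by rw [← hh]; ring
    rw [this]
    refine add_mem (N'.smul_mem b hg) ?_
    have := hc₁ h
    rwa [hc₂] at this
  -- (ii)
  have h2 : ∀ x ∈ Γ, x ≤ c₂ → ∀ g ∈ N', g.order ≠ ((c₂ - x : ℕ) : ℕ∞) := by
    intro x hx hxc g hg hord
    obtain ⟨a, haA, hao⟩ := (hΓ x).mp hx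
    apply h1 (a * g) (hAN a haA g hg)
    rw [order_mul, hao, hord, ← Nat.cast_add]
    congr 1
    omega
  let G : Finset ℕ := (Finset.range (c₂ + 1)).filter (fun y => c₂ - y ∈ Γ)
  have hG : ∀ y ∈ G, ∀ g ∈ N', g.order ≠ (y : ℕ∞) := by
    intro y hy g hg
    rw [Finset.mem_filter, Finset.mem_range] at hy
    have := h2 (c₂ - y) hy.2 (Nat.sub_le _ _) g hg
    have e : c₂ - (c₂ - y) = y := by omega
    rwa [e] at this
  have hli := linearIndependent_monomials N' G hG
  have hcard : G.card ≤ Module.finrank k (PowerSeries k ⧸ N') := by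
    have := hli.fintype_card_le_finrank
    simpa using this
  have hcompl : ((Finset.range (c₂ + 1)).filter (fun y => ¬ c₂ - y ∈ Γ)).card ≤ Γᶜ.ncard := by
    rw [Set.ncard_eq_toFinset_card Γᶜ hfin]
    apply Finset.card_le_card_of_injOn (fun y => c₂ - y)
    · intro y hy
      have hy' := Finset.mem_coe.mp hy
      rw [Finset.mem_filter] at hy'
      simpa using hy'.2
    · intro y₁ hy₁ y₂ hy₂ h
      have h1' := Finset.mem_coe.mp hy₁
      have h2' := Finset.mem_coe.mp hy₂
      rw [Finset.mem_filter, Finset.mem_range] at h1' h2'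
      simp only at h
      omega
  have hsum := Finset.card_filter_add_card_filter_not (s := Finset.range (c₂ + 1))
    (fun y => c₂ - y ∈ Γ)
  rw [Finset.card_range] at hsum
  rw [hc₂]
  have : G.card = ((Finset.range (c₂ + 1)).filter (fun y => c₂ - y ∈ Γ)).card := rfl
  omega



end




/-- a f.g. torsion-free module of rank one embeds into the ring -/
theorem exists_embedding_of_rank_one (A : Type u) [CommRing A] [IsDomain A]
    (M : Type u) [AddCommGroup M] [Module A M] [Module.Finite A M] [NoZeroSMulDivisors A M]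
    (hrk : Module.finrank (FractionRing A) (FractionRing A ⊗[A] M) = 1) :
    ∃ ψ : M →ₗ[A] A, Function.Injective ψ := by
  classical
  let F := FractionRing A
  let T := F ⊗[A] M
  let bT : Module.Basis (Fin 1) F T := Module.finBasisOfFinrankEq F T hrk
  let φ₀ : T ≃ₗ[F] (Fin 1 → F) := bT.equivFun
  let ι : M →ₗ[A] T := TensorProduct.mk A F M 1
  have hι : Function.Injective ι := by
    rw [injective_iff_map_eq_zero]
    intro m hm
    have := (IsLocalizedModule.eq_zero_iff (nonZeroDivisors A) ι).mp hm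
    obtain ⟨c, hc⟩ := this
    have hc' : (c : A) • m = 0 := hc
    rcases NoZeroSMulDivisors.eq_zero_or_eq_zero_of_smul_eq_zero hc' with h | h
    · exact absurd h (nonZeroDivisors.coe_ne_zero c)
    · exact h
  let ev : (Fin 1 → F) →ₗ[F] F := LinearMap.proj 0
  have hev : Function.Injective ev := by
    intro x y hxy
    funext i
    have : i = 0 := Subsingleton.elim _ _
    subst this
    exact hxy
  let j : M →ₗ[A] F := (ev.restrictScalars A) ∘ₗ (φ₀.restrictScalars A).toLinearMap ∘ₗ ι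
  have hj : Function.Injective j := hev.comp (φ₀.injective.comp hι)
  obtain ⟨s, hs⟩ := (Module.finite_def.mp (inferInstance : Module.Finite A M))
  obtain ⟨d, hd⟩ := IsLocalization.exist_integer_multiples_of_finset (nonZeroDivisors A)
    (s.image j)
  -- d • j lands in the range of algebraMap
  let R₀ : Submodule A F := LinearMap.range (Algebra.linearMap A F)
  have hmem : ∀ m : M, (d : A) • j m ∈ R₀ := by
    intro m
    have hm : m ∈ Submodule.span A (s : Set M) := hs ▸ Submodule.mem_top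
    induction hm using Submodule.span_induction with
    | mem x hx =>
      obtain ⟨a, ha⟩ := hd (j x) (Finset.mem_image_of_mem j hx)
      exact ⟨a, ha⟩
    | zero => simp
    | add x y _ _ hx hy => rw [map_add, smul_add]; exact add_mem hx hy
    | smul a x _ hx => rw [map_smul, smul_comm]; exact Submodule.smul_mem _ _ hx
  let j' : M →ₗ[A] R₀ := LinearMap.codRestrict R₀ ((d : A) • j) hmem
  have hj' : Function.Injective j' := by
    intro x y hxy
    have h1 : (d : A) • j x = (d : A) • j y := congrArg Subtype.val hxy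
    have hd0 : algebraMap A F (d : A) ≠ 0 := by
      intro h
      exact nonZeroDivisors.coe_ne_zero d ((IsFractionRing.injective A F) (by rw [h, map_zero]))
    rw [Algebra.smul_def, Algebra.smul_def] at h1
    exact hj (mul_left_cancel₀ hd0 h1)
  let e : A ≃ₗ[A] R₀ := LinearEquiv.ofInjective (Algebra.linearMap A F)
    (IsFractionRing.injective A F)
  exact ⟨e.symm.toLinearMap ∘ₗ j', e.symm.injective.comp hj'⟩



end Groth.Agent.Lib.Helper93.MonoCurve
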