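import Mathlib
import Groth.Agent.Lib.Helper93.MonoCurveA

namespace Groth.Agent.Lib.Helper93.MonoCurve

open PowerSeries

universe u

section
variable {k : Type*} [Field k]

/-- colength of a shifted subspace -/
theorem finrank_quot_shift (N' : Submodule k (PowerSeries k)) (e : ℕ)
    [FiniteDimensional k (PowerSeries k ⧸ N')] :
    Module.finrank k (PowerSeries k ⧸ N'.map (LinearMap.mulLeft k ((X : PowerSeries k) ^ e))) =
      e + Module.finrank k (PowerSeries k ⧸ N') := by
  set μ : PowerSeries k →ₗ[k] PowerSeries k := LinearMap.mulLeft k ((X : PowerSeries k) ^ e) with hμ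
  set M'' := N'.map μ with hM''
  have hμinj : Function.Injective μ := by
    intro x y hxy
    have : (X : PowerSeries k) ^ e * x = X ^ e * y := hxy
    exact mul_left_cancel₀ (pow_ne_zero _ X_ne_zero) this
  let Q : Submodule k (PowerSeries k) := LinearMap.range μ
  have hMQ : M'' ≤ Q := by
    rintro _ ⟨g, -, rfl⟩
    exact ⟨g, rfl⟩
  have hQ : ∀ f, f ∈ Q ↔ (X : PowerSeries k) ^ e ∣ f := by
    intro f
    constructor
    · rintro ⟨g, rfl⟩; exact ⟨g, rfl⟩
    · rintro ⟨g, rfl⟩; exact ⟨g, rfl⟩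
  have hfrQ := finrank_quot_X_pow e Q hQ
  have hfdQ : FiniteDimensional k (PowerSeries k ⧸ Q) := by
    have := (finrank_quot_eq_card (k := k) (fun i : Fin e => (i : ℕ)) Fin.val_injective Q (by
      intro f
      rw [hQ, X_pow_dvd_iff]
      constructor
      · intro h i; exact h _ i.2
      · intro h m hm; exact h ⟨m, hm⟩)).2
    exact this
  -- θ
  let θ : PowerSeries k →ₗ[k] (PowerSeries k ⧸ M'') := M''.mkQ ∘ₗ μ
  have hker : LinearMap.ker θ = N' := by
    ext g
    rw [LinearMap.mem_ker]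
    show M''.mkQ (μ g) = 0 ↔ _
    rw [Submodule.mkQ_apply, Submodule.Quotient.mk_eq_zero]
    constructor
    · rintro ⟨g', hg', h⟩
      rw [← hμinj h]; exact hg'
    · intro hg; exact ⟨g, hg, rfl⟩
  have hrange : LinearMap.range θ = Q.map M''.mkQ := by
    rw [LinearMap.range_comp]
  let e₁ : (PowerSeries k ⧸ N') ≃ₗ[k] ↥(Q.map M''.mkQ) :=
    (Submodule.quotEquivOfEq _ _ hker.symm).trans
      (θ.quotKerEquivRange.trans (LinearEquiv.ofEq _ _ hrange))
  let e₂ := Submodule.quotientQuotientEquivQuotient M'' Q hMQ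
  haveI : Module.Finite k ↥(Q.map M''.mkQ) := Module.Finite.equiv e₁
  haveI : Module.Finite k ((PowerSeries k ⧸ M'') ⧸ Q.map M''.mkQ) := Module.Finite.equiv e₂.symm
  haveI : Module.Finite k (PowerSeries k ⧸ M'') := Module.Finite.of_submodule_quotient (Q.map M''.mkQ)
  have h := Submodule.finrank_quotient_add_finrank (Q.map M''.mkQ)
  rw [e₂.finrank_eq, hfrQ, ← e₁.finrank_eq] at h
  exact h.symm



end

open TensorProduct in
theorem main (k : Type u) [Field k] (A : Subalgebra k (PowerSeries k))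
    (hbir : ∀ f : PowerSeries k, ∃ a ∈ A, a ≠ 0 ∧ a * f ∈ A) (Γ : Set ℕ)
    (hΓ : ∀ n : ℕ, n ∈ Γ ↔ ∃ f ∈ A, PowerSeries.order f = n)
    (hmono : ∀ f : PowerSeries k, f ∈ A ↔ ∀ n : ℕ, PowerSeries.coeff n f ≠ 0 → n ∈ Γ)
    (M : Type u) [AddCommGroup M] [Module ↥A M] [Module.Finite ↥A M] [NoZeroSMulDivisors ↥A M]
    (hrk : Module.finrank (FractionRing ↥A) (TensorProduct ↥A (FractionRing ↥A) M) = 1) :
    ∃ M' : Submodule ↥A (PowerSeries k),
      (Ideal.span {(PowerSeries.X : PowerSeries k) ^ (2 * Γᶜ.ncard)}).restrictScalars ↥A ≤ M' ∧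
      Nonempty (M ≃ₗ[↥A] ↥M') ∧
      Module.finrank k (PowerSeries k ⧸ M'.restrictScalars k) = Γᶜ.ncard := by
  classical
  obtain ⟨h0, hadd, hfin, c, hlarge, hXcA⟩ := Gamma_facts A hbir Γ hΓ hmono
  obtain ⟨ψ, hψ⟩ := exists_embedding_of_rank_one ↥A M hrk
  let φ : M →ₗ[↥A] PowerSeries k := (Algebra.linearMap ↥A (PowerSeries k)) ∘ₗ ψ
  have hφ : Function.Injective φ := by
    intro x y hxy
    apply hψ
    exact Subtype.ext hxy
  let N : Submodule ↥A (PowerSeries k) := LinearMap.range φ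
  let eN : M ≃ₗ[↥A] N := LinearEquiv.ofInjective φ hφ
  have hN : N ≠ ⊥ := by
    intro hbot
    have hM : ∀ m : M, m = 0 := by
      intro m
      apply hφ
      have : φ m ∈ N := ⟨m, rfl⟩
      rw [hbot, Submodule.mem_bot] at this
      rw [this, map_zero]
    have hT : ∀ t : TensorProduct ↥A (FractionRing ↥A) M, t = 0 := by
      intro t
      induction t using TensorProduct.induction_on with
      | zero => rfl
      | tmul x m => rw [hM m, TensorProduct.tmul_zero]
      | add x y hx hy => rw [hx, hy, add_zero]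
    haveI : Subsingleton (TensorProduct ↥A (FractionRing ↥A) M) :=
      ⟨fun a b => by rw [hT a, hT b]⟩
    rw [Module.finrank_zero_of_subsingleton] at hrk
    exact zero_ne_one hrk
  obtain ⟨N₃, h1N₃, ⟨e₃⟩⟩ := exists_normalised A N hN
  set N' : Submodule k (PowerSeries k) := N₃.restrictScalars k with hN'
  have hAN' : ∀ a ∈ A, ∀ g ∈ N', a * g ∈ N' := by
    intro a ha g hg
    have : (⟨a, ha⟩ : ↥A) • g ∈ N₃ := N₃.smul_mem _ hg
    exact this
  have hAle : Subalgebra.toSubmodule A ≤ N' := by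
    intro a ha
    have := hAN' a ha 1 h1N₃
    rwa [mul_one] at this
  have hcN' : ∀ g : PowerSeries k, X ^ c * g ∈ N' := fun g => hAle (hXcA g)
  obtain ⟨hfrA, hfdA⟩ := finrank_quot_monomial A Γ hfin hmono
  haveI := hfdA
  haveI hfdN' : FiniteDimensional k (PowerSeries k ⧸ N') :=
    Module.Finite.of_surjective (Submodule.factor hAle) (Submodule.factor_surjective hAle)
  have hd₃ : Module.finrank k (PowerSeries k ⧸ N') ≤ Γᶜ.ncard := by
    rw [← hfrA]
    exact LinearMap.finrank_le_finrank_of_surjective (Submodule.factor_surjective hAle)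
  have hcond := conductor_bound A Γ hΓ hfin N' hAN' c hcN'
  set d₃ := Module.finrank k (PowerSeries k ⧸ N') with hd₃def
  set δ := Γᶜ.ncard with hδ
  let e : ℕ := δ - d₃
  let μ : PowerSeries k →ₗ[↥A] PowerSeries k := LinearMap.mulLeft ↥A ((X : PowerSeries k) ^ e)
  have hμ : Function.Injective μ := by
    intro x y hxy
    have : (X : PowerSeries k) ^ e * x = X ^ e * y := hxy
    exact mul_left_cancel₀ (pow_ne_zero _ X_ne_zero) this
  refine ⟨N₃.map μ, ?_, ⟨eN.trans (e₃.trans (Submodule.equivMapOfInjective μ hμ N₃))⟩, ?_⟩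
  · intro f hf
    rw [Submodule.restrictScalars_mem, Ideal.mem_span_singleton'] at hf
    obtain ⟨a, rfl⟩ := hf
    refine ⟨X ^ (δ + d₃) * a, hcond a, ?_⟩
    show (X : PowerSeries k) ^ e * (X ^ (δ + d₃) * a) = a * X ^ (2 * δ)
    have he : e + (δ + d₃) = 2 * δ := by omega
    rw [← mul_assoc, ← pow_add, he, mul_comm]
  · have hEq : (N₃.map μ).restrictScalars k =
        N'.map (LinearMap.mulLeft k ((X : PowerSeries k) ^ e)) := by
      ext f
      constructor
      · rintro ⟨g, hg, rfl⟩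
        exact ⟨g, hg, rfl⟩
      · rintro ⟨g, hg, rfl⟩
        exact ⟨g, hg, rfl⟩
    rw [hEq, finrank_quot_shift N' e]
    omega

end Groth.Agent.Lib.Helper93.MonoCurve
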