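import Mathlib

set_option autoImplicit false
namespace Groth.Agent.Lib.Helper93.OssA

open Polynomial

/-- `p^n - p^i ≤ (n-i) p^(n-1) (p-1)`, additive form. -/
theorem pow_sub_le (p : ℕ) (hp : 1 ≤ p) (n d : ℕ) (hd : d ≤ n) (hn : 1 ≤ n) :
    p ^ n ≤ p ^ (n - d) + d * (p ^ (n - 1) * (p - 1)) := by
  induction d with
  | zero => simp
  | succ d ih =>
    have ih' := ih (by omega)
    -- p^(n-d) = p * p^(n-d-1) = p^(n-d-1) + (p-1) p^(n-d-1)
    have h1 : p ^ (n - d) = p ^ (n - (d + 1)) + p ^ (n - (d+1)) * (p - 1) := by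
      have : n - d = (n - (d + 1)) + 1 := by omega
      rw [this, pow_succ]
      have : n - (n - (d + 1) + 1) = d := by omega
      obtain ⟨q, rfl⟩ : ∃ q, p = q + 1 := ⟨p - 1, by omega⟩
      simp only [Nat.add_sub_cancel]
      ring
    have h2 : p ^ (n - (d + 1)) ≤ p ^ (n - 1) := Nat.pow_le_pow_right hp (by omega)
    have h3 : p ^ (n - (d + 1)) * (p - 1) ≤ p ^ (n - 1) * (p - 1) := Nat.mul_le_mul_right _ h2
    calc p ^ n ≤ p ^ (n - d) + d * (p ^ (n - 1) * (p - 1)) := ih'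
      _ = p ^ (n - (d + 1)) + p ^ (n - (d+1)) * (p - 1) + d * (p ^ (n - 1) * (p - 1)) := by rw [h1]
      _ ≤ p ^ (n - (d + 1)) + p ^ (n - 1) * (p - 1) + d * (p ^ (n - 1) * (p - 1)) := by gcongr
      _ = p ^ (n - (d + 1)) + (d + 1) * (p ^ (n - 1) * (p - 1)) := by ring

theorem choose_dvd {R : Type*} [CommRing R] (p : ℕ) (hp : p.Prime) (ϖ : R) (n : ℕ) (hn : 0 < n)
    (j : ℕ) (hj : ϖ ^ (p ^ (n - 1) * (p - 1) * (j + 1)) ∣ (p : R)) (k : ℕ) (hk1 : 1 ≤ k)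
    (hk : k ≤ p ^ n) : ϖ ^ ((j + 1) * (p ^ n - k)) ∣ (((p ^ n).choose k : ℕ) : R) := by
  set i := k.factorization p with hi
  have hfac := Nat.factorization_choose_prime_pow hp hk (by omega : k ≠ 0)
  have hdvd : p ^ (n - i) ∣ (p ^ n).choose k := by
    rw [← hfac]; exact Nat.ordProj_dvd _ _
  have hik : p ^ i ≤ k := Nat.le_of_dvd (by omega) (Nat.ordProj_dvd k p)
  have hin : i ≤ n := by
    by_contra hcon
    push Not at hcon
    have : p ^ n < p ^ i := Nat.pow_lt_pow_right hp.one_lt hcon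
    omega
  have hineq := pow_sub_le p hp.one_lt.le n (n - i) (by omega) hn
  have h4 : n - (n - i) = i := by omega
  rw [h4] at hineq
  -- p^n - k ≤ (n-i) E
  have h5 : p ^ n - k ≤ (n - i) * (p ^ (n - 1) * (p - 1)) := by omega
  have h6 : (j + 1) * (p ^ n - k) ≤ (p ^ (n - 1) * (p - 1) * (j + 1)) * (n - i) := by
    calc (j + 1) * (p ^ n - k) ≤ (j + 1) * ((n - i) * (p ^ (n - 1) * (p - 1))) :=
          Nat.mul_le_mul_left _ h5
      _ = _ := by ring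
  have h7 : ϖ ^ ((p ^ (n - 1) * (p - 1) * (j + 1)) * (n - i)) ∣ ((p : R)) ^ (n - i) := by
    rw [pow_mul]; exact pow_dvd_pow_of_dvd hj _
  have h8 : ((p : R)) ^ (n - i) ∣ (((p ^ n).choose k : ℕ) : R) := by
    obtain ⟨m, hm⟩ := hdvd
    rw [hm]; push_cast; exact dvd_mul_right _ _
  exact (pow_dvd_pow ϖ h6).trans (h7.trans h8)

theorem exists_e {R : Type*} [CommRing R] (p : ℕ) (hp : p.Prime) (ϖ : R) (n : ℕ) (hn : 0 < n)
    (j : ℕ) (hj : ϖ ^ (p ^ (n - 1) * (p - 1) * (j + 1)) ∣ (p : R)) :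
    ∃ e : ℕ → R, ∀ k, 1 ≤ k → k ≤ p ^ n →
      (((p ^ n).choose k : ℕ) : R) = ϖ ^ ((j + 1) * (p ^ n - k)) * e k := by
  have : ∀ k, ∃ e : R, 1 ≤ k → k ≤ p ^ n →
      (((p ^ n).choose k : ℕ) : R) = ϖ ^ ((j + 1) * (p ^ n - k)) * e := by
    intro k
    by_cases h : 1 ≤ k ∧ k ≤ p ^ n
    · obtain ⟨e, he⟩ := choose_dvd p hp ϖ n hn j hj k h.1 h.2
      exact ⟨e, fun _ _ => he⟩
    · exact ⟨0, fun h1 h2 => absurd ⟨h1, h2⟩ h⟩
  choose e he using this
  exact ⟨e, he⟩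

/-- Binomial expansion of `(1 + π^J y)^N` given divisibility data. -/
theorem binom_expand {S : Type*} [CommRing S] (π : S) (J N : ℕ) (d : ℕ → S)
    (hd : ∀ k, 1 ≤ k → k ≤ N → ((N.choose k : ℕ) : S) = π ^ (J * (N - k)) * d k) (y : S) :
    (1 + π ^ J * y) ^ N = 1 + π ^ (J * N) * ∑ k ∈ Finset.range N, d (k + 1) * y ^ (k + 1) := by
  rw [add_comm 1, add_pow, Finset.sum_range_succ', Finset.mul_sum]
  simp only [one_pow, mul_one, pow_zero, Nat.choose_zero_right, Nat.cast_one, zero_add]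
  rw [add_comm]
  congr 1
  apply Finset.sum_congr rfl
  intro k hk
  have hk' := Finset.mem_range.1 hk
  rw [hd (k + 1) (by omega) (by omega)]
  have : J * N = J * (k + 1) + J * (N - (k + 1)) := by
    rw [← Nat.mul_add]; congr 1; omega
  rw [this, pow_add, mul_pow, ← pow_mul]
  ring

end Groth.Agent.Lib.Helper93.OssA
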