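import Mathlib
import Groth.Agent.Lib.Helper93.OssA

set_option autoImplicit false
namespace Groth.Agent.Lib.Helper93.OssB

open Polynomial Groth.Agent.Lib.Helper93.OssA

theorem mem_of_integral {A L : Type*} [CommRing A] [IsDomain A] [IsIntegrallyClosed A]
    [CommRing L] [Algebra A L] (hinj : Function.Injective (algebraMap A L))
    (b : L) (hb : IsIntegral A b) (s a : A) (hs : s ≠ 0)
    (hab : algebraMap A L a = algebraMap A L s * b) : ∃ a', a = s * a' := by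
  obtain ⟨P, hPm, hP⟩ := hb
  have h1 : eval₂ (algebraMap A L) (algebraMap A L s * b) (scaleRoots P s) = 0 :=
    scaleRoots_eval₂_eq_zero _ hP
  rw [← hab, eval₂_at_apply] at h1
  have h2 : eval a (scaleRoots P s) = 0 := hinj (by rw [h1, map_zero])
  have hsK : algebraMap A (FractionRing A) s ≠ 0 := by
    intro h
    exact hs (IsFractionRing.injective A (FractionRing A) (by rw [h, map_zero]))
  have h3 : eval₂ (algebraMap A (FractionRing A))
      (algebraMap A (FractionRing A) a / algebraMap A (FractionRing A) s) P = 0 := by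
    have := scaleRoots_eval₂_mul (p := P) (algebraMap A (FractionRing A))
      (algebraMap A (FractionRing A) a / algebraMap A (FractionRing A) s) s
    rw [mul_div_cancel₀ _ hsK, eval₂_at_apply, h2, map_zero] at this
    exact (mul_eq_zero.1 this.symm).resolve_left (pow_ne_zero _ hsK)
  have h4 : IsIntegral A (algebraMap A (FractionRing A) a / algebraMap A (FractionRing A) s) :=
    ⟨P, hPm, h3⟩
  obtain ⟨a', ha'⟩ := IsIntegrallyClosed.isIntegral_iff.1 h4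
  refine ⟨a', ?_⟩
  apply IsFractionRing.injective A (FractionRing A)
  rw [map_mul, ha', mul_div_cancel₀ _ hsK]

theorem binom_expand_map {A S : Type*} [CommRing A] [CommRing S] (ι : A →+* S) (π : A) (J N : ℕ)
    (d : ℕ → A)
    (hd : ∀ k, 1 ≤ k → k ≤ N → ((N.choose k : ℕ) : A) = π ^ (J * (N - k)) * d k) (y : S) :
    (1 + (ι π) ^ J * y) ^ N =
      1 + (ι π) ^ (J * N) * ∑ k ∈ Finset.range N, ι (d (k + 1)) * y ^ (k + 1) := by
  apply binom_expand (ι π) J N (fun k => ι (d k))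
  intro k h1 h2
  have := congrArg ι (hd k h1 h2)
  simpa using this

end Groth.Agent.Lib.Helper93.OssB

namespace Groth.Agent.Lib.Helper93.OssB
open Polynomial Groth.Agent.Lib.Helper93.OssA

theorem part2 {A : Type*} [CommRing A] [IsDomain A] [IsIntegrallyClosed A] (π : A) (hπ0 : π ≠ 0)
    (p : ℕ) (hp : p.Prime) (n : ℕ) (N : ℕ) (hN : N = p ^ n) (j : ℕ)
    (hpπ : π ∣ (p : A))
    (e : ℕ → A)
    (he : ∀ k, 1 ≤ k → k ≤ N → ((N.choose k : ℕ) : A) = π ^ ((j + 1) * (N - k)) * e k)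
    (hlift : ∀ a : A, IsUnit (Ideal.Quotient.mk (Ideal.span {π}) a) → IsUnit a)
    (f g : Aˣ) (f₀ : A)
    (hfg : (f : A) * (g : A) ^ N = 1 + π ^ (j * N) * f₀)
    (hmax : ∀ (g' : Aˣ) (c : A), (f : A) * (g' : A) ^ N ≠ 1 + π ^ ((j + 1) * N) * c)
    {B : Type*} [CommRing B] [IsDomain B] [Algebra A B] [Algebra.IsIntegral A B]
    (hinj : Function.Injective (algebraMap A B))
    (hred : (Ideal.span {algebraMap A B π}).IsRadical)
    (y : B)
    (hy : ∑ k ∈ Finset.range N, algebraMap A B (π ^ (N - (k + 1)) * e (k + 1)) * y ^ (k + 1)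
      = algebraMap A B f₀)
    (g₀ c : A) (hc : f₀ = g₀ ^ N + π * c) : False := by
  have hN1 : 1 ≤ N := hN ▸ Nat.one_le_pow _ _ hp.pos
  have hN0 : N ≠ 0 := by omega
  set ι := algebraMap A B with hι
  have hπB0 : ι π ≠ 0 := fun h => hπ0 (hinj (by rw [h, map_zero]))
  obtain ⟨p', hp'⟩ := hpπ
  have hpB : (p : B) = ι π * ι p' := by
    rw [← map_mul, ← hp', map_natCast]
  have heN : e N = 1 := by
    have := he N hN1 le_rfl
    simpa using this.symm
  -- Step a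
  obtain ⟨M, rfl⟩ : ∃ M, N = M + 1 := ⟨N - 1, by omega⟩
  obtain ⟨w₁, hw₁⟩ : ∃ w₁ : B, ι π * w₁ + y ^ (M + 1) = ι f₀ := by
    refine ⟨∑ k ∈ Finset.range M, ι (π ^ (M + 1 - (k + 2)) * e (k + 1)) * y ^ (k + 1), ?_⟩
    rw [Finset.sum_range_succ] at hy
    rw [← hy]
    congr 1
    · rw [Finset.mul_sum]
      apply Finset.sum_congr rfl
      intro k hk
      have hk' := Finset.mem_range.1 hk
      have h0 : M + 1 - (k + 1) = (M + 1 - (k + 2)) + 1 := by omega
      have h1 : π ^ (M + 1 - (k + 1)) = π * π ^ (M + 1 - (k + 2)) := by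
        rw [h0, pow_succ, mul_comm]
      rw [h1, mul_assoc π, map_mul ι π]
      ring
    · rw [heN]; simp
  -- Step b
  obtain ⟨r, hr⟩ := exists_add_pow_prime_pow_eq hp (y - ι g₀) (ι g₀) n
  rw [← hN, sub_add_cancel] at hr
  have hfB : ι f₀ = ι g₀ ^ (M + 1) + ι π * ι c := by
    rw [hc]; simp
  have hb1 : (y - ι g₀) ^ (M + 1) ∈ Ideal.span {ι π} := by
    rw [Ideal.mem_span_singleton']
    refine ⟨ι c - w₁ - ι p' * (y - ι g₀) * ι g₀ * r, ?_⟩
    have h1 : y ^ (M + 1) = ι f₀ - ι π * w₁ := by rw [← hw₁]; ring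
    have h2 : (y - ι g₀) ^ (M + 1) = y ^ (M + 1) - ι g₀ ^ (M + 1) - p * (y - ι g₀) * ι g₀ * r := by
      rw [hr]; ring
    rw [h2, h1, hfB, hpB]; ring
  have hb2 : y - ι g₀ ∈ Ideal.span {ι π} := hred ⟨M + 1, hb1⟩
  obtain ⟨y', hy'⟩ := Ideal.mem_span_singleton'.1 hb2
  -- Step c
  obtain ⟨r', hr'⟩ := exists_add_pow_prime_pow_eq hp (1 : A) (π ^ j * g₀) n
  rw [← hN] at hr'
  have hc1 : (1 + π ^ j * g₀) ^ (M + 1) - (f : A) * (g : A) ^ (M + 1) ∈ Ideal.span {π} := by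
    rw [Ideal.mem_span_singleton']
    refine ⟨- π ^ (j * (M + 1)) * c + p' * (π ^ j * g₀) * r', ?_⟩
    rw [hr', hfg, hc, hp', mul_pow, ← pow_mul]
    ring
  have hc2 : IsUnit (Ideal.Quotient.mk (Ideal.span {π}) (1 + π ^ j * g₀)) := by
    have h1 : Ideal.Quotient.mk (Ideal.span {π}) ((1 + π ^ j * g₀) ^ (M + 1)) =
        Ideal.Quotient.mk (Ideal.span {π}) ((f : A) * (g : A) ^ (M + 1)) :=
      Ideal.Quotient.eq.2 hc1
    have h2 : IsUnit (Ideal.Quotient.mk (Ideal.span {π}) ((f : A) * (g : A) ^ (M + 1))) := by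
      have : IsUnit ((f : A) * (g : A) ^ (M + 1)) := (f * g ^ (M + 1)).isUnit
      exact this.map _
    rw [← h1, map_pow] at h2
    exact (isUnit_pow_iff hN0).1 h2
  obtain ⟨qu, hqu⟩ := hlift _ hc2
  -- Step d
  have hd1 : ∀ k, 1 ≤ k → k ≤ M + 1 →
      (((M + 1).choose k : ℕ) : A) = π ^ (j * (M + 1 - k)) * (π ^ (M + 1 - k) * e k) := by
    intro k h1 h2
    rw [he k h1 h2, ← mul_assoc, ← pow_add]
    congr 2; ring
  have hu1 := binom_expand_map ι π j (M + 1) (fun k => π ^ (M + 1 - k) * e k) hd1 y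
  beta_reduce at hu1
  rw [hy] at hu1
  have hu2 : (1 + ι π ^ j * y) ^ (M + 1) = ι ((f : A) * (g : A) ^ (M + 1)) := by
    rw [hu1, hfg]; simp
  have hy2 : y = ι g₀ + y' * ι π := by rw [hy']; ring
  have hq1 : ι (qu : A) * ι ((qu⁻¹ : Aˣ) : A) = 1 := by
    rw [← map_mul]; simp
  have hu3 : (1 + ι π ^ j * y) * ι ((qu⁻¹ : Aˣ) : A) =
      1 + ι π ^ (j + 1) * (y' * ι ((qu⁻¹ : Aˣ) : A)) := by
    have : 1 + ι π ^ j * y = ι (qu : A) + ι π ^ (j + 1) * y' := by
      rw [hqu, hy2]; simp only [map_add, map_one, map_mul, map_pow]; ring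
    rw [this, add_mul, hq1]; ring
  have hu4 := binom_expand_map ι π (j + 1) (M + 1) e he (y' * ι ((qu⁻¹ : Aˣ) : A))
  rw [← hu3, mul_pow, hu2] at hu4
  set b := ∑ k ∈ Finset.range (M + 1), ι (e (k + 1)) * (y' * ι ((qu⁻¹ : Aˣ) : A)) ^ (k + 1) with hb
  have hu5 : ι ((f : A) * ((g * qu⁻¹ : Aˣ) : A) ^ (M + 1) - 1) = ι (π ^ ((j + 1) * (M + 1))) * b := by
    have : ι ((f : A) * ((g * qu⁻¹ : Aˣ) : A) ^ (M + 1)) =
        ι ((f : A) * (g : A) ^ (M + 1)) * ι ((qu⁻¹ : Aˣ) : A) ^ (M + 1) := by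
      simp only [Units.val_mul, mul_pow, map_mul, map_pow]; ring
    rw [map_sub, this, hu4]; simp
  obtain ⟨a', ha'⟩ := mem_of_integral hinj b (Algebra.IsIntegral.isIntegral b)
    (π ^ ((j + 1) * (M + 1))) _ (pow_ne_zero _ hπ0) hu5
  exact hmax (g * qu⁻¹) a' (by rw [← ha']; ring)

end Groth.Agent.Lib.Helper93.OssB

namespace Groth.Agent.Lib.Helper93.OssB
open Polynomial Groth.Agent.Lib.Helper93.OssA

theorem part1 {A : Type*} [CommRing A] (π : A) (N : ℕ) (hN1 : 1 ≤ N) (j : ℕ)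
    (e : ℕ → A)
    (he : ∀ k, 1 ≤ k → k ≤ N → ((N.choose k : ℕ) : A) = π ^ ((j + 1) * (N - k)) * e k)
    (f g : Aˣ) (f₀ : A)
    (hfg : (f : A) * (g : A) ^ N = 1 + π ^ (j * N) * f₀)
    {L : Type*} [CommRing L] [IsDomain L] [Algebra A L]
    (Z : L) (hZ : Z ^ N = algebraMap A L f)
    (hπu : IsUnit (algebraMap A L π)) :
    ∃ y : L, IsIntegral A y ∧
      ∑ k ∈ Finset.range N, algebraMap A L (π ^ (N - (k + 1)) * e (k + 1)) * y ^ (k + 1)
        = algebraMap A L f₀ := by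
  set ι := algebraMap A L with hι
  have hπL0 : ι π ≠ 0 := hπu.ne_zero
  obtain ⟨πi, hπi⟩ := hπu.exists_right_inv
  have hd1 : ∀ k, 1 ≤ k → k ≤ N →
      ((N.choose k : ℕ) : A) = π ^ (j * (N - k)) * (π ^ (N - k) * e k) := by
    intro k h1 h2
    rw [he k h1 h2, ← mul_assoc, ← pow_add]
    congr 2; ring
  have heN : e N = 1 := by
    have := he N hN1 le_rfl
    simpa using this.symm
  set y : L := (Z * ι g - 1) * πi ^ j with hy
  have hy1 : 1 + ι π ^ j * y = Z * ι g := by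
    rw [hy]
    have : ι π ^ j * πi ^ j = 1 := by rw [← mul_pow, hπi, one_pow]
    calc 1 + ι π ^ j * ((Z * ι g - 1) * πi ^ j)
        = 1 + (ι π ^ j * πi ^ j) * (Z * ι g - 1) := by ring
      _ = _ := by rw [this]; ring
  have hy2 : (1 + ι π ^ j * y) ^ N = 1 + ι π ^ (j * N) * ι f₀ := by
    rw [hy1, mul_pow, hZ, ← map_pow, ← map_mul, hfg]
    simp
  have hy3 := binom_expand_map ι π j N (fun k => π ^ (N - k) * e k) hd1 y
  beta_reduce at hy3
  have hy4 : ∑ k ∈ Finset.range N, ι (π ^ (N - (k + 1)) * e (k + 1)) * y ^ (k + 1) = ι f₀ := by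
    rw [hy3] at hy2
    have := add_left_cancel hy2
    exact mul_left_cancel₀ (pow_ne_zero _ hπL0) this
  refine ⟨y, ?_, hy4⟩
  obtain ⟨M, rfl⟩ : ∃ M, N = M + 1 := ⟨N - 1, by omega⟩
  set q : A[X] := ∑ k ∈ Finset.range M, C (π ^ (M + 1 - (k + 1)) * e (k + 1)) * X ^ (k + 1) - C f₀
    with hq
  have hqdeg : q.degree < ((M + 1 : ℕ) : WithBot ℕ) := by
    rw [hq]
    refine (degree_sub_le _ _).trans_lt (max_lt ?_ ?_)
    · refine (degree_sum_le _ _).trans_lt ?_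
      refine (Finset.sup_lt_iff (WithBot.bot_lt_coe (M + 1))).2 ?_
      intro k hk
      have hk' := Finset.mem_range.1 hk
      exact (degree_C_mul_X_pow_le _ _).trans_lt (WithBot.coe_lt_coe.2 (by omega : k + 1 < M + 1))
    · exact degree_C_le.trans_lt (by exact_mod_cast Nat.succ_pos M)
  refine ⟨X ^ (M + 1) + q, monic_X_pow_add hqdeg, ?_⟩
  rw [Finset.sum_range_succ] at hy4
  rw [hq, eval₂_add, eval₂_sub, eval₂_finset_sum, eval₂_X_pow, eval₂_C]
  simp only [eval₂_mul, eval₂_C, eval₂_X_pow]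
  rw [← hy4, heN]
  simp only [hι, Nat.sub_self, pow_zero, mul_one, map_one, one_mul]
  ring

theorem core {A : Type*} [CommRing A] [IsDomain A] [IsIntegrallyClosed A] (π : A) (hπ0 : π ≠ 0)
    (p : ℕ) (hp : p.Prime) (n : ℕ) (N : ℕ) (hN : N = p ^ n) (j : ℕ)
    (hpπ : π ∣ (p : A))
    (e : ℕ → A)
    (he : ∀ k, 1 ≤ k → k ≤ N → ((N.choose k : ℕ) : A) = π ^ ((j + 1) * (N - k)) * e k)
    (hlift : ∀ a : A, IsUnit (Ideal.Quotient.mk (Ideal.span {π}) a) → IsUnit a)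
    (f g : Aˣ) (f₀ : A)
    (hfg : (f : A) * (g : A) ^ N = 1 + π ^ (j * N) * f₀)
    (hmax : ∀ (g' : Aˣ) (c : A), (f : A) * (g' : A) ^ N ≠ 1 + π ^ ((j + 1) * N) * c)
    {L : Type*} [CommRing L] [IsDomain L] [Algebra A L]
    (hinjL : Function.Injective (algebraMap A L))
    (Z : L) (hZ : Z ^ N = algebraMap A L f)
    (hπu : IsUnit (algebraMap A L π))
    (hred : (Ideal.span {algebraMap A (integralClosure A L) π}).IsRadical)
    (g₀ c : A) (hc : f₀ = g₀ ^ N + π * c) : False := by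
  have hN1 : 1 ≤ N := hN ▸ Nat.one_le_pow _ _ hp.pos
  obtain ⟨y, hyint, hy⟩ := part1 π N hN1 j e he f g f₀ hfg Z hZ hπu
  refine part2 π hπ0 p hp n N hN j hpπ e he hlift f g f₀ hfg hmax (B := integralClosure A L)
    ?_ hred ⟨y, hyint⟩ ?_ g₀ c hc
  · intro a b hab
    apply hinjL
    exact congrArg Subtype.val hab
  · apply Subtype.ext
    show (integralClosure A L).val _ = algebraMap A L f₀
    rw [map_sum, ← hy]
    apply Finset.sum_congr rfl
    intro k _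
    rw [map_mul, map_pow, AlgHom.commutes]
    rfl

end Groth.Agent.Lib.Helper93.OssB
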