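import Mathlib
import Groth.Agent.Lib.Helper93.OssB

set_option autoImplicit false
namespace Groth.Agent.Lib.Helper93.OssC

open Polynomial Groth.Agent.Lib.Helper93.OssA Groth.Agent.Lib.Helper93.OssB

universe u

theorem main
    (R : Type u) [CommRing R] [IsDomain R] [IsDiscreteValuationRing R] [CharZero R]
    (p : ℕ) [Fact p.Prime] [CharP (IsLocalRing.ResidueField R) p] (ϖ : R) (hϖ : Irreducible ϖ)
    (n : ℕ) (hn : 0 < n)
    (A : Type u) [CommRing A] [IsDomain A] [IsIntegrallyClosed A] [Algebra R A]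
    (hlift : ∀ a : A, IsUnit (Ideal.Quotient.mk (Ideal.span {algebraMap R A ϖ}) a) → IsUnit a)
    (f g : Aˣ) (j : ℕ) (hj : ϖ ^ (p ^ (n - 1) * (p - 1) * (j + 1)) ∣ (p : R)) (f₀ : A)
    (hfg : (f : A) * (g : A) ^ (p ^ n) = 1 + (algebraMap R A ϖ) ^ (j * p ^ n) * f₀)
    (hmax : ∀ (g' : Aˣ) (c : A), (f : A) * (g' : A) ^ (p ^ n) ≠ 1 + (algebraMap R A ϖ) ^ ((j + 1) * p ^ n) * c)
    [IsDomain (AdjoinRoot (Polynomial.X ^ (p ^ n) - Polynomial.C (algebraMap A (Localization.Away (algebraMap R A ϖ)) (f : A))))]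
    (hred : (Ideal.span {algebraMap A (integralClosure A (AdjoinRoot (Polynomial.X ^ (p ^ n) - Polynomial.C (algebraMap A (Localization.Away (algebraMap R A ϖ)) (f : A))))) (algebraMap R A ϖ)}).IsRadical)
    (g₀ : A) : f₀ - g₀ ^ (p ^ n) ∉ Ideal.span {(algebraMap R A ϖ)} := by
  intro hmem
  have hp : p.Prime := Fact.out
  obtain ⟨c, hc⟩ := Ideal.mem_span_singleton'.1 hmem
  have hc' : f₀ = g₀ ^ (p ^ n) + algebraMap R A ϖ * c := by
    rw [mul_comm, hc]; ring
  set π : A := algebraMap R A ϖ with hπ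
  set A' := Localization.Away π with hA'
  set poly : A'[X] := Polynomial.X ^ (p ^ n) - Polynomial.C (algebraMap A A' (f : A)) with hpoly
  -- π ≠ 0
  have hπ0 : π ≠ 0 := by
    intro h0
    have hu : IsUnit (algebraMap A A' π) := IsLocalization.Away.algebraMap_isUnit π
    have hz : algebraMap A A' π = 0 := by
      have := congrArg (algebraMap A A') h0
      rwa [map_zero] at this
    rw [hz] at hu
    have h01 : (0 : A') = 1 := by
      obtain ⟨u, hu'⟩ := hu
      have := u.mul_inv
      rw [hu', zero_mul] at this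
      exact this
    have : (0 : AdjoinRoot poly) = 1 := by
      have := congrArg (AdjoinRoot.of poly) h01
      simpa using this
    exact zero_ne_one this
  -- e
  obtain ⟨eR, heR⟩ := exists_e p hp ϖ n hn j hj
  have he : ∀ k, 1 ≤ k → k ≤ p ^ n →
      (((p ^ n).choose k : ℕ) : A) = π ^ ((j + 1) * (p ^ n - k)) * algebraMap R A (eR k) := by
    intro k h1 h2
    have := congrArg (algebraMap R A) (heR k h1 h2)
    simpa using this
  -- π ∣ p
  have hpπ : π ∣ (p : A) := by
    have hpos : p ^ (n - 1) * (p - 1) * (j + 1) ≠ 0 := by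
      have h1 : 0 < p ^ (n - 1) := pow_pos hp.pos _
      have h2 : 0 < p - 1 := Nat.sub_pos_of_lt hp.one_lt
      positivity
    have h1 : ϖ ∣ (p : R) := (dvd_pow_self ϖ hpos).trans hj
    obtain ⟨p', hp'⟩ := h1
    refine ⟨algebraMap R A p', ?_⟩
    have := congrArg (algebraMap R A) hp'
    simpa using this
  -- injectivity
  have hle : Submonoid.powers π ≤ nonZeroDivisors A :=
    Submonoid.powers_le.2 (mem_nonZeroDivisors_of_ne_zero hπ0)
  have hinj1 : Function.Injective (algebraMap A A') := IsLocalization.injective A' hle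
  haveI : IsDomain A' := IsLocalization.isDomain_of_le_nonZeroDivisors A' hle
  have hdeg : poly.degree ≠ 0 := by
    rw [hpoly, degree_X_pow_sub_C (pow_pos hp.pos n)]
    exact_mod_cast (pow_pos hp.pos n).ne'
  have hinj2 : Function.Injective (AdjoinRoot.of poly) :=
    AdjoinRoot.of.injective_of_degree_ne_zero hdeg
  have halg : algebraMap A (AdjoinRoot poly) = (AdjoinRoot.of poly).comp (algebraMap A A') :=
    AdjoinRoot.algebraMap_eq' (S := A) (f := poly)
  have hinjL : Function.Injective (algebraMap A (AdjoinRoot poly)) := by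
    rw [halg]; exact hinj2.comp hinj1
  -- Z
  have hZ : (AdjoinRoot.root poly) ^ (p ^ n) = algebraMap A (AdjoinRoot poly) (f : A) := by
    have := AdjoinRoot.eval₂_root poly
    rw [hpoly, eval₂_sub, eval₂_X_pow, eval₂_C, sub_eq_zero] at this
    rw [this, halg]; rfl
  have hπu : IsUnit (algebraMap A (AdjoinRoot poly) π) := by
    rw [halg]
    exact (IsLocalization.Away.algebraMap_isUnit π).map (AdjoinRoot.of poly)
  exact core π hπ0 p hp n (p ^ n) rfl j hpπ (fun k => algebraMap R A (eR k)) he hlift f g f₀ hfg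
    hmax hinjL (AdjoinRoot.root poly) hZ hπu hred g₀ c hc'

end Groth.Agent.Lib.Helper93.OssC
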