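import Groth.Agent.Lib.Helper70.ASCover
import Mathlib

set_option autoImplicit false
universe u

namespace Groth.Agent.Lib.Helper93.PSigA

open PowerSeries
open Groth.Agent.Lib.Helper70.ASCover

/-- power sums over `range p` in characteristic `p` -/
theorem sum_range_pow_char (R : Type*) [CommRing R] (p : ℕ) [Fact p.Prime] [CharP R p] (j : ℕ)
    (hj : j ≤ p - 1) :
    ∑ i ∈ Finset.range p, ((i : ℕ) : R) ^ j = if j = p - 1 then -1 else 0 := by
  have hp := (Fact.out : p.Prime)
  let φ : ZMod p →+* R := ZMod.castHom (dvd_refl p) R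
  have h1 : ∑ i ∈ Finset.range p, ((i : ℕ) : R) ^ j = φ (∑ x : ZMod p, x ^ j) := by
    rw [map_sum]
    have : ∑ x : ZMod p, φ (x ^ j) = ∑ i ∈ Finset.range p, φ (((i : ℕ) : ZMod p) ^ j) := by
      symm
      apply Finset.sum_bij (fun i _ => ((i : ℕ) : ZMod p))
      · intro i _; exact Finset.mem_univ _
      · intro i hi i' hi' h
        rw [Finset.mem_range] at hi hi'
        have := congrArg ZMod.val h
        rwa [ZMod.val_natCast_of_lt hi, ZMod.val_natCast_of_lt hi'] at this
      · intro x _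
        haveI : NeZero p := ⟨hp.ne_zero⟩
        exact ⟨x.val, Finset.mem_range.2 (ZMod.val_lt x), ZMod.natCast_zmod_val x⟩
      · intro i _; rfl
    rw [this]
    refine Finset.sum_congr rfl fun i _ => ?_
    rw [map_pow, map_natCast]
  rw [h1]
  by_cases hjp : j = p - 1
  · rw [if_pos hjp]
    have h2 : ∑ x : ZMod p, x ^ j = -1 := by
      classical
      have h3 : ∀ x : ZMod p, x ^ j = if x = 0 then 0 else 1 := by
        intro x
        by_cases hx : x = 0
        · rw [if_pos hx, hx, zero_pow]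
          rw [hjp]; have := hp.two_le; omega
        · rw [if_neg hx, hjp]; exact ZMod.pow_card_sub_one_eq_one hx
      rw [Finset.sum_congr rfl (fun x _ => h3 x), Finset.sum_ite, Finset.sum_const_zero, zero_add,
        Finset.sum_const, nsmul_eq_mul, mul_one]
      have h4 : (Finset.univ.filter (fun x : ZMod p => ¬ x = 0)).card = p - 1 := by
        rw [Finset.filter_not, Finset.card_sdiff_of_subset (Finset.filter_subset _ _),
          Finset.card_univ, ZMod.card]
        congr 1
        rw [Finset.filter_eq']; simp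
      rw [h4, Nat.cast_sub hp.one_le]; simp
    rw [h2, map_neg, map_one]
  · rw [if_neg hjp]
    have h2 : ∑ x : ZMod p, x ^ j = 0 := by
      apply FiniteField.sum_pow_lt_card_sub_one
      rw [ZMod.card]; omega
    rw [h2, map_zero]

/-- the trace of `(1 + i y)^(p-1)` -/
theorem sum_one_add_mul_pow (R : Type*) [CommRing R] (p : ℕ) [Fact p.Prime] [CharP R p] (y : R) :
    ∑ i ∈ Finset.range p, (1 + ((i : ℕ) : R) * y) ^ (p - 1) = -y ^ (p - 1) := by
  have hp := (Fact.out : p.Prime)
  have h1 : ∀ i : ℕ, (1 + ((i : ℕ) : R) * y) ^ (p - 1) =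
      ∑ j ∈ Finset.range (p - 1 + 1), ((i : R)) ^ j * (y ^ j * ((p - 1).choose j : R)) := by
    intro i
    rw [add_comm, add_pow]
    refine Finset.sum_congr rfl fun j _ => ?_
    rw [one_pow, mul_one, mul_pow, mul_assoc]
  rw [Finset.sum_congr rfl (fun i _ => h1 i), Finset.sum_comm]
  have h2 : ∀ j ∈ Finset.range (p - 1 + 1),
      ∑ i ∈ Finset.range p, ((i : R)) ^ j * (y ^ j * ((p - 1).choose j : R)) =
        (if j = p - 1 then -1 else 0) * (y ^ j * ((p - 1).choose j : R)) := by
    intro j hj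
    rw [← Finset.sum_mul, sum_range_pow_char R p j (by rw [Finset.mem_range] at hj; omega)]
  rw [Finset.sum_congr rfl h2, Finset.sum_eq_single (p - 1)]
  · rw [if_pos rfl, Nat.choose_self, Nat.cast_one, mul_one, neg_one_mul]
  · intro j _ hj; rw [if_neg hj, zero_mul]
  · intro h; exact absurd (Finset.mem_range.2 (by omega)) h


variable {k : Type u} [Field k]

section defs
variable (U : (PowerSeries k)ˣ)

/-- the substitution algebra hom `X ↦ X u` -/
noncomputable def sub0 : PowerSeries k →ₐ[k] PowerSeries k :=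
  substAlgHom (hasSubst_X_mul (U : PowerSeries k))

theorem sub0_apply (h : PowerSeries k) : sub0 U h = h.subst (X * (U : PowerSeries k)) := by
  rw [sub0, coe_substAlgHom]

theorem sub0_X : sub0 U X = X * (U : PowerSeries k) := by
  rw [sub0_apply, subst_X (hasSubst_X_mul _)]

/-- the twisted action `h ↦ u^s h(X u)` as a linear map -/
noncomputable def sg (s : ℤ) : PowerSeries k →ₗ[k] PowerSeries k :=
  (LinearMap.mulLeft k ((U ^ s : (PowerSeries k)ˣ) : PowerSeries k)) ∘ₗ (sub0 U).toLinearMap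

theorem sg_apply' (s : ℤ) (h : PowerSeries k) :
    sg U s h = ((U ^ s : (PowerSeries k)ˣ) : PowerSeries k) * sub0 U h := rfl

theorem sg_apply (s : ℤ) (h : PowerSeries k) :
    sg U s h = ((U ^ s : (PowerSeries k)ˣ) : PowerSeries k) * h.subst (X * (U : PowerSeries k)) := by
  rw [sg_apply', sub0_apply]

theorem zpow_add_coe (s t : ℤ) : ((U ^ (s + t) : (PowerSeries k)ˣ) : PowerSeries k) =
    ((U ^ s : (PowerSeries k)ˣ) : PowerSeries k) * ((U ^ t : (PowerSeries k)ˣ) : PowerSeries k) := by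
  rw [zpow_add, Units.val_mul]

theorem zpow_nat_coe (j : ℕ) : ((U ^ (j : ℤ) : (PowerSeries k)ˣ) : PowerSeries k) =
    (U : PowerSeries k) ^ j := by
  rw [zpow_natCast, Units.val_pow_eq_pow_val]

theorem sg_mul (s s' : ℤ) (f f' : PowerSeries k) :
    sg U (s + s') (f * f') = sg U s f * sg U s' f' := by
  rw [sg_apply', sg_apply', sg_apply', zpow_add_coe, map_mul]; ring

theorem sg_zero_mul (s : ℤ) (f h : PowerSeries k) :
    sg U s (f * h) = sub0 U f * sg U s h := by
  rw [sg_apply', sg_apply', map_mul]; ring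

theorem sg_X_pow_mul (s : ℤ) (e : ℕ) (h : PowerSeries k) :
    sg U s (X ^ e * h) = X ^ e * sg U (s + e) h := by
  rw [sg_apply', sg_apply', zpow_add_coe, zpow_nat_coe, map_mul, map_pow, sub0_X, mul_pow]; ring

theorem sg_pow_zero_mul (s : ℤ) (j : ℕ) (f h : PowerSeries k) :
    ((sg U s) ^ j) (f * h) = ((sub0 U : PowerSeries k →ₗ[k] PowerSeries k) ^ j) f * ((sg U s) ^ j) h := by
  induction j generalizing f h with
  | zero => simp
  | succ j ih =>
    simp only [pow_succ, Module.End.mul_apply]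
    rw [sg_zero_mul, ih]; rfl

theorem sg_pow_X_pow_mul (s : ℤ) (e j : ℕ) (h : PowerSeries k) :
    ((sg U s) ^ j) (X ^ e * h) = X ^ e * ((sg U (s + e)) ^ j) h := by
  induction j generalizing h with
  | zero => simp
  | succ j ih =>
    simp only [pow_succ, Module.End.mul_apply]
    rw [sg_X_pow_mul, ih]

end defs


section main
variable (p : ℕ) [Fact p.Prime] [CharP k p] (n : ℕ) (hn : 0 < n) (hpn : ¬ p ∣ n)
  (U : (PowerSeries k)ˣ) (hu1 : constantCoeff (U : PowerSeries k) = 1)
  (hun : (U : PowerSeries k) ^ n * (1 + X ^ n) = 1)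

/-- `w i = 1 + i X^n` -/
noncomputable def w (n : ℕ) (i : ℕ) : PowerSeries k := 1 + ((i : ℕ) : PowerSeries k) * X ^ n

include hun in
theorem zpow_neg_n : ((U ^ (-(n : ℤ)) : (PowerSeries k)ˣ) : PowerSeries k) = 1 + X ^ n := by
  have h1 : ((U ^ (-(n : ℤ)) : (PowerSeries k)ˣ) : PowerSeries k) * (U : PowerSeries k) ^ n = 1 := by
    rw [← zpow_nat_coe, ← zpow_add_coe, neg_add_cancel, zpow_zero, Units.val_one]
  calc ((U ^ (-(n : ℤ)) : (PowerSeries k)ˣ) : PowerSeries k)
      = ((U ^ (-(n : ℤ)) : (PowerSeries k)ˣ) : PowerSeries k) * ((U : PowerSeries k) ^ n * (1 + X ^ n)) := by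
        rw [hun, mul_one]
    _ = (((U ^ (-(n : ℤ)) : (PowerSeries k)ˣ) : PowerSeries k) * (U : PowerSeries k) ^ n) * (1 + X ^ n) := by
        ring
    _ = 1 + X ^ n := by rw [h1, one_mul]

include hun in
theorem sub0_w (i : ℕ) : (1 + X ^ n) * sub0 U (w (k := k) n i) = w n (i + 1) := by
  rw [w, w, map_add, map_one, map_mul, map_natCast, map_pow, sub0_X, mul_pow]
  calc (1 + X ^ n) * (1 + (i : PowerSeries k) * (X ^ n * (U : PowerSeries k) ^ n))
      = 1 + X ^ n + (i : PowerSeries k) * X ^ n * ((U : PowerSeries k) ^ n * (1 + X ^ n)) := by ring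
    _ = 1 + ((i + 1 : ℕ) : PowerSeries k) * X ^ n := by rw [hun]; push_cast; ring

theorem w_p : w (k := k) n p = w n 0 := by
  have : CharP (PowerSeries k) p := charP_of_injective_ringHom (PowerSeries.C_injective) p
  rw [w, w, CharP.cast_eq_zero, Nat.cast_zero]

theorem w_zero : w (k := k) n 0 = 1 := by
  rw [w, Nat.cast_zero, zero_mul, add_zero]

theorem sum_w_pow : ∑ i ∈ Finset.range p, (w (k := k) n i) ^ (p - 1) = -(X ^ n) ^ (p - 1) := by
  have : CharP (PowerSeries k) p := charP_of_injective_ringHom (PowerSeries.C_injective) p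
  exact sum_one_add_mul_pow (PowerSeries k) p (X ^ n)

include hun in
theorem sg_w_pow_mul (a : ℤ) (i : ℕ) (S : PowerSeries k) :
    sg U (-(n : ℤ) * ((p - 1 : ℕ) : ℤ) + a) (w n i ^ (p - 1) * S) = w n (i + 1) ^ (p - 1) * sg U a S := by
  rw [sg_apply', sg_apply', zpow_add_coe, map_mul, map_pow, ← sub0_w n U hun i, zpow_mul, zpow_natCast,
    Units.val_pow_eq_pow_val, zpow_neg_n n U hun, mul_pow]
  ring

include hun in
/-- the trace-one element `-z^(p-1)` gives a preimage under `σ - 1` after clearing poles -/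
theorem exists_theta (a : ℤ) (f : PowerSeries k)
    (hN : ∑ j ∈ Finset.range p, ((sg U a) ^ j) f = 0) :
    ∃ g0 : PowerSeries k,
      sg U (-(n : ℤ) * ((p - 1 : ℕ) : ℤ) + a) g0 - g0 = (X ^ n) ^ (p - 1) * f := by
  set S : ℕ → PowerSeries k := fun i => ∑ j ∈ Finset.range i, ((sg U a) ^ j) f with hS
  have hS0 : S 0 = 0 := by simp [hS]
  have hSp : S p = 0 := hN
  have hSR : ∀ i, sg U a (S i) = S (i + 1) - f := by
    intro i
    simp only [hS]
    rw [map_sum, Finset.sum_range_succ', pow_zero, Module.End.one_apply, add_sub_cancel_right]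
    refine Finset.sum_congr rfl fun j _ => ?_
    rw [pow_succ', Module.End.mul_apply]
  refine ⟨∑ i ∈ Finset.range p, w n i ^ (p - 1) * S i, ?_⟩
  rw [map_sum]
  have h1 : ∀ i ∈ Finset.range p, sg U (-(n : ℤ) * ((p - 1 : ℕ) : ℤ) + a) (w n i ^ (p - 1) * S i) =
      w n (i + 1) ^ (p - 1) * S (i + 1) - w n (i + 1) ^ (p - 1) * f := by
    intro i _
    rw [sg_w_pow_mul p n U hun, hSR, mul_sub]
  rw [Finset.sum_congr rfl h1, Finset.sum_sub_distrib]
  have h2 : ∑ i ∈ Finset.range p, w n (i + 1) ^ (p - 1) * S (i + 1) =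
      ∑ i ∈ Finset.range p, w n i ^ (p - 1) * S i := by
    have e1 := Finset.sum_range_succ (fun i => w (k := k) n i ^ (p - 1) * S i) p
    have e2 := Finset.sum_range_succ' (fun i => w (k := k) n i ^ (p - 1) * S i) p
    rw [e1] at e2
    simp only [hS0, hSp, mul_zero, add_zero] at e2
    exact e2.symm
  have h3 : ∑ i ∈ Finset.range p, w n (i + 1) ^ (p - 1) * f = -(X ^ n) ^ (p - 1) * f := by
    rw [← Finset.sum_mul, ← sum_w_pow p n]
    congr 1
    have e1 := Finset.sum_range_succ (fun i => w (k := k) n i ^ (p - 1)) p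
    have e2 := Finset.sum_range_succ' (fun i => w (k := k) n i ^ (p - 1)) p
    rw [e1, w_p p n] at e2
    exact (add_right_cancel e2).symm
  rw [h2, h3]; ring


theorem sg_one (s : ℤ) : sg U s 1 = ((U ^ s : (PowerSeries k)ˣ) : PowerSeries k) := by
  rw [sg_apply', map_one, mul_one]

include hn hpn hu1 hun in
/-- the coefficient of `X^n` in `u^s h(X u)` -/
theorem coeff_n_sg (s : ℤ) (r : PowerSeries k) :
    coeff n (sg U s r) = coeff n r + (s : k) * (-(n : k)⁻¹) * constantCoeff r := by
  obtain ⟨q, hq, hq0⟩ := exists_eq_one_add p n hpn (U : PowerSeries k) hu1 hun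
  obtain ⟨qs, h1, h2⟩ := exists_zpow_eq_one_add n hn (U : PowerSeries k) q hq U rfl s
  rw [sg_apply, h1, add_mul, one_mul, map_add,
    coeff_subst_of_le n hn (U : PowerSeries k) q hq r n le_rfl, mul_assoc,
    coeff_X_pow_mul', if_pos le_rfl, Nat.sub_self, coeff_zero_eq_constantCoeff_apply, map_mul,
    ← coeff_zero_eq_constantCoeff_apply (r.subst (X * (U : PowerSeries k))),
    coeff_subst_of_le n hn (U : PowerSeries k) q hq r 0 (Nat.zero_le _),
    coeff_zero_eq_constantCoeff_apply, h2, hq0]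

include hn hpn hu1 hun in
/-- removing invariants: if `(σ_s - 1) g` vanishes to order `e + n`, then `g` is an invariant modulo
`X^e`. -/
theorem exists_invariant_sub [IsAlgClosed k] (s : ℤ) (e : ℕ) (g : PowerSeries k)
    (hg : X ^ (e + n) ∣ sg U s g - g) :
    ∃ I r : PowerSeries k, sg U s I = I ∧ g - I = X ^ e * r := by
  induction e with
  | zero => exact ⟨0, g, map_zero _, by simp⟩
  | succ e ih =>
    obtain ⟨I, r, hI, hr⟩ := ih (dvd_trans (pow_dvd_pow _ (by omega)) hg)
    have hgI : g = I + X ^ e * r := by rw [← hr]; ring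
    have h1 : sg U s g - g = X ^ e * (sg U (s + e) r - r) := by
      rw [hgI, map_add, hI, sg_X_pow_mul]; ring
    have h2 : X ^ (n + 1) ∣ sg U (s + e) r - r := by
      rw [h1] at hg
      have : (X : PowerSeries k) ^ (e + 1 + n) = X ^ e * X ^ (n + 1) := by
        rw [← pow_add]; congr 1; omega
      rw [this] at hg
      exact (mul_dvd_mul_iff_left (pow_ne_zero _ X_ne_zero)).1 hg
    have h3 : coeff n (sg U (s + e) r - r) = 0 := (X_pow_dvd_iff.1 h2) n (by omega)
    rw [map_sub, coeff_n_sg p n hn hpn U hu1 hun, add_sub_cancel_left] at h3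
    by_cases hdvd : (p : ℤ) ∣ s + e
    · obtain ⟨j, hj⟩ := hdvd
      obtain ⟨V, Q, hVQ, hV⟩ := exists_fixed_one_unit p n hn hpn (U : PowerSeries k) hu1 hun U rfl
        (s + e) j hj
      have hV' : sg U (s + e) V = V := by rw [sg_apply]; exact hV
      have hVc : constantCoeff V = 1 := by
        have hp1 : 0 < p - 1 := by have := (Fact.out : p.Prime).two_le; omega
        rw [hVQ, map_add, map_one, constantCoeff_X_pow_mul _ (Nat.mul_pos hn hp1), add_zero]
      set r0 := constantCoeff r with hr0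
      have h4 : X ∣ r - C r0 * V := by
        rw [X_dvd_iff, map_sub, map_mul, constantCoeff_C, hVc, mul_one, sub_self]
      obtain ⟨r', hr'⟩ := h4
      refine ⟨I + C r0 * (X ^ e * V), r', ?_, ?_⟩
      · rw [map_add, hI, ← smul_eq_C_mul, map_smul, sg_X_pow_mul, hV']
      · have : g - (I + C r0 * (X ^ e * V)) = X ^ e * (r - C r0 * V) := by rw [hgI]; ring
        rw [this, hr', pow_succ]; ring
    · have hs : ((s + e : ℤ) : k) ≠ 0 := by
        intro h; exact hdvd ((CharP.intCast_eq_zero_iff k p _).1 h)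
      have hnk : (n : k) ≠ 0 := natCast_ne_zero p n hpn
      have hr0 : constantCoeff r = 0 := by
        rcases mul_eq_zero.1 h3 with h | h
        · rcases mul_eq_zero.1 h with h | h
          · exact absurd (by exact_mod_cast h) hs
          · exact absurd (neg_eq_zero.1 h) (inv_ne_zero hnk)
        · exact h
      obtain ⟨r', hr'⟩ := X_dvd_iff.2 hr0
      refine ⟨I, r', hI, ?_⟩
      rw [hr, hr', pow_succ]; ring

include hn hpn hu1 hun in
/-- exactness: the kernel of the norm of `σ_a` is `X^(-n) (σ_(a-n) - 1) B` -/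
theorem exists_preimage [IsAlgClosed k] (a : ℤ) (f : PowerSeries k)
    (hN : ∑ j ∈ Finset.range p, ((sg U a) ^ j) f = 0) :
    ∃ g' : PowerSeries k, sg U (a - n) g' - g' = X ^ n * f := by
  obtain ⟨g0, hg0⟩ := exists_theta p n U hun a f hN
  obtain ⟨P2, hP2⟩ : ∃ P2, p - 1 = P2 + 1 := ⟨p - 2, by have := (Fact.out : p.Prime).two_le; omega⟩
  rw [hP2] at hg0
  set a' : ℤ := -(n : ℤ) * ((P2 + 1 : ℕ) : ℤ) + a with ha'
  have hpow : ((X : PowerSeries k) ^ n) ^ (P2 + 1) = X ^ (n * P2 + n) := by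
    rw [← pow_mul]; congr 1
  rw [hpow] at hg0
  obtain ⟨I, r, hI, hr⟩ := exists_invariant_sub p n hn hpn U hu1 hun a' (n * P2) g0
    (by rw [hg0]; exact dvd_mul_right _ _)
  refine ⟨r, ?_⟩
  have hgI : g0 = I + X ^ (n * P2) * r := by rw [← hr]; ring
  have h1 : sg U a' g0 - g0 = X ^ (n * P2) * (sg U (a' + (n * P2 : ℕ)) r - r) := by
    rw [hgI, map_add, hI, sg_X_pow_mul]; ring
  have h2 : a' + ((n * P2 : ℕ) : ℤ) = a - n := by
    rw [ha']; push_cast; ring
  rw [h2, hg0, pow_add, mul_assoc] at h1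
  exact (mul_left_cancel₀ (pow_ne_zero _ X_ne_zero) h1).symm

include hn hpn hu1 hun in
/-- every element of the kernel of the norm is a combination of the `c m` modulo `(σ_a - 1) B` -/
theorem exists_decomp [IsAlgClosed k] (a : ℤ) (c : ℕ → PowerSeries k)
    (hc : ∀ m : ℕ, 1 ≤ m → m ≤ n →
      X ^ m * c m = ((U ^ (a - m) : (PowerSeries k)ˣ) : PowerSeries k) - 1)
    (f : PowerSeries k) (hN : ∑ j ∈ Finset.range p, ((sg U a) ^ j) f = 0) :
    ∃ (coef : ℕ → k) (h : PowerSeries k),
      f = ∑ m ∈ Finset.Icc 1 n, coef m • c m + (sg U a h - h) := by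
  obtain ⟨g', hg'⟩ := exists_preimage p n hn hpn U hu1 hun a f hN
  set tr : PowerSeries k := ∑ i ∈ Finset.range n, coeff i g' • (X : PowerSeries k) ^ i with htr
  have hcoef : ∀ j : ℕ, j < n → coeff j tr = coeff j g' := by
    intro j hj
    rw [htr, map_sum, Finset.sum_eq_single j]
    · rw [coeff_smul, coeff_X_pow, if_pos rfl, smul_eq_mul, mul_one]
    · intro i _ hij
      rw [coeff_smul, coeff_X_pow, if_neg (Ne.symm hij), smul_zero]
    · intro h; exact absurd (Finset.mem_range.2 hj) h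
  have hdvd : X ^ n ∣ g' - tr := by
    rw [X_pow_dvd_iff]
    intro j hj
    rw [map_sub, hcoef j hj, sub_self]
  obtain ⟨g'', hg''⟩ := hdvd
  have hg'eq : g' = tr + X ^ n * g'' := by rw [← hg'']; ring
  have h1 : ∀ i ∈ Finset.range n, sg U (a - n) (coeff i g' • (X : PowerSeries k) ^ i) -
      coeff i g' • (X : PowerSeries k) ^ i = X ^ n * (coeff i g' • c (n - i)) := by
    intro i hi
    rw [Finset.mem_range] at hi
    have e1 : sg U (a - n) ((X : PowerSeries k) ^ i) = X ^ i * ((U ^ (a - ((n - i : ℕ) : ℤ)) :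
        (PowerSeries k)ˣ) : PowerSeries k) := by
      have := sg_X_pow_mul U (a - n) i 1
      rw [mul_one, sg_one] at this
      rw [this]; congr 3
      rw [Nat.cast_sub hi.le]; ring
    rw [map_smul, e1, ← smul_sub, mul_smul_comm]
    congr 1
    have e2 := hc (n - i) (by omega) (by omega)
    have e3 : (X : PowerSeries k) ^ n = X ^ i * X ^ (n - i) := by
      rw [← pow_add]; congr 1; omega
    rw [e3, mul_assoc, e2]; ring
  have h2 : ∑ i ∈ Finset.range n, X ^ n * (coeff i g' • c (n - i)) =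
      ∑ m ∈ Finset.Icc 1 n, X ^ n * (coeff (n - m) g' • c m) := by
    apply Finset.sum_bij' (fun i _ => n - i) (fun m _ => n - m)
    · intro i hi; rw [Finset.mem_range] at hi; rw [Finset.mem_Icc]; omega
    · intro m hm; rw [Finset.mem_Icc] at hm; rw [Finset.mem_range]; omega
    · intro i hi; rw [Finset.mem_range] at hi; omega
    · intro m hm; rw [Finset.mem_Icc] at hm; omega
    · intro i hi
      rw [Finset.mem_range] at hi
      have : n - (n - i) = i := by omega
      rw [this]
  have h3 : sg U (a - n) g' - g' =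
      (∑ i ∈ Finset.range n, (sg U (a - n) (coeff i g' • (X : PowerSeries k) ^ i) -
        coeff i g' • (X : PowerSeries k) ^ i)) + X ^ n * (sg U a g'' - g'') := by
    conv_lhs => rw [hg'eq]
    rw [map_add, sg_X_pow_mul, sub_add_cancel, htr, map_sum, Finset.sum_sub_distrib]; ring
  refine ⟨fun m => coeff (n - m) g', g'', ?_⟩
  apply mul_left_cancel₀ (pow_ne_zero n (X_ne_zero (R := k)))
  rw [← hg', h3, Finset.sum_congr rfl h1, h2, mul_add, Finset.mul_sum]

/-- the `p`-th power of every twist is the identity as soon as one is -/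
theorem sg_pow_p_sub (a : ℤ) (hRp : ∀ h, ((sg U a) ^ p) h = h) (e : ℕ) (h : PowerSeries k) :
    ((sg U (a - e)) ^ p) h = h := by
  have hσ : ∀ f : PowerSeries k,
      ((sub0 U : PowerSeries k →ₗ[k] PowerSeries k) ^ p) f = f := by
    intro f
    have := sg_pow_zero_mul U a p f 1
    rw [mul_one, hRp, hRp, mul_one] at this
    exact this.symm
  have h1 : ((sg U (a - e)) ^ p) (X ^ e * 1) = X ^ e := by
    rw [sg_pow_X_pow_mul, sub_add_cancel, hRp, mul_one]
  have h2 : ((sg U (a - e)) ^ p) 1 = 1 := by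
    have := sg_pow_zero_mul U (a - e) p (X ^ e) 1
    rw [h1, hσ] at this
    have h3 : (X : PowerSeries k) ^ e * 1 = X ^ e * ((sg U (a - e)) ^ p) 1 := by
      rw [mul_one]; exact this
    exact (mul_left_cancel₀ (pow_ne_zero _ X_ne_zero) h3).symm
  have := sg_pow_zero_mul U (a - e) p h 1
  rw [mul_one, hσ, h2, mul_one] at this
  exact this

/-- the elements `c m` are killed by the norm -/
theorem norm_c_eq_zero (a : ℤ) (hRp : ∀ h, ((sg U a) ^ p) h = h) (m : ℕ) (hmn : m ≤ n)
    (cm : PowerSeries k)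
    (hcm : X ^ m * cm = ((U ^ (a - m) : (PowerSeries k)ˣ) : PowerSeries k) - 1) :
    ∑ j ∈ Finset.range p, ((sg U a) ^ j) cm = 0 := by
  apply mul_left_cancel₀ (pow_ne_zero n (X_ne_zero (R := k)))
  rw [mul_zero, Finset.mul_sum]
  have h1 : ∀ j ∈ Finset.range p, X ^ n * ((sg U a) ^ j) cm =
      ((sg U (a - n)) ^ (j + 1)) (X ^ (n - m)) - ((sg U (a - n)) ^ j) (X ^ (n - m)) := by
    intro j _
    have e1 := sg_pow_X_pow_mul U (a - n) n j cm
    rw [sub_add_cancel] at e1
    rw [← e1]
    have e2 : (X : PowerSeries k) ^ n * cm = sg U (a - n) (X ^ (n - m)) - X ^ (n - m) := by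
      have := sg_X_pow_mul U (a - n) (n - m) 1
      rw [mul_one, sg_one] at this
      rw [this]
      have e3 : (X : PowerSeries k) ^ n = X ^ (n - m) * X ^ m := by
        rw [← pow_add]; congr 1; omega
      rw [e3, mul_assoc, hcm]
      have e4 : a - (n : ℤ) + ((n - m : ℕ) : ℤ) = a - m := by rw [Nat.cast_sub hmn]; ring
      rw [e4]; ring
    rw [e2, map_sub, pow_succ, Module.End.mul_apply]
  rw [Finset.sum_congr rfl h1, Finset.sum_range_sub (fun j => ((sg U (a - n)) ^ j) (X ^ (n - m))),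
    sg_pow_p_sub p U a hRp n, pow_zero, Module.End.one_apply, sub_self]

end main

end Groth.Agent.Lib.Helper93.PSigA
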