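import Mathlib

set_option autoImplicit false

namespace Groth.Agent.Lib.Helper93.PSigCount

theorem sub_one_ediv (p : ℕ) (hp : 0 < p) (b : ℤ) :
    (b - 1) / (p : ℤ) = b / (p : ℤ) - (if (p : ℤ) ∣ b then 1 else 0) := by
  have hp' : (0 : ℤ) < p := by exact_mod_cast hp
  by_cases hd : (p : ℤ) ∣ b
  · rw [if_pos hd]
    obtain ⟨c, rfl⟩ := hd
    rw [Int.mul_ediv_cancel_left _ hp'.ne']
    have : ((p : ℤ) * c - 1) / (p : ℤ) = c - 1 ∧ ((p : ℤ) * c - 1) % (p : ℤ) = p - 1 := by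
      rw [Int.ediv_emod_unique hp']
      refine ⟨by ring, by omega, by omega⟩
    exact this.1
  · rw [if_neg hd, sub_zero]
    have hr : b % (p : ℤ) ≠ 0 := fun h => hd (Int.dvd_of_emod_eq_zero h)
    have hr0 : 0 ≤ b % (p : ℤ) := Int.emod_nonneg _ hp'.ne'
    have hrp : b % (p : ℤ) < p := Int.emod_lt_of_pos _ hp'
    have : (b - 1) / (p : ℤ) = b / (p : ℤ) ∧ (b - 1) % (p : ℤ) = b % (p : ℤ) - 1 := by
      rw [Int.ediv_emod_unique hp']
      refine ⟨?_, by omega, by omega⟩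
      have := Int.emod_add_mul_ediv b p
      linarith
    exact this.1

/-- the number of `m ∈ [1, n]` with `p ∤ a - m` -/
theorem card_filter_not_dvd (p : ℕ) (hp : 0 < p) (a : ℤ) (n : ℕ) :
    (((Finset.Icc 1 n).filter (fun m : ℕ => ¬ (p : ℤ) ∣ a - (m : ℤ))).card : ℤ) =
      n - (a - 1) / (p : ℤ) + (a - 1 - n) / (p : ℤ) := by
  induction n with
  | zero => simp
  | succ n ih =>
    have h1 : Finset.Icc 1 (n + 1) = insert (n + 1) (Finset.Icc 1 n) := by
      ext m; simp only [Finset.mem_Icc, Finset.mem_insert]; omega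
    rw [h1, Finset.filter_insert]
    have h2 : (a - 1 - ((n + 1 : ℕ) : ℤ)) = (a - 1 - n) - 1 := by push_cast; ring
    have h3 : a - ((n + 1 : ℕ) : ℤ) = a - 1 - n := by push_cast; ring
    rw [h3, h2, sub_one_ediv p hp (a - 1 - n)]
    by_cases hd : (p : ℤ) ∣ a - 1 - n
    · rw [if_neg (not_not.2 hd), if_pos hd, ih]; push_cast; ring
    · rw [if_pos hd, if_neg hd, Finset.card_insert_of_notMem, Nat.cast_add, ih]
      · push_cast; ring
      · intro h
        rw [Finset.mem_filter, Finset.mem_Icc] at h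
        omega


theorem card_Icc_two_filter_dvd_pred (p n : ℕ) :
    ((Finset.Icc 2 n).filter (fun m : ℕ => p ∣ m - 1)).card = (n - 1) / p := by
  rw [← Nat.Ioc_filter_dvd_card_eq_div (n - 1) p]
  apply Finset.card_bij (fun m _ => m - 1)
  · intro m hm
    rw [Finset.mem_filter, Finset.mem_Icc] at hm
    rw [Finset.mem_filter, Finset.mem_Ioc]
    exact ⟨by omega, hm.2⟩
  · intro m hm m' hm' h
    rw [Finset.mem_filter, Finset.mem_Icc] at hm hm'
    omega
  · intro x hx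
    rw [Finset.mem_filter, Finset.mem_Ioc] at hx
    refine ⟨x + 1, ?_, by omega⟩
    rw [Finset.mem_filter, Finset.mem_Icc]
    refine ⟨by omega, ?_⟩
    have : x + 1 - 1 = x := by omega
    rw [this]; exact hx.2

theorem card_Icc_two_filter_dvd_sub (p n : ℕ) :
    ((Finset.Icc 2 n).filter (fun m : ℕ => p ∣ n + 1 - m)).card = (n - 1) / p := by
  rw [← Nat.Ioc_filter_dvd_card_eq_div (n - 1) p]
  apply Finset.card_bij (fun m _ => n + 1 - m)
  · intro m hm
    rw [Finset.mem_filter, Finset.mem_Icc] at hm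
    rw [Finset.mem_filter, Finset.mem_Ioc]
    exact ⟨by omega, hm.2⟩
  · intro m hm m' hm' h
    rw [Finset.mem_filter, Finset.mem_Icc] at hm hm'
    omega
  · intro x hx
    rw [Finset.mem_filter, Finset.mem_Ioc] at hx
    refine ⟨n + 1 - x, ?_, by omega⟩
    rw [Finset.mem_filter, Finset.mem_Icc]
    refine ⟨by omega, ?_⟩
    have : n + 1 - (n + 1 - x) = x := by omega
    rw [this]; exact hx.2

theorem card_Icc_two_filter (p n : ℕ) (hp : p.Prime) (hn : 0 < n) (hpn : ¬ p ∣ n) :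
    ((Finset.Icc 2 n).filter (fun m : ℕ => ¬ p ∣ m - 1 ∧ ¬ p ∣ n + 1 - m)).card + 2 * ((n - 1) / p) =
      n - 1 := by
  have h1 := Finset.card_filter_add_card_filter_not (s := Finset.Icc 2 n)
    (fun m : ℕ => p ∣ m - 1)
  have h2 := Finset.card_filter_add_card_filter_not
    (s := (Finset.Icc 2 n).filter (fun m : ℕ => ¬ p ∣ m - 1)) (fun m : ℕ => p ∣ n + 1 - m)
  rw [card_Icc_two_filter_dvd_pred] at h1
  rw [Finset.filter_filter, Finset.filter_filter] at h2
  have h3 : (Finset.Icc 2 n).filter (fun m : ℕ => ¬ p ∣ m - 1 ∧ p ∣ n + 1 - m) =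
      (Finset.Icc 2 n).filter (fun m : ℕ => p ∣ n + 1 - m) := by
    apply Finset.filter_congr
    intro m hm
    rw [Finset.mem_Icc] at hm
    constructor
    · exact fun h => h.2
    · intro h
      refine ⟨fun h' => hpn ?_, h⟩
      have : n = (m - 1) + (n + 1 - m) := by omega
      rw [this]; exact dvd_add h' h
  rw [h3, card_Icc_two_filter_dvd_sub] at h2
  rw [Nat.card_Icc] at h1
  omega

theorem mul_pred_ediv (p n : ℕ) (hp : p.Prime) (hpn : ¬ p ∣ n) :
    (((n : ℤ) + 1) * ((p : ℤ) - 1)) / (p : ℤ) = n - ((n : ℤ) - 1) / (p : ℤ) := by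
  have hp' : (0 : ℤ) < p := by exact_mod_cast hp.pos
  have hr : (n : ℤ) % (p : ℤ) ≠ 0 := fun h => hpn (by exact_mod_cast Int.dvd_of_emod_eq_zero h)
  have hr0 : 0 ≤ (n : ℤ) % (p : ℤ) := Int.emod_nonneg _ hp'.ne'
  have hrp : (n : ℤ) % (p : ℤ) < p := Int.emod_lt_of_pos _ hp'
  have hdiv := Int.emod_add_mul_ediv (n : ℤ) p
  set q := (n : ℤ) / (p : ℤ) with hq
  set r := (n : ℤ) % (p : ℤ) with hrdef
  have e1 : ((n : ℤ) - 1) / (p : ℤ) = q ∧ ((n : ℤ) - 1) % (p : ℤ) = r - 1 := by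
    rw [Int.ediv_emod_unique hp']
    refine ⟨by linarith, by omega, by omega⟩
  have e2 : (((n : ℤ) + 1) * ((p : ℤ) - 1)) / (p : ℤ) = q * ((p : ℤ) - 1) + r ∧
      (((n : ℤ) + 1) * ((p : ℤ) - 1)) % (p : ℤ) = p - r - 1 := by
    rw [Int.ediv_emod_unique hp']
    refine ⟨?_, by omega, by omega⟩
    rw [← hdiv]; ring
  rw [e1.1, e2.1, ← hdiv]; ring

end Groth.Agent.Lib.Helper93.PSigCount
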