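import Groth.Agent.Lib.Helper93.PSigA
import Groth.Agent.Lib.Helper93.CycCoh
import Groth.Agent.Lib.Helper93.PSigCount
import Groth.Agent.S13863
import Groth.Agent.S13864

set_option autoImplicit false
universe u

namespace Groth.Agent.Lib.Helper93.PSigB

open PowerSeries groupCohomology
open Groth.Agent.Lib.Helper70.ASCover Groth.Agent.Lib.Helper93.PSigA Groth.Agent.Lib.Helper93.CycCoh

variable {k : Type u} [Field k] [IsAlgClosed k] (p : ℕ) [Fact p.Prime] [CharP k p] (n : ℕ)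
  (hn : 0 < n) (hpn : ¬ p ∣ n)
  (u : PowerSeries k) (hu1 : constantCoeff u = 1) (hun : u ^ n * (1 + X ^ n) = 1) (hu : IsUnit u)
  (a : ℤ)
  {G : Type u} [Group G] [Finite G] (g : G) (hG : Nat.card G = p)
  (hg : ∀ x : G, x ∈ Subgroup.zpowers g)
  (ρ : Representation k G (PowerSeries k))
  (hρ : ∀ h : PowerSeries k, ρ g h =
    ((hu.unit ^ a : (PowerSeries k)ˣ) : PowerSeries k) * PowerSeries.subst (X * u) h)

include hn hpn hu1 hun in
theorem exists_c : ∃ c : ℕ → PowerSeries k, ∀ m : ℕ, 1 ≤ m → m ≤ n →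
    X ^ m * c m = ((hu.unit ^ (a - m) : (PowerSeries k)ˣ) : PowerSeries k) - 1 := by
  have hU : (hu.unit : PowerSeries k) = u := hu.unit_spec
  obtain ⟨q, hq, -⟩ := exists_eq_one_add p n hpn u hu1 hun
  have : ∀ m : ℕ, ∃ cm : PowerSeries k, 1 ≤ m → m ≤ n →
      X ^ m * cm = ((hu.unit ^ (a - m) : (PowerSeries k)ˣ) : PowerSeries k) - 1 := by
    intro m
    obtain ⟨qs, h1, -⟩ := exists_zpow_eq_one_add n hn u q hq hu.unit hU (a - m)
    refine ⟨X ^ (n - m) * qs, fun _ hmn => ?_⟩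
    rw [h1, ← mul_assoc, ← pow_add, Nat.add_sub_cancel' hmn]; ring
  choose c hc using this
  exact ⟨c, hc⟩

include hρ in
theorem rho_eq_sg : ρ g = sg hu.unit a := by
  apply LinearMap.ext
  intro h
  rw [hρ, sg_apply, hu.unit_spec]

include hg hG hρ in
theorem sg_pow_p (h : PowerSeries k) : ((sg hu.unit a) ^ p) h = h := by
  rw [← rho_eq_sg u hu a g ρ hρ, ← map_pow, gen_pow_p g hg p hG, map_one, Module.End.one_apply]

include hg hG hρ in
theorem exists_cocycle_c (c : ℕ → PowerSeries k)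
    (hc : ∀ m : ℕ, 1 ≤ m → m ≤ n →
      X ^ m * c m = ((hu.unit ^ (a - m) : (PowerSeries k)ˣ) : PowerSeries k) - 1) :
    ∃ fc : ℕ → cocycles₁ (Rep.of ρ), ∀ m : ℕ, 1 ≤ m → m ≤ n → fc m g = c m := by
  have : ∀ m : ℕ, ∃ f : cocycles₁ (Rep.of ρ), 1 ≤ m → m ≤ n → f g = c m := by
    intro m
    by_cases h : 1 ≤ m ∧ m ≤ n
    · obtain ⟨f, hf⟩ := exists_cocycle (Rep.of ρ) g hg p hG (c m) (by
        show ∑ j ∈ Finset.range p, ((ρ g) ^ j) (c m) = 0
        rw [rho_eq_sg u hu a g ρ hρ]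
        exact norm_c_eq_zero p n hu.unit a (sg_pow_p p u hu a g hG hg ρ hρ) m h.2 (c m)
          (hc m h.1 h.2))
      exact ⟨f, fun _ _ => hf⟩
    · exact ⟨0, fun h1 h2 => absurd ⟨h1, h2⟩ h⟩
  choose fc hfc using this
  exact ⟨fc, hfc⟩

/-- evaluation of a combination of cocycles -/
theorem sum_smul_cocycle_apply {A : Rep k G} (J : Finset ℕ) (coef : ℕ → k)
    (fc : ℕ → cocycles₁ A) (x : G) :
    (∑ m ∈ J, coef m • fc m : cocycles₁ A) x = ∑ m ∈ J, coef m • (fc m x) := by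
  let ev : cocycles₁ A →ₗ[k] A := (LinearMap.proj x) ∘ₗ (cocycles₁ A).subtype
  show ev (∑ m ∈ J, coef m • fc m) = ∑ m ∈ J, coef m • ev (fc m)
  rw [map_sum]
  refine Finset.sum_congr rfl fun m _ => ?_
  rw [map_smul]

include hn hpn hu1 hun hρ in
theorem indep (c : ℕ → PowerSeries k)
    (hc : ∀ m : ℕ, 1 ≤ m → m ≤ n →
      X ^ m * c m = ((hu.unit ^ (a - m) : (PowerSeries k)ˣ) : PowerSeries k) - 1)
    (fc : ℕ → cocycles₁ (Rep.of ρ)) (hfc : ∀ m : ℕ, 1 ≤ m → m ≤ n → fc m g = c m)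
    (coef : ℕ → k)
    (hcob : ⇑(∑ m ∈ (Finset.Icc 1 n).filter (fun m : ℕ => ¬ (p : ℤ) ∣ a - (m : ℤ)),
      coef m • fc m : cocycles₁ (Rep.of ρ)) ∈ coboundaries₁ (Rep.of ρ)) :
    ∀ m ∈ (Finset.Icc 1 n).filter (fun m : ℕ => ¬ (p : ℤ) ∣ a - (m : ℤ)), coef m = 0 := by
  obtain ⟨y, hy⟩ := coboundary_apply (Rep.of ρ) g _ hcob
  rw [sum_smul_cocycle_apply] at hy
  refine Groth.Agent.S13864.result p n hn hpn u hu1 hun hu a c hc coef y ?_
  have : (Rep.of ρ).ρ g y = ρ g y := rfl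
  rw [this, hρ] at hy
  rw [← hy]
  refine Finset.sum_congr rfl fun m hm => ?_
  rw [Finset.mem_filter, Finset.mem_Icc] at hm
  rw [hfc m hm.1.1 hm.1.2]

include hn hpn hu1 hun hρ hg hG in
theorem span (c : ℕ → PowerSeries k)
    (hc : ∀ m : ℕ, 1 ≤ m → m ≤ n →
      X ^ m * c m = ((hu.unit ^ (a - m) : (PowerSeries k)ˣ) : PowerSeries k) - 1)
    (f : cocycles₁ (Rep.of ρ)) :
    ∃ (coef : ℕ → k) (h : PowerSeries k),
      f g = ∑ m ∈ Finset.Icc 1 n, coef m • c m + (ρ g h - h) := by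
  have hU : (hu.unit : PowerSeries k) = u := hu.unit_spec
  have hN := cocycle_norm (Rep.of ρ) g hg p hG f
  have hN' : ∑ j ∈ Finset.range p, ((sg hu.unit a) ^ j) (f g) = 0 := by
    rw [← rho_eq_sg u hu a g ρ hρ]; exact hN
  obtain ⟨coef, h, hfh⟩ := exists_decomp p n hn hpn hu.unit (by rw [hU]; exact hu1)
    (by rw [hU]; exact hun) a c hc (f g) hN'
  refine ⟨coef, h, ?_⟩
  rw [rho_eq_sg u hu a g ρ hρ]
  exact hfh

include hn hpn hu1 hun hρ in
theorem span' (c : ℕ → PowerSeries k)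
    (hc : ∀ m : ℕ, 1 ≤ m → m ≤ n →
      X ^ m * c m = ((hu.unit ^ (a - m) : (PowerSeries k)ˣ) : PowerSeries k) - 1)
    (coef : ℕ → k) :
    ∃ h : PowerSeries k, ∑ m ∈ Finset.Icc 1 n, coef m • c m =
      ∑ m ∈ (Finset.Icc 1 n).filter (fun m : ℕ => ¬ (p : ℤ) ∣ a - (m : ℤ)), coef m • c m +
        (ρ g h - h) := by
  have : ∀ m : ℕ, ∃ hm : PowerSeries k, 1 ≤ m → m ≤ n → (p : ℤ) ∣ a - (m : ℤ) →
      ρ g hm - hm = c m := by
    intro m
    by_cases h : 1 ≤ m ∧ m ≤ n ∧ (p : ℤ) ∣ a - (m : ℤ)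
    · obtain ⟨hm, hhm⟩ := Groth.Agent.S13863.result p n hn hpn u hu1 hun hu a m h.1 h.2.1 h.2.2
        (c m) (hc m h.1 h.2.1)
      exact ⟨hm, fun _ _ _ => by rw [hρ]; exact hhm⟩
    · exact ⟨0, fun h1 h2 h3 => absurd ⟨h1, h2, h3⟩ h⟩
  choose hm hhm using this
  refine ⟨∑ m ∈ (Finset.Icc 1 n).filter (fun m : ℕ => ¬ ¬ (p : ℤ) ∣ a - (m : ℤ)), coef m • hm m, ?_⟩
  rw [← Finset.sum_filter_add_sum_filter_not (Finset.Icc 1 n)
    (fun m : ℕ => ¬ (p : ℤ) ∣ a - (m : ℤ))]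
  congr 1
  rw [map_sum, ← Finset.sum_sub_distrib]
  refine Finset.sum_congr rfl fun m hm' => ?_
  rw [Finset.mem_filter, Finset.mem_Icc] at hm'
  rw [map_smul, ← smul_sub, hhm m hm'.1.1 hm'.1.2 (not_not.1 hm'.2)]


include hn hpn hu1 hun hρ hg hG in
theorem main : Module.Finite k (groupCohomology.H1 (Rep.of ρ)) ∧
    (Module.finrank k (groupCohomology.H1 (Rep.of ρ)) : ℤ) =
      n - (a - 1) / (p : ℤ) + (a - 1 - n) / (p : ℤ) := by
  obtain ⟨c, hc⟩ := exists_c p n hn hpn u hu1 hun hu a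
  obtain ⟨fc, hfc⟩ := exists_cocycle_c p n u hu a g hG hg ρ hρ c hc
  set J := (Finset.Icc 1 n).filter (fun m : ℕ => ¬ (p : ℤ) ∣ a - (m : ℤ)) with hJ
  let π : cocycles₁ (Rep.of ρ) →ₗ[k] H1 (Rep.of ρ) := (H1π (Rep.of ρ)).hom
  let Ψ : (J → k) →ₗ[k] H1 (Rep.of ρ) := Fintype.linearCombination k (fun m : J => π (fc m))
  let ext0 : (J → k) → ℕ → k := fun l m => if h : m ∈ J then l ⟨m, h⟩ else 0
  have hΨ : ∀ l : J → k, Ψ l = π (∑ m ∈ J, ext0 l m • fc m) := by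
    intro l
    rw [Fintype.linearCombination_apply, map_sum, ← Finset.sum_coe_sort J]
    refine Finset.sum_congr rfl fun m _ => ?_
    rw [map_smul]
    simp only [ext0]
    rw [dif_pos m.2]
  have hinj : Function.Injective Ψ := by
    rw [← LinearMap.ker_eq_bot, LinearMap.ker_eq_bot']
    intro l hl
    rw [hΨ] at hl
    have h1 : ⇑(∑ m ∈ J, ext0 l m • fc m) ∈ coboundaries₁ (Rep.of ρ) :=
      (H1π_eq_zero_iff _).1 hl
    have h2 := indep p n hn hpn u hu1 hun hu a g ρ hρ c hc fc hfc (ext0 l) h1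
    funext m
    have := h2 m m.2
    simp only [ext0] at this
    rw [dif_pos m.2] at this
    exact this
  have hsurj : Function.Surjective Ψ := by
    intro x
    induction x using H1_induction_on with
    | h f =>
      obtain ⟨coef, h, hfh⟩ := span p n hn hpn u hu1 hun hu a g hG hg ρ hρ c hc f
      obtain ⟨h', hh'⟩ := span' p n hn hpn u hu1 hun hu a g ρ hρ c hc coef
      refine ⟨fun m => coef m, ?_⟩
      rw [hΨ]
      symm
      show H1π (Rep.of ρ) f = H1π (Rep.of ρ) (∑ m ∈ J, ext0 (fun m => coef m) m • fc m)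
      rw [H1π_eq_iff]
      have key := cocycle_mem_coboundaries (Rep.of ρ) g hg
        (f - ∑ m ∈ J, ext0 (fun m => coef m) m • fc m) (h' + h) (by
          show f g - (∑ m ∈ J, ext0 (fun m => coef m) m • fc m : cocycles₁ (Rep.of ρ)) g = _
          rw [sum_smul_cocycle_apply, hfh, hh']
          have e1 : ∑ m ∈ J, ext0 (fun m => coef m) m • (fc m) g = ∑ m ∈ J, coef m • c m := by
            refine Finset.sum_congr rfl fun m hm => ?_
            have hm' := hm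
            rw [hJ, Finset.mem_filter, Finset.mem_Icc] at hm'
            rw [hfc m hm'.1.1 hm'.1.2]
            simp only [ext0]
            rw [dif_pos hm]
          rw [e1]
          show _ = ρ g (h' + h) - (h' + h)
          rw [map_add]
          abel)
      exact key
  have hbij : Function.Bijective Ψ := ⟨hinj, hsurj⟩
  let e : (J → k) ≃ₗ[k] H1 (Rep.of ρ) := LinearEquiv.ofBijective Ψ hbij
  refine ⟨Module.Finite.equiv e, ?_⟩
  rw [← e.finrank_eq, Module.finrank_fintype_fun_eq_card, Fintype.card_coe, hJ]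
  exact Groth.Agent.Lib.Helper93.PSigCount.card_filter_not_dvd p (Fact.out : p.Prime).pos a n

end Groth.Agent.Lib.Helper93.PSigB
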