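import Groth.Agent.Lib.Helper93.PSigA

set_option autoImplicit false
universe u

namespace Groth.Agent.Lib.Helper93.PSigD

open PowerSeries
open Groth.Agent.Lib.Helper70.ASCover Groth.Agent.Lib.Helper93.PSigA

variable {k : Type u} [Field k] (p : ℕ) [CharP k p] (n : ℕ)
  (hn : 0 < n) (hpn : ¬ p ∣ n) (U : (PowerSeries k)ˣ)
  (hun : (U : PowerSeries k) ^ n * (1 + X ^ n) = 1)

include hn hpn hun in
theorem derivative_u :
    d⁄dX k (U : PowerSeries k) = -(X ^ (n - 1) * (U : PowerSeries k) ^ (n + 1)) := by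
  have hnk : (n : k) ≠ 0 := natCast_ne_zero p n hpn
  have hnB : ((n : ℕ) : PowerSeries k) ≠ 0 := by
    rw [← map_natCast (C (R := k))]
    intro h
    exact hnk (PowerSeries.C_injective (by rw [h, map_zero]))
  have h1 := congrArg (d⁄dX k) hun
  rw [Derivation.leibniz, map_add, Derivation.map_one_eq_zero,
    zero_add, derivative_pow, derivative_pow, derivative_X, mul_one, smul_eq_mul, smul_eq_mul] at h1
  obtain ⟨n', rfl⟩ : ∃ n', n = n' + 1 := ⟨n - 1, by omega⟩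
  simp only [Nat.add_sub_cancel] at h1 ⊢
  have h2 : ((n' + 1 : ℕ) : PowerSeries k) *
      (d⁄dX k (U : PowerSeries k) + X ^ n' * (U : PowerSeries k) ^ (n' + 1 + 1)) = 0 := by
    have e : (U : PowerSeries k) * ((U : PowerSeries k) ^ (n' + 1) * (((n' + 1 : ℕ) : PowerSeries k) * X ^ n') +
        (1 + X ^ (n' + 1)) * (((n' + 1 : ℕ) : PowerSeries k) * (U : PowerSeries k) ^ n' *
          d⁄dX k (U : PowerSeries k))) = 0 := by rw [h1, mul_zero]
    calc ((n' + 1 : ℕ) : PowerSeries k) *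
        (d⁄dX k (U : PowerSeries k) + X ^ n' * (U : PowerSeries k) ^ (n' + 1 + 1))
        = ((n' + 1 : ℕ) : PowerSeries k) *
          (((U : PowerSeries k) ^ (n' + 1) * (1 + X ^ (n' + 1))) * d⁄dX k (U : PowerSeries k) +
            X ^ n' * (U : PowerSeries k) ^ (n' + 1 + 1)) := by rw [hun, one_mul]
      _ = (U : PowerSeries k) * ((U : PowerSeries k) ^ (n' + 1) * (((n' + 1 : ℕ) : PowerSeries k) * X ^ n') +
        (1 + X ^ (n' + 1)) * (((n' + 1 : ℕ) : PowerSeries k) * (U : PowerSeries k) ^ n' *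
          d⁄dX k (U : PowerSeries k))) := by ring
      _ = 0 := e
  rcases mul_eq_zero.1 h2 with h | h
  · exact absurd h hnB
  · exact eq_neg_of_add_eq_zero_left h

include hn hpn hun in
theorem derivative_zpow (s : ℤ) :
    d⁄dX k ((U ^ s : (PowerSeries k)ˣ) : PowerSeries k) =
      -(((s : ℤ) : PowerSeries k) * (X ^ (n - 1) * ((U ^ (s + n) : (PowerSeries k)ˣ) : PowerSeries k))) := by
  have hu := derivative_u p n hn hpn U hun
  have hE1 : ∀ t : ℤ, ((U ^ (t + 1) : (PowerSeries k)ˣ) : PowerSeries k) =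
      ((U ^ t : (PowerSeries k)ˣ) : PowerSeries k) * (U : PowerSeries k) := by
    intro t; rw [zpow_add_one, Units.val_mul]
  have hEn : ∀ t : ℤ, ((U ^ (t + n + 1) : (PowerSeries k)ˣ) : PowerSeries k) =
      ((U ^ t : (PowerSeries k)ˣ) : PowerSeries k) * (U : PowerSeries k) ^ (n + 1) := by
    intro t
    rw [add_assoc, zpow_add_coe, ← zpow_nat_coe]; push_cast; rfl
  induction s using Int.induction_on with
  | zero => simp
  | succ i ih =>
    rw [hE1, Derivation.leibniz, ih, hu, smul_eq_mul, smul_eq_mul]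
    have e1 : ((U ^ ((i : ℤ) + 1 + n) : (PowerSeries k)ˣ) : PowerSeries k) =
        ((U ^ (i : ℤ) : (PowerSeries k)ˣ) : PowerSeries k) * (U : PowerSeries k) ^ (n + 1) := by
      rw [← hEn]; congr 2; ring
    have e2 : ((U ^ ((i : ℤ) + n) : (PowerSeries k)ˣ) : PowerSeries k) * (U : PowerSeries k) =
        ((U ^ (i : ℤ) : (PowerSeries k)ˣ) : PowerSeries k) * (U : PowerSeries k) ^ (n + 1) := by
      rw [← hE1, ← hEn]
    rw [e1]
    calc ((U ^ (i : ℤ) : (PowerSeries k)ˣ) : PowerSeries k) * -(X ^ (n - 1) * (U : PowerSeries k) ^ (n + 1)) +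
        (U : PowerSeries k) * -(((i : ℤ) : PowerSeries k) * (X ^ (n - 1) *
          ((U ^ ((i : ℤ) + n) : (PowerSeries k)ˣ) : PowerSeries k)))
        = -(X ^ (n - 1) * (((U ^ (i : ℤ) : (PowerSeries k)ˣ) : PowerSeries k) * (U : PowerSeries k) ^ (n + 1))) -
          ((i : ℤ) : PowerSeries k) * X ^ (n - 1) *
            (((U ^ ((i : ℤ) + n) : (PowerSeries k)ˣ) : PowerSeries k) * (U : PowerSeries k)) := by ring
      _ = _ := by rw [e2]; push_cast; ring
  | pred i ih =>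
    have e0 : ((U ^ (-(i : ℤ)) : (PowerSeries k)ˣ) : PowerSeries k) =
        ((U ^ (-(i : ℤ) - 1) : (PowerSeries k)ˣ) : PowerSeries k) * (U : PowerSeries k) := by
      rw [← hE1]; congr 2; ring
    have h1 := congrArg (d⁄dX k) e0
    rw [Derivation.leibniz, ih, hu, smul_eq_mul, smul_eq_mul] at h1
    have e1 : ((U ^ (-(i : ℤ) + n) : (PowerSeries k)ˣ) : PowerSeries k) =
        ((U ^ (-(i : ℤ) - 1) : (PowerSeries k)ˣ) : PowerSeries k) * (U : PowerSeries k) ^ (n + 1) := by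
      rw [← hEn]; congr 2; ring
    have e2 : ((U ^ (-(i : ℤ) + n) : (PowerSeries k)ˣ) : PowerSeries k) =
        ((U ^ (-(i : ℤ) - 1 + n) : (PowerSeries k)ˣ) : PowerSeries k) * (U : PowerSeries k) := by
      rw [← hE1]; congr 2; ring
    apply (Units.mul_right_inj U).1
    have h2 : (U : PowerSeries k) * d⁄dX k ((U ^ (-(i : ℤ) - 1) : (PowerSeries k)ˣ) : PowerSeries k) =
        -(((-(i : ℤ) : ℤ) : PowerSeries k) * (X ^ (n - 1) *
          ((U ^ (-(i : ℤ) + n) : (PowerSeries k)ˣ) : PowerSeries k))) -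
        ((U ^ (-(i : ℤ) - 1) : (PowerSeries k)ˣ) : PowerSeries k) *
          -(X ^ (n - 1) * (U : PowerSeries k) ^ (n + 1)) := by
      rw [h1]; ring
    rw [h2]
    have h3 : -(((-(i : ℤ) : ℤ) : PowerSeries k) * (X ^ (n - 1) *
          ((U ^ (-(i : ℤ) + n) : (PowerSeries k)ˣ) : PowerSeries k))) -
        ((U ^ (-(i : ℤ) - 1) : (PowerSeries k)ˣ) : PowerSeries k) *
          -(X ^ (n - 1) * (U : PowerSeries k) ^ (n + 1)) =
        -(((-(i : ℤ) : ℤ) : PowerSeries k) * (X ^ (n - 1) *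
          ((U ^ (-(i : ℤ) + n) : (PowerSeries k)ˣ) : PowerSeries k))) +
        X ^ (n - 1) * (((U ^ (-(i : ℤ) - 1) : (PowerSeries k)ˣ) : PowerSeries k) *
          (U : PowerSeries k) ^ (n + 1)) := by ring
    have h4 : (U : PowerSeries k) * -(((-(i : ℤ) - 1 : ℤ) : PowerSeries k) * (X ^ (n - 1) *
          ((U ^ (-(i : ℤ) - 1 + n) : (PowerSeries k)ˣ) : PowerSeries k))) =
        -(((-(i : ℤ) - 1 : ℤ) : PowerSeries k) * (X ^ (n - 1) *
          (((U ^ (-(i : ℤ) - 1 + n) : (PowerSeries k)ˣ) : PowerSeries k) * (U : PowerSeries k)))) := by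
      ring
    rw [h3, h4, ← e1, ← e2]
    push_cast; ring


include hn hpn hun in
theorem derivative_c (m : ℕ) (hm1 : 1 ≤ m) (hmn : m ≤ n) (c0 c1 : PowerSeries k)
    (h0 : X ^ m * c0 = ((U ^ ((0 : ℤ) - m) : (PowerSeries k)ˣ) : PowerSeries k) - 1)
    (h1 : X ^ (m + 1) * c1 =
      ((U ^ (((n + 1 : ℕ) : ℤ) - ((m + 1 : ℕ) : ℤ)) : (PowerSeries k)ˣ) : PowerSeries k) - 1) :
    d⁄dX k c0 = -(((m : ℕ) : PowerSeries k) * c1) := by
  have hd := congrArg (d⁄dX k) h0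
  rw [Derivation.leibniz, derivative_pow, derivative_X, mul_one, map_sub,
    Derivation.map_one_eq_zero, sub_zero, derivative_zpow p n hn hpn U hun, smul_eq_mul,
    smul_eq_mul] at hd
  obtain ⟨m', rfl⟩ : ∃ m', m = m' + 1 := ⟨m - 1, by omega⟩
  obtain ⟨n', rfl⟩ : ∃ n', n = n' + 1 := ⟨n - 1, by omega⟩
  simp only [Nat.add_sub_cancel] at hd
  have e1 : ((U ^ ((0 : ℤ) - ((m' + 1 : ℕ) : ℤ)) : (PowerSeries k)ˣ) : PowerSeries k) =
      ((U ^ ((0 : ℤ) - ((m' + 1 : ℕ) : ℤ) + ((n' + 1 : ℕ) : ℤ)) : (PowerSeries k)ˣ) : PowerSeries k) *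
        (1 + X ^ (n' + 1)) := by
    rw [← zpow_neg_n (n' + 1) U hun, ← zpow_add_coe]; congr 2; ring
  have e2 : (((n' + 1 + 1 : ℕ) : ℤ) - ((m' + 1 + 1 : ℕ) : ℤ)) =
      (0 : ℤ) - ((m' + 1 : ℕ) : ℤ) + ((n' + 1 : ℕ) : ℤ) := by push_cast; ring
  rw [e2] at h1
  set E := ((U ^ ((0 : ℤ) - ((m' + 1 : ℕ) : ℤ) + ((n' + 1 : ℕ) : ℤ)) : (PowerSeries k)ˣ) : PowerSeries k)
    with hE
  apply mul_left_cancel₀ (pow_ne_zero (m' + 1 + 1) (X_ne_zero (R := k)))
  have h3 : X ^ (m' + 1 + 1) * d⁄dX k c0 =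
      X * (X ^ (m' + 1) * d⁄dX k c0 + c0 * (((m' + 1 : ℕ) : PowerSeries k) * X ^ m')) -
        ((m' + 1 : ℕ) : PowerSeries k) * (X ^ (m' + 1) * c0) := by ring
  rw [h3, hd, h0, e1]
  have h4 : X ^ (m' + 1 + 1) * -(((m' + 1 : ℕ) : PowerSeries k) * c1) =
      -(((m' + 1 : ℕ) : PowerSeries k) * (X ^ (m' + 1 + 1) * c1)) := by ring
  rw [h4, h1]
  push_cast
  ring

end Groth.Agent.Lib.Helper93.PSigD
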