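import Groth.Agent.Lib.Helper93.PSigB
import Groth.Agent.Lib.Helper93.PSigD

set_option autoImplicit false
universe u

namespace Groth.Agent.Lib.Helper93.PSigC

open PowerSeries groupCohomology CategoryTheory
open Groth.Agent.Lib.Helper70.ASCover Groth.Agent.Lib.Helper93.PSigA Groth.Agent.Lib.Helper93.CycCoh
  Groth.Agent.Lib.Helper93.PSigB Groth.Agent.Lib.Helper93.PSigD

variable {k : Type u} [Field k] {G : Type u} [Group G]

/-- the map induced on cocycles -/
noncomputable def mc {A B : Rep k G} (φ : A ⟶ B) (f : cocycles₁ A) : cocycles₁ B :=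
  (mapCocycles₁ (MonoidHom.id G) φ).hom f

theorem mc_apply {A B : Rep k G} (φ : A ⟶ B) (f : cocycles₁ A) (x : G) :
    mc φ f x = φ.hom (f x) := rfl

theorem map_H1π {A B : Rep k G} (φ : A ⟶ B) (f : cocycles₁ A) :
    ((groupCohomology.functor k G 1).map φ).hom ((H1π A).hom f) = (H1π B).hom (mc φ f) := by
  have := H1π_comp_map_apply (MonoidHom.id G) φ f
  exact this


theorem main [IsAlgClosed k] (p : ℕ) [Fact p.Prime] [CharP k p] (n : ℕ)
    (hn : 0 < n) (hpn : ¬ p ∣ n)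
    (u : PowerSeries k) (hu1 : constantCoeff u = 1) (hun : u ^ n * (1 + X ^ n) = 1)
    [Finite G] (g : G) (hG : Nat.card G = p)
    (hg : ∀ x : G, x ∈ Subgroup.zpowers g)
    (ρ₀ ρ₁ : Representation k G (PowerSeries k))
    (hρ₀ : ∀ h : PowerSeries k, ρ₀ g h = PowerSeries.subst (X * u) h)
    (hρ₁ : ∀ h : PowerSeries k, ρ₁ g h = u ^ (n + 1) * PowerSeries.subst (X * u) h)
    (φ : Rep.of ρ₀ ⟶ Rep.of ρ₁) (hφ : ∀ h : PowerSeries k, φ.hom h = PowerSeries.derivative k h) :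
    Module.Finite k (LinearMap.range ((groupCohomology.functor k G 1).map φ).hom) ∧
      (Module.finrank k (LinearMap.range ((groupCohomology.functor k G 1).map φ).hom) : ℤ) =
        ((n + 1) * (p - 1) : ℤ) / p - 1 - (n - 1 : ℤ) / p := by
  have hpP := (Fact.out : p.Prime)
  have hu : IsUnit u := isUnit_of_constantCoeff_ne_zero u (by rw [hu1]; exact one_ne_zero)
  have hU : (hu.unit : PowerSeries k) = u := hu.unit_spec
  have hu1' : constantCoeff (hu.unit : PowerSeries k) = 1 := by rw [hU]; exact hu1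
  have hun' : (hu.unit : PowerSeries k) ^ n * (1 + X ^ n) = 1 := by rw [hU]; exact hun
  have hρ₀' : ∀ h : PowerSeries k, ρ₀ g h =
      ((hu.unit ^ (0 : ℤ) : (PowerSeries k)ˣ) : PowerSeries k) * PowerSeries.subst (X * u) h := by
    intro h; rw [hρ₀, zpow_zero, Units.val_one, one_mul]
  have hρ₁' : ∀ h : PowerSeries k, ρ₁ g h =
      ((hu.unit ^ ((n + 1 : ℕ) : ℤ) : (PowerSeries k)ˣ) : PowerSeries k) *
        PowerSeries.subst (X * u) h := by
    intro h; rw [hρ₁, zpow_natCast, Units.val_pow_eq_pow_val, hU]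
  obtain ⟨c0, hc0⟩ := exists_c p n hn hpn u hu1 hun hu 0
  obtain ⟨c1, hc1⟩ := exists_c p n hn hpn u hu1 hun hu ((n + 1 : ℕ) : ℤ)
  obtain ⟨fc0, hfc0⟩ := exists_cocycle_c p n u hu 0 g hG hg ρ₀ hρ₀' c0 hc0
  obtain ⟨fc1, hfc1⟩ := exists_cocycle_c p n u hu ((n + 1 : ℕ) : ℤ) g hG hg ρ₁ hρ₁' c1 hc1
  -- derivative facts
  have hD : ∀ m : ℕ, 1 ≤ m → m + 1 ≤ n →
      d⁄dX k (c0 m) = -(((m : ℕ) : PowerSeries k) * c1 (m + 1)) := by
    intro m hm1 hmn
    exact derivative_c p n hn hpn hu.unit hun' m hm1 (by omega) (c0 m) (c1 (m + 1))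
      (hc0 m hm1 (by omega)) (hc1 (m + 1) (by omega) hmn)
  have hDn : d⁄dX k (c0 n) = 0 := by
    have := derivative_c p n hn hpn hu.unit hun' n hn le_rfl (c0 n) 0 (hc0 n hn le_rfl)
      (by rw [sub_self, zpow_zero, Units.val_one, sub_self, mul_zero])
    rw [this, mul_zero, neg_zero]
  set J1 := (Finset.Icc 1 n).filter (fun m : ℕ => ¬ (p : ℤ) ∣ ((n + 1 : ℕ) : ℤ) - (m : ℤ)) with hJ1
  set J' := J1.filter (fun m : ℕ => 2 ≤ m ∧ ¬ p ∣ m - 1) with hJ'
  let π1 : cocycles₁ (Rep.of ρ₁) →ₗ[k] H1 (Rep.of ρ₁) := (H1π (Rep.of ρ₁)).hom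
  let π0 : cocycles₁ (Rep.of ρ₀) →ₗ[k] H1 (Rep.of ρ₀) := (H1π (Rep.of ρ₀)).hom
  let M : H1 (Rep.of ρ₀) →ₗ[k] H1 (Rep.of ρ₁) := ((groupCohomology.functor k G 1).map φ).hom
  let Ψ : (J' → k) →ₗ[k] H1 (Rep.of ρ₁) := Fintype.linearCombination k (fun m : J' => π1 (fc1 m))
  let ext0 : (J' → k) → ℕ → k := fun l m => if h : m ∈ J' then l ⟨m, h⟩ else 0
  have hmemJ' : ∀ m, m ∈ J' → 1 ≤ m ∧ m ≤ n ∧ ¬ (p : ℤ) ∣ ((n + 1 : ℕ) : ℤ) - (m : ℤ) ∧ 2 ≤ m ∧
      ¬ p ∣ m - 1 := by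
    intro m hm
    rw [hJ', Finset.mem_filter, hJ1, Finset.mem_filter, Finset.mem_Icc] at hm
    exact ⟨hm.1.1.1, hm.1.1.2, hm.1.2, hm.2.1, hm.2.2⟩
  have hΨ : ∀ l : J' → k, Ψ l = π1 (∑ m ∈ J1, ext0 l m • fc1 m) := by
    intro l
    have e1 : ∑ m ∈ J1, ext0 l m • fc1 m = ∑ m ∈ J', ext0 l m • fc1 m := by
      symm
      apply Finset.sum_subset (Finset.filter_subset _ _)
      intro m _ hm
      simp only [ext0]
      rw [dif_neg hm, zero_smul]
    rw [e1, Fintype.linearCombination_apply, map_sum, ← Finset.sum_coe_sort J']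
    refine Finset.sum_congr rfl fun m _ => ?_
    rw [map_smul]
    simp only [ext0]
    rw [dif_pos m.2]
  have hinj : Function.Injective Ψ := by
    rw [← LinearMap.ker_eq_bot, LinearMap.ker_eq_bot']
    intro l hl
    rw [hΨ] at hl
    have h1 : ⇑(∑ m ∈ J1, ext0 l m • fc1 m) ∈ coboundaries₁ (Rep.of ρ₁) := (H1π_eq_zero_iff _).1 hl
    have h2 := indep p n hn hpn u hu1 hun hu ((n + 1 : ℕ) : ℤ) g ρ₁ hρ₁' c1 hc1 fc1 hfc1 (ext0 l) h1
    funext m
    have := h2 m (Finset.mem_of_mem_filter _ m.2)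
    simp only [ext0] at this
    rw [dif_pos m.2] at this
    exact this
  -- the two inclusions
  have hsub1 : ∀ f : cocycles₁ (Rep.of ρ₀), π1 (mc φ f) ∈ LinearMap.range Ψ := by
    intro f
    obtain ⟨coef, h, hfh⟩ := span p n hn hpn u hu1 hun hu 0 g hG hg ρ₀ hρ₀' c0 hc0 f
    have hcob : ⇑(mc φ f - ∑ m ∈ Finset.Icc 1 n, coef m • mc φ (fc0 m)) ∈ coboundaries₁ (Rep.of ρ₁) := by
      apply cocycle_mem_coboundaries (Rep.of ρ₁) g hg _ (d⁄dX k h)
      show mc φ f g - (∑ m ∈ Finset.Icc 1 n, coef m • mc φ (fc0 m) : cocycles₁ (Rep.of ρ₁)) g = _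
      rw [sum_smul_cocycle_apply, mc_apply, hfh, hφ, map_add, map_sum, map_sub]
      have e1 : ∑ m ∈ Finset.Icc 1 n, coef m • (mc φ (fc0 m)) g =
          ∑ m ∈ Finset.Icc 1 n, d⁄dX k (coef m • c0 m) := by
        refine Finset.sum_congr rfl fun m hm => ?_
        rw [Finset.mem_Icc] at hm
        rw [mc_apply, hfc0 m hm.1 hm.2, hφ, Derivation.map_smul]
      rw [e1, add_sub_cancel_left, ← hφ, ← hφ]
      have := Rep.hom_comm_apply φ g h
      rw [← this]
    have h1 : π1 (mc φ f) = ∑ m ∈ Finset.Icc 1 n, coef m • π1 (mc φ (fc0 m)) := by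
      have : π1 (mc φ f) = π1 (∑ m ∈ Finset.Icc 1 n, coef m • mc φ (fc0 m)) :=
        (H1π_eq_iff _ _).2 hcob
      rw [this, map_sum]
      refine Finset.sum_congr rfl fun m _ => ?_
      rw [map_smul]
    rw [h1]
    refine Submodule.sum_mem _ fun m hm => Submodule.smul_mem _ _ ?_
    rw [Finset.mem_Icc] at hm
    by_cases hmn : m = n
    · have : mc φ (fc0 m) = 0 := by
        apply cocycle_ext (Rep.of ρ₁) g hg
        rw [mc_apply, hfc0 m hm.1 hm.2, hφ, hmn, hDn]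
        rfl
      rw [this, map_zero]
      exact Submodule.zero_mem _
    · have hmn' : m + 1 ≤ n := by omega
      have hem : mc φ (fc0 m) = (-(m : k)) • fc1 (m + 1) := by
        apply cocycle_ext (Rep.of ρ₁) g hg
        rw [mc_apply, hfc0 m hm.1 hm.2, hφ, hD m hm.1 hmn']
        show _ = (-(m : k)) • (fc1 (m + 1) g)
        rw [hfc1 (m + 1) (by omega) hmn', smul_eq_C_mul, map_neg, map_natCast]
        ring
      rw [hem, map_smul]
      by_cases hpm : p ∣ m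
      · have hmk : (m : k) = 0 := (CharP.cast_eq_zero_iff k p m).2 hpm
        rw [hmk, neg_zero, zero_smul]
        exact Submodule.zero_mem _
      refine Submodule.smul_mem _ _ ?_
      by_cases hd : (p : ℤ) ∣ ((n + 1 : ℕ) : ℤ) - ((m + 1 : ℕ) : ℤ)
      · obtain ⟨h', hh'⟩ := Groth.Agent.S13863.result p n hn hpn u hu1 hun hu ((n + 1 : ℕ) : ℤ)
          (m + 1) (by omega) hmn' hd (c1 (m + 1)) (hc1 (m + 1) (by omega) hmn')
        have hcob' : ⇑(fc1 (m + 1)) ∈ coboundaries₁ (Rep.of ρ₁) := by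
          apply cocycle_mem_coboundaries (Rep.of ρ₁) g hg _ h'
          rw [hfc1 (m + 1) (by omega) hmn', ← hh']
          show _ = ρ₁ g h' - h'
          rw [hρ₁']
        have : π1 (fc1 (m + 1)) = 0 := (H1π_eq_zero_iff _).2 hcob'
        rw [this]
        exact Submodule.zero_mem _
      · have hJm : m + 1 ∈ J' := by
          rw [hJ', Finset.mem_filter, hJ1, Finset.mem_filter, Finset.mem_Icc]
          refine ⟨⟨⟨by omega, hmn'⟩, hd⟩, by omega, ?_⟩
          have : m + 1 - 1 = m := by omega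
          rw [this]; exact hpm
        refine ⟨Pi.single ⟨m + 1, hJm⟩ 1, ?_⟩
        show Fintype.linearCombination k (fun m : J' => π1 (fc1 m)) _ = _
        rw [Fintype.linearCombination_apply_single, one_smul]
  have hsub2 : ∀ m' : J', π1 (fc1 m') ∈ LinearMap.range M := by
    intro m'
    obtain ⟨hm1, hmn, -, hm2, hpm⟩ := hmemJ' m' m'.2
    obtain ⟨m, hm⟩ : ∃ m, (m' : ℕ) = m + 1 := ⟨m' - 1, by omega⟩
    have hmm : (m' : ℕ) - 1 = m := by omega
    rw [hmm] at hpm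
    have hmk : (m : k) ≠ 0 := fun h => hpm ((CharP.cast_eq_zero_iff k p m).1 h)
    have hem : mc φ ((-(m : k))⁻¹ • fc0 m) = fc1 m' := by
      apply cocycle_ext (Rep.of ρ₁) g hg
      rw [mc_apply]
      show φ.hom ((-(m : k))⁻¹ • (fc0 m g)) = _
      rw [hfc0 m (by omega) (by omega), hφ, Derivation.map_smul, hD m (by omega) (by omega),
        hfc1 m' hm1 hmn, hm, smul_eq_C_mul]
      have : C ((-(m : k))⁻¹) * -(((m : ℕ) : PowerSeries k) * c1 (m + 1)) =
          (C ((-(m : k))⁻¹) * C (-(m : k))) * c1 (m + 1) := by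
        rw [map_neg, map_natCast]; ring
      rw [this, ← map_mul, inv_mul_cancel₀ (neg_ne_zero.2 hmk), map_one, one_mul]
    refine ⟨π0 ((-(m : k))⁻¹ • fc0 m), ?_⟩
    rw [← hem]
    exact map_H1π φ _
  have hrange : LinearMap.range M = LinearMap.range Ψ := by
    apply le_antisymm
    · rintro y ⟨x, rfl⟩
      induction x using H1_induction_on with
      | h f =>
        have := map_H1π φ f
        show ((groupCohomology.functor k G 1).map φ).hom ((H1π (Rep.of ρ₀)).hom f) ∈ _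
        rw [this]
        exact hsub1 f
    · rintro y ⟨l, rfl⟩
      show Fintype.linearCombination k (fun m : J' => π1 (fc1 m)) l ∈ _
      rw [Fintype.linearCombination_apply]
      exact Submodule.sum_mem _ fun m _ => Submodule.smul_mem _ _ (hsub2 m)
  show Module.Finite k (LinearMap.range M) ∧ (Module.finrank k (LinearMap.range M) : ℤ) = _
  rw [hrange]
  refine ⟨Module.Finite.range Ψ, ?_⟩
  rw [LinearMap.finrank_range_of_inj hinj, Module.finrank_fintype_fun_eq_card, Fintype.card_coe]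
  have hJeq : J' = (Finset.Icc 2 n).filter (fun m : ℕ => ¬ p ∣ m - 1 ∧ ¬ p ∣ n + 1 - m) := by
    ext m
    rw [hJ', Finset.mem_filter, hJ1, Finset.mem_filter, Finset.mem_Icc, Finset.mem_filter,
      Finset.mem_Icc]
    constructor
    · rintro ⟨⟨⟨h1, h2⟩, h3⟩, h4, h5⟩
      refine ⟨⟨h4, h2⟩, h5, ?_⟩
      rw [← Nat.cast_sub (by omega), Int.natCast_dvd_natCast] at h3
      exact h3
    · rintro ⟨⟨h1, h2⟩, h3, h4⟩
      refine ⟨⟨⟨by omega, h2⟩, ?_⟩, h1, h3⟩
      rw [← Nat.cast_sub (by omega), Int.natCast_dvd_natCast]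
      exact h4
  have hcount := Groth.Agent.Lib.Helper93.PSigCount.card_Icc_two_filter p n hpP hn hpn
  rw [← hJeq] at hcount
  have hdiv := Groth.Agent.Lib.Helper93.PSigCount.mul_pred_ediv p n hpP hpn
  rw [hdiv]
  have h1 : ((n : ℤ) - 1) / (p : ℤ) = (((n - 1) / p : ℕ) : ℤ) := by
    rw [Int.natCast_div, Nat.cast_sub hn, Nat.cast_one]
  rw [h1]
  omega

end Groth.Agent.Lib.Helper93.PSigC
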