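import Groth.Prelude.Def_W4c4chowquasisplitPn
import Mathlib

set_option autoImplicit false

namespace Groth.Agent.Lib.Helper93.QsA

open MvPolynomial QsChow

theorem truncIdeal_eq (n : ℕ) :
    truncIdeal n = Ideal.span ((fun s => monomial s (1 : ZMod 2)) ''
      (Set.range fun i : Fin (numVars n) => Finsupp.single i (bound n i))) := by
  unfold truncIdeal
  congr 1
  ext f
  simp only [Set.mem_range, Set.mem_image, exists_exists_eq_and, X_pow_eq_monomial]

theorem monomial_mem_truncIdeal (n : ℕ) (m : Fin (numVars n) →₀ ℕ) (c : ZMod 2)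
    (i : Fin (numVars n)) (h : bound n i ≤ m i) : monomial m c ∈ truncIdeal n := by
  have hm_eq : (m - Finsupp.single i (bound n i)) + Finsupp.single i (bound n i) = m := by
    ext j
    by_cases hj : j = i
    · subst hj; simp; omega
    · simp [Finsupp.single_apply, Ne.symm hj]
  have h1 : monomial m c = monomial (m - Finsupp.single i (bound n i)) c * X i ^ bound n i := by
    rw [X_pow_eq_monomial, monomial_mul, mul_one, hm_eq]
  rw [h1]
  exact Ideal.mul_mem_left _ _ (Ideal.subset_span ⟨i, rfl⟩)

/-- the annihilator of `ε₁` in `P n` is generated by `ε₁^(n-1)` -/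
theorem exists_eq_pow_mul (n : ℕ) (hn : 1 ≤ n) (i0 : Fin (numVars n)) (hi0 : i0.val = 0)
    (p : P n) (hp : Ideal.Quotient.mk (truncIdeal n) (X i0) * p = 0) :
    ∃ p' : P n, p = Ideal.Quotient.mk (truncIdeal n) (X i0) ^ (n - 1) * p' := by
  classical
  obtain ⟨f, rfl⟩ := Ideal.Quotient.mk_surjective p
  rw [← map_mul, Ideal.Quotient.eq_zero_iff_mem, truncIdeal_eq, mem_ideal_span_monomial_image] at hp
  have hb0 : bound n i0 = n := by unfold bound; rw [if_pos hi0]
  have key : ∀ m ∈ f.support, monomial m (coeff m f) ∈ truncIdeal n ∨ n - 1 ≤ m i0 := by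
    intro m hm
    have hm' : m + Finsupp.single i0 1 ∈ (X i0 * f).support := by
      rw [support_X_mul, Finset.mem_map]
      exact ⟨m, hm, by simp [add_comm]⟩
    obtain ⟨si, ⟨i, rfl⟩, hle⟩ := hp _ hm'
    by_cases hi : i = i0
    · subst hi
      right
      have := hle i
      simp only [Finsupp.single_eq_same, Finsupp.coe_add, Pi.add_apply] at this
      omega
    · left
      have := hle i
      simp only [Finsupp.single_eq_same, Finsupp.coe_add, Pi.add_apply,
        Finsupp.single_apply, if_neg (Ne.symm hi), add_zero] at this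
      exact monomial_mem_truncIdeal n m _ i this
  refine ⟨∑ m ∈ f.support, if n - 1 ≤ m i0 then
    Ideal.Quotient.mk (truncIdeal n) (monomial (m - Finsupp.single i0 (n - 1)) (coeff m f)) else 0, ?_⟩
  conv_lhs => rw [← support_sum_monomial_coeff f]
  rw [map_sum, Finset.mul_sum]
  refine Finset.sum_congr rfl fun m hm => ?_
  by_cases hm0 : n - 1 ≤ m i0
  · have hm_eq : Finsupp.single i0 (n - 1) + (m - Finsupp.single i0 (n - 1)) = m := by
      ext j
      by_cases hj : j = i0
      · subst hj; simp; omega
      · simp [Finsupp.single_apply, Ne.symm hj]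
    rw [if_pos hm0, ← map_pow, ← map_mul, X_pow_eq_monomial, monomial_mul, one_mul, hm_eq]
  · rw [if_neg hm0, mul_zero, Ideal.Quotient.eq_zero_iff_mem]
    exact (key m hm).resolve_right hm0

end Groth.Agent.Lib.Helper93.QsA
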