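import Groth.Agent.Lib.Helper93.QsA

set_option autoImplicit false

namespace Groth.Agent.Lib.Helper93.QsB

open MvPolynomial QsChow
open Groth.Agent.Lib.Helper93

theorem eps_eq (n : ℕ) (i : Fin (numVars n)) :
    eps n (i.val + 1) = Ideal.Quotient.mk (truncIdeal n) (X i) := by
  unfold eps
  rw [dif_pos ⟨Nat.succ_pos _, i.isLt⟩]
  rfl

theorem genImage_some (n : ℕ) (i : Fin (numVars n)) :
    genImage n (some i) = if i.val = 0 then eps n 1
      else if i.val = 1 then eps n 2 ^ 2 + eps n 1 * eps n 2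
      else eps n (i.val + 1) + eps n 1 ^ (2 * (i.val + 1) - 4) * eps n 2 := rfl

theorem add_self (n : ℕ) (p : P n) : p + p = 0 := by
  have h : p + p = ((1 : ZMod 2) + 1) • p := by rw [add_smul, one_smul]
  rw [h, show ((1 : ZMod 2) + 1) = 0 from by decide, zero_smul]

theorem main (n : ℕ) (hn : 2 ≤ n)
    (τ : QsChow.P n →ₐ[ZMod 2] QsChow.P n) (hτ1 : τ (QsChow.eps n 1) = QsChow.eps n 1)
    (hτ : ∀ j : ℕ, 2 ≤ j → j ≤ QsChow.numVars n →
      τ (QsChow.eps n j) = QsChow.eps n j + QsChow.eps n 1 ^ (2 * j - 3)) :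
    (QsChow.phi n).range = AlgHom.equalizer τ (AlgHom.id (ZMod 2) (QsChow.P n)) := by
  have hs : 2 ≤ numVars n := by unfold numVars; omega
  set i0 : Fin (numVars n) := ⟨0, by omega⟩ with hi0
  set i1 : Fin (numVars n) := ⟨1, by omega⟩ with hi1
  set t : P n := eps n 1 with ht
  set y : P n := eps n 2 with hy
  have ht_mk : t = Ideal.Quotient.mk (truncIdeal n) (X i0) := eps_eq n i0
  have hy_mk : y = Ideal.Quotient.mk (truncIdeal n) (X i1) := eps_eq n i1
  have h2 : ∀ p : P n, p + p = 0 := add_self n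
  have htn : t ^ n = 0 := by
    rw [ht_mk, ← map_pow, Ideal.Quotient.eq_zero_iff_mem]
    refine Ideal.subset_span ⟨i0, ?_⟩
    simp [bound, hi0]
  have hτy : τ y = y + t := by
    have := hτ 2 le_rfl hs
    rw [show 2 * 2 - 3 = 1 from rfl, pow_one] at this
    exact this
  -- values of genImage
  have hg_none : genImage n none = t ^ (n - 1) * y := rfl
  have hg0 : genImage n (some i0) = t := by
    rw [genImage_some, if_pos rfl]
  have hg1 : genImage n (some i1) = y ^ 2 + t * y := by
    rw [genImage_some, if_neg (by simp [hi1]), if_pos rfl]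
  have hgi : ∀ i : Fin (numVars n), 2 ≤ i.val →
      genImage n (some i) = eps n (i.val + 1) + t ^ (2 * (i.val + 1) - 4) * y := by
    intro i hi
    rw [genImage_some, if_neg (by omega), if_neg (by omega)]
  have hmem_gen : ∀ o, genImage n o ∈ (phi n).range := fun o => ⟨X o, aeval_X _ _⟩
  have hfix_iff : ∀ p, p ∈ AlgHom.equalizer τ (AlgHom.id (ZMod 2) (P n)) ↔ τ p = p :=
    fun p => AlgHom.mem_equalizer _ _ _
  have hgen_fixed : ∀ o, τ (genImage n o) = genImage n o := by
    intro o
    cases o with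
    | none =>
      rw [hg_none, map_mul, map_pow, hτ1, hτy, mul_add, ← pow_succ, Nat.sub_add_cancel (by omega),
        htn, add_zero]
    | some i =>
      by_cases h0 : i.val = 0
      · have : i = i0 := Fin.ext h0
        rw [this, hg0]; exact hτ1
      · by_cases h1 : i.val = 1
        · have : i = i1 := Fin.ext h1
          rw [this, hg1, map_add, map_pow, map_mul, hτ1, hτy]
          have : (y + t) ^ 2 + t * (y + t) = y ^ 2 + t * y + ((y * t + t * t) + (y * t + t * t)) := by
            ring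
          rw [this, h2, add_zero]
        · have hi : 2 ≤ i.val := by omega
          rw [hgi i hi, map_add, map_mul, map_pow, hτ1, hτy, hτ (i.val + 1) (by omega) i.isLt]
          have e1 : 2 * (i.val + 1) - 3 = (2 * (i.val + 1) - 4) + 1 := by omega
          rw [e1, pow_succ]
          have : eps n (i.val + 1) + t ^ (2 * (i.val + 1) - 4) * t +
              t ^ (2 * (i.val + 1) - 4) * (y + t) =
              eps n (i.val + 1) + t ^ (2 * (i.val + 1) - 4) * y +
              (t ^ (2 * (i.val + 1) - 4) * t + t ^ (2 * (i.val + 1) - 4) * t) := by ring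
          rw [this, h2, add_zero]
  have hle : (phi n).range ≤ AlgHom.equalizer τ (AlgHom.id (ZMod 2) (P n)) := by
    rw [phi, ← Algebra.adjoin_range_eq_range_aeval]
    refine Algebra.adjoin_le ?_
    rintro _ ⟨o, rfl⟩
    exact (hfix_iff _).2 (hgen_fixed o)
  refine le_antisymm hle ?_
  -- notation
  set e : P n := y ^ 2 + t * y with he
  have he_mem : e ∈ (phi n).range := by rw [← hg1]; exact hmem_gen _
  have ht_mem : t ∈ (phi n).range := by rw [← hg0]; exact hmem_gen _
  have hx_mem : t ^ (n - 1) * y ∈ (phi n).range := by rw [← hg_none]; exact hmem_gen _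
  have hyy : y * y = e + t * y := by
    rw [he, add_assoc, h2, add_zero, sq]
  -- every element is α + β y
  have hT_mul : ∀ p q : P n,
      (∃ α β, α ∈ (phi n).range ∧ β ∈ (phi n).range ∧ p = α + β * y) →
      (∃ α β, α ∈ (phi n).range ∧ β ∈ (phi n).range ∧ q = α + β * y) →
      ∃ α β, α ∈ (phi n).range ∧ β ∈ (phi n).range ∧ p * q = α + β * y := by
    rintro p q ⟨α, β, hα, hβ, rfl⟩ ⟨α', β', hα', hβ', rfl⟩
    refine ⟨α * α' + β * β' * e, α * β' + β * α' + β * β' * t,
      add_mem (mul_mem hα hα') (mul_mem (mul_mem hβ hβ') he_mem),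
      add_mem (add_mem (mul_mem hα hβ') (mul_mem hβ hα')) (mul_mem (mul_mem hβ hβ') ht_mem), ?_⟩
    have : (α + β * y) * (α' + β' * y) = α * α' + (α * β' + β * α') * y + β * β' * (y * y) := by
      ring
    rw [this, hyy]; ring
  have hT_X : ∀ i : Fin (numVars n), ∃ α β, α ∈ (phi n).range ∧ β ∈ (phi n).range ∧
      Ideal.Quotient.mk (truncIdeal n) (X i) = α + β * y := by
    intro i
    by_cases h0 : i.val = 0
    · have : i = i0 := Fin.ext h0
      exact ⟨t, 0, ht_mem, zero_mem _, by rw [this, ← ht_mk, zero_mul, add_zero]⟩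
    · by_cases h1 : i.val = 1
      · have : i = i1 := Fin.ext h1
        exact ⟨0, 1, zero_mem _, one_mem _, by rw [this, ← hy_mk, one_mul, zero_add]⟩
      · have hi : 2 ≤ i.val := by omega
        refine ⟨genImage n (some i), t ^ (2 * (i.val + 1) - 4), hmem_gen _, pow_mem ht_mem _, ?_⟩
        rw [hgi i hi, add_assoc, h2, add_zero, eps_eq]
  have hT : ∀ p : P n, ∃ α β, α ∈ (phi n).range ∧ β ∈ (phi n).range ∧ p = α + β * y := by
    intro p
    obtain ⟨f, rfl⟩ := Ideal.Quotient.mk_surjective p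
    induction f using MvPolynomial.induction_on with
    | C a =>
      refine ⟨Ideal.Quotient.mk (truncIdeal n) (C a), 0, ?_, zero_mem _, by rw [zero_mul, add_zero]⟩
      exact (phi n).range.algebraMap_mem a
    | add f g hf hg =>
      obtain ⟨α, β, hα, hβ, h⟩ := hf
      obtain ⟨α', β', hα', hβ', h'⟩ := hg
      exact ⟨α + α', β + β', add_mem hα hα', add_mem hβ hβ', by rw [map_add, h, h']; ring⟩
    | mul_X f i hf =>
      rw [map_mul]
      exact hT_mul _ _ hf (hT_X i)
  intro p hp
  rw [hfix_iff] at hp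
  obtain ⟨α, β, hα, hβ, rfl⟩ := hT p
  have hτα : τ α = α := (hfix_iff α).1 (hle hα)
  have hτβ : τ β = β := (hfix_iff β).1 (hle hβ)
  rw [map_add, map_mul, hτα, hτβ, hτy, mul_add, ← add_assoc] at hp
  have hβt : Ideal.Quotient.mk (truncIdeal n) (X i0) * β = 0 := by
    rw [← ht_mk, mul_comm]
    have : (α + β * y) + (α + β * y + β * t) = (α + β * y) + (α + β * y) := by rw [hp]
    rw [h2, ← add_assoc, h2, zero_add] at this
    exact this
  obtain ⟨p', hp'⟩ := QsA.exists_eq_pow_mul n (by omega) i0 rfl β hβt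
  rw [← ht_mk] at hp'
  obtain ⟨α', β', hα', hβ', rfl⟩ := hT p'
  have hfinal : α + β * y = α + (α' * (t ^ (n - 1) * y) + β' * (t ^ (n - 1) * e)) := by
    rw [hp']
    have : t ^ (n - 1) * (α' + β' * y) * y =
        α' * (t ^ (n - 1) * y) + β' * (t ^ (n - 1) * (y * y)) := by ring
    rw [this, hyy, mul_add, ← mul_assoc (t ^ (n - 1)) t y, ← pow_succ,
      Nat.sub_add_cancel (by omega), htn, zero_mul, add_zero]
  rw [hfinal]
  exact add_mem hα (add_mem (mul_mem hα' hx_mem) (mul_mem hβ' (mul_mem (pow_mem ht_mem _) he_mem)))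

end Groth.Agent.Lib.Helper93.QsB
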