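import Groth.Agent.Lib.Helper93.QsB

set_option autoImplicit false

namespace Groth.Agent.Lib.Helper93.QsC

open MvPolynomial QsChow
open Groth.Agent.Lib.Helper93

section Char2

variable {A : Type*} [CommRing A] (h2 : ∀ p : A, p + p = 0)
include h2

theorem add_sq' (a b : A) : (a + b) ^ 2 = a ^ 2 + b ^ 2 := by
  have : (a + b) ^ 2 = a ^ 2 + b ^ 2 + (a * b + a * b) := by ring
  rw [this, h2, add_zero]

theorem add_pow_two_pow (a b : A) (k : ℕ) : (a + b) ^ 2 ^ k = a ^ 2 ^ k + b ^ 2 ^ k := by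
  induction k with
  | zero => simp
  | succ k ih => rw [pow_succ, pow_mul, ih, add_sq' h2, ← pow_mul, ← pow_mul]

theorem sum_sq' {ι : Type*} (s : Finset ι) (f : ι → A) :
    (∑ i ∈ s, f i) ^ 2 = ∑ i ∈ s, f i ^ 2 := by
  classical
  induction s using Finset.induction_on with
  | empty => simp
  | insert a s ha ih => rw [Finset.sum_insert ha, Finset.sum_insert ha, add_sq' h2, ih]

/-- the power `y^(2^k)` in terms of `e = y^2 + t y` -/
theorem pow_two_pow_eq (t y : A) (k : ℕ) :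
    y ^ 2 ^ k = ∑ u ∈ Finset.range k, t ^ (2 ^ k - 2 ^ (u + 1)) * (y ^ 2 + t * y) ^ 2 ^ u +
      t ^ (2 ^ k - 1) * y := by
  induction k with
  | zero => simp
  | succ k ih =>
    have hyy : y ^ 2 = (y ^ 2 + t * y) + t * y := by rw [add_assoc, h2, add_zero]
    rw [pow_succ, pow_mul, ih, add_sq' h2, sum_sq' h2, Finset.sum_range_succ']
    have h1 : ∀ u ∈ Finset.range k, (t ^ (2 ^ k - 2 ^ (u + 1)) * (y ^ 2 + t * y) ^ 2 ^ u) ^ 2 =
        t ^ (2 ^ k * 2 - 2 ^ (u + 1 + 1)) * (y ^ 2 + t * y) ^ 2 ^ (u + 1) := by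
      intro u _
      rw [mul_pow, ← pow_mul, ← pow_mul, Nat.sub_mul, pow_succ 2 (u + 1), pow_succ 2 u]
    rw [Finset.sum_congr rfl h1, mul_pow, ← pow_mul, Nat.sub_mul, one_mul]
    have h3 : 2 ^ k * 2 - 2 = (2 ^ k * 2 - 2 ^ (0 + 1)) := by norm_num
    have h4 : 2 ^ k * 2 - 1 = (2 ^ k * 2 - 2) + 1 := by
      have : 1 ≤ 2 ^ k := Nat.one_le_two_pow
      omega
    rw [add_assoc]
    congr 1
    rw [h4, pow_succ t, ← h3, pow_zero, pow_one]
    conv_lhs => rw [hyy]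
    ring

end Char2

theorem klog_spec (n j : ℕ) (hn : 2 ≤ n) (hj : 2 ≤ j) (_hjs : j ≤ numVars n) :
    n ≤ (2 * j - 3) * 2 ^ klog n j := by
  unfold klog
  set d := 2 * j - 3 with hd
  have hd1 : 1 ≤ d := by omega
  set q := (2 * n - 1) / d with hq
  have h1 : q < 2 ^ (Nat.log 2 q + 1) := Nat.lt_pow_succ_log_self (by norm_num) q
  have h2 : 2 * n - 1 < d * (q + 1) := by
    rw [hq]
    exact Nat.lt_mul_div_succ _ (by omega)
  have h3 : d * (q + 1) ≤ d * 2 ^ (Nat.log 2 q + 1) := Nat.mul_le_mul_left _ h1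
  have h4 : 2 * n - 1 < d * 2 ^ (Nat.log 2 q + 1) := lt_of_lt_of_le h2 h3
  rw [pow_succ, ← mul_assoc] at h4
  omega

end Groth.Agent.Lib.Helper93.QsC
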