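import Groth.Agent.Lib.Helper93.QsC

set_option autoImplicit false

namespace Groth.Agent.Lib.Helper93.QsD

open MvPolynomial QsChow
open Groth.Agent.Lib.Helper93

/-- `ε₁` -/
noncomputable def tt (n : ℕ) : P n := eps n 1
/-- `ε₂` -/
noncomputable def yy (n : ℕ) : P n := eps n 2
/-- `ε₂² + ε₁ ε₂` -/
noncomputable def ee (n : ℕ) : P n := yy n ^ 2 + tt n * yy n
/-- the image of `e_(i+1)` -/
noncomputable def zz (n : ℕ) (i : Fin (numVars n)) : P n := genImage n (some i)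

theorem h2 (n : ℕ) : ∀ p : P n, p + p = 0 := QsB.add_self n

theorem numVars_ge (n : ℕ) (hn : 2 ≤ n) : 2 ≤ numVars n := by unfold numVars; omega

theorem mk_X (n : ℕ) (i : Fin (numVars n)) :
    Ideal.Quotient.mk (truncIdeal n) (X i) = eps n (i.val + 1) := (QsB.eps_eq n i).symm

theorem mk_X_pow_bound (n : ℕ) (i : Fin (numVars n)) :
    Ideal.Quotient.mk (truncIdeal n) (X i) ^ bound n i = 0 := by
  rw [← map_pow, Ideal.Quotient.eq_zero_iff_mem]
  exact Ideal.subset_span ⟨i, rfl⟩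

theorem tt_pow (n : ℕ) (hn : 2 ≤ n) : tt n ^ n = 0 := by
  have hs := numVars_ge n hn
  have := mk_X_pow_bound n ⟨0, by omega⟩
  rw [mk_X] at this
  simpa [bound, tt] using this

theorem tt_pow_of_le (n : ℕ) (hn : 2 ≤ n) (a : ℕ) (ha : n ≤ a) : tt n ^ a = 0 := by
  obtain ⟨b, rfl⟩ := Nat.exists_eq_add_of_le ha
  rw [pow_add, tt_pow n hn, zero_mul]

theorem yy_pow (n : ℕ) (hn : 2 ≤ n) : yy n ^ 2 ^ klog n 2 = 0 := by
  have hs := numVars_ge n hn
  have := mk_X_pow_bound n ⟨1, by omega⟩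
  rw [mk_X] at this
  simpa [bound, yy] using this

theorem eps_pow (n : ℕ) (i : Fin (numVars n)) (hi : 2 ≤ i.val) :
    eps n (i.val + 1) ^ 2 ^ klog n (i.val + 1) = 0 := by
  have := mk_X_pow_bound n i
  rw [mk_X] at this
  have hb : bound n i = 2 ^ klog n (i.val + 1) := by
    unfold bound; rw [if_neg (by omega)]
  rwa [hb] at this

theorem zz_zero (n : ℕ) (i : Fin (numVars n)) (hi : i.val = 0) : zz n i = tt n := by
  unfold zz; rw [QsB.genImage_some, if_pos hi]; rfl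

theorem zz_one (n : ℕ) (i : Fin (numVars n)) (hi : i.val = 1) : zz n i = ee n := by
  unfold zz; rw [QsB.genImage_some, if_neg (by omega), if_pos hi]; rfl

theorem zz_ge (n : ℕ) (i : Fin (numVars n)) (hi : 2 ≤ i.val) :
    zz n i = eps n (i.val + 1) + tt n ^ (2 * (i.val + 1) - 4) * yy n := by
  unfold zz; rw [QsB.genImage_some, if_neg (by omega), if_neg (by omega)]; rfl

theorem eps_eq_zz (n : ℕ) (i : Fin (numVars n)) (hi : 2 ≤ i.val) :
    eps n (i.val + 1) = zz n i + tt n ^ (2 * (i.val + 1) - 4) * yy n := by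
  rw [zz_ge n i hi, add_assoc, h2, add_zero]

theorem yy_sq (n : ℕ) : yy n * yy n = ee n + tt n * yy n := by
  unfold ee; rw [add_assoc, h2, add_zero, sq]

/-- the sum `S_k(t, e)` -/
noncomputable def SS (n k : ℕ) : P n :=
  ∑ u ∈ Finset.range k, tt n ^ (2 ^ k - 2 ^ (u + 1)) * ee n ^ 2 ^ u

theorem yy_pow_two_pow (n k : ℕ) : yy n ^ 2 ^ k = SS n k + tt n ^ (2 ^ k - 1) * yy n :=
  QsC.pow_two_pow_eq (h2 n) (tt n) (yy n) k

theorem zz_pow (n : ℕ) (i : Fin (numVars n)) (hi : 2 ≤ i.val) :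
    zz n i ^ 2 ^ klog n (i.val + 1) =
      tt n ^ ((2 * (i.val + 1) - 4) * 2 ^ klog n (i.val + 1)) * yy n ^ 2 ^ klog n (i.val + 1) := by
  rw [zz_ge n i hi, QsC.add_pow_two_pow (h2 n), eps_pow n i hi, zero_add, mul_pow, ← pow_mul]

theorem klog_two_pos (n : ℕ) (hn : 2 ≤ n) : 1 ≤ klog n 2 := by
  unfold klog
  have : 2 ≤ (2 * n - 1) / (2 * 2 - 3) := by norm_num; omega
  exact Nat.log_pos (by norm_num) this

/-- `e^(2^(k₂-1))` in lower terms -/
theorem ee_pow (n : ℕ) (hn : 2 ≤ n) :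
    ee n ^ 2 ^ (klog n 2 - 1) = ∑ u ∈ Finset.range (klog n 2 - 1),
      tt n ^ (2 ^ klog n 2 - 2 ^ (u + 1)) * ee n ^ 2 ^ u + tt n ^ (2 ^ klog n 2 - 1) * yy n := by
  have hk := klog_two_pos n hn
  have h := yy_pow_two_pow n (klog n 2)
  rw [yy_pow n hn, SS] at h
  obtain ⟨k, hk'⟩ : ∃ k, klog n 2 = k + 1 := ⟨klog n 2 - 1, by omega⟩
  rw [hk'] at h ⊢
  rw [Finset.sum_range_succ, Nat.sub_self, pow_zero, one_mul] at h
  rw [Nat.add_sub_cancel]
  have h' := congrArg (fun w => w + ee n ^ 2 ^ k) h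
  simp only [zero_add] at h'
  rw [h']
  have : ∀ a b c : P n, a + b + c + b = a + c := by
    intro a b c
    have : a + b + c + b = a + c + (b + b) := by ring
    rw [this, h2, add_zero]
  rw [this]

end Groth.Agent.Lib.Helper93.QsD
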