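import Groth.Agent.Lib.Helper93.QsD

set_option autoImplicit false

namespace Groth.Agent.Lib.Helper93.QsE

open MvPolynomial QsChow
open Groth.Agent.Lib.Helper93 Groth.Agent.Lib.Helper93.QsD

/-- indices of the variables `ε_j`, `j ≥ 3` -/
abbrev I2 (n : ℕ) : Type := {i : Fin (numVars n) // 2 ≤ i.val}

/-- two-variable generators -/
noncomputable def gU (n : ℕ) (a b d : ℕ) : P n := tt n ^ a * ee n ^ b * yy n ^ d

def SU (n : ℕ) : Set (P n) :=
  {p | ∃ a b d : ℕ, b < 2 ^ (klog n 2 - 1) ∧ d < 2 ∧ p = gU n a b d}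

noncomputable def U (n : ℕ) : Submodule (ZMod 2) (P n) := Submodule.span _ (SU n)

theorem gU_mem (n : ℕ) (a b d : ℕ) (hb : b < 2 ^ (klog n 2 - 1)) (hd : d < 2) : gU n a b d ∈ U n :=
  Submodule.subset_span ⟨a, b, d, hb, hd, rfl⟩

theorem U_mul_t (n : ℕ) (u : P n) (hu : u ∈ U n) : tt n * u ∈ U n := by
  unfold U at hu ⊢
  induction hu using Submodule.span_induction with
  | mem x hx =>
    obtain ⟨a, b, d, hb, hd, rfl⟩ := hx
    have : tt n * gU n a b d = gU n (a + 1) b d := by unfold gU; ring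
    rw [this]
    exact gU_mem n _ _ _ hb hd
  | zero => rw [mul_zero]; exact zero_mem _
  | add x y _ _ hx hy => rw [mul_add]; exact add_mem hx hy
  | smul c x _ hx => rw [mul_smul_comm]; exact Submodule.smul_mem _ _ hx

theorem U_mul_y (n : ℕ) (hn : 2 ≤ n) (u : P n) (hu : u ∈ U n) : yy n * u ∈ U n := by
  unfold U at hu ⊢
  induction hu using Submodule.span_induction with
  | mem x hx =>
    obtain ⟨a, b, d, hb, hd, rfl⟩ := hx
    have hd' : d = 0 ∨ d = 1 := by omega
    rcases hd' with rfl | rfl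
    · have : yy n * gU n a b 0 = gU n a b 1 := by unfold gU; ring
      rw [this]
      exact gU_mem n _ _ _ hb (by norm_num)
    · have h1 : yy n * gU n a b 1 = tt n ^ a * ee n ^ (b + 1) + gU n (a + 1) b 1 := by
        unfold gU
        have : yy n * (tt n ^ a * ee n ^ b * yy n ^ 1) = tt n ^ a * ee n ^ b * (yy n * yy n) := by
          ring
        rw [this, yy_sq]; ring
      rw [h1]
      refine add_mem ?_ (gU_mem n _ _ _ hb (by norm_num))
      by_cases hb1 : b + 1 < 2 ^ (klog n 2 - 1)
      · have : tt n ^ a * ee n ^ (b + 1) = gU n a (b + 1) 0 := by unfold gU; ring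
        rw [this]
        exact gU_mem n _ _ _ hb1 (by norm_num)
      · have hb2 : b + 1 = 2 ^ (klog n 2 - 1) := by omega
        rw [hb2, ee_pow n hn, mul_add, Finset.mul_sum]
        refine add_mem (Submodule.sum_mem _ fun u hu => ?_) ?_
        · have : tt n ^ a * (tt n ^ (2 ^ klog n 2 - 2 ^ (u + 1)) * ee n ^ 2 ^ u) =
              gU n (a + (2 ^ klog n 2 - 2 ^ (u + 1))) (2 ^ u) 0 := by unfold gU; ring
          rw [this]
          refine gU_mem n _ _ _ ?_ (by norm_num)
          rw [Finset.mem_range] at hu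
          exact Nat.pow_lt_pow_right (by norm_num) hu
        · have : tt n ^ a * (tt n ^ (2 ^ klog n 2 - 1) * yy n) =
              gU n (a + (2 ^ klog n 2 - 1)) 0 1 := by unfold gU; ring
          rw [this]
          exact gU_mem n _ _ _ (Nat.two_pow_pos _) (by norm_num)
  | zero => rw [mul_zero]; exact zero_mem _
  | add x y _ _ hx hy => rw [mul_add]; exact add_mem hx hy
  | smul c x _ hx => rw [mul_smul_comm]; exact Submodule.smul_mem _ _ hx

theorem U_mul_pow (n : ℕ) (hn : 2 ≤ n) (a b : ℕ) (u : P n) (hu : u ∈ U n) :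
    tt n ^ a * yy n ^ b * u ∈ U n := by
  induction a with
  | zero =>
    induction b with
    | zero => simpa using hu
    | succ b ih =>
      have : tt n ^ 0 * yy n ^ (b + 1) * u = yy n * (tt n ^ 0 * yy n ^ b * u) := by ring
      rw [this]; exact U_mul_y n hn _ ih
  | succ a ih =>
    have : tt n ^ (a + 1) * yy n ^ b * u = tt n * (tt n ^ a * yy n ^ b * u) := by ring
    rw [this]; exact U_mul_t n _ ih


/-- monomials in the `z_i`, `i ≥ 2` -/
noncomputable def Z (n : ℕ) (c : I2 n → ℕ) : P n := ∏ i : I2 n, zz n i.1 ^ c i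

def SV (n : ℕ) : Set (P n) :=
  {p | ∃ c : I2 n → ℕ, (∀ i, c i < 2 ^ klog n (i.1.val + 1)) ∧ p = Z n c}

noncomputable def V (n : ℕ) : Submodule (ZMod 2) (P n) := Submodule.span _ (SV n)

theorem Z_update (n : ℕ) (c : I2 n → ℕ) (i : I2 n) (m : ℕ) :
    Z n (Function.update c i m) =
      zz n i.1 ^ m * ∏ j ∈ Finset.univ.erase i, zz n j.1 ^ c j := by
  classical
  unfold Z
  rw [← Finset.mul_prod_erase Finset.univ _ (Finset.mem_univ i), Function.update_self]
  congr 1
  refine Finset.prod_congr rfl fun j hj => ?_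
  rw [Function.update_of_ne (Finset.ne_of_mem_erase hj)]

theorem Z_eq (n : ℕ) (c : I2 n → ℕ) (i : I2 n) :
    Z n c = zz n i.1 ^ c i * ∏ j ∈ Finset.univ.erase i, zz n j.1 ^ c j := by
  classical
  conv_lhs => rw [← Function.update_eq_self i c]
  exact Z_update n c i (c i)

/-- the total space -/
noncomputable def W (n : ℕ) : Submodule (ZMod 2) (P n) := U n * V n

theorem W_mul_U (n : ℕ) (r : P n) (hr : ∀ u ∈ U n, r * u ∈ U n) (w : P n) (hw : w ∈ W n) :
    r * w ∈ W n := by
  unfold W at hw ⊢
  refine Submodule.mul_induction_on hw ?_ ?_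
  · intro u hu v hv
    rw [← mul_assoc]
    exact Submodule.mul_mem_mul (hr u hu) hv
  · intro x y hx hy
    rw [mul_add]; exact add_mem hx hy

theorem W_mul_z (n : ℕ) (hn : 2 ≤ n) (i : I2 n) (w : P n) (hw : w ∈ W n) :
    zz n i.1 * w ∈ W n := by
  classical
  unfold W at hw ⊢
  refine Submodule.mul_induction_on hw ?_ ?_
  · intro u hu v hv
    unfold V at hv
    induction hv using Submodule.span_induction with
    | mem x hx =>
      obtain ⟨c, hc, rfl⟩ := hx
      have h1 : zz n i.1 * (u * Z n c) = u * Z n (Function.update c i (c i + 1)) := by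
        rw [Z_update, Z_eq n c i, pow_succ]; ring
      rw [h1]
      by_cases hci : c i + 1 < 2 ^ klog n (i.1.val + 1)
      · refine Submodule.mul_mem_mul hu (Submodule.subset_span ⟨_, ?_, rfl⟩)
        intro j
        by_cases hj : j = i
        · subst hj; rw [Function.update_self]; exact hci
        · rw [Function.update_of_ne hj]; exact hc j
      · have hci' : c i + 1 = 2 ^ klog n (i.1.val + 1) := by have := hc i; omega
        have h2' : u * Z n (Function.update c i (c i + 1)) =
            (tt n ^ ((2 * (i.1.val + 1) - 4) * 2 ^ klog n (i.1.val + 1)) *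
              yy n ^ 2 ^ klog n (i.1.val + 1) * u) * Z n (Function.update c i 0) := by
          rw [Z_update, Z_update, hci', zz_pow n i.1 i.2, pow_zero]; ring
        rw [h2']
        refine Submodule.mul_mem_mul (U_mul_pow n hn _ _ u hu) (Submodule.subset_span ⟨_, ?_, rfl⟩)
        intro j
        by_cases hj : j = i
        · subst hj; rw [Function.update_self]; exact Nat.two_pow_pos _
        · rw [Function.update_of_ne hj]; exact hc j
    | zero => rw [mul_zero, mul_zero]; exact zero_mem _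
    | add x y _ _ hx hy => rw [mul_add, mul_add]; exact add_mem hx hy
    | smul a x _ hx => rw [mul_smul_comm, mul_smul_comm]; exact Submodule.smul_mem _ _ hx
  · intro x y hx hy
    rw [mul_add]; exact add_mem hx hy

theorem one_mem_W (n : ℕ) : (1 : P n) ∈ W n := by
  have h1 : (1 : P n) = gU n 0 0 0 * Z n (fun _ => 0) := by
    unfold gU Z; simp
  rw [h1]
  exact Submodule.mul_mem_mul (gU_mem n 0 0 0 (Nat.two_pow_pos _) (by norm_num))
    (Submodule.subset_span ⟨_, fun i => Nat.two_pow_pos _, rfl⟩)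

theorem W_eq_top (n : ℕ) (hn : 2 ≤ n) : W n = ⊤ := by
  rw [eq_top_iff]
  intro p _
  revert p
  suffices h : ∀ p : P n, p ∈ W n from fun p _ => h p
  intro p
  have hs := numVars_ge n hn
  have hX : ∀ (i : Fin (numVars n)) (w : P n), w ∈ W n →
      Ideal.Quotient.mk (truncIdeal n) (X i) * w ∈ W n := by
    intro i w hw
    by_cases h0 : i.val = 0
    · have : Ideal.Quotient.mk (truncIdeal n) (X i) = tt n := by rw [mk_X, h0]; rfl
      rw [this]
      exact W_mul_U n _ (U_mul_t n) w hw
    · by_cases h1 : i.val = 1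
      · have : Ideal.Quotient.mk (truncIdeal n) (X i) = yy n := by rw [mk_X, h1]; rfl
        rw [this]
        exact W_mul_U n _ (U_mul_y n hn) w hw
      · have hi : 2 ≤ i.val := by omega
        rw [mk_X, eps_eq_zz n i hi, add_mul]
        refine add_mem (W_mul_z n hn ⟨i, hi⟩ w hw) ?_
        refine W_mul_U n _ (fun u hu => ?_) w hw
        have := U_mul_pow n hn (2 * (i.val + 1) - 4) 1 u hu
        rwa [pow_one] at this
  obtain ⟨f, rfl⟩ := Ideal.Quotient.mk_surjective p
  induction f using MvPolynomial.induction_on with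
  | C a =>
    have : Ideal.Quotient.mk (truncIdeal n) (C a) = a • (1 : P n) := by
      rw [show (C a : FreeP n) = a • (1 : FreeP n) from by rw [MvPolynomial.smul_eq_C_mul, mul_one]]
      rfl
    rw [this]
    exact Submodule.smul_mem _ _ (one_mem_W n)
  | add f g hf hg => rw [map_add]; exact add_mem hf hg
  | mul_X f i hf =>
    rw [map_mul, mul_comm]
    exact hX i _ hf


/-- the index type of the basis -/
abbrev J' (n : ℕ) : Type :=
  Fin n × Fin (2 ^ (klog n 2 - 1)) × Fin 2 × ((i : I2 n) → Fin (2 ^ klog n (i.1.val + 1)))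

/-- the adapted basis of `P n` -/
noncomputable def Xi (n : ℕ) (j : J' n) : P n :=
  gU n j.1 j.2.1 j.2.2.1 * Z n (fun i => (j.2.2.2 i).val)

theorem span_Xi (n : ℕ) (hn : 2 ≤ n) : ⊤ ≤ Submodule.span (ZMod 2) (Set.range (Xi n)) := by
  rw [← W_eq_top n hn, W, U, V, Submodule.span_mul_span, Submodule.span_le]
  rintro _ ⟨_, ⟨a, b, d, hb, hd, rfl⟩, _, ⟨c, hc, rfl⟩, rfl⟩
  by_cases ha : a < n
  · exact Submodule.subset_span ⟨(⟨a, ha⟩, ⟨b, hb⟩, ⟨d, hd⟩, fun i => ⟨c i, hc i⟩), rfl⟩
  · have : gU n a b d = 0 := by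
      unfold gU; rw [tt_pow_of_le n hn a (by omega), zero_mul, zero_mul]
    simp only [this, zero_mul]
    exact zero_mem _

/-- exponent vector -/
noncomputable def ev (n : ℕ) (j : J' n) : Fin (numVars n) →₀ ℕ :=
  Finsupp.equivFunOnFinite.symm (fun i =>
    if h0 : i.val = 0 then (j.1 : ℕ) else if h1 : i.val = 1 then 2 * (j.2.1 : ℕ) + (j.2.2.1 : ℕ)
    else ((j.2.2.2 ⟨i, by omega⟩ : Fin _) : ℕ))

theorem ev_apply (n : ℕ) (j : J' n) (i : Fin (numVars n)) :
    ev n j i = if h0 : i.val = 0 then (j.1 : ℕ) else if h1 : i.val = 1 then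
      2 * (j.2.1 : ℕ) + (j.2.2.1 : ℕ) else ((j.2.2.2 ⟨i, by omega⟩ : Fin _) : ℕ) := rfl

theorem ev_lt (n : ℕ) (hn : 2 ≤ n) (j : J' n) (i : Fin (numVars n)) : ev n j i < bound n i := by
  rw [ev_apply]
  unfold bound
  by_cases h0 : i.val = 0
  · rw [dif_pos h0, if_pos h0]; exact j.1.isLt
  · rw [dif_neg h0, if_neg h0]
    by_cases h1 : i.val = 1
    · rw [dif_pos h1, h1]
      have hk := klog_two_pos n hn
      have h2 : (2 : ℕ) ^ klog n 2 = 2 * 2 ^ (klog n 2 - 1) := by
        rw [← pow_succ']; congr 1; omega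
      show _ < 2 ^ klog n 2
      rw [h2]
      have := j.2.1.isLt
      have := j.2.2.1.isLt
      omega
    · rw [dif_neg h1]
      exact (j.2.2.2 ⟨i, by omega⟩).isLt

theorem ev_injective (n : ℕ) (hn : 2 ≤ n) : Function.Injective (ev n) := by
  have hs := numVars_ge n hn
  intro j j' h
  have h0 := DFunLike.congr_fun h (⟨0, by omega⟩ : Fin (numVars n))
  have h1 := DFunLike.congr_fun h (⟨1, by omega⟩ : Fin (numVars n))
  simp [ev_apply] at h0 h1
  have hd := j.2.2.1.isLt
  have hd' := j'.2.2.1.isLt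
  refine Prod.ext (Fin.ext h0) (Prod.ext (Fin.ext (by omega)) (Prod.ext (Fin.ext (by omega)) ?_))
  funext i
  have hi := DFunLike.congr_fun h i.1
  rw [ev_apply, ev_apply, dif_neg (by have := i.2; omega), dif_neg (by have := i.2; omega),
    dif_neg (by have := i.2; omega), dif_neg (by have := i.2; omega)] at hi
  exact Fin.ext hi

/-- reduced monomials -/
noncomputable def mono (n : ℕ) (j : J' n) : P n :=
  Ideal.Quotient.mk (truncIdeal n) (monomial (ev n j) 1)

theorem mono_indep (n : ℕ) (hn : 2 ≤ n) : LinearIndependent (ZMod 2) (mono n) := by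
  classical
  rw [Fintype.linearIndependent_iff]
  intro g hg j₀
  by_contra hne
  have h1 : ∑ j, g j • mono n j =
      Ideal.Quotient.mk (truncIdeal n) (∑ j, monomial (ev n j) (g j)) := by
    rw [map_sum]
    refine Finset.sum_congr rfl fun j _ => ?_
    unfold mono
    rw [show monomial (ev n j) (g j) = g j • (monomial (ev n j) (1 : ZMod 2)) from by
      rw [smul_monomial, smul_eq_mul, mul_one]]
    rfl
  rw [h1, Ideal.Quotient.eq_zero_iff_mem, QsA.truncIdeal_eq, mem_ideal_span_monomial_image] at hg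
  have hc : coeff (ev n j₀) (∑ j, monomial (ev n j) (g j)) = g j₀ := by
    rw [coeff_sum, Finset.sum_eq_single j₀]
    · rw [coeff_monomial, if_pos rfl]
    · intro j _ hj
      rw [coeff_monomial, if_neg (fun h => hj (ev_injective n hn h))]
    · intro h; exact absurd (Finset.mem_univ _) h
  obtain ⟨_, ⟨i, rfl⟩, hle⟩ := hg (ev n j₀) (by rw [mem_support_iff, hc]; exact hne)
  have := hle i
  rw [Finsupp.single_eq_same] at this
  have := ev_lt n hn j₀ i
  omega

theorem Xi_indep (n : ℕ) (hn : 2 ≤ n) : LinearIndependent (ZMod 2) (Xi n) := by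
  haveI : Module.Finite (ZMod 2) (P n) := by
    rw [Module.finite_def, ← top_le_iff.mp (span_Xi n hn)]
    exact Submodule.fg_span (Set.finite_range _)
  refine linearIndependent_of_top_le_span_of_card_eq_finrank (span_Xi n hn) ?_
  refine le_antisymm ((mono_indep n hn).fintype_card_le_finrank) ?_
  have h := finrank_range_le_card (R := ZMod 2) (Xi n)
  change Module.finrank (ZMod 2) (Submodule.span (ZMod 2) (Set.range (Xi n))) ≤ _ at h
  rw [top_le_iff.mp (span_Xi n hn), finrank_top] at h
  exact h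

end Groth.Agent.Lib.Helper93.QsE
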