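import Groth.Agent.Lib.Helper93.QsE

set_option autoImplicit false

namespace Groth.Agent.Lib.Helper93.QsF

open MvPolynomial QsChow
open Groth.Agent.Lib.Helper93 Groth.Agent.Lib.Helper93.QsD Groth.Agent.Lib.Helper93.QsE

theorem evar_eq (n : ℕ) (i : Fin (numVars n)) : evar n (i.val + 1) = X (some i) := by
  unfold evar
  rw [dif_pos ⟨Nat.succ_pos _, i.isLt⟩]
  rfl

theorem phi_X (n : ℕ) (o : Option (Fin (numVars n))) : phi n (X o) = genImage n o := aeval_X _ _

theorem phi_evar (n : ℕ) (i : Fin (numVars n)) : phi n (evar n (i.val + 1)) = zz n i := by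
  rw [evar_eq, phi_X]; rfl

theorem phi_evar_one (n : ℕ) (hn : 2 ≤ n) : phi n (evar n 1) = tt n := by
  have hs := numVars_ge n hn
  have := phi_evar n ⟨0, by omega⟩
  rw [zz_zero n _ rfl] at this
  exact this

theorem phi_evar_two (n : ℕ) (hn : 2 ≤ n) : phi n (evar n 2) = ee n := by
  have hs := numVars_ge n hn
  have := phi_evar n ⟨1, by omega⟩
  rw [zz_one n _ rfl] at this
  exact this

theorem phi_xvar (n : ℕ) : phi n (xvar n) = tt n ^ (n - 1) * yy n := by
  unfold xvar; rw [phi_X]; rfl

theorem phi_sPoly (n : ℕ) (hn : 2 ≤ n) (j : ℕ) : phi n (sPoly n j) = SS n (klog n j) := by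
  unfold sPoly SS
  rw [map_sum]
  refine Finset.sum_congr rfl fun u _ => ?_
  rw [map_mul, map_pow, map_pow, phi_evar_one n hn, phi_evar_two n hn]

theorem presIdeal_le_ker (n : ℕ) (hn : 2 ≤ n) : presIdeal n ≤ RingHom.ker (phi n) := by
  have hs := numVars_ge n hn
  unfold presIdeal
  rw [Ideal.span_le]
  rintro q (hq | ⟨i, rfl⟩)
  · rcases hq with rfl | rfl | rfl
    · show phi n _ = 0
      rw [map_pow, phi_evar_one n hn, tt_pow n hn]
    · show phi n _ = 0
      rw [map_mul, phi_evar_one n hn, phi_xvar, ← mul_assoc, ← pow_succ',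
        Nat.sub_add_cancel (by omega), tt_pow n hn, zero_mul]
    · show phi n _ = 0
      rw [map_pow, phi_xvar, mul_pow, ← pow_mul, tt_pow_of_le n hn _ (by omega), zero_mul]
  · show phi n (hrel n (i.val + 1)) = 0
    unfold hrel
    by_cases h0 : i.val = 0
    · rw [if_neg (by omega), if_neg (by omega), map_zero]
    · by_cases h1 : i.val = 1
      · rw [if_pos (by omega), map_add, map_mul, map_pow, phi_evar_one n hn, phi_xvar,
          phi_sPoly n hn, ← mul_assoc, ← pow_add]
        have hk := QsC.klog_spec n 2 hn le_rfl hs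
        have : 2 ^ klog n 2 - n + (n - 1) = 2 ^ klog n 2 - 1 := by omega
        rw [this, add_comm, ← yy_pow_two_pow, yy_pow n hn]
      · have hi : 2 ≤ i.val := by omega
        rw [if_neg (by omega), if_pos ⟨by omega, i.isLt⟩, map_add, map_add, map_mul, map_mul,
          map_pow, map_pow, map_pow, phi_evar_one n hn, phi_xvar, phi_sPoly n hn, phi_evar,
          zz_pow n i hi, yy_pow_two_pow, ← mul_assoc, ← pow_add]
        have hk := QsC.klog_spec n (i.val + 1) hn (by omega) i.isLt
        set k := klog n (i.val + 1) with hkdef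
        have e1 : (2 * (i.val + 1) - 3) * 2 ^ k - n + (n - 1) = (2 * (i.val + 1) - 3) * 2 ^ k - 1 := by
          omega
        have e2 : (2 * (i.val + 1) - 4) * 2 ^ k + (2 ^ k - 1) = (2 * (i.val + 1) - 3) * 2 ^ k - 1 := by
          have h1 : 1 ≤ 2 ^ k := Nat.one_le_two_pow
          have h3 : 2 * (i.val + 1) - 3 = (2 * (i.val + 1) - 4) + 1 := by omega
          rw [h3, add_mul, one_mul]
          omega
        rw [e1, mul_add, ← mul_assoc, ← pow_add, e2]
        have : ∀ a b : P n, a + b + b + a = 0 := by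
          intro a b
          have : a + b + b + a = (a + a) + (b + b) := by ring
          rw [this, QsD.h2, QsD.h2, add_zero]
        exact this _ _

end Groth.Agent.Lib.Helper93.QsF
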