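import Groth.Agent.Lib.Helper93.QsF

set_option autoImplicit false

namespace Groth.Agent.Lib.Helper93.QsG

open MvPolynomial QsChow
open Groth.Agent.Lib.Helper93 Groth.Agent.Lib.Helper93.QsD Groth.Agent.Lib.Helper93.QsE
  Groth.Agent.Lib.Helper93.QsF

/-- the stabilizer of a submodule under multiplication, as a subalgebra -/
def stab {A : Type*} [CommRing A] [Algebra (ZMod 2) A] (U : Submodule (ZMod 2) A) :
    Subalgebra (ZMod 2) A where
  carrier := {r | ∀ u ∈ U, r * u ∈ U}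
  mul_mem' := fun {a b} ha hb u hu => by rw [mul_assoc]; exact ha _ (hb u hu)
  add_mem' := fun {a b} ha hb u hu => by rw [add_mul]; exact add_mem (ha u hu) (hb u hu)
  algebraMap_mem' := fun c u hu => by
    rw [Algebra.algebraMap_eq_smul_one, smul_mul_assoc, one_mul]; exact U.smul_mem c hu

theorem mem_stab {A : Type*} [CommRing A] [Algebra (ZMod 2) A] (U : Submodule (ZMod 2) A) (r : A) :
    r ∈ stab U ↔ ∀ u ∈ U, r * u ∈ U := Iff.rfl

theorem add_self' {M : Type*} [AddCommGroup M] [Module (ZMod 2) M] (p : M) : p + p = 0 := by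
  have h : p + p = ((1 : ZMod 2) + 1) • p := by rw [add_smul, one_smul]
  rw [h, show ((1 : ZMod 2) + 1) = 0 from by decide, zero_smul]

/-- the quotient by the relations -/
abbrev Q (n : ℕ) : Type := FreeE n ⧸ presIdeal n

noncomputable def q1 (n : ℕ) : Q n := Ideal.Quotient.mk (presIdeal n) (evar n 1)
noncomputable def q2 (n : ℕ) : Q n := Ideal.Quotient.mk (presIdeal n) (evar n 2)
noncomputable def qx (n : ℕ) : Q n := Ideal.Quotient.mk (presIdeal n) (xvar n)
noncomputable def qz (n : ℕ) (i : Fin (numVars n)) : Q n :=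
  Ideal.Quotient.mk (presIdeal n) (X (some i))

theorem q1_pow (n : ℕ) : q1 n ^ n = 0 := by
  unfold q1
  rw [← map_pow, Ideal.Quotient.eq_zero_iff_mem]
  exact Ideal.subset_span (Or.inl (by simp))

theorem q1_mul_qx (n : ℕ) : q1 n * qx n = 0 := by
  unfold q1 qx
  rw [← map_mul, Ideal.Quotient.eq_zero_iff_mem]
  exact Ideal.subset_span (Or.inl (by simp))

theorem qx_mul_qx (n : ℕ) : qx n * qx n = 0 := by
  unfold qx
  rw [← map_mul, ← sq, Ideal.Quotient.eq_zero_iff_mem]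
  exact Ideal.subset_span (Or.inl (by simp))

theorem q1_pow_mul_qx (n m : ℕ) (hm : 1 ≤ m) : q1 n ^ m * qx n = 0 := by
  obtain ⟨m', rfl⟩ : ∃ m', m = m' + 1 := ⟨m - 1, by omega⟩
  rw [pow_succ, mul_assoc, q1_mul_qx, mul_zero]

theorem q1_pow_of_le (n a : ℕ) (ha : n ≤ a) : q1 n ^ a = 0 := by
  obtain ⟨b, rfl⟩ := Nat.exists_eq_add_of_le ha
  rw [pow_add, q1_pow, zero_mul]

theorem mk_hrel (n : ℕ) (i : Fin (numVars n)) :
    Ideal.Quotient.mk (presIdeal n) (hrel n (i.val + 1)) = 0 := by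
  rw [Ideal.Quotient.eq_zero_iff_mem]
  exact Ideal.subset_span (Or.inr ⟨i, rfl⟩)

/-- the sum `S_k(e₁, e₂)` in `Q n` -/
noncomputable def SQ (n k : ℕ) : Q n :=
  ∑ u ∈ Finset.range k, q1 n ^ (2 ^ k - 2 ^ (u + 1)) * q2 n ^ 2 ^ u

theorem mk_sPoly (n j : ℕ) : Ideal.Quotient.mk (presIdeal n) (sPoly n j) = SQ n (klog n j) := by
  unfold sPoly SQ q1 q2
  rw [map_sum]
  refine Finset.sum_congr rfl fun u _ => ?_
  rw [map_mul, map_pow, map_pow]

theorem rel_two (n : ℕ) (hn : 2 ≤ n) :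
    q1 n ^ (2 ^ klog n 2 - n) * qx n + SQ n (klog n 2) = 0 := by
  have hs := numVars_ge n hn
  have := mk_hrel n ⟨1, by omega⟩
  unfold hrel at this
  rw [if_pos rfl, map_add, map_mul, map_pow, mk_sPoly] at this
  exact this

theorem qz_eq (n : ℕ) (i : Fin (numVars n)) :
    qz n i = Ideal.Quotient.mk (presIdeal n) (evar n (i.val + 1)) := by
  rw [evar_eq]; rfl

theorem rel_ge (n : ℕ) (i : Fin (numVars n)) (hi : 2 ≤ i.val) :
    qz n i ^ 2 ^ klog n (i.val + 1) =
      q1 n ^ ((2 * (i.val + 1) - 3) * 2 ^ klog n (i.val + 1) - n) * qx n +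
        q1 n ^ ((2 * (i.val + 1) - 4) * 2 ^ klog n (i.val + 1)) * SQ n (klog n (i.val + 1)) := by
  have := mk_hrel n i
  unfold hrel at this
  rw [if_neg (by omega), if_pos ⟨by omega, i.isLt⟩, map_add, map_add, map_mul, map_mul, map_pow,
    map_pow, map_pow, mk_sPoly, ← qz_eq] at this
  have h := congrArg (fun w => w + (q1 n ^ ((2 * (i.val + 1) - 3) * 2 ^ klog n (i.val + 1) - n) * qx n +
        q1 n ^ ((2 * (i.val + 1) - 4) * 2 ^ klog n (i.val + 1)) * SQ n (klog n (i.val + 1)))) this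
  simp only [zero_add] at h
  rw [← h]
  have : ∀ a b c : Q n, a + b + c + (b + c) = a := by
    intro a b c
    have : a + b + c + (b + c) = a + ((b + b) + (c + c)) := by ring
    rw [this, add_self', add_self', add_zero, add_zero]
  exact (this _ _ _).symm

/-- `e₂^(2^(k₂-1))` in lower terms -/
theorem q2_pow (n : ℕ) (hn : 2 ≤ n) :
    q2 n ^ 2 ^ (klog n 2 - 1) = q1 n ^ (2 ^ klog n 2 - n) * qx n +
      ∑ u ∈ Finset.range (klog n 2 - 1), q1 n ^ (2 ^ klog n 2 - 2 ^ (u + 1)) * q2 n ^ 2 ^ u := by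
  have hk := klog_two_pos n hn
  have h := rel_two n hn
  unfold SQ at h
  obtain ⟨k, hk'⟩ : ∃ k, klog n 2 = k + 1 := ⟨klog n 2 - 1, by omega⟩
  rw [hk'] at h ⊢
  rw [Finset.sum_range_succ, Nat.sub_self, pow_zero, one_mul] at h
  rw [Nat.add_sub_cancel]
  have h' := congrArg (fun w => w + q2 n ^ 2 ^ k) h
  simp only [zero_add] at h'
  rw [← h']
  have : ∀ a b c : Q n, a + (b + c) + c = a + b := by
    intro a b c
    have : a + (b + c) + c = a + b + (c + c) := by ring
    rw [this, add_self', add_zero]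
  exact this _ _ _

end Groth.Agent.Lib.Helper93.QsG
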