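import Groth.Agent.Lib.Helper93.QsG

set_option autoImplicit false

namespace Groth.Agent.Lib.Helper93.QsH

open MvPolynomial QsChow
open Groth.Agent.Lib.Helper93 Groth.Agent.Lib.Helper93.QsD Groth.Agent.Lib.Helper93.QsE
  Groth.Agent.Lib.Helper93.QsF Groth.Agent.Lib.Helper93.QsG

noncomputable def g0 (n a b : ℕ) : Q n := q1 n ^ a * q2 n ^ b
noncomputable def g1 (n b : ℕ) : Q n := qx n * q2 n ^ b

def SU' (n : ℕ) : Set (Q n) :=
  {p | ∃ a b : ℕ, b < 2 ^ (klog n 2 - 1) ∧ p = g0 n a b} ∪
    {p | ∃ b : ℕ, b < 2 ^ (klog n 2 - 1) ∧ p = g1 n b}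

noncomputable def U' (n : ℕ) : Submodule (ZMod 2) (Q n) := Submodule.span _ (SU' n)

theorem g0_mem (n a b : ℕ) (hb : b < 2 ^ (klog n 2 - 1)) : g0 n a b ∈ U' n :=
  Submodule.subset_span (Or.inl ⟨a, b, hb, rfl⟩)

theorem g1_mem (n b : ℕ) (hb : b < 2 ^ (klog n 2 - 1)) : g1 n b ∈ U' n :=
  Submodule.subset_span (Or.inr ⟨b, hb, rfl⟩)

theorem stab_of_gen (n : ℕ) (r : Q n) (h0 : ∀ a b, b < 2 ^ (klog n 2 - 1) → r * g0 n a b ∈ U' n)
    (h1 : ∀ b, b < 2 ^ (klog n 2 - 1) → r * g1 n b ∈ U' n) : r ∈ stab (U' n) := by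
  rw [mem_stab]
  intro u hu
  unfold U' at hu
  induction hu using Submodule.span_induction with
  | mem x hx =>
    rcases hx with ⟨a, b, hb, rfl⟩ | ⟨b, hb, rfl⟩
    · exact h0 a b hb
    · exact h1 b hb
  | zero => rw [mul_zero]; exact zero_mem _
  | add x y _ _ hx hy => rw [mul_add]; exact add_mem hx hy
  | smul c x _ hx => rw [mul_smul_comm]; exact Submodule.smul_mem _ _ hx

theorem q1_stab (n : ℕ) : q1 n ∈ stab (U' n) := by
  refine stab_of_gen n _ (fun a b hb => ?_) (fun b hb => ?_)
  · have : q1 n * g0 n a b = g0 n (a + 1) b := by unfold g0; ring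
    rw [this]; exact g0_mem n _ _ hb
  · have : q1 n * g1 n b = (q1 n * qx n) * q2 n ^ b := by unfold g1; ring
    rw [this, q1_mul_qx, zero_mul]; exact zero_mem _

theorem qx_stab (n : ℕ) : qx n ∈ stab (U' n) := by
  refine stab_of_gen n _ (fun a b hb => ?_) (fun b hb => ?_)
  · rcases Nat.eq_zero_or_pos a with rfl | ha
    · have : qx n * g0 n 0 b = g1 n b := by unfold g0 g1; ring
      rw [this]; exact g1_mem n _ hb
    · have : qx n * g0 n a b = (q1 n ^ a * qx n) * q2 n ^ b := by unfold g0; ring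
      rw [this, q1_pow_mul_qx n a ha, zero_mul]; exact zero_mem _
  · have : qx n * g1 n b = (qx n * qx n) * q2 n ^ b := by unfold g1; ring
    rw [this, qx_mul_qx, zero_mul]; exact zero_mem _

theorem q2_stab (n : ℕ) (hn : 2 ≤ n) : q2 n ∈ stab (U' n) := by
  have hk := klog_two_pos n hn
  refine stab_of_gen n _ (fun a b hb => ?_) (fun b hb => ?_)
  · by_cases hb1 : b + 1 < 2 ^ (klog n 2 - 1)
    · have : q2 n * g0 n a b = g0 n a (b + 1) := by unfold g0; ring
      rw [this]; exact g0_mem n _ _ hb1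
    · have hb2 : b + 1 = 2 ^ (klog n 2 - 1) := by omega
      have : q2 n * g0 n a b = q1 n ^ a * q2 n ^ (b + 1) := by unfold g0; ring
      rw [this, hb2, q2_pow n hn, mul_add, Finset.mul_sum]
      refine add_mem ?_ (Submodule.sum_mem _ fun u hu => ?_)
      · rw [← mul_assoc, ← pow_add]
        rcases Nat.eq_zero_or_pos (a + (2 ^ klog n 2 - n)) with h0 | hpos
        · have : q1 n ^ (a + (2 ^ klog n 2 - n)) * qx n = g1 n 0 := by
            rw [h0]; unfold g1; ring
          rw [this]; exact g1_mem n _ (Nat.two_pow_pos _)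
        · rw [q1_pow_mul_qx n _ hpos]; exact zero_mem _
      · have : q1 n ^ a * (q1 n ^ (2 ^ klog n 2 - 2 ^ (u + 1)) * q2 n ^ 2 ^ u) =
            g0 n (a + (2 ^ klog n 2 - 2 ^ (u + 1))) (2 ^ u) := by unfold g0; ring
        rw [this]
        refine g0_mem n _ _ ?_
        rw [Finset.mem_range] at hu
        exact Nat.pow_lt_pow_right (by norm_num) hu
  · by_cases hb1 : b + 1 < 2 ^ (klog n 2 - 1)
    · have : q2 n * g1 n b = g1 n (b + 1) := by unfold g1; ring
      rw [this]; exact g1_mem n _ hb1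
    · have hb2 : b + 1 = 2 ^ (klog n 2 - 1) := by omega
      have : q2 n * g1 n b = qx n * q2 n ^ (b + 1) := by unfold g1; ring
      rw [this, hb2, q2_pow n hn, mul_add, Finset.mul_sum]
      refine add_mem ?_ (Submodule.sum_mem _ fun u hu => ?_)
      · have : qx n * (q1 n ^ (2 ^ klog n 2 - n) * qx n) =
            q1 n ^ (2 ^ klog n 2 - n) * (qx n * qx n) := by ring
        rw [this, qx_mul_qx, mul_zero]; exact zero_mem _
      · have : qx n * (q1 n ^ (2 ^ klog n 2 - 2 ^ (u + 1)) * q2 n ^ 2 ^ u) =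
            (q1 n ^ (2 ^ klog n 2 - 2 ^ (u + 1)) * qx n) * q2 n ^ 2 ^ u := by ring
        rw [this, q1_pow_mul_qx, zero_mul]
        · exact zero_mem _
        · rw [Finset.mem_range] at hu
          have h1 : 2 ^ (u + 1) < 2 ^ klog n 2 := Nat.pow_lt_pow_right (by norm_num) (by omega)
          omega

theorem SQ_stab (n : ℕ) (hn : 2 ≤ n) (k : ℕ) : SQ n k ∈ stab (U' n) := by
  unfold SQ
  exact Subalgebra.sum_mem _ fun u _ =>
    Subalgebra.mul_mem _ (Subalgebra.pow_mem _ (q1_stab n) _) (Subalgebra.pow_mem _ (q2_stab n hn) _)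


noncomputable def Z' (n : ℕ) (c : I2 n → ℕ) : Q n := ∏ i : I2 n, qz n i.1 ^ c i

def SV' (n : ℕ) : Set (Q n) :=
  {p | ∃ c : I2 n → ℕ, (∀ i, c i < 2 ^ klog n (i.1.val + 1)) ∧ p = Z' n c}

noncomputable def V' (n : ℕ) : Submodule (ZMod 2) (Q n) := Submodule.span _ (SV' n)

theorem Z'_update (n : ℕ) (c : I2 n → ℕ) (i : I2 n) (m : ℕ) :
    Z' n (Function.update c i m) =
      qz n i.1 ^ m * ∏ j ∈ Finset.univ.erase i, qz n j.1 ^ c j := by
  classical
  unfold Z'
  rw [← Finset.mul_prod_erase Finset.univ _ (Finset.mem_univ i), Function.update_self]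
  congr 1
  refine Finset.prod_congr rfl fun j hj => ?_
  rw [Function.update_of_ne (Finset.ne_of_mem_erase hj)]

theorem Z'_eq (n : ℕ) (c : I2 n → ℕ) (i : I2 n) :
    Z' n c = qz n i.1 ^ c i * ∏ j ∈ Finset.univ.erase i, qz n j.1 ^ c j := by
  classical
  conv_lhs => rw [← Function.update_eq_self i c]
  exact Z'_update n c i (c i)

noncomputable def W' (n : ℕ) : Submodule (ZMod 2) (Q n) := U' n * V' n

theorem W'_mul_stab (n : ℕ) (r : Q n) (hr : r ∈ stab (U' n)) (w : Q n) (hw : w ∈ W' n) :
    r * w ∈ W' n := by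
  unfold W' at hw ⊢
  refine Submodule.mul_induction_on hw ?_ ?_
  · intro u hu v hv
    rw [← mul_assoc]
    exact Submodule.mul_mem_mul (hr u hu) hv
  · intro x y hx hy
    rw [mul_add]; exact add_mem hx hy

theorem W'_mul_z (n : ℕ) (hn : 2 ≤ n) (i : I2 n) (w : Q n) (hw : w ∈ W' n) :
    qz n i.1 * w ∈ W' n := by
  classical
  unfold W' at hw ⊢
  refine Submodule.mul_induction_on hw ?_ ?_
  · intro u hu v hv
    unfold V' at hv
    induction hv using Submodule.span_induction with
    | mem x hx =>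
      obtain ⟨c, hc, rfl⟩ := hx
      have h1 : qz n i.1 * (u * Z' n c) = u * Z' n (Function.update c i (c i + 1)) := by
        rw [Z'_update, Z'_eq n c i, pow_succ]; ring
      rw [h1]
      by_cases hci : c i + 1 < 2 ^ klog n (i.1.val + 1)
      · refine Submodule.mul_mem_mul hu (Submodule.subset_span ⟨_, ?_, rfl⟩)
        intro j
        by_cases hj : j = i
        · subst hj; rw [Function.update_self]; exact hci
        · rw [Function.update_of_ne hj]; exact hc j
      · have hci' : c i + 1 = 2 ^ klog n (i.1.val + 1) := by have := hc i; omega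
        have hr : (q1 n ^ ((2 * (i.1.val + 1) - 3) * 2 ^ klog n (i.1.val + 1) - n) * qx n +
            q1 n ^ ((2 * (i.1.val + 1) - 4) * 2 ^ klog n (i.1.val + 1)) *
              SQ n (klog n (i.1.val + 1))) ∈ stab (U' n) :=
          Subalgebra.add_mem _ (Subalgebra.mul_mem _ (Subalgebra.pow_mem _ (q1_stab n) _) (qx_stab n))
            (Subalgebra.mul_mem _ (Subalgebra.pow_mem _ (q1_stab n) _) (SQ_stab n hn _))
        have h2' : u * Z' n (Function.update c i (c i + 1)) =
            ((q1 n ^ ((2 * (i.1.val + 1) - 3) * 2 ^ klog n (i.1.val + 1) - n) * qx n +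
            q1 n ^ ((2 * (i.1.val + 1) - 4) * 2 ^ klog n (i.1.val + 1)) *
              SQ n (klog n (i.1.val + 1))) * u) * Z' n (Function.update c i 0) := by
          rw [Z'_update, Z'_update, hci', rel_ge n i.1 i.2, pow_zero]; ring
        rw [h2']
        refine Submodule.mul_mem_mul (hr u hu) (Submodule.subset_span ⟨_, ?_, rfl⟩)
        intro j
        by_cases hj : j = i
        · subst hj; rw [Function.update_self]; exact Nat.two_pow_pos _
        · rw [Function.update_of_ne hj]; exact hc j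
    | zero => rw [mul_zero, mul_zero]; exact zero_mem _
    | add x y _ _ hx hy => rw [mul_add, mul_add]; exact add_mem hx hy
    | smul a x _ hx => rw [mul_smul_comm, mul_smul_comm]; exact Submodule.smul_mem _ _ hx
  · intro x y hx hy
    rw [mul_add]; exact add_mem hx hy

theorem one_mem_W' (n : ℕ) : (1 : Q n) ∈ W' n := by
  have h1 : (1 : Q n) = g0 n 0 0 * Z' n (fun _ => 0) := by
    unfold g0 Z'; simp
  rw [h1]
  exact Submodule.mul_mem_mul (g0_mem n 0 0 (Nat.two_pow_pos _))
    (Submodule.subset_span ⟨_, fun i => Nat.two_pow_pos _, rfl⟩)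

theorem W'_eq_top (n : ℕ) (hn : 2 ≤ n) : W' n = ⊤ := by
  rw [eq_top_iff]
  suffices h : ∀ p : Q n, p ∈ W' n from fun p _ => h p
  intro p
  have hs := numVars_ge n hn
  have hX : ∀ (o : Option (Fin (numVars n))) (w : Q n), w ∈ W' n →
      Ideal.Quotient.mk (presIdeal n) (X o) * w ∈ W' n := by
    intro o w hw
    cases o with
    | none => exact W'_mul_stab n _ (qx_stab n) w hw
    | some i =>
      by_cases h0 : i.val = 0
      · have : Ideal.Quotient.mk (presIdeal n) (X (some i)) = q1 n := by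
          unfold q1
          have := evar_eq n i
          rw [h0] at this
          rw [← this]
        rw [this]
        exact W'_mul_stab n _ (q1_stab n) w hw
      · by_cases h1 : i.val = 1
        · have : Ideal.Quotient.mk (presIdeal n) (X (some i)) = q2 n := by
            unfold q2
            have := evar_eq n i
            rw [h1] at this
            rw [← this]
          rw [this]
          exact W'_mul_stab n _ (q2_stab n hn) w hw
        · exact W'_mul_z n hn ⟨i, by omega⟩ w hw
  obtain ⟨f, rfl⟩ := Ideal.Quotient.mk_surjective p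
  induction f using MvPolynomial.induction_on with
  | C a =>
    have : Ideal.Quotient.mk (presIdeal n) (C a) = a • (1 : Q n) := by
      rw [show (C a : FreeE n) = a • (1 : FreeE n) from by rw [MvPolynomial.smul_eq_C_mul, mul_one]]
      rfl
    rw [this]
    exact Submodule.smul_mem _ _ (one_mem_W' n)
  | add f g hf hg => rw [map_add]; exact add_mem hf hg
  | mul_X f i hf =>
    rw [map_mul, mul_comm]
    exact hX i _ hf

end Groth.Agent.Lib.Helper93.QsH
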