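import Groth.Agent.Lib.Helper93.QsH

set_option autoImplicit false

namespace Groth.Agent.Lib.Helper93.QsI

open MvPolynomial QsChow
open Groth.Agent.Lib.Helper93 Groth.Agent.Lib.Helper93.QsD Groth.Agent.Lib.Helper93.QsE
  Groth.Agent.Lib.Helper93.QsF Groth.Agent.Lib.Helper93.QsG Groth.Agent.Lib.Helper93.QsH

/-- the indices of the normal-form monomials -/
abbrev JB (n : ℕ) : Type := {j : J' n // (j.2.2.1 : ℕ) = 1 → (j.1 : ℕ) = n - 1}

/-- the normal-form monomials -/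
noncomputable def qB (n : ℕ) (j : J' n) : FreeE n :=
  (if (j.2.2.1 : ℕ) = 0 then evar n 1 ^ (j.1 : ℕ) else xvar n) * evar n 2 ^ (j.2.1 : ℕ) *
    ∏ i : I2 n, X (some i.1) ^ ((j.2.2.2 i : Fin _) : ℕ)

theorem phi_qB (n : ℕ) (hn : 2 ≤ n) (j : JB n) : phi n (qB n j.1) = Xi n j.1 := by
  obtain ⟨⟨a, b, d, c⟩, hj⟩ := j
  unfold qB Xi gU Z
  simp only at hj ⊢
  rw [map_mul, map_mul, map_pow, phi_evar_two n hn, map_prod]
  have hprod : ∏ i : I2 n, phi n (X (some i.1) ^ ((c i : Fin _) : ℕ)) =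
      ∏ i : I2 n, zz n i.1 ^ ((c i : Fin _) : ℕ) := by
    refine Finset.prod_congr rfl fun i _ => ?_
    rw [map_pow, phi_X]; rfl
  rw [hprod]
  have hd : (d : ℕ) = 0 ∨ (d : ℕ) = 1 := by have := d.isLt; omega
  rcases hd with hd | hd
  · rw [if_pos hd, hd, pow_zero, mul_one, map_pow, phi_evar_one n hn]
  · rw [if_neg (by omega), hd, pow_one, phi_xvar, hj hd]; ring

theorem mk_qB (n : ℕ) (j : J' n) :
    Ideal.Quotient.mk (presIdeal n) (qB n j) =
      (if (j.2.2.1 : ℕ) = 0 then g0 n (j.1 : ℕ) (j.2.1 : ℕ) else g1 n (j.2.1 : ℕ)) *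
        Z' n (fun i => ((j.2.2.2 i : Fin _) : ℕ)) := by
  unfold qB g0 g1 Z' q1 q2 qx qz
  rw [map_mul, map_mul, map_pow, map_prod]
  simp only [map_pow]
  split_ifs <;> simp only [map_pow]

theorem span_qB (n : ℕ) (hn : 2 ≤ n) :
    ⊤ ≤ Submodule.span (ZMod 2)
      (Set.range fun j : JB n => Ideal.Quotient.mk (presIdeal n) (qB n j.1)) := by
  rw [← W'_eq_top n hn, W', U', V', Submodule.span_mul_span, Submodule.span_le]
  rintro _ ⟨_, hu, _, ⟨c, hc, rfl⟩, rfl⟩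
  rcases hu with ⟨a, b, hb, rfl⟩ | ⟨b, hb, rfl⟩
  · by_cases ha : a < n
    · refine Submodule.subset_span ⟨⟨(⟨a, ha⟩, ⟨b, hb⟩, ⟨0, by norm_num⟩, fun i => ⟨c i, hc i⟩),
        fun h => by simp at h⟩, ?_⟩
      show Ideal.Quotient.mk (presIdeal n) (qB n (⟨a, ha⟩, ⟨b, hb⟩, ⟨0, by norm_num⟩,
        fun i => ⟨c i, hc i⟩)) = _
      rw [mk_qB, if_pos rfl]
    · have : g0 n a b = 0 := by
        unfold g0; rw [q1_pow_of_le n a (by omega), zero_mul]
      simp only [this, zero_mul]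
      exact zero_mem _
  · refine Submodule.subset_span ⟨⟨(⟨n - 1, by omega⟩, ⟨b, hb⟩, ⟨1, by norm_num⟩,
      fun i => ⟨c i, hc i⟩), fun _ => rfl⟩, ?_⟩
    show Ideal.Quotient.mk (presIdeal n) (qB n (⟨n - 1, by omega⟩, ⟨b, hb⟩, ⟨1, by norm_num⟩,
      fun i => ⟨c i, hc i⟩)) = _
    rw [mk_qB, if_neg (by norm_num)]

theorem main (n : ℕ) (hn : 2 ≤ n) : RingHom.ker (QsChow.phi n) = QsChow.presIdeal n := by
  refine le_antisymm ?_ (presIdeal_le_ker n hn)
  intro q hq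
  have hq0 : phi n q = 0 := hq
  have hmem : Ideal.Quotient.mk (presIdeal n) q ∈ Submodule.span (ZMod 2)
      (Set.range fun j : JB n => Ideal.Quotient.mk (presIdeal n) (qB n j.1)) :=
    span_qB n hn Submodule.mem_top
  obtain ⟨g, hg⟩ := (Submodule.mem_span_range_iff_exists_fun _).1 hmem
  set r : FreeE n := ∑ j : JB n, g j • qB n j.1 with hr
  have hmk : Ideal.Quotient.mk (presIdeal n) r = Ideal.Quotient.mk (presIdeal n) q := by
    rw [← hg, hr, map_sum]
    refine Finset.sum_congr rfl fun j _ => ?_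
    rfl
  have hdiff : q - r ∈ presIdeal n := by
    rw [← Ideal.Quotient.eq_zero_iff_mem, map_sub, hmk, sub_self]
  have hφr : phi n r = 0 := by
    have h1 : phi n (q - r) = 0 := presIdeal_le_ker n hn hdiff
    rw [map_sub, hq0, zero_sub, neg_eq_zero] at h1
    exact h1
  have hsum : ∑ j : JB n, g j • Xi n j.1 = 0 := by
    rw [← hφr, hr, map_sum]
    refine Finset.sum_congr rfl fun j _ => ?_
    rw [map_smul, phi_qB n hn j]
  have hind : LinearIndependent (ZMod 2) (fun j : JB n => Xi n j.1) :=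
    (Xi_indep n hn).comp Subtype.val Subtype.val_injective
  have hg0 := Fintype.linearIndependent_iff.1 hind g hsum
  have hr0 : r = 0 := by
    rw [hr]
    exact Finset.sum_eq_zero fun j _ => by rw [hg0 j, zero_smul]
  rw [hr0, sub_zero] at hdiff
  exact hdiff

end Groth.Agent.Lib.Helper93.QsI
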