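import Groth.Agent.Lib.Helper93.QsI
import Groth.Prelude.Def_W4c4chowquasisplitPn2

set_option autoImplicit false

namespace Groth.Agent.Lib.Helper93.QsJ

open MvPolynomial QsChow
open Groth.Agent.Lib.Helper93 Groth.Agent.Lib.Helper93.QsD Groth.Agent.Lib.Helper93.QsE
  Groth.Agent.Lib.Helper93.QsF Groth.Agent.Lib.Helper93.QsG Groth.Agent.Lib.Helper93.QsH

section Arith

variable (n b : ℕ) (hb : 1 ≤ b) (hnb : n = 2 ^ b)
include hb hnb

theorem two_le : 2 ≤ n := by
  rw [hnb]
  calc 2 = 2 ^ 1 := by norm_num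
    _ ≤ 2 ^ b := Nat.pow_le_pow_right (by norm_num) hb

theorem pow_klog_two : 2 ^ klog n 2 = n := by
  have hn := two_le n b hb hnb
  have h1 := QsC.klog_spec n 2 hn le_rfl (numVars_ge n hn)
  have h2 : 2 ^ klog n 2 ≤ (2 * n - 1) / (2 * 2 - 3) := by
    unfold klog
    exact Nat.pow_log_le_self 2 (by norm_num; omega)
  norm_num at h1 h2
  have h3 : 2 ^ klog n 2 < 2 ^ (b + 1) := by rw [pow_succ, ← hnb]; omega
  have h4 : klog n 2 < b + 1 := (Nat.pow_lt_pow_iff_right (by norm_num)).1 h3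
  have h5 : 2 ^ klog n 2 ≤ 2 ^ b := Nat.pow_le_pow_right (by norm_num) (by omega)
  rw [← hnb] at h5
  omega

theorem klog_two : klog n 2 = b := by
  have h : 2 ^ klog n 2 = 2 ^ b := (pow_klog_two n b hb hnb).trans hnb
  exact Nat.pow_right_injective le_rfl h

theorem kprime_one : kprime n 1 = b := by
  unfold kprime twoExp
  rw [if_pos rfl, hnb, padicValNat.prime_pow]

theorem kprime_two : kprime n 2 = b := by
  unfold kprime
  rw [if_neg (by norm_num), if_pos rfl, hnb, Nat.log_pow (by norm_num)]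

theorem kprime_ge (j : ℕ) (hj : 3 ≤ j) : kprime n j = klog n j := by
  unfold kprime klog
  rw [if_neg (by omega), if_neg (by omega)]
  have hd : 3 ≤ 2 * j - 3 := by omega
  have hn := two_le n b hb hnb
  have hdiv : 2 * n / (2 * j - 3) = (2 * n - 1) / (2 * j - 3) := by
    obtain ⟨m0, hm0⟩ : ∃ m0, 2 * n = m0 + 1 := ⟨2 * n - 1, by omega⟩
    have hm0' : 2 * n - 1 = m0 := by omega
    rw [hm0', hm0, Nat.succ_div, if_neg, add_zero]
    rw [← hm0, hnb, ← pow_succ']
    intro hdvd
    obtain ⟨m, _, hm⟩ := (Nat.dvd_prime_pow Nat.prime_two).1 hdvd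
    rcases Nat.eq_zero_or_pos m with rfl | hmpos
    · rw [pow_zero] at hm; omega
    · obtain ⟨m', rfl⟩ : ∃ m', m = m' + 1 := ⟨m - 1, by omega⟩
      rw [pow_succ] at hm
      omega
  rw [hdiv]

theorem bounds_ge (j : ℕ) (hj : 3 ≤ j) (hjs : j ≤ numVars n) :
    n ≤ (2 * j - 4) * 2 ^ klog n j ∧ n < (2 * j - 3) * 2 ^ klog n j := by
  have hn := two_le n b hb hnb
  have h1 := QsC.klog_spec n j hn (by omega) hjs
  set k := klog n j with hk
  by_cases hkb : b ≤ k
  · have h2 : 2 ^ b ≤ 2 ^ k := Nat.pow_le_pow_right (by norm_num) hkb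
    rw [← hnb] at h2
    constructor
    · calc n ≤ 2 ^ k := h2
        _ ≤ (2 * j - 4) * 2 ^ k := Nat.le_mul_of_pos_left _ (by omega)
    · calc n ≤ 2 ^ k := h2
        _ = 1 * 2 ^ k := (one_mul _).symm
        _ < (2 * j - 3) * 2 ^ k := Nat.mul_lt_mul_of_pos_right (by omega) (Nat.two_pow_pos _)
  · have hkb' : k < b := by omega
    obtain ⟨r, hr⟩ : ∃ r, b = k + (r + 1) := ⟨b - k - 1, by omega⟩
    have h3 : n = 2 ^ k * (2 * 2 ^ r) := by rw [hnb, hr, pow_add, pow_succ]; ring
    have hpos : 0 < 2 ^ k := Nat.two_pow_pos _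
    have h4 : 2 * 2 ^ r ≤ 2 * j - 3 := by
      rw [h3, mul_comm (2 * j - 3)] at h1
      exact Nat.le_of_mul_le_mul_left h1 hpos
    have h5 : 2 * 2 ^ r ≤ 2 * j - 4 := by omega
    constructor
    · rw [h3, mul_comm (2 * j - 4)]
      exact Nat.mul_le_mul_left _ h5
    · rw [h3, mul_comm (2 * j - 3)]
      exact Nat.mul_lt_mul_of_pos_left (by omega) hpos

end Arith


theorem psi_X (n : ℕ) (i : Fin (numVars n)) : psi n (X i) = zz n i := aeval_X _ _

theorem evarE_eq (n : ℕ) (i : Fin (numVars n)) : evarE n (i.val + 1) = X i := by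
  unfold evarE
  rw [dif_pos ⟨Nat.succ_pos _, i.isLt⟩]
  rfl

theorem psi_evarE (n : ℕ) (i : Fin (numVars n)) : psi n (evarE n (i.val + 1)) = zz n i := by
  rw [evarE_eq, psi_X]

theorem psi_evarE_one (n : ℕ) (hn : 2 ≤ n) : psi n (evarE n 1) = tt n := by
  have hs := numVars_ge n hn
  have := psi_evarE n ⟨0, by omega⟩
  rw [zz_zero n _ rfl] at this
  exact this

theorem psi_evarE_two (n : ℕ) (hn : 2 ≤ n) : psi n (evarE n 2) = ee n := by
  have hs := numVars_ge n hn
  have := psi_evarE n ⟨1, by omega⟩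
  rw [zz_one n _ rfl] at this
  exact this

/-- the polynomial `S_k(e₁, e₂)` in `F_2[e]` -/
noncomputable def SP (n k : ℕ) : FreeP n :=
  ∑ u ∈ Finset.range k, evarE n 1 ^ (2 ^ k - 2 ^ (u + 1)) * evarE n 2 ^ 2 ^ u

theorem psi_SP (n : ℕ) (hn : 2 ≤ n) (k : ℕ) : psi n (SP n k) = SS n k := by
  unfold SP SS
  rw [map_sum]
  refine Finset.sum_congr rfl fun u _ => ?_
  rw [map_mul, map_pow, map_pow, psi_evarE_one n hn, psi_evarE_two n hn]

theorem SS_eq (n b : ℕ) (hb : 1 ≤ b) (hnb : n = 2 ^ b) :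
    SS n (klog n 2) = tt n ^ (n - 1) * yy n := by
  have hn := two_le n b hb hnb
  have h := yy_pow_two_pow n (klog n 2)
  rw [yy_pow n hn, pow_klog_two n b hb hnb] at h
  have h' := congrArg (fun w => w + tt n ^ (n - 1) * yy n) h
  simp only [zero_add] at h'
  rw [h', add_assoc, QsD.h2, add_zero]

theorem range_psi (n b : ℕ) (hb : 1 ≤ b) (hnb : n = 2 ^ b)
    (τ : QsChow.P n →ₐ[ZMod 2] QsChow.P n) (hτ1 : τ (QsChow.eps n 1) = QsChow.eps n 1)
    (hτ : ∀ j : ℕ, 2 ≤ j → j ≤ QsChow.numVars n →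
      τ (QsChow.eps n j) = QsChow.eps n j + QsChow.eps n 1 ^ (2 * j - 3)) :
    (QsChow.psi n).range = AlgHom.equalizer τ (AlgHom.id (ZMod 2) (QsChow.P n)) := by
  have hn := two_le n b hb hnb
  rw [← QsB.main n hn τ hτ1 hτ]
  apply le_antisymm
  · rintro _ ⟨q, rfl⟩
    refine ⟨rename some q, ?_⟩
    show phi n (rename some q) = psi n q
    unfold phi psi
    rw [aeval_rename]
    rfl
  · show (aeval (genImage n)).range ≤ _
    rw [← Algebra.adjoin_range_eq_range_aeval]
    refine Algebra.adjoin_le ?_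
    rintro _ ⟨o, rfl⟩
    cases o with
    | none =>
      show tt n ^ (n - 1) * yy n ∈ _
      rw [← SS_eq n b hb hnb, ← psi_SP n hn]
      exact ⟨_, rfl⟩
    | some i => exact ⟨X i, psi_X n i⟩


theorem powIdeal_le_ker (n b : ℕ) (hb : 1 ≤ b) (hnb : n = 2 ^ b) :
    powIdeal n ≤ RingHom.ker (psi n) := by
  have hn := two_le n b hb hnb
  have hs := numVars_ge n hn
  unfold powIdeal
  rw [Ideal.span_le]
  rintro q (hq | ⟨i, rfl⟩)
  · rw [Set.mem_singleton_iff] at hq
    subst hq
    show psi n _ = 0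
    have h1 : ∑ t ∈ Finset.range (kprime n 2),
        evarE n 1 ^ (2 ^ kprime n 2 - 2 ^ (t + 1)) * evarE n 2 ^ 2 ^ t = SP n (klog n 2) := by
      rw [kprime_two n b hb hnb, klog_two n b hb hnb]; rfl
    rw [h1, map_mul, psi_evarE_one n hn, psi_SP n hn, SS_eq n b hb hnb, ← mul_assoc, ← pow_succ',
      Nat.sub_add_cancel (by omega), tt_pow n hn, zero_mul]
  · show psi n _ = 0
    rw [map_pow, psi_evarE]
    by_cases h0 : i.val = 0
    · rw [zz_zero n i h0, h0, kprime_one n b hb hnb, ← hnb, tt_pow n hn]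
    · by_cases h1 : i.val = 1
      · rw [zz_one n i h1, h1, kprime_two n b hb hnb]
        unfold ee
        have hy : yy n ^ 2 ^ b = 0 := by
          have := yy_pow n hn
          rwa [klog_two n b hb hnb] at this
        rw [QsC.add_pow_two_pow (QsD.h2 n), mul_pow, ← pow_mul, mul_comm 2, pow_mul, hy]
        simp
      · have hi : 2 ≤ i.val := by omega
        rw [kprime_ge n b hb hnb _ (by omega), zz_pow n i hi,
          tt_pow_of_le n hn _ (bounds_ge n b hb hnb (i.val + 1) (by omega) i.isLt).1, zero_mul]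

/-- the retraction `x ↦ S₂` -/
noncomputable def rho (n : ℕ) : FreeE n →ₐ[ZMod 2] FreeP n :=
  aeval (fun o : Option (Fin (numVars n)) => Option.elim o (SP n (klog n 2)) X)

theorem rho_rename (n : ℕ) (q : FreeP n) : rho n (rename some q) = q := by
  unfold rho
  rw [aeval_rename]
  have : ((fun o : Option (Fin (numVars n)) => Option.elim o (SP n (klog n 2)) X) ∘ some) = X := rfl
  rw [this, aeval_X_left, AlgHom.id_apply]

theorem rho_evar (n : ℕ) (i : Fin (numVars n)) : rho n (evar n (i.val + 1)) = evarE n (i.val + 1) := by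
  rw [evar_eq, evarE_eq]
  unfold rho
  rw [aeval_X]
  rfl

theorem rho_xvar (n : ℕ) : rho n (xvar n) = SP n (klog n 2) := by
  unfold rho xvar
  rw [aeval_X]
  rfl

theorem rho_evar_one (n : ℕ) (hn : 2 ≤ n) : rho n (evar n 1) = evarE n 1 := by
  have hs := numVars_ge n hn
  exact rho_evar n ⟨0, by omega⟩

theorem rho_evar_two (n : ℕ) (hn : 2 ≤ n) : rho n (evar n 2) = evarE n 2 := by
  have hs := numVars_ge n hn
  exact rho_evar n ⟨1, by omega⟩

theorem rho_sPoly (n : ℕ) (hn : 2 ≤ n) (j : ℕ) : rho n (sPoly n j) = SP n (klog n j) := by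
  unfold sPoly SP
  rw [map_sum]
  refine Finset.sum_congr rfl fun u _ => ?_
  rw [map_mul, map_pow, map_pow, rho_evar_one n hn, rho_evar_two n hn]


theorem G0_mem (n b : ℕ) (hb : 1 ≤ b) (hnb : n = 2 ^ b) :
    evarE n 1 * SP n (klog n 2) ∈ powIdeal n := by
  refine Ideal.subset_span (Or.inl ?_)
  rw [Set.mem_singleton_iff, kprime_two n b hb hnb]
  unfold SP
  rw [klog_two n b hb hnb]

theorem Gi_mem (n : ℕ) (i : Fin (numVars n)) :
    evarE n (i.val + 1) ^ 2 ^ kprime n (i.val + 1) ∈ powIdeal n :=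
  Ideal.subset_span (Or.inr ⟨i, rfl⟩)

theorem evarE_one_pow_mem (n b : ℕ) (hb : 1 ≤ b) (hnb : n = 2 ^ b) (m : ℕ) (hm : n ≤ m) :
    evarE n 1 ^ m ∈ powIdeal n := by
  have hn := two_le n b hb hnb
  have hs := numVars_ge n hn
  have h := Gi_mem n ⟨0, by omega⟩
  have h1 : kprime n ((⟨0, by omega⟩ : Fin (numVars n)).val + 1) = b := kprime_one n b hb hnb
  rw [h1, ← hnb] at h
  obtain ⟨r, rfl⟩ := Nat.exists_eq_add_of_le hm
  rw [pow_add]
  exact Ideal.mul_mem_right _ _ h

theorem rho_presIdeal (n b : ℕ) (hb : 1 ≤ b) (hnb : n = 2 ^ b) (q : FreeE n)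
    (hq : q ∈ presIdeal n) : rho n q ∈ powIdeal n := by
  have hn := two_le n b hb hnb
  have hs := numVars_ge n hn
  have hle : presIdeal n ≤ (powIdeal n).comap (rho n) := by
    unfold presIdeal
    rw [Ideal.span_le]
    rintro g (hg | ⟨i, rfl⟩)
    · rcases hg with rfl | rfl | rfl
      · show rho n _ ∈ powIdeal n
        rw [map_pow, rho_evar_one n hn]
        exact evarE_one_pow_mem n b hb hnb n le_rfl
      · show rho n _ ∈ powIdeal n
        rw [map_mul, rho_evar_one n hn, rho_xvar]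
        exact G0_mem n b hb hnb
      · show rho n _ ∈ powIdeal n
        rw [map_pow, rho_xvar]
        unfold SP
        rw [QsC.sum_sq' (fun p : FreeP n => add_self' p)]
        refine Ideal.sum_mem _ fun u hu => ?_
        rw [Finset.mem_range, klog_two n b hb hnb] at hu
        rw [klog_two n b hb hnb, mul_pow, ← pow_mul, ← pow_mul]
        by_cases hub : u + 1 < b
        · refine Ideal.mul_mem_right _ _ (evarE_one_pow_mem n b hb hnb _ ?_)
          have h1 : 2 ^ (u + 1) ≤ 2 ^ (b - 1) := Nat.pow_le_pow_right (by norm_num) (by omega)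
          have h2 : 2 ^ b = 2 * 2 ^ (b - 1) := by rw [← pow_succ']; congr 1; omega
          rw [hnb]; omega
        · have hub' : u + 1 = b := by omega
          have h := Gi_mem n ⟨1, by omega⟩
          have h1 : kprime n ((⟨1, by omega⟩ : Fin (numVars n)).val + 1) = b :=
            kprime_two n b hb hnb
          rw [h1] at h
          have h2 : 2 ^ u * 2 = 2 ^ b := by rw [← pow_succ, hub']
          rw [h2]
          exact Ideal.mul_mem_left _ _ h
    · show rho n (hrel n (i.val + 1)) ∈ powIdeal n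
      unfold hrel
      by_cases h0 : i.val = 0
      · rw [if_neg (by omega), if_neg (by omega), map_zero]; exact zero_mem _
      · by_cases h1 : i.val = 1
        · rw [if_pos (by omega), map_add, map_mul, map_pow, rho_evar_one n hn, rho_xvar,
            rho_sPoly n hn, pow_klog_two n b hb hnb, Nat.sub_self, pow_zero, one_mul, add_self']
          exact zero_mem _
        · have hi : 2 ≤ i.val := by omega
          have hbd := bounds_ge n b hb hnb (i.val + 1) (by omega) i.isLt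
          rw [if_neg (by omega), if_pos ⟨by omega, i.isLt⟩, map_add, map_add, map_mul, map_mul,
            map_pow, map_pow, map_pow, rho_evar_one n hn, rho_xvar, rho_sPoly n hn, rho_evar]
          refine add_mem (add_mem ?_ ?_) ?_
          · have := Gi_mem n i
            rwa [kprime_ge n b hb hnb _ (by omega)] at this
          · obtain ⟨A, hA⟩ : ∃ A, (2 * (i.val + 1) - 3) * 2 ^ klog n (i.val + 1) - n = A + 1 :=
              ⟨(2 * (i.val + 1) - 3) * 2 ^ klog n (i.val + 1) - n - 1, by omega⟩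
            rw [hA, pow_succ, mul_assoc]
            exact Ideal.mul_mem_left _ _ (G0_mem n b hb hnb)
          · exact Ideal.mul_mem_right _ _ (evarE_one_pow_mem n b hb hnb _ hbd.1)
  exact hle hq

theorem ker_psi (n b : ℕ) (hb : 1 ≤ b) (hnb : n = 2 ^ b) :
    RingHom.ker (psi n) = powIdeal n := by
  have hn := two_le n b hb hnb
  refine le_antisymm ?_ (powIdeal_le_ker n b hb hnb)
  intro q hq
  have hq0 : psi n q = 0 := hq
  have h1 : rename some q ∈ presIdeal n := by
    rw [← QsI.main n hn]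
    show phi n (rename some q) = 0
    unfold phi
    rw [aeval_rename]
    exact hq0
  have h2 := rho_presIdeal n b hb hnb _ h1
  rwa [rho_rename] at h2

theorem main (n : ℕ) (hn : 2 ≤ n)
    (τ : QsChow.P n →ₐ[ZMod 2] QsChow.P n) (hτ1 : τ (QsChow.eps n 1) = QsChow.eps n 1)
    (hτ : ∀ j : ℕ, 2 ≤ j → j ≤ QsChow.numVars n →
      τ (QsChow.eps n j) = QsChow.eps n j + QsChow.eps n 1 ^ (2 * j - 3))
    (b : ℕ) (hb : 1 ≤ b) (hnb : n = 2 ^ b) :
    (QsChow.psi n).range = AlgHom.equalizer τ (AlgHom.id (ZMod 2) (QsChow.P n)) ∧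
      RingHom.ker (QsChow.psi n) = QsChow.powIdeal n :=
  ⟨range_psi n b hb hnb τ hτ1 hτ, ker_psi n b hb hnb⟩

end Groth.Agent.Lib.Helper93.QsJ
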