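import Groth.Agent.Lib.Helper93.QsJ

set_option autoImplicit false

namespace Groth.Agent.Lib.Helper93.QsK

open MvPolynomial QsChow
open Groth.Agent.Lib.Helper93 Groth.Agent.Lib.Helper93.QsD Groth.Agent.Lib.Helper93.QsE
  Groth.Agent.Lib.Helper93.QsF Groth.Agent.Lib.Helper93.QsG Groth.Agent.Lib.Helper93.QsH

theorem log_pred (X : ℕ) (hX1 : 1 ≤ X) (hX : ∀ r, X ≠ 2 ^ r) :
    Nat.log 2 (X - 1) = Nat.log 2 X := by
  have h1 : 2 ^ Nat.log 2 X ≤ X := Nat.pow_log_le_self 2 (by omega)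
  have h2 : X < 2 ^ (Nat.log 2 X + 1) := Nat.lt_pow_succ_log_self (by norm_num) X
  have h3 := hX (Nat.log 2 X)
  exact Nat.log_eq_of_pow_le_of_lt_pow (by omega) (by omega)

section Arith

variable (n : ℕ) (hn : 2 ≤ n) (hodd : Odd n)
include hn hodd

theorem twoExp_odd : twoExp n = 0 := by
  unfold twoExp
  apply padicValNat.eq_zero_of_not_dvd
  obtain ⟨c, hc⟩ := hodd
  omega

theorem klog_two_odd : klog n 2 = kprime n 2 + 1 ∧ n < 2 ^ klog n 2 := by
  obtain ⟨c, hc⟩ := hodd
  have hk' : kprime n 2 = Nat.log 2 n := by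
    unfold kprime; rw [if_neg (by norm_num), if_pos rfl]
  have h1 : 2 ^ Nat.log 2 n ≤ n := Nat.pow_log_le_self 2 (by omega)
  have h2 : n < 2 ^ (Nat.log 2 n + 1) := Nat.lt_pow_succ_log_self (by norm_num) n
  have h3 : 1 ≤ Nat.log 2 n := Nat.log_pos (by norm_num) hn
  obtain ⟨r, hr⟩ : ∃ r, Nat.log 2 n = r + 1 := ⟨Nat.log 2 n - 1, by omega⟩
  have h4 : 2 ^ Nat.log 2 n = 2 * 2 ^ r := by rw [hr, pow_succ']
  have h5 : 2 ^ (Nat.log 2 n + 1) = 2 * 2 ^ Nat.log 2 n := pow_succ' _ _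
  have h6 : 2 ^ (Nat.log 2 n + 1 + 1) = 2 * 2 ^ (Nat.log 2 n + 1) := pow_succ' _ _
  have hkl : klog n 2 = Nat.log 2 n + 1 := by
    unfold klog
    norm_num
    exact Nat.log_eq_of_pow_le_of_lt_pow (by omega) (by omega)
  refine ⟨by rw [hkl, hk'], ?_⟩
  rw [hkl]; omega

theorem d_le (j : ℕ) (hjs : j ≤ numVars n) : 2 * j - 3 ≤ n - 2 := by
  unfold numVars at hjs
  obtain ⟨c, hc⟩ := hodd
  omega

theorem kprime_ge_odd (j : ℕ) (hj : 3 ≤ j) (hjs : j ≤ numVars n) : kprime n j = klog n j := by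
  unfold kprime klog
  rw [if_neg (by omega), if_neg (by omega)]
  have hd := d_le n hn hodd j hjs
  have hd3 : 3 ≤ 2 * j - 3 := by omega
  set d := 2 * j - 3 with hddef
  obtain ⟨c, hc⟩ := hodd
  obtain ⟨m0, hm0⟩ : ∃ m0, 2 * n = m0 + 1 := ⟨2 * n - 1, by omega⟩
  have hm0' : 2 * n - 1 = m0 := by omega
  rw [hm0', hm0, Nat.succ_div]
  by_cases hdvd : d ∣ m0 + 1
  · rw [if_pos hdvd]
    have h1 : m0 / d = (m0 / d + 1) - 1 := (Nat.add_sub_cancel (m0 / d) 1).symm
    conv_rhs => rw [h1]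
    symm
    apply log_pred _ (Nat.le_add_left 1 _)
    intro r hr
    -- d * 2^r = 2n
    obtain ⟨X, hX⟩ := hdvd
    have hX' : m0 / d + 1 = X := by
      have : (m0 + 1) / d = X := by rw [hX]; exact Nat.mul_div_cancel_left _ (by omega)
      rw [Nat.succ_div, if_pos ⟨X, hX⟩] at this
      exact this
    rw [hX'] at hr
    rw [hr, ← hm0] at hX
    rcases r with _ | _ | r
    · rw [pow_zero] at hX; omega
    · rw [zero_add, pow_one] at hX; omega
    · rw [pow_succ, pow_succ] at hX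
      have : 2 * n = 4 * (d * 2 ^ r) := by rw [hX]; ring
      omega
  · rw [if_neg hdvd, add_zero]

theorem bounds_odd (j : ℕ) (hj : 3 ≤ j) (hjs : j ≤ numVars n) :
    n < (2 * j - 3) * 2 ^ klog n j := by
  have h1 := QsC.klog_spec n j hn (by omega) hjs
  have hd := d_le n hn hodd j hjs
  obtain ⟨c, hc⟩ := hodd
  rcases Nat.eq_zero_or_pos (klog n j) with h0 | hpos
  · rw [h0, pow_zero, mul_one] at h1; omega
  · obtain ⟨r, hr⟩ : ∃ r, klog n j = r + 1 := ⟨klog n j - 1, by omega⟩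
    rw [hr, pow_succ] at h1 ⊢
    have : (2 * j - 3) * (2 ^ r * 2) = 2 * ((2 * j - 3) * 2 ^ r) := by ring
    omega

end Arith


section Ideals

variable (n : ℕ) (hn : 2 ≤ n) (hodd : Odd n)

theorem e1_mem : evar n 1 ∈ oddIdeal n := Ideal.subset_span (Or.inl (by simp))

theorem x2_mem : xvar n ^ 2 ∈ oddIdeal n := Ideal.subset_span (Or.inl (by simp))

theorem Gi_mem' (i : Fin (numVars n)) :
    evar n (i.val + 1) ^ 2 ^ kprime n (i.val + 1) ∈ oddIdeal n :=
  Ideal.subset_span (Or.inr ⟨i, rfl⟩)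

theorem e1_pow_mem (m : ℕ) (hm : 1 ≤ m) : evar n 1 ^ m ∈ oddIdeal n := by
  obtain ⟨m', rfl⟩ : ∃ m', m = m' + 1 := ⟨m - 1, by omega⟩
  rw [pow_succ]
  exact Ideal.mul_mem_left _ _ (e1_mem n)

include hn hodd

theorem presIdeal_le_odd : presIdeal n ≤ oddIdeal n := by
  have hs := numVars_ge n hn
  unfold presIdeal
  rw [Ideal.span_le]
  rintro g (hg | ⟨i, rfl⟩)
  · rcases hg with rfl | rfl | rfl
    · exact e1_pow_mem n n (by omega)
    · exact Ideal.mul_mem_right _ _ (e1_mem n)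
    · exact x2_mem n
  · show hrel n (i.val + 1) ∈ oddIdeal n
    unfold hrel
    by_cases h0 : i.val = 0
    · rw [if_neg (by omega), if_neg (by omega)]; exact zero_mem _
    · by_cases h1 : i.val = 1
      · rw [if_pos (by omega)]
        obtain ⟨hk, hlt⟩ := klog_two_odd n hn hodd
        refine add_mem (Ideal.mul_mem_right _ _ (e1_pow_mem n _ (by omega))) ?_
        unfold sPoly
        refine Ideal.sum_mem _ fun u hu => ?_
        rw [Finset.mem_range] at hu
        by_cases hu1 : u + 1 < klog n 2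
        · refine Ideal.mul_mem_right _ _ (e1_pow_mem n _ ?_)
          have : 2 ^ (u + 1) < 2 ^ klog n 2 := Nat.pow_lt_pow_right (by norm_num) hu1
          omega
        · have hu2 : u = kprime n 2 := by omega
          have := Gi_mem' n ⟨1, by omega⟩
          rw [hu2]
          exact Ideal.mul_mem_left _ _ this
      · have hi : 2 ≤ i.val := by omega
        rw [if_neg (by omega), if_pos ⟨by omega, i.isLt⟩]
        have hb := bounds_odd n hn hodd (i.val + 1) (by omega) i.isLt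
        refine add_mem (add_mem ?_ ?_) ?_
        · have := Gi_mem' n i
          rwa [kprime_ge_odd n hn hodd _ (by omega) i.isLt] at this
        · exact Ideal.mul_mem_right _ _ (e1_pow_mem n _ (by omega))
        · refine Ideal.mul_mem_right _ _ (e1_pow_mem n _ ?_)
          have : 1 ≤ 2 ^ klog n (i.val + 1) := Nat.one_le_two_pow
          have h2 : 2 ≤ 2 * (i.val + 1) - 4 := by omega
          calc 1 ≤ 2 * 1 := by norm_num
            _ ≤ (2 * (i.val + 1) - 4) * 2 ^ klog n (i.val + 1) := Nat.mul_le_mul h2 this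

theorem odd_le_sup : oddIdeal n ≤ presIdeal n ⊔ Ideal.span {evar n 1} := by
  have hs := numVars_ge n hn
  have hpres : ∀ g, g ∈ presIdeal n → g ∈ presIdeal n ⊔ Ideal.span {evar n 1} :=
    fun g hg => Ideal.mem_sup_left hg
  have he1 : ∀ g, evar n 1 * g ∈ presIdeal n ⊔ Ideal.span {evar n 1} := fun g =>
    Ideal.mem_sup_right (Ideal.mul_mem_right _ _ (Ideal.subset_span rfl))
  have he1pow : ∀ m g, 1 ≤ m → evar n 1 ^ m * g ∈ presIdeal n ⊔ Ideal.span {evar n 1} := by
    intro m g hm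
    obtain ⟨m', rfl⟩ : ∃ m', m = m' + 1 := ⟨m - 1, by omega⟩
    rw [pow_succ', mul_assoc]
    exact he1 _
  have hrel_mem : ∀ i : Fin (numVars n), hrel n (i.val + 1) ∈ presIdeal n := fun i =>
    Ideal.subset_span (Or.inr ⟨i, rfl⟩)
  unfold oddIdeal
  rw [Ideal.span_le]
  rintro g (hg | ⟨i, rfl⟩)
  · rcases hg with rfl | rfl
    · have := he1 1
      rwa [mul_one] at this
    · exact hpres _ (Ideal.subset_span (Or.inl (by simp)))
  · show evar n (i.val + 1) ^ 2 ^ kprime n (i.val + 1) ∈ _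
    by_cases h0 : i.val = 0
    · have h1 : kprime n (i.val + 1) = 0 := by
        rw [h0]; unfold kprime; rw [if_pos rfl]; exact twoExp_odd n hn hodd
      rw [h1, pow_zero, pow_one, h0]
      have := he1 1
      rwa [mul_one] at this
    · by_cases h1 : i.val = 1
      · obtain ⟨hk, hlt⟩ := klog_two_odd n hn hodd
        have hmem := hrel_mem ⟨1, by omega⟩
        have h2 : hrel n 2 = evar n 1 ^ (2 ^ klog n 2 - n) * xvar n + sPoly n 2 := by
          unfold hrel; rw [if_pos rfl]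
        have h3 : sPoly n 2 = ∑ t ∈ Finset.range (kprime n 2),
            evar n 1 ^ (2 ^ klog n 2 - 2 ^ (t + 1)) * evar n 2 ^ 2 ^ t +
            evar n 2 ^ 2 ^ kprime n 2 := by
          unfold sPoly
          rw [hk, Finset.sum_range_succ, Nat.sub_self, pow_zero, one_mul]
        have h4 : evar n (i.val + 1) ^ 2 ^ kprime n (i.val + 1) = hrel n 2 -
            (evar n 1 ^ (2 ^ klog n 2 - n) * xvar n + ∑ t ∈ Finset.range (kprime n 2),
            evar n 1 ^ (2 ^ klog n 2 - 2 ^ (t + 1)) * evar n 2 ^ 2 ^ t) := by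
          rw [h1, h2, h3]; ring
        rw [h4]
        refine Ideal.sub_mem _ (hpres _ hmem) (add_mem (he1pow _ _ (by omega)) ?_)
        refine Ideal.sum_mem _ fun u hu => he1pow _ _ ?_
        rw [Finset.mem_range] at hu
        have : 2 ^ (u + 1) < 2 ^ klog n 2 := Nat.pow_lt_pow_right (by norm_num) (by omega)
        omega
      · have hi : 2 ≤ i.val := by omega
        have hb := bounds_odd n hn hodd (i.val + 1) (by omega) i.isLt
        have hmem := hrel_mem i
        have h2 : hrel n (i.val + 1) = evar n (i.val + 1) ^ 2 ^ klog n (i.val + 1) +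
            evar n 1 ^ ((2 * (i.val + 1) - 3) * 2 ^ klog n (i.val + 1) - n) * xvar n +
            evar n 1 ^ ((2 * (i.val + 1) - 4) * 2 ^ klog n (i.val + 1)) * sPoly n (i.val + 1) := by
          unfold hrel; rw [if_neg (by omega), if_pos ⟨by omega, i.isLt⟩]
        have h4 : evar n (i.val + 1) ^ 2 ^ kprime n (i.val + 1) = hrel n (i.val + 1) -
            (evar n 1 ^ ((2 * (i.val + 1) - 3) * 2 ^ klog n (i.val + 1) - n) * xvar n +
            evar n 1 ^ ((2 * (i.val + 1) - 4) * 2 ^ klog n (i.val + 1)) * sPoly n (i.val + 1)) := by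
          rw [kprime_ge_odd n hn hodd _ (by omega) i.isLt, h2]; ring
        rw [h4]
        refine Ideal.sub_mem _ (hpres _ hmem) (add_mem (he1pow _ _ (by omega)) (he1pow _ _ ?_))
        have : 1 ≤ 2 ^ klog n (i.val + 1) := Nat.one_le_two_pow
        have h2' : 2 ≤ 2 * (i.val + 1) - 4 := by omega
        calc 1 ≤ 2 * 1 := by norm_num
          _ ≤ (2 * (i.val + 1) - 4) * 2 ^ klog n (i.val + 1) := Nat.mul_le_mul h2' this

end Ideals

theorem main (n : ℕ) (hn : 2 ≤ n)
    (τ : QsChow.P n →ₐ[ZMod 2] QsChow.P n) (hτ1 : τ (QsChow.eps n 1) = QsChow.eps n 1)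
    (hτ : ∀ j : ℕ, 2 ≤ j → j ≤ QsChow.numVars n →
      τ (QsChow.eps n j) = QsChow.eps n j + QsChow.eps n 1 ^ (2 * j - 3))
    (hodd : Odd n) (q : QsChow.FreeE n) :
    (∃ w : QsChow.P n, τ w = w ∧ QsChow.phi n q = QsChow.eps n 1 * w) ↔ q ∈ QsChow.oddIdeal n := by
  have hrange := QsB.main n hn τ hτ1 hτ
  have hker := QsI.main n hn
  have hfix : ∀ w : P n, τ w = w ↔ w ∈ (phi n).range := by
    intro w
    rw [hrange]
    exact (AlgHom.mem_equalizer τ (AlgHom.id (ZMod 2) (P n)) w).symm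
  have hphi1 : phi n (evar n 1) = eps n 1 := phi_evar_one n hn
  constructor
  · rintro ⟨w, hw, hq⟩
    obtain ⟨r, hr⟩ := (hfix w).1 hw
    have hr' : phi n r = w := hr
    subst hr'
    have h1 : q - evar n 1 * r ∈ presIdeal n := by
      rw [← hker]
      show phi n (q - evar n 1 * r) = 0
      rw [map_sub, map_mul, hphi1, hq, sub_self]
    have h2 : q = (q - evar n 1 * r) + evar n 1 * r := by ring
    rw [h2]
    exact add_mem (presIdeal_le_odd n hn hodd h1) (Ideal.mul_mem_right _ _ (e1_mem n))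
  · intro hq
    have := odd_le_sup n hn hodd hq
    rw [Submodule.mem_sup] at this
    obtain ⟨p, hp, g, hg, rfl⟩ := this
    rw [Ideal.mem_span_singleton'] at hg
    obtain ⟨r, rfl⟩ := hg
    refine ⟨phi n r, (hfix _).2 ⟨r, rfl⟩, ?_⟩
    have hp0 : phi n p = 0 := by
      have : p ∈ RingHom.ker (phi n) := by rw [hker]; exact hp
      exact this
    rw [map_add, hp0, zero_add, map_mul, hphi1, mul_comm]

end Groth.Agent.Lib.Helper93.QsK
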