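import Groth.Agent.Lib.Helper93.QsK

set_option autoImplicit false

namespace Groth.Agent.Lib.Helper93.QsL

open MvPolynomial QsChow
open Groth.Agent.Lib.Helper93 Groth.Agent.Lib.Helper93.QsD

/-- `n = 2^a m` with `m` odd -/
theorem exists_odd_factor (n : ℕ) (hn : 2 ≤ n) (hne : n ≠ 2 ^ twoExp n) :
    ∃ m : ℕ, Odd m ∧ 3 ≤ m ∧ n = 2 ^ twoExp n * m := by
  unfold twoExp at hne ⊢
  have hdvd : 2 ^ padicValNat 2 n ∣ n := pow_padicValNat_dvd
  have hnd : ¬ 2 ^ (padicValNat 2 n + 1) ∣ n := pow_succ_padicValNat_not_dvd (by omega)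
  generalize padicValNat 2 n = a at hne hdvd hnd ⊢
  obtain ⟨m, hm⟩ := hdvd
  have hodd : Odd m := by
    rw [← Nat.not_even_iff_odd]
    rintro ⟨c, hc⟩
    apply hnd
    refine ⟨c, ?_⟩
    rw [hm, hc, pow_succ]; ring
  refine ⟨m, hodd, ?_, hm⟩
  obtain ⟨c, hc⟩ := hodd
  rcases Nat.eq_zero_or_pos c with rfl | hpos
  · exfalso; apply hne; rw [hm, hc]; ring
  · omega

section Arith

variable (n a m : ℕ) (ha : 1 ≤ a) (hm : Odd m) (hm3 : 3 ≤ m) (hnm : n = 2 ^ a * m)
include ha hm hm3 hnm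

theorem two_le' : 2 ≤ n := by
  have : 1 ≤ 2 ^ a := Nat.one_le_two_pow
  rw [hnm]; nlinarith

theorem not_pow (r : ℕ) : n ≠ 2 ^ r := by
  intro h
  rw [hnm] at h
  have h1 : m ∣ 2 ^ r := ⟨2 ^ a, by rw [← h]; ring⟩
  obtain ⟨r', _, hr'⟩ := (Nat.dvd_prime_pow Nat.prime_two).1 h1
  obtain ⟨c, hc⟩ := hm
  rcases r' with _ | r'
  · rw [pow_zero] at hr'; omega
  · rw [pow_succ] at hr'; omega

-- an odd number dividing `2^r * m'` relations
omit ha hm3 hnm in
theorem d_eq_m (d r : ℕ) (hd : Odd d) (h : d * 2 ^ r = 2 ^ (a + 1) * m) : d = m := by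
  have hc1 : Nat.Coprime d (2 ^ (a + 1)) :=
    Nat.Coprime.pow_right _ (Nat.coprime_two_right.2 hd)  
  have hc2 : Nat.Coprime m (2 ^ r) :=
    Nat.Coprime.pow_right _ (Nat.coprime_two_right.2 hm)
  have h1 : d ∣ m := hc1.dvd_of_dvd_mul_left ⟨2 ^ r, h.symm⟩
  have h2 : m ∣ d := hc2.dvd_of_dvd_mul_right ⟨2 ^ (a + 1), by rw [h]; ring⟩
  exact Nat.dvd_antisymm h1 h2


theorem klog_two_even : klog n 2 = Nat.log 2 n + 1 ∧ n < 2 ^ klog n 2 ∧ a + 1 ≤ Nat.log 2 n ∧
    n + 2 ^ a ≤ 2 ^ klog n 2 := by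
  have hn := two_le' n a m ha hm hm3 hnm
  have h1 : 2 ^ Nat.log 2 n ≤ n := Nat.pow_log_le_self 2 (by omega)
  have h2 : n < 2 ^ (Nat.log 2 n + 1) := Nat.lt_pow_succ_log_self (by norm_num) n
  have h3 := not_pow n a m ha hm hm3 hnm (Nat.log 2 n)
  have h5 : 2 ^ (Nat.log 2 n + 1) = 2 * 2 ^ Nat.log 2 n := pow_succ' _ _
  have h6 : 2 ^ (Nat.log 2 n + 1 + 1) = 2 * 2 ^ (Nat.log 2 n + 1) := pow_succ' _ _
  have hkl : klog n 2 = Nat.log 2 n + 1 := by
    unfold klog
    norm_num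
    exact Nat.log_eq_of_pow_le_of_lt_pow (by omega) (by omega)
  have ha1 : a + 1 ≤ Nat.log 2 n := by
    apply Nat.le_log_of_pow_le (by norm_num)
    rw [hnm, pow_succ]
    exact Nat.mul_le_mul_left _ (by omega)
  refine ⟨hkl, by rw [hkl]; exact h2, ha1, ?_⟩
  rw [hkl]
  obtain ⟨c, hc⟩ : ∃ c, Nat.log 2 n + 1 = a + c := ⟨Nat.log 2 n + 1 - a, by omega⟩
  rw [hc, pow_add] at h2 ⊢
  rw [hnm] at h2 ⊢
  have h7 : m < 2 ^ c := Nat.lt_of_mul_lt_mul_left h2
  calc 2 ^ a * m + 2 ^ a = 2 ^ a * (m + 1) := by ring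
    _ ≤ 2 ^ a * 2 ^ c := Nat.mul_le_mul_left _ h7

theorem lIdx_facts (hta : twoExp n = a) :
    2 * lIdx n - 3 = m ∧ 3 ≤ lIdx n ∧ lIdx n ≤ numVars n := by
  have hl : lIdx n = (m + 3) / 2 := by
    unfold lIdx
    rw [hta, hnm, Nat.mul_div_cancel_left _ (Nat.two_pow_pos a)]
  obtain ⟨c, hc⟩ := hm
  have hnv : m ≤ n / 2 := by
    obtain ⟨a', rfl⟩ : ∃ a', a = a' + 1 := ⟨a - 1, by omega⟩
    have : n = 2 * (2 ^ a' * m) := by rw [hnm, pow_succ]; ring
    rw [this, Nat.mul_div_cancel_left _ (by norm_num)]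
    exact Nat.le_mul_of_pos_left _ (Nat.two_pow_pos _)
  rw [hl]
  unfold numVars
  omega

theorem klog_l (l : ℕ) (hl : 2 * l - 3 = m) : klog n l = a := by
  unfold klog
  rw [hl]
  have h1 : 2 ^ (a + 1) = 2 * 2 ^ a := pow_succ' _ _
  have hp : 1 ≤ 2 ^ a := Nat.one_le_two_pow
  have h2 : (2 * n - 1) / m = 2 ^ (a + 1) - 1 := by
    apply Nat.div_eq_of_lt_le
    · rw [hnm, Nat.sub_mul, one_mul]
      have : 2 ^ (a + 1) * m = 2 * (2 ^ a * m) := by rw [h1]; ring
      have hm1 : m ≤ 2 ^ a * m := Nat.le_mul_of_pos_left _ (by omega)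
      omega
    · have : (2 ^ (a + 1) - 1 + 1) * m = 2 * n := by
        rw [Nat.sub_add_cancel (by omega), hnm, h1]; ring
      rw [this]
      have := two_le' n a m ha hm hm3 hnm
      omega
  rw [h2]
  exact Nat.log_eq_of_pow_le_of_lt_pow (by omega) (by omega)

theorem kprime_l (l : ℕ) (hl : 2 * l - 3 = m) (hl3 : 3 ≤ l) : kprime n l = a + 1 := by
  unfold kprime
  rw [if_neg (by omega), if_neg (by omega), hl]
  have : 2 * n / m = 2 ^ (a + 1) := by
    have h : 2 * n = 2 ^ (a + 1) * m := by rw [hnm, pow_succ]; ring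
    rw [h, Nat.mul_div_cancel _ (by omega)]
  rw [this, Nat.log_pow (by norm_num)]

theorem facts_j (j : ℕ) (hj : 3 ≤ j) (hjs : j ≤ numVars n) (hjm : 2 * j - 3 ≠ m) :
    kprime n j = klog n j ∧ n < (2 * j - 3) * 2 ^ klog n j ∧
      2 ^ a ≤ (2 * j - 4) * 2 ^ klog n j := by
  have hn := two_le' n a m ha hm hm3 hnm
  have hdodd : Odd (2 * j - 3) := ⟨j - 2, by omega⟩
  have h2n : 2 * n = 2 ^ (a + 1) * m := by rw [hnm, pow_succ]; ring
  have h1 := QsC.klog_spec n j hn (by omega) hjs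
  refine ⟨?_, ?_, ?_⟩
  · unfold kprime klog
    rw [if_neg (by omega), if_neg (by omega)]
    have hd3 : 3 ≤ 2 * j - 3 := by omega
    set d := 2 * j - 3 with hddef
    obtain ⟨m0, hm0⟩ : ∃ m0, 2 * n = m0 + 1 := ⟨2 * n - 1, by omega⟩
    have hm0' : 2 * n - 1 = m0 := by omega
    rw [hm0', hm0, Nat.succ_div]
    by_cases hdvd : d ∣ m0 + 1
    · rw [if_pos hdvd]
      have h1' : m0 / d = (m0 / d + 1) - 1 := (Nat.add_sub_cancel (m0 / d) 1).symm
      conv_rhs => rw [h1']
      symm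
      apply QsK.log_pred _ (Nat.le_add_left 1 _)
      intro r hr
      obtain ⟨X, hX⟩ := hdvd
      have hX' : m0 / d + 1 = X := by
        have : (m0 + 1) / d = X := by rw [hX]; exact Nat.mul_div_cancel_left _ (by omega)
        rw [Nat.succ_div, if_pos ⟨X, hX⟩] at this
        exact this
      rw [hX'] at hr
      rw [hr, ← hm0, h2n] at hX
      exact hjm (d_eq_m a m hm d r hdodd hX.symm)
    · rw [if_neg hdvd, add_zero]
  · rcases Nat.lt_or_ge n ((2 * j - 3) * 2 ^ klog n j) with h | h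
    · exact h
    · exfalso
      have heq : (2 * j - 3) * 2 ^ klog n j = n := le_antisymm h h1
      apply hjm
      apply d_eq_m a m hm (2 * j - 3) (klog n j + 1) hdodd
      rw [pow_succ, ← mul_assoc, heq, ← h2n]; ring
  · generalize klog n j = k at h1 ⊢
    rcases Nat.lt_or_ge k a with hlt | hge
    · obtain ⟨r, hr⟩ : ∃ r, a = k + (r + 1) := ⟨a - k - 1, by omega⟩
      have h3 : n = 2 ^ k * (2 ^ (r + 1) * m) := by rw [hnm, hr, pow_add]; ring
      have hpos : 0 < 2 ^ k := Nat.two_pow_pos _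
      have h4 : 2 ^ (r + 1) * m ≤ 2 * j - 3 := by
        have h1' : 2 ^ k * (2 ^ (r + 1) * m) ≤ 2 ^ k * (2 * j - 3) := by
          rw [← h3, mul_comm]; exact h1
        exact Nat.le_of_mul_le_mul_left h1' hpos
      have h5 : 2 ^ (r + 1) * 3 ≤ 2 ^ (r + 1) * m := Nat.mul_le_mul_left _ hm3
      have h6 : 1 ≤ 2 ^ (r + 1) := Nat.one_le_two_pow
      have h7 : 2 ^ (r + 1) ≤ 2 * j - 4 := by omega
      rw [hr, pow_add, mul_comm (2 * j - 4)]
      exact Nat.mul_le_mul_left _ h7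
    · calc 2 ^ a ≤ 2 ^ k := Nat.pow_le_pow_right (by norm_num) hge
        _ ≤ (2 * j - 4) * 2 ^ k := Nat.le_mul_of_pos_left _ (by omega)

end Arith

section Alg

open Groth.Agent.Lib.Helper93.QsJ Groth.Agent.Lib.Helper93.QsF Groth.Agent.Lib.Helper93.QsG

/-- the element `R = e_l^(2^a) + e_1^B S_a` with `ψ(R) = x̄` -/
noncomputable def RR (n a : ℕ) (il : Fin (numVars n)) : FreeP n :=
  X il ^ 2 ^ a + evarE n 1 ^ ((2 * (il.val + 1) - 4) * 2 ^ a) * SP n a

/-- the retraction `x ↦ R` -/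
noncomputable def rho' (n a : ℕ) (il : Fin (numVars n)) : FreeE n →ₐ[ZMod 2] FreeP n :=
  aeval (fun o : Option (Fin (numVars n)) => Option.elim o (RR n a il) X)

theorem rho'_rename (n a : ℕ) (il : Fin (numVars n)) (q : FreeP n) :
    rho' n a il (rename some q) = q := by
  unfold rho'
  rw [aeval_rename]
  have : ((fun o : Option (Fin (numVars n)) => Option.elim o (RR n a il) X) ∘ some) = X := rfl
  rw [this, aeval_X_left, AlgHom.id_apply]

theorem rho'_evar (n a : ℕ) (il : Fin (numVars n)) (i : Fin (numVars n)) :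
    rho' n a il (evar n (i.val + 1)) = X i := by
  rw [evar_eq]
  unfold rho'
  rw [aeval_X]
  rfl

theorem rho'_xvar (n a : ℕ) (il : Fin (numVars n)) : rho' n a il (xvar n) = RR n a il := by
  unfold rho' xvar
  rw [aeval_X]
  rfl

theorem rho'_evar_one (n a : ℕ) (il : Fin (numVars n)) (hn : 2 ≤ n) :
    rho' n a il (evar n 1) = evarE n 1 := by
  have hs := numVars_ge n hn
  have h := rho'_evar n a il ⟨0, by omega⟩
  rw [← evarE_eq] at h
  exact h

theorem rho'_evar_two (n a : ℕ) (il : Fin (numVars n)) (hn : 2 ≤ n) :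
    rho' n a il (evar n 2) = evarE n 2 := by
  have hs := numVars_ge n hn
  have h := rho'_evar n a il ⟨1, by omega⟩
  rw [← evarE_eq] at h
  exact h

theorem rho'_sPoly (n a : ℕ) (il : Fin (numVars n)) (hn : 2 ≤ n) (j : ℕ) :
    rho' n a il (sPoly n j) = SP n (klog n j) := by
  unfold sPoly SP
  rw [map_sum]
  refine Finset.sum_congr rfl fun u _ => ?_
  rw [map_mul, map_pow, map_pow, rho'_evar_one n a il hn, rho'_evar_two n a il hn]

variable (n a m : ℕ) (ha : 1 ≤ a) (hm : Odd m) (hm3 : 3 ≤ m) (hnm : n = 2 ^ a * m)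
  (hta : twoExp n = a) (il : Fin (numVars n)) (hil : lIdx n = il.val + 1)
include ha hm hm3 hnm hta hil

theorem il_facts : 2 ≤ il.val ∧ 2 * (il.val + 1) - 3 = m ∧ klog n (il.val + 1) = a ∧
    kprime n (il.val + 1) = a + 1 ∧ (2 * (il.val + 1) - 4) * 2 ^ a + 2 ^ a = n ∧
    2 ^ (a + 1) ≤ n := by
  obtain ⟨h1, h2, h3⟩ := lIdx_facts n a m ha hm hm3 hnm hta
  rw [hil] at h1 h2
  refine ⟨by omega, h1, klog_l n a m ha hm hm3 hnm _ h1, kprime_l n a m ha hm hm3 hnm _ h1 h2,
    ?_, ?_⟩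
  · have : 2 * (il.val + 1) - 4 = m - 1 := by omega
    rw [this, hnm]
    obtain ⟨m', rfl⟩ : ∃ m', m = m' + 1 := ⟨m - 1, by omega⟩
    rw [Nat.add_sub_cancel]; ring
  · rw [hnm, pow_succ]
    exact Nat.mul_le_mul_left _ (by omega)

theorem psi_RR : psi n (RR n a il) = tt n ^ (n - 1) * yy n := by
  obtain ⟨hl2, hlm, hkl, hkpl, hB, h2a⟩ := il_facts n a m ha hm hm3 hnm hta il hil
  have hn := two_le' n a m ha hm hm3 hnm
  have hz := zz_pow n il hl2
  rw [hkl] at hz
  unfold RR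
  rw [map_add, map_pow, map_mul, map_pow, psi_X, psi_evarE_one n hn, psi_SP n hn, hz,
    yy_pow_two_pow n a, mul_add, ← mul_assoc, ← pow_add]
  have he : (2 * (il.val + 1) - 4) * 2 ^ a + (2 ^ a - 1) = n - 1 := by
    have := Nat.one_le_two_pow (n := a); omega
  rw [he, add_comm, ← add_assoc, QsD.h2, zero_add]

theorem range_psi'
    (τ : QsChow.P n →ₐ[ZMod 2] QsChow.P n) (hτ1 : τ (QsChow.eps n 1) = QsChow.eps n 1)
    (hτ : ∀ j : ℕ, 2 ≤ j → j ≤ QsChow.numVars n →
      τ (QsChow.eps n j) = QsChow.eps n j + QsChow.eps n 1 ^ (2 * j - 3)) :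
    (QsChow.psi n).range = AlgHom.equalizer τ (AlgHom.id (ZMod 2) (QsChow.P n)) := by
  have hn := two_le' n a m ha hm hm3 hnm
  rw [← QsB.main n hn τ hτ1 hτ]
  apply le_antisymm
  · rintro _ ⟨q, rfl⟩
    refine ⟨rename some q, ?_⟩
    show phi n (rename some q) = psi n q
    unfold phi psi
    rw [aeval_rename]
    rfl
  · show (aeval (genImage n)).range ≤ _
    rw [← Algebra.adjoin_range_eq_range_aeval]
    refine Algebra.adjoin_le ?_
    rintro _ ⟨o, rfl⟩
    cases o with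
    | none =>
      show tt n ^ (n - 1) * yy n ∈ _
      rw [← psi_RR n a m ha hm hm3 hnm hta il hil]
      exact ⟨_, rfl⟩
    | some i => exact ⟨X i, psi_X n i⟩

theorem G0_mem' : evarE n 1 * X il ^ 2 ^ a ∈ evenIdeal n := by
  obtain ⟨hl2, hlm, hkl, hkpl, hB, h2a⟩ := il_facts n a m ha hm hm3 hnm hta il hil
  refine Ideal.subset_span (Or.inl ?_)
  rw [Set.mem_singleton_iff, hil, hkpl, evarE_eq, Nat.add_sub_cancel]

omit ha hm hm3 hnm hta hil in
theorem Gi_mem' (i : Fin (numVars n)) :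
    X i ^ 2 ^ kprime n (i.val + 1) ∈ evenIdeal n := by
  rw [← evarE_eq]
  exact Ideal.subset_span (Or.inr ⟨i, rfl⟩)

theorem e1_pow_mem' (r : ℕ) (hr : 2 ^ a ≤ r) : evarE n 1 ^ r ∈ evenIdeal n := by
  have hn := two_le' n a m ha hm hm3 hnm
  have hs := numVars_ge n hn
  have h := Gi_mem' n ⟨0, by omega⟩
  have h1 : kprime n ((⟨0, by omega⟩ : Fin (numVars n)).val + 1) = a := by
    show kprime n (0 + 1) = a
    unfold kprime
    rw [if_pos rfl, hta]
  rw [h1, ← evarE_eq] at h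
  obtain ⟨r', rfl⟩ := Nat.exists_eq_add_of_le hr
  rw [pow_add]
  exact Ideal.mul_mem_right _ _ h

theorem Gl_mem' : X il ^ 2 ^ (a + 1) ∈ evenIdeal n := by
  obtain ⟨hl2, hlm, hkl, hkpl, hB, h2a⟩ := il_facts n a m ha hm hm3 hnm hta il hil
  have h := Gi_mem' n il
  rwa [hkpl] at h

theorem G2_mem' : evarE n 2 ^ 2 ^ (klog n 2 - 1) ∈ evenIdeal n := by
  have hn := two_le' n a m ha hm hm3 hnm
  have hs := numVars_ge n hn
  obtain ⟨hk1, hk2, hk3, hk4⟩ := klog_two_even n a m ha hm hm3 hnm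
  have h := Gi_mem' n ⟨1, by omega⟩
  have h1 : kprime n ((⟨1, by omega⟩ : Fin (numVars n)).val + 1) = klog n 2 - 1 := by
    show kprime n (1 + 1) = klog n 2 - 1
    unfold kprime
    rw [if_neg (by norm_num), if_pos rfl, hk1, Nat.add_sub_cancel]
  rw [h1, ← evarE_eq] at h
  exact h

theorem Gj_mem' (i : Fin (numVars n)) (hi : 2 ≤ i.val) (hne : i.val ≠ il.val) :
    X i ^ 2 ^ klog n (i.val + 1) ∈ evenIdeal n := by
  obtain ⟨hl2, hlm, hkl, hkpl, hB, h2a⟩ := il_facts n a m ha hm hm3 hnm hta il hil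
  have h := Gi_mem' n i
  rwa [(facts_j n a m ha hm hm3 hnm (i.val + 1) (by omega) i.isLt (by omega)).1] at h

theorem rho'_presIdeal (q : FreeE n) (hq : q ∈ presIdeal n) : rho' n a il q ∈ evenIdeal n := by
  obtain ⟨hl2, hlm, hkl, hkpl, hB, h2a⟩ := il_facts n a m ha hm hm3 hnm hta il hil
  have hn := two_le' n a m ha hm hm3 hnm
  have hs := numVars_ge n hn
  have hp1 : 1 ≤ 2 ^ a := Nat.one_le_two_pow
  have he1 := e1_pow_mem' n a m ha hm hm3 hnm hta il hil
  have hle : presIdeal n ≤ (evenIdeal n).comap (rho' n a il) := by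
    unfold presIdeal
    rw [Ideal.span_le]
    rintro g (hg | ⟨i, rfl⟩)
    · rcases hg with rfl | rfl | rfl
      · show rho' n a il _ ∈ evenIdeal n
        rw [map_pow, rho'_evar_one n a il hn]
        exact he1 n (by omega)
      · show rho' n a il _ ∈ evenIdeal n
        rw [map_mul, rho'_evar_one n a il hn, rho'_xvar]
        unfold RR
        rw [mul_add, ← mul_assoc, ← pow_succ']
        exact add_mem (G0_mem' n a m ha hm hm3 hnm hta il hil)
          (Ideal.mul_mem_right _ _ (he1 _ (by omega)))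
      · show rho' n a il _ ∈ evenIdeal n
        rw [map_pow, rho'_xvar]
        unfold RR
        rw [QsC.add_sq' (fun p : FreeP n => add_self' p), ← pow_mul, ← pow_succ, mul_pow, ← pow_mul]
        refine add_mem (Gl_mem' n a m ha hm hm3 hnm hta il hil)
          (Ideal.mul_mem_right _ _ (he1 _ ?_))
        omega
    · show rho' n a il (hrel n (i.val + 1)) ∈ evenIdeal n
      unfold hrel
      by_cases h0 : i.val = 0
      · rw [if_neg (by omega), if_neg (by omega), map_zero]; exact zero_mem _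
      · by_cases h1 : i.val = 1
        · obtain ⟨hk1, hk2, hk3, hk4⟩ := klog_two_even n a m ha hm hm3 hnm
          rw [if_pos (by omega), map_add, map_mul, map_pow, rho'_evar_one n a il hn, rho'_xvar,
            rho'_sPoly n a il hn]
          refine add_mem (Ideal.mul_mem_right _ _ (he1 _ (by omega))) ?_
          unfold SP
          refine Ideal.sum_mem _ fun u hu => ?_
          rw [Finset.mem_range] at hu
          by_cases hub : u + 1 < klog n 2
          · refine Ideal.mul_mem_right _ _ (he1 _ ?_)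
            have h3 : 2 ^ (u + 1) ≤ 2 ^ (klog n 2 - 1) :=
              Nat.pow_le_pow_right (by norm_num) (by omega)
            have h4 : 2 ^ klog n 2 = 2 * 2 ^ (klog n 2 - 1) := by
              rw [← pow_succ']; congr 1; omega
            have h5 : 2 ^ (a + 1) ≤ 2 ^ (klog n 2 - 1) :=
              Nat.pow_le_pow_right (by norm_num) (by omega)
            have h6 : 2 ^ (a + 1) = 2 * 2 ^ a := pow_succ' _ _
            omega
          · have hub' : u = klog n 2 - 1 := by omega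
            rw [hub']
            exact Ideal.mul_mem_left _ _ (G2_mem' n a m ha hm hm3 hnm hta il hil)
        · have hi : 2 ≤ i.val := by omega
          rw [if_neg (by omega), if_pos ⟨by omega, i.isLt⟩, map_add, map_add, map_mul, map_mul,
            map_pow, map_pow, map_pow, rho'_evar_one n a il hn, rho'_xvar, rho'_sPoly n a il hn,
            rho'_evar]
          by_cases hil' : i.val = il.val
          · have hii : i = il := Fin.ext hil'
            subst hii
            rw [hkl]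
            have h0' : (2 * (i.val + 1) - 3) * 2 ^ a - n = 0 := by
              rw [hlm, mul_comm, ← hnm]; exact Nat.sub_self _
            rw [h0', pow_zero, one_mul]
            unfold RR
            have : X i ^ 2 ^ a + (X i ^ 2 ^ a + evarE n 1 ^ ((2 * (i.val + 1) - 4) * 2 ^ a) * SP n a)
                + evarE n 1 ^ ((2 * (i.val + 1) - 4) * 2 ^ a) * SP n a = 0 := by
              rw [← add_assoc, add_self', zero_add, add_self']
            rw [this]
            exact zero_mem _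
          · obtain ⟨hf1, hf2, hf3⟩ := facts_j n a m ha hm hm3 hnm (i.val + 1) (by omega) i.isLt
              (by omega)
            refine add_mem (add_mem ?_ ?_) ?_
            · exact Gj_mem' n a m ha hm hm3 hnm hta il hil i hi hil'
            · obtain ⟨A, hA⟩ : ∃ A, (2 * (i.val + 1) - 3) * 2 ^ klog n (i.val + 1) - n = A + 1 :=
                ⟨(2 * (i.val + 1) - 3) * 2 ^ klog n (i.val + 1) - n - 1, by omega⟩
              rw [hA]
              unfold RR
              rw [mul_add, ← mul_assoc, ← pow_add]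
              refine add_mem ?_ (Ideal.mul_mem_right _ _ (he1 _ (by omega)))
              rw [pow_succ, mul_assoc]
              exact Ideal.mul_mem_left _ _ (G0_mem' n a m ha hm hm3 hnm hta il hil)
            · exact Ideal.mul_mem_right _ _ (he1 _ hf3)
  exact hle hq

theorem ker_psi_le : RingHom.ker (psi n) ≤ evenIdeal n := by
  have hn := two_le' n a m ha hm hm3 hnm
  intro q hq
  have hq0 : psi n q = 0 := hq
  have h1 : rename some q ∈ presIdeal n := by
    rw [← QsI.main n hn]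
    show phi n (rename some q) = 0
    unfold phi
    rw [aeval_rename]
    exact hq0
  have h2 := rho'_presIdeal n a m ha hm hm3 hnm hta il hil _ h1
  rwa [rho'_rename] at h2

omit ha hm hm3 hnm hta hil in
/-- the ideal of `q` with `ψ(q) ∈ t^(2^a) ψ(F_2[e])` -/
noncomputable def JJ (n a : ℕ) : Ideal (FreeP n) where
  carrier := {q | ∃ q' : FreeP n, psi n q = tt n ^ 2 ^ a * psi n q'}
  add_mem' := by
    rintro _ _ ⟨q1, h1⟩ ⟨q2, h2⟩
    exact ⟨q1 + q2, by rw [map_add, map_add, h1, h2, mul_add]⟩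
  zero_mem' := ⟨0, by simp⟩
  smul_mem' := by
    rintro c _ ⟨q1, h1⟩
    exact ⟨c * q1, by rw [smul_eq_mul, map_mul, map_mul, h1]; ring⟩

theorem even_le_JJ : evenIdeal n ≤ JJ n a := by
  obtain ⟨hl2, hlm, hkl, hkpl, hB, h2a⟩ := il_facts n a m ha hm hm3 hnm hta il hil
  have hn := two_le' n a m ha hm hm3 hnm
  have hs := numVars_ge n hn
  have hp1 : 1 ≤ 2 ^ a := Nat.one_le_two_pow
  have h2a' : 2 ^ (a + 1) = 2 * 2 ^ a := pow_succ' _ _
  have hz := zz_pow n il hl2
  rw [hkl] at hz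
  unfold evenIdeal
  rw [Ideal.span_le]
  rintro g (hg | ⟨i, rfl⟩)
  · rw [Set.mem_singleton_iff] at hg
    subst hg
    rw [hil, hkpl, evarE_eq, Nat.add_sub_cancel]
    refine ⟨evarE n 1 ^ ((2 * (il.val + 1) - 4) * 2 ^ a + 1 - 2 ^ a) * SP n a, ?_⟩
    rw [map_mul, map_pow, psi_X, psi_evarE_one n hn, hz, map_mul, map_pow, psi_evarE_one n hn,
      psi_SP n hn, yy_pow_two_pow n a, ← mul_assoc, ← pow_succ', mul_add, ← mul_assoc, ← pow_add,
      ← mul_assoc, ← pow_add]
    have e1 : (2 * (il.val + 1) - 4) * 2 ^ a + 1 + (2 ^ a - 1) = n := by omega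
    have e2 : 2 ^ a + ((2 * (il.val + 1) - 4) * 2 ^ a + 1 - 2 ^ a) =
        (2 * (il.val + 1) - 4) * 2 ^ a + 1 := by omega
    rw [e1, e2, tt_pow n hn, zero_mul, add_zero]
  · show ∃ q' : FreeP n, psi n (evarE n (i.val + 1) ^ 2 ^ kprime n (i.val + 1)) =
      tt n ^ 2 ^ a * psi n q'
    rw [evarE_eq, map_pow, psi_X]
    by_cases h0 : i.val = 0
    · refine ⟨1, ?_⟩
      have h1 : kprime n (i.val + 1) = a := by
        rw [h0]
        show kprime n (0 + 1) = a
        unfold kprime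
        rw [if_pos rfl, hta]
      rw [zz_zero n i h0, h1, map_one, mul_one]
    · by_cases h1 : i.val = 1
      · obtain ⟨hk1, hk2, hk3, hk4⟩ := klog_two_even n a m ha hm hm3 hnm
        have hkp : kprime n (i.val + 1) = klog n 2 - 1 := by
          rw [h1]
          show kprime n (1 + 1) = klog n 2 - 1
          unfold kprime
          rw [if_neg (by norm_num), if_pos rfl, hk1, Nat.add_sub_cancel]
        refine ⟨∑ u ∈ Finset.range (klog n 2 - 1),
          evarE n 1 ^ (2 ^ klog n 2 - 2 ^ (u + 1) - 2 ^ a) * evarE n 2 ^ 2 ^ u, ?_⟩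
        rw [zz_one n i h1, hkp, ee_pow n hn, tt_pow_of_le n hn (2 ^ klog n 2 - 1) (by omega),
          zero_mul, add_zero, map_sum, Finset.mul_sum]
        refine Finset.sum_congr rfl fun u hu => ?_
        rw [Finset.mem_range] at hu
        rw [map_mul, map_pow, map_pow, psi_evarE_one n hn, psi_evarE_two n hn, ← mul_assoc,
          ← pow_add]
        congr 2
        have h3 : 2 ^ (u + 1) ≤ 2 ^ (klog n 2 - 1) :=
          Nat.pow_le_pow_right (by norm_num) (by omega)
        have h4 : 2 ^ klog n 2 = 2 * 2 ^ (klog n 2 - 1) := by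
          rw [← pow_succ']; congr 1; omega
        have h5 : 2 ^ (a + 1) ≤ 2 ^ (klog n 2 - 1) :=
          Nat.pow_le_pow_right (by norm_num) (by omega)
        omega
      · have hi : 2 ≤ i.val := by omega
        by_cases hil' : i.val = il.val
        · have hii : i = il := Fin.ext hil'
          subst hii
          refine ⟨0, ?_⟩
          rw [hkpl, pow_succ, pow_mul, hz, mul_pow, ← pow_mul,
            tt_pow_of_le n hn _ (by omega), zero_mul, map_zero, mul_zero]
        · obtain ⟨hf1, hf2, hf3⟩ := facts_j n a m ha hm hm3 hnm (i.val + 1) (by omega) i.isLt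
            (by omega)
          refine ⟨evarE n 1 ^ ((2 * (i.val + 1) - 4) * 2 ^ klog n (i.val + 1) - 2 ^ a) *
            SP n (klog n (i.val + 1)), ?_⟩
          rw [hf1, zz_pow n i hi, yy_pow_two_pow, mul_add, ← mul_assoc, ← pow_add, map_mul, map_pow,
            psi_evarE_one n hn, psi_SP n hn, ← mul_assoc, ← pow_add]
          have hp2 : 1 ≤ 2 ^ klog n (i.val + 1) := Nat.one_le_two_pow
          have e1 : n ≤ (2 * (i.val + 1) - 4) * 2 ^ klog n (i.val + 1) +
              (2 ^ klog n (i.val + 1) - 1) := by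
            have : (2 * (i.val + 1) - 3) * 2 ^ klog n (i.val + 1) =
                (2 * (i.val + 1) - 4) * 2 ^ klog n (i.val + 1) + 2 ^ klog n (i.val + 1) := by
              have : 2 * (i.val + 1) - 3 = (2 * (i.val + 1) - 4) + 1 := by omega
              rw [this, add_mul, one_mul]
            omega
          have e2 : 2 ^ a + ((2 * (i.val + 1) - 4) * 2 ^ klog n (i.val + 1) - 2 ^ a) =
              (2 * (i.val + 1) - 4) * 2 ^ klog n (i.val + 1) := by omega
          rw [tt_pow_of_le n hn _ e1, zero_mul, add_zero, e2]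

end Alg

theorem main (n : ℕ) (hn : 2 ≤ n)
    (τ : QsChow.P n →ₐ[ZMod 2] QsChow.P n) (hτ1 : τ (QsChow.eps n 1) = QsChow.eps n 1)
    (hτ : ∀ j : ℕ, 2 ≤ j → j ≤ QsChow.numVars n →
      τ (QsChow.eps n j) = QsChow.eps n j + QsChow.eps n 1 ^ (2 * j - 3))
    (ha : 1 ≤ QsChow.twoExp n) (hne : n ≠ 2 ^ QsChow.twoExp n) :
    (∀ q : QsChow.FreeP n,
      (∃ w : QsChow.P n, τ w = w ∧ QsChow.psi n q = QsChow.eps n 1 ^ 2 ^ QsChow.twoExp n * w) ↔
        q ∈ QsChow.evenIdeal n) ∧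
    (∀ z : QsChow.P n, τ z = z → ∃ q : QsChow.FreeP n, ∃ w : QsChow.P n,
      τ w = w ∧ z = QsChow.psi n q + QsChow.eps n 1 ^ 2 ^ QsChow.twoExp n * w) := by
  obtain ⟨m, hm, hm3, hnm⟩ := exists_odd_factor n hn hne
  obtain ⟨a, hta⟩ : ∃ a, twoExp n = a := ⟨_, rfl⟩
  rw [hta] at ha hnm ⊢
  clear hne
  obtain ⟨hl1, hl2, hl3⟩ := lIdx_facts n a m ha hm hm3 hnm hta
  set il : Fin (numVars n) := ⟨lIdx n - 1, by omega⟩ with hildef
  have hil : lIdx n = il.val + 1 := by
    show lIdx n = lIdx n - 1 + 1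
    omega
  have hrange := range_psi' n a m ha hm hm3 hnm hta il hil τ hτ1 hτ
  have hker := ker_psi_le n a m ha hm hm3 hnm hta il hil
  have hJ := even_le_JJ n a m ha hm hm3 hnm hta il hil
  have hmem : ∀ w : P n, τ w = w ↔ w ∈ (psi n).range := by
    intro w
    rw [hrange]
    exact (AlgHom.mem_equalizer τ (AlgHom.id (ZMod 2) (P n)) w).symm
  have he1 : evarE n 1 ^ 2 ^ a ∈ evenIdeal n :=
    e1_pow_mem' n a m ha hm hm3 hnm hta il hil _ le_rfl
  refine ⟨fun q => ⟨?_, ?_⟩, ?_⟩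
  · rintro ⟨w, hw, hq⟩
    obtain ⟨q', rfl⟩ := (hmem w).1 hw
    have h1 : q + evarE n 1 ^ 2 ^ a * q' ∈ RingHom.ker (psi n) := by
      show psi n _ = 0
      rw [map_add, map_mul, map_pow, QsJ.psi_evarE_one n hn, hq]
      exact QsD.h2 n _
    have h2 : q = (q + evarE n 1 ^ 2 ^ a * q') + evarE n 1 ^ 2 ^ a * q' := by
      rw [add_assoc, QsG.add_self', add_zero]
    rw [h2]
    exact add_mem (hker h1) (Ideal.mul_mem_right _ _ he1)
  · intro hq
    obtain ⟨q', hq'⟩ := hJ hq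
    exact ⟨psi n q', (hmem _).2 ⟨q', rfl⟩, hq'⟩
  · intro z hz
    obtain ⟨q, rfl⟩ := (hmem z).1 hz
    exact ⟨q, 0, map_zero τ, by rw [mul_zero, add_zero]; rfl⟩

end Groth.Agent.Lib.Helper93.QsL
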