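import Mathlib.RingTheory.HopfAlgebra.Basic
import Mathlib.RingTheory.TensorProduct.Basic
import Mathlib.RingTheory.Bialgebra.Equiv
import Mathlib.LinearAlgebra.TensorProduct.Basis
import Mathlib.LinearAlgebra.Basis.Basic
import Mathlib.Tactic

/-!
Helper library (helper93): Hopf algebras whose augmentation ideal is free of rank one.
-/

set_option autoImplicit false
universe u v
open scoped TensorProduct

namespace Groth.Agent.Lib.Helper93.RankTwo

variable {R : Type u} [CommRing R] {A : Type v} [CommRing A] [HopfAlgebra R A]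

/-- decomposition of an element along `1` and `x` -/
lemma decomp (x : A)
    (hgen : ∀ f : A, Bialgebra.counitAlgHom R A f = 0 → ∃ r : R, f = r • x) (f : A) :
    ∃ r : R, f = (Bialgebra.counitAlgHom R A f) • (1 : A) + r • x := by
  have h0 : Bialgebra.counitAlgHom R A (f - (Bialgebra.counitAlgHom R A f) • (1 : A)) = 0 := by
    rw [map_sub, map_smul, map_one, smul_eq_mul, mul_one, sub_self]
  obtain ⟨r, hr⟩ := hgen _ h0
  exact ⟨r, by rw [← hr]; abel⟩

/-- the basis `1, x` of `A` -/
noncomputable def basis (x : A) (hx : Bialgebra.counitAlgHom R A x = 0)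
    (hgen : ∀ f : A, Bialgebra.counitAlgHom R A f = 0 → ∃ r : R, f = r • x)
    (hfree : ∀ r : R, r • x = 0 → r = 0) : Module.Basis (Fin 2) R A :=
  Module.Basis.mk (v := ![1, x])
    (by
      rw [LinearIndependent.pair_iff]
      intro s t hst
      have h1 := congrArg (Bialgebra.counitAlgHom R A) hst
      rw [map_add, map_smul, map_smul, map_one, hx, smul_zero, add_zero, smul_eq_mul, mul_one,
        map_zero] at h1
      refine ⟨h1, ?_⟩
      rw [h1, zero_smul, zero_add] at hst
      exact hfree t hst)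
    (by
      intro f _
      obtain ⟨r, hr⟩ := decomp x hgen f
      rw [hr]
      refine Submodule.add_mem _ (Submodule.smul_mem _ _ (Submodule.subset_span ⟨0, rfl⟩))
        (Submodule.smul_mem _ _ (Submodule.subset_span ⟨1, rfl⟩)))

variable (x : A) (hx : Bialgebra.counitAlgHom R A x = 0)
    (hgen : ∀ f : A, Bialgebra.counitAlgHom R A f = 0 → ∃ r : R, f = r • x)
    (hfree : ∀ r : R, r • x = 0 → r = 0)

@[simp] lemma basis_zero : basis x hx hgen hfree 0 = 1 := by simp [basis]
@[simp] lemma basis_one : basis x hx hgen hfree 1 = x := by simp [basis]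

/-- the basis of `A ⊗ A` -/
noncomputable def basis2 : Module.Basis (Fin 2 × Fin 2) R (A ⊗[R] A) :=
  (basis x hx hgen hfree).tensorProduct (basis x hx hgen hfree)

lemma basis2_apply (i j : Fin 2) :
    basis2 x hx hgen hfree (i, j) = basis x hx hgen hfree i ⊗ₜ basis x hx hgen hfree j := by
  simp [basis2, Module.Basis.tensorProduct_apply]

/-- every element of `A ⊗ A` is a combination of the four basic tensors -/
lemma decomp2 (t : A ⊗[R] A) :
    t = (basis2 x hx hgen hfree).repr t (0, 0) • ((1 : A) ⊗ₜ[R] (1 : A)) +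
      (basis2 x hx hgen hfree).repr t (0, 1) • ((1 : A) ⊗ₜ[R] x) +
      (basis2 x hx hgen hfree).repr t (1, 0) • (x ⊗ₜ[R] (1 : A)) +
      (basis2 x hx hgen hfree).repr t (1, 1) • (x ⊗ₜ[R] x) := by
  conv_lhs => rw [← (basis2 x hx hgen hfree).sum_repr t]
  rw [Fintype.sum_prod_type, Fin.sum_univ_two, Fin.sum_univ_two, Fin.sum_univ_two]
  simp only [basis2_apply, basis_zero, basis_one]
  abel

include hx hgen hfree in
/-- linear independence: comparing coefficients of the four basic tensors -/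
lemma coeff_unique {c00 c01 c10 c11 d00 d01 d10 d11 : R}
    (h : c00 • ((1 : A) ⊗ₜ[R] (1 : A)) + c01 • ((1 : A) ⊗ₜ[R] x) + c10 • (x ⊗ₜ[R] (1 : A)) +
        c11 • (x ⊗ₜ[R] x) =
      d00 • ((1 : A) ⊗ₜ[R] (1 : A)) + d01 • ((1 : A) ⊗ₜ[R] x) + d10 • (x ⊗ₜ[R] (1 : A)) +
        d11 • (x ⊗ₜ[R] x)) :
    c00 = d00 ∧ c01 = d01 ∧ c10 = d10 ∧ c11 = d11 := by
  have key : ∀ (e00 e01 e10 e11 : R) (i j : Fin 2),
      (basis2 x hx hgen hfree).repr (e00 • ((1 : A) ⊗ₜ[R] (1 : A)) + e01 • ((1 : A) ⊗ₜ[R] x) +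
        e10 • (x ⊗ₜ[R] (1 : A)) + e11 • (x ⊗ₜ[R] x)) (i, j) =
      ![![e00, e01], ![e10, e11]] i j := by
    intro e00 e01 e10 e11 i j
    have h1 : ((1 : A) ⊗ₜ[R] (1 : A)) = basis2 x hx hgen hfree (0, 0) := by
      rw [basis2_apply, basis_zero]
    have h2 : ((1 : A) ⊗ₜ[R] x) = basis2 x hx hgen hfree (0, 1) := by
      rw [basis2_apply, basis_zero, basis_one]
    have h3 : (x ⊗ₜ[R] (1 : A)) = basis2 x hx hgen hfree (1, 0) := by
      rw [basis2_apply, basis_zero, basis_one]
    have h4 : (x ⊗ₜ[R] x) = basis2 x hx hgen hfree (1, 1) := by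
      rw [basis2_apply, basis_one]
    rw [h1, h2, h3, h4]
    simp only [map_add, map_smul, Module.Basis.repr_self, Finsupp.coe_add, Finsupp.coe_smul,
      Pi.add_apply, Pi.smul_apply, smul_eq_mul, Finsupp.single_apply]
    fin_cases i <;> fin_cases j <;> simp
  have h00 := congrArg (fun t => (basis2 x hx hgen hfree).repr t (0, 0)) h
  have h01 := congrArg (fun t => (basis2 x hx hgen hfree).repr t (0, 1)) h
  have h10 := congrArg (fun t => (basis2 x hx hgen hfree).repr t (1, 0)) h
  have h11 := congrArg (fun t => (basis2 x hx hgen hfree).repr t (1, 1)) h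
  simp only [key] at h00 h01 h10 h11
  exact ⟨by simpa using h00, by simpa using h01, by simpa using h10, by simpa using h11⟩

end Groth.Agent.Lib.Helper93.RankTwo
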