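import Mathlib

/-!
# Reflexive modules over Noetherian domains: basic toolkit

* `exists_smul_extension`: a functional on a submodule extends, after scaling, to the ambient
  finitely presented module (over a domain).
* `eval_injective_of_isTorsionFree`: a finite torsion-free module over a Noetherian domain is
  torsionless (`Module.Dual.eval` is injective).
* `isReflexive_of_exact`: kernel of a map from a reflexive module to a torsion-free module is
  reflexive.
-/

set_option autoImplicit false

open scoped TensorProduct nonZeroDivisors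

namespace Groth.Agent.Lib.Helper93.Reflexive

universe u

variable {R : Type u} [CommRing R] [IsDomain R]

/-- Clearing denominators: an `R`-linear map from a finitely presented module to the fraction field
becomes `R`-valued after scaling by a nonzero element. -/
theorem exists_clear_denominators {M : Type*} [AddCommGroup M] [Module R M]
    [Module.FinitePresentation R M] (G : M →ₗ[R] FractionRing R) :
    ∃ (μ : M →ₗ[R] R) (s : R), s ≠ 0 ∧ ∀ m, algebraMap R (FractionRing R) (μ m) = s • G m := by
  obtain ⟨μ, s, h⟩ := Module.FinitePresentation.exists_lift_of_isLocalizedModule (R⁰)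
    (Algebra.linearMap R (FractionRing R)) G
  refine ⟨μ, s.1, nonZeroDivisors.ne_zero s.2, fun m => ?_⟩
  have := congrArg (fun φ : M →ₗ[R] FractionRing R => φ m) h
  simpa [Submonoid.smul_def] using this

/-- A functional on a submodule extends to the ambient module after scaling. -/
theorem exists_smul_extension {M M' : Type*} [AddCommGroup M] [Module R M]
    [AddCommGroup M'] [Module R M'] [Module.FinitePresentation R M']
    (f : M →ₗ[R] M') (hf : Function.Injective f) (l : M →ₗ[R] R) :
    ∃ (r : R) (μ : M' →ₗ[R] R), r ≠ 0 ∧ ∀ m, μ (f m) = r * l m := by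
  classical
  let K := FractionRing R
  let fK : K ⊗[R] M →ₗ[K] K ⊗[R] M' := f.baseChange K
  have hfK : Function.Injective fK := by
    have : Function.Injective (f.lTensor K) := Module.Flat.lTensor_preserves_injective_linearMap f hf
    exact this
  obtain ⟨gK, hgK⟩ := LinearMap.exists_leftInverse_of_injective fK (LinearMap.ker_eq_bot.2 hfK)
  let lK : K ⊗[R] M →ₗ[K] K :=
    (TensorProduct.AlgebraTensorModule.rid R K K).toLinearMap ∘ₗ l.baseChange K
  let G : M' →ₗ[R] K := ((lK ∘ₗ gK).restrictScalars R) ∘ₗ (TensorProduct.mk R K M' 1)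
  obtain ⟨μ, s, hs, hμ⟩ := exists_clear_denominators G
  refine ⟨s, μ, hs, fun m => ?_⟩
  apply IsFractionRing.injective R K
  rw [hμ]
  have h1 : G (f m) = lK (gK (fK ((1 : K) ⊗ₜ[R] m))) := by
    simp [G, fK]
  have h2 : gK (fK ((1 : K) ⊗ₜ[R] m)) = (1 : K) ⊗ₜ[R] m := by
    have := congrArg (fun φ : K ⊗[R] M →ₗ[K] K ⊗[R] M => φ ((1 : K) ⊗ₜ[R] m)) hgK
    simpa using this
  rw [h1, h2]
  have h3 : lK ((1 : K) ⊗ₜ[R] m) = algebraMap R K (l m) := by
    simp [lK, Algebra.smul_def]
  rw [h3, Algebra.smul_def, map_mul]

/-- A finite torsion-free module over a Noetherian domain is torsionless. -/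
theorem exists_dual_ne_zero_of_isTorsionFree {M : Type*} [AddCommGroup M] [Module R M]
    [Module.FinitePresentation R M] [Module.IsTorsionFree R M] {x : M} (hx : x ≠ 0) :
    ∃ μ : M →ₗ[R] R, μ x ≠ 0 := by
  classical
  let K := FractionRing R
  have hx1 : (1 : K) ⊗ₜ[R] x ≠ 0 := by
    intro h
    have h' : TensorProduct.mk R K M 1 x = 0 := h
    rw [IsLocalizedModule.eq_zero_iff (R⁰)] at h'
    obtain ⟨s, hs⟩ := h'
    have hs0 : (s : R) ≠ 0 := nonZeroDivisors.ne_zero s.2
    have : (s : R) • x = 0 := hs
    rcases smul_eq_zero.mp this with h0 | h0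
    · exact hs0 h0
    · exact hx h0
  obtain ⟨ψ, hψ⟩ : ∃ ψ : Module.Dual K (K ⊗[R] M), ψ ((1 : K) ⊗ₜ[R] x) ≠ 0 := by
    by_contra hcon
    push Not at hcon
    exact hx1 ((Module.forall_dual_apply_eq_zero_iff K _).1 hcon)
  let G : M →ₗ[R] K := (ψ.restrictScalars R) ∘ₗ (TensorProduct.mk R K M 1)
  obtain ⟨μ, s, hs, hμ⟩ := exists_clear_denominators G
  refine ⟨μ, fun h0 => ?_⟩
  have := hμ x
  rw [h0, map_zero] at this
  have hG : G x = ψ ((1 : K) ⊗ₜ[R] x) := by simp [G]
  rw [hG] at this
  rcases smul_eq_zero.mp this.symm with h1 | h1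
  · exact hs h1
  · exact hψ h1

theorem eval_injective_of_isTorsionFree {M : Type*} [AddCommGroup M] [Module R M]
    [Module.FinitePresentation R M] [Module.IsTorsionFree R M] :
    Function.Injective (Module.Dual.eval R M) := by
  rw [injective_iff_map_eq_zero]
  intro x hx
  by_contra hne
  obtain ⟨μ, hμ⟩ := exists_dual_ne_zero_of_isTorsionFree (R := R) hne
  apply hμ
  have := congrArg (fun ξ : Module.Dual R (Module.Dual R M) => ξ μ) hx
  simpa using this

/-- Kernel of a map from a reflexive module to a (finitely presented) torsion-free module is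
reflexive. -/
theorem isReflexive_of_exact {M M' M'' : Type*} [AddCommGroup M] [Module R M]
    [AddCommGroup M'] [Module R M'] [Module.FinitePresentation R M']
    [AddCommGroup M''] [Module R M''] [Module.FinitePresentation R M'']
    (f : M →ₗ[R] M') (g : M' →ₗ[R] M'') (hf : Function.Injective f) (hfg : Function.Exact f g)
    [Module.IsReflexive R M'] [Module.IsTorsionFree R M''] : Module.IsReflexive R M := by
  constructor
  have hev' : Function.Bijective (Module.Dual.eval R M') := Module.bijective_dual_eval R M'
  have hnat : ∀ m, Module.Dual.eval R M' (f m) = f.dualMap.dualMap (Module.Dual.eval R M m) := by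
    intro m
    ext μ
    simp
  constructor
  · intro a b hab
    apply hf
    apply hev'.1
    rw [hnat, hnat, hab]
  · intro ξ
    obtain ⟨m', hm'⟩ := hev'.2 (f.dualMap.dualMap ξ)
    have hgm' : g m' = 0 := by
      apply eval_injective_of_isTorsionFree (R := R) (M := M'')
      ext ν
      have h1 := congrArg (fun ζ : Module.Dual R (Module.Dual R M') => ζ (ν ∘ₗ g)) hm'
      simp only [Module.Dual.eval_apply, LinearMap.dualMap_apply, LinearMap.coe_comp,
        Function.comp_apply] at h1
      have h2 : (ν ∘ₗ g) ∘ₗ f = 0 := by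
        ext m
        simp [hfg.apply_apply_eq_zero]
      simp only [Module.Dual.eval_apply, map_zero, LinearMap.zero_apply]
      rw [h1]
      have : f.dualMap (ν ∘ₗ g) = 0 := by
        ext m
        simpa using congrArg (fun φ : M →ₗ[R] R => φ m) h2
      rw [this, map_zero]
    obtain ⟨m, rfl⟩ := (hfg m').1 hgm'
    refine ⟨m, ?_⟩
    ext l
    obtain ⟨r, μ, hr, hμ⟩ := exists_smul_extension f hf l
    have h1 := congrArg (fun ζ : Module.Dual R (Module.Dual R M') => ζ μ) hm'
    simp only [Module.Dual.eval_apply, LinearMap.dualMap_apply] at h1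
    have h3 : f.dualMap μ = r • l := by
      ext x
      simp [hμ]
    rw [h3, map_smul, hμ, smul_eq_mul] at h1
    simp only [Module.Dual.eval_apply]
    exact mul_left_cancel₀ hr h1

end Groth.Agent.Lib.Helper93.Reflexive
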