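import Groth.Agent.Lib.Helper93.Reflexive

set_option autoImplicit false
set_option linter.unusedSectionVars false
open scoped TensorProduct nonZeroDivisors
namespace Groth.Agent.Lib.Helper93.Reflexive
universe u
variable {R : Type u} [CommRing R] [IsDomain R] [IsNoetherianRing R]

/-- The "coordinates" map attached to a linear map `π : (Fin n → R) → Dual M`. -/
def coordMap {M : Type*} [AddCommGroup M] [Module R M] {n : ℕ}
    (π : (Fin n → R) →ₗ[R] Module.Dual R M) : M →ₗ[R] (Fin n → R) :=
  LinearMap.pi fun i => π (Pi.single i 1)

theorem coordMap_apply {M : Type*} [AddCommGroup M] [Module R M] {n : ℕ}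
    (π : (Fin n → R) →ₗ[R] Module.Dual R M) (m : M) (i : Fin n) :
    coordMap π m i = π (Pi.single i 1) m := rfl

theorem pi_apply_eq_sum {M : Type*} [AddCommGroup M] [Module R M] {n : ℕ}
    (π : (Fin n → R) →ₗ[R] Module.Dual R M) (w : Fin n → R) (m : M) :
    π w m = ∑ i, w i * coordMap π m i := by
  have hw : w = ∑ i, w i • (Pi.single i (1 : R) : Fin n → R) := by
    ext j
    simp [Finset.sum_apply, Pi.single_apply]
  conv_lhs => rw [hw]
  simp [coordMap_apply, LinearMap.sum_apply]

/-- If `π` is surjective and `eval` is injective then the coordinates map is injective. -/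
theorem coordMap_injective {M : Type*} [AddCommGroup M] [Module R M] {n : ℕ}
    (π : (Fin n → R) →ₗ[R] Module.Dual R M) (hπ : Function.Surjective π)
    (hev : Function.Injective (Module.Dual.eval R M)) : Function.Injective (coordMap π) := by
  rw [injective_iff_map_eq_zero]
  intro m hm
  apply hev
  rw [map_zero]
  ext l
  obtain ⟨w, rfl⟩ := hπ l
  rw [Module.Dual.eval_apply, pi_apply_eq_sum, hm]
  simp

/-- For reflexive `M`, the cokernel of the coordinates map is torsion-free. -/
theorem coordMap_coker_torsionFree {M : Type*} [AddCommGroup M] [Module R M] {n : ℕ}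
    (π : (Fin n → R) →ₗ[R] Module.Dual R M) (hπ : Function.Surjective π)
    [Module.IsReflexive R M] :
    Module.IsTorsionFree R ((Fin n → R) ⧸ LinearMap.range (coordMap π)) := by
  apply Module.IsTorsionFree.of_smul_eq_zero
  intro r x hx
  by_cases hr : r = 0
  · exact Or.inl hr
  right
  obtain ⟨v, rfl⟩ := Submodule.mkQ_surjective _ x
  rw [← map_smul, Submodule.mkQ_apply, Submodule.Quotient.mk_eq_zero] at hx
  obtain ⟨m, hm⟩ := hx
  rw [Submodule.mkQ_apply, Submodule.Quotient.mk_eq_zero]
  -- the functional ξ on Dual M : π w ↦ ∑ w i * v i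
  let dot : (Fin n → R) →ₗ[R] R := ∑ i, (v i) • LinearMap.proj i
  have hdot : ∀ w, dot w = ∑ i, v i * w i := by
    intro w; simp [dot, LinearMap.sum_apply]
  have hker : LinearMap.ker π ≤ LinearMap.ker dot := by
    intro w hw
    rw [LinearMap.mem_ker] at hw ⊢
    have h1 : r * dot w = 0 := by
      rw [hdot, Finset.mul_sum]
      have h2 : π w m = 0 := by rw [hw]; rfl
      rw [pi_apply_eq_sum, hm] at h2
      rw [← h2]
      apply Finset.sum_congr rfl
      intro i _
      simp only [Pi.smul_apply, smul_eq_mul]
      ring
    rcases mul_eq_zero.mp h1 with h | h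
    · exact absurd h hr
    · exact h
  -- descend dot to Dual M
  let e := π.quotKerEquivOfSurjective hπ
  let ξ : Module.Dual R (Module.Dual R M) := ((LinearMap.ker π).liftQ dot hker) ∘ₗ e.symm.toLinearMap
  have hξ : ∀ w, ξ (π w) = dot w := by
    intro w
    have : e.symm (π w) = Submodule.Quotient.mk w := by
      rw [LinearEquiv.symm_apply_eq]
      rfl
    simp [ξ, this]
  obtain ⟨m₀, hm₀⟩ := (Module.bijective_dual_eval R M).2 ξ
  refine ⟨m₀, ?_⟩
  ext i
  rw [coordMap_apply]
  have := congrArg (fun ζ : Module.Dual R (Module.Dual R M) => ζ (π (Pi.single i 1))) hm₀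
  simp only [Module.Dual.eval_apply] at this
  rw [this, hξ, hdot]
  simp [Pi.single_apply]

/-- A finite reflexive module over a Noetherian domain embeds in a finite free module with
torsion-free cokernel. -/
theorem exists_embedding_of_isReflexive (M : Type*) [AddCommGroup M] [Module R M]
    [Module.Finite R M] [Module.IsReflexive R M] :
    ∃ (n : ℕ) (f : M →ₗ[R] (Fin n → R)), Function.Injective f ∧
      Module.IsTorsionFree R ((Fin n → R) ⧸ LinearMap.range f) := by
  obtain ⟨n, π, hπ⟩ := Module.Finite.exists_fin' R (Module.Dual R M)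
  exact ⟨n, coordMap π, coordMap_injective π hπ (Module.bijective_dual_eval R M).1,
    coordMap_coker_torsionFree π hπ⟩

/-- A finite torsion-free module over a Noetherian domain embeds in a finite free module. -/
theorem exists_embedding_of_isTorsionFree (M : Type*) [AddCommGroup M] [Module R M]
    [Module.Finite R M] [Module.IsTorsionFree R M] :
    ∃ (n : ℕ) (f : M →ₗ[R] (Fin n → R)), Function.Injective f := by
  have : Module.FinitePresentation R M := Module.finitePresentation_of_finite R M
  obtain ⟨n, π, hπ⟩ := Module.Finite.exists_fin' R (Module.Dual R M)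
  exact ⟨n, coordMap π, coordMap_injective π hπ eval_injective_of_isTorsionFree⟩

theorem isReflexive_iff_exists_embedding (M : Type*) [AddCommGroup M] [Module R M]
    [Module.Finite R M] :
    Module.IsReflexive R M ↔ ∃ (n : ℕ) (f : M →ₗ[R] (Fin n → R)), Function.Injective f ∧
      Module.IsTorsionFree R ((Fin n → R) ⧸ LinearMap.range f) := by
  constructor
  · intro h
    exact exists_embedding_of_isReflexive M
  · rintro ⟨n, f, hf, htf⟩
    have h1 : Module.FinitePresentation R (Fin n → R) := Module.finitePresentation_of_finite R _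
    have h2 : Module.FinitePresentation R ((Fin n → R) ⧸ LinearMap.range f) :=
      Module.finitePresentation_of_finite R _
    exact isReflexive_of_exact f (LinearMap.range f).mkQ hf (LinearMap.exact_map_mkQ_range f)

end Groth.Agent.Lib.Helper93.Reflexive
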