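import Groth.Agent.Lib.Helper93.Reflexive2

set_option autoImplicit false
set_option linter.unusedSectionVars false
open scoped TensorProduct nonZeroDivisors
namespace Groth.Agent.Lib.Helper93.Reflexive
universe u

section Pi
variable {R : Type*} [CommRing R]

theorem isReflexive_pi_fin (N : Type*) [AddCommGroup N] [Module R N] [Module.IsReflexive R N] :
    ∀ n : ℕ, Module.IsReflexive R (Fin n → N)
  | 0 => inferInstance
  | n + 1 => by
    have := isReflexive_pi_fin N n
    exact Module.equiv (Fin.consLinearEquiv R (fun _ : Fin (n + 1) => N))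

theorem isTorsionFree_linearMap (M N : Type*) [AddCommGroup M] [Module R M] [AddCommGroup N]
    [Module R N] [Module.IsTorsionFree R N] : Module.IsTorsionFree R (M →ₗ[R] N) where
  isSMulRegular r hr φ ψ h := by
    ext m
    apply hr.isSMulRegular (M := N)
    have := congrArg (fun χ : M →ₗ[R] N => χ m) h
    simpa using this

end Pi

variable {R : Type u} [CommRing R] [IsDomain R] [IsNoetherianRing R]

theorem isReflexive_linearMap (M N : Type*) [AddCommGroup M] [Module R M] [Module.Finite R M]
    [AddCommGroup N] [Module R N] [Module.Finite R N] [Module.IsReflexive R N] :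
    Module.IsReflexive R (M →ₗ[R] N) := by
  obtain ⟨a, π, hπ⟩ := Module.Finite.exists_fin' R M
  obtain ⟨b, ρ, hρ⟩ := Module.Finite.exists_fin' R (LinearMap.ker π)
  let ρ' : (Fin b → R) →ₗ[R] (Fin a → R) := (LinearMap.ker π).subtype ∘ₗ ρ
  have hρ' : LinearMap.range ρ' = LinearMap.ker π := by
    rw [LinearMap.range_comp, LinearMap.range_eq_top.2 hρ, Submodule.map_top, Submodule.range_subtype]
  let F : (M →ₗ[R] N) →ₗ[R] ((Fin a → R) →ₗ[R] N) := LinearMap.lcomp R N π
  let G : ((Fin a → R) →ₗ[R] N) →ₗ[R] ((Fin b → R) →ₗ[R] N) := LinearMap.lcomp R N ρ'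
  have hF : Function.Injective F := by
    intro φ ψ h
    ext m
    obtain ⟨w, rfl⟩ := hπ m
    exact congrArg (fun χ : (Fin a → R) →ₗ[R] N => χ w) h
  have hFG : Function.Exact F G := by
    intro ψ
    constructor
    · intro h
      have hker : LinearMap.ker π ≤ LinearMap.ker ψ := by
        rw [← hρ']
        rintro _ ⟨w, rfl⟩
        exact congrArg (fun χ : (Fin b → R) →ₗ[R] N => χ w) h
      let e := π.quotKerEquivOfSurjective hπ
      refine ⟨((LinearMap.ker π).liftQ ψ hker) ∘ₗ e.symm.toLinearMap, ?_⟩
      refine LinearMap.ext fun w => ?_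
      have : e.symm (π w) = Submodule.Quotient.mk w := by
        rw [LinearEquiv.symm_apply_eq]; rfl
      simp [F, this]
    · rintro ⟨φ, rfl⟩
      refine LinearMap.ext fun w => ?_
      have : π (ρ' w) = 0 := by
        have : ρ' w ∈ LinearMap.ker π := by rw [← hρ']; exact ⟨w, rfl⟩
        exact this
      simp [F, G, this]
  have h1 : Module.IsReflexive R ((Fin a → R) →ₗ[R] N) :=
    have := isReflexive_pi_fin (R := R) N a
    Module.equiv (Module.piEquiv (Fin a) R N)
  have h2 : Module.IsTorsionFree R ((Fin b → R) →ₗ[R] N) := isTorsionFree_linearMap _ _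
  have h3 : Module.FinitePresentation R ((Fin a → R) →ₗ[R] N) :=
    Module.finitePresentation_of_finite R _
  have h4 : Module.FinitePresentation R ((Fin b → R) →ₗ[R] N) :=
    Module.finitePresentation_of_finite R _
  exact isReflexive_of_exact F G hF hFG

end Groth.Agent.Lib.Helper93.Reflexive
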