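import Groth.Agent.Lib.Helper93.Reflexive3

set_option autoImplicit false
set_option linter.unusedSectionVars false
open scoped TensorProduct nonZeroDivisors
namespace Groth.Agent.Lib.Helper93.Reflexive
universe u

variable {R : Type u} [CommRing R] [IsDomain R] [IsNoetherianRing R]

/-- A finite reflexive module over a Noetherian domain is the kernel of a map of finite free modules. -/
theorem exists_exact_free_of_isReflexive (M : Type*) [AddCommGroup M] [Module R M]
    [Module.Finite R M] [Module.IsReflexive R M] :
    ∃ (n m : ℕ) (f : M →ₗ[R] (Fin n → R)) (g : (Fin n → R) →ₗ[R] (Fin m → R)),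
      Function.Injective f ∧ Function.Exact f g := by
  obtain ⟨n, f, hf, htf⟩ := exists_embedding_of_isReflexive (R := R) M
  obtain ⟨m, h, hh⟩ := exists_embedding_of_isTorsionFree (R := R) ((Fin n → R) ⧸ LinearMap.range f)
  refine ⟨n, m, f, h ∘ₗ (LinearMap.range f).mkQ, hf, ?_⟩
  intro w
  rw [LinearMap.comp_apply, ← map_zero h, hh.eq_iff]
  exact LinearMap.exact_map_mkQ_range f w

theorem isReflexive_baseChange (R' : Type*) [CommRing R'] [IsDomain R'] [IsNoetherianRing R']
    [Algebra R R'] [Module.Flat R R']
    (M : Type*) [AddCommGroup M] [Module R M] [Module.Finite R M] [Module.IsReflexive R M] :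
    Module.IsReflexive R' (R' ⊗[R] M) := by
  obtain ⟨n, m, f, g, hf, hfg⟩ := exists_exact_free_of_isReflexive (R := R) M
  have hf' : Function.Injective (f.baseChange R') :=
    Module.Flat.lTensor_preserves_injective_linearMap (M := R') f hf
  have hfg' : Function.Exact (f.baseChange R') (g.baseChange R') :=
    Module.Flat.lTensor_exact R' hfg
  have h1 : Module.FinitePresentation R' (R' ⊗[R] (Fin n → R)) :=
    Module.finitePresentation_of_finite R' _
  have h2 : Module.FinitePresentation R' (R' ⊗[R] (Fin m → R)) :=
    Module.finitePresentation_of_finite R' _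
  have h3 : Module.IsTorsionFree R' (R' ⊗[R] (Fin m → R)) := inferInstance
  exact isReflexive_of_exact (f.baseChange R') (g.baseChange R') hf' hfg'

end Groth.Agent.Lib.Helper93.Reflexive
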