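import Mathlib

set_option autoImplicit false
namespace Groth.Agent.Lib.Helper93.ReflexiveDual
open Function

variable {B : Type*} [CommRing B]

/-- transpose of a linear map between finite free modules -/
noncomputable def tr {m n : ℕ} (a : (Fin m → B) →ₗ[B] (Fin n → B)) : (Fin n → B) →ₗ[B] (Fin m → B) :=
  Matrix.toLin' (LinearMap.toMatrix' a).transpose

theorem tr_comp {m n k : ℕ} (a : (Fin m → B) →ₗ[B] (Fin n → B)) (b : (Fin k → B) →ₗ[B] (Fin m → B)) :
    tr (a ∘ₗ b) = tr b ∘ₗ tr a := by
  unfold tr
  rw [LinearMap.toMatrix'_comp, Matrix.transpose_mul, Matrix.toLin'_mul]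

theorem tr_smul {m n : ℕ} (s : B) (a : (Fin m → B) →ₗ[B] (Fin n → B)) :
    tr (s • a) = s • tr a := by
  unfold tr
  rw [map_smul, Matrix.transpose_smul, map_smul]

theorem tr_apply {m n : ℕ} (a : (Fin m → B) →ₗ[B] (Fin n → B)) (v : Fin n → B) (j : Fin m) :
    tr a v j = ∑ i, v i * a (Pi.single j 1) i := by
  unfold tr
  rw [Matrix.toLin'_apply, Matrix.mulVec, dotProduct]
  refine Finset.sum_congr rfl fun i _ => ?_
  rw [Matrix.transpose_apply, LinearMap.toMatrix'_apply, mul_comm]


section exact
variable {F : Type*} [AddCommGroup F] [Module B F] [Module.IsReflexive B F]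

/-- the embedding of `F` in `B^n` attached to generators of the dual -/
def gmap {n : ℕ} (π : (Fin n → B) →ₗ[B] Module.Dual B F) : F →ₗ[B] (Fin n → B) where
  toFun x := fun i => π (Pi.single i 1) x
  map_add' x y := by ext i; simp
  map_smul' c x := by ext i; simp

theorem pi_eq_sum {n : ℕ} (π : (Fin n → B) →ₗ[B] Module.Dual B F) (v : Fin n → B) (x : F) :
    π v x = ∑ i, v i * π (Pi.single i 1) x := by
  conv_lhs => rw [← Finset.univ_sum_single v]
  rw [map_sum, LinearMap.sum_apply]
  refine Finset.sum_congr rfl fun i _ => ?_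
  have : (Pi.single i (v i) : Fin n → B) = v i • Pi.single i 1 := by
    ext j; simp [Pi.single_apply]
  rw [this, map_smul, LinearMap.smul_apply, smul_eq_mul]

theorem gmap_injective {n : ℕ} (π : (Fin n → B) →ₗ[B] Module.Dual B F) (hπ : Surjective π) :
    Injective (gmap π) := by
  rw [injective_iff_map_eq_zero]
  intro x hx
  apply (Module.bijective_dual_eval B F).1
  rw [map_zero]
  ext φ
  obtain ⟨v, rfl⟩ := hπ φ
  rw [Module.Dual.eval_apply, pi_eq_sum, LinearMap.zero_apply]
  refine Finset.sum_eq_zero fun i _ => ?_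
  have : gmap π x i = 0 := by rw [hx]; rfl
  have h2 : π (Pi.single i 1) x = 0 := this
  rw [h2, mul_zero]

theorem gmap_exact {n m : ℕ} (π : (Fin n → B) →ₗ[B] Module.Dual B F) (hπ : Surjective π)
    (a : (Fin m → B) →ₗ[B] (Fin n → B)) (ha : Exact a π) :
    Exact (gmap π) (tr a) := by
  intro v
  constructor
  · intro hv
    -- the functional `w ↦ ∑ v i * w i`
    let lam : (Fin n → B) →ₗ[B] B :=
      { toFun := fun w => ∑ i, v i * w i
        map_add' := fun w w' => by simp [mul_add, Finset.sum_add_distrib]
        map_smul' := fun c w => by simp [Finset.mul_sum, mul_left_comm] }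
    have hlam : LinearMap.ker π ≤ LinearMap.ker lam := by
      intro w hw
      obtain ⟨u, rfl⟩ := (ha w).1 hw
      rw [LinearMap.mem_ker]
      -- lam (a u) = ∑_j u j * (tr a v) j
      have : a u = ∑ j, u j • a (Pi.single j 1) := by
        conv_lhs => rw [← Finset.univ_sum_single u]
        rw [map_sum]
        refine Finset.sum_congr rfl fun j _ => ?_
        have : (Pi.single j (u j) : Fin m → B) = u j • Pi.single j 1 := by
          ext k; simp [Pi.single_apply]
        rw [this, map_smul]
      rw [this, map_sum]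
      refine Finset.sum_eq_zero fun j _ => ?_
      rw [map_smul]
      have h0 : lam (a (Pi.single j 1)) = tr a v j := (tr_apply a v j).symm
      rw [h0, hv]; simp
    let ξ : Module.Dual B (Module.Dual B F) :=
      (Submodule.liftQ (LinearMap.ker π) lam hlam) ∘ₗ (π.quotKerEquivOfSurjective hπ).symm.toLinearMap
    have hξ : ∀ w, ξ (π w) = lam w := by
      intro w
      have : (π.quotKerEquivOfSurjective hπ).symm (π w) = Submodule.Quotient.mk w := by
        rw [LinearEquiv.symm_apply_eq]; rfl
      show Submodule.liftQ _ lam hlam ((π.quotKerEquivOfSurjective hπ).symm (π w)) = _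
      rw [this]; rfl
    obtain ⟨x, hx⟩ := (Module.bijective_dual_eval B F).2 ξ
    refine ⟨x, ?_⟩
    ext i
    show π (Pi.single i 1) x = v i
    have h1 : ξ (π (Pi.single i 1)) = π (Pi.single i 1) x := by
      rw [← hx, Module.Dual.eval_apply]
    rw [← h1, hξ]
    show ∑ k, v k * (Pi.single i 1 : Fin n → B) k = v i
    simp [Pi.single_apply]
  · rintro ⟨x, rfl⟩
    ext j
    rw [tr_apply]
    show ∑ i, π (Pi.single i 1) x * a (Pi.single j 1) i = 0
    have h1 := pi_eq_sum π (a (Pi.single j 1)) x
    have h2 : π (a (Pi.single j 1)) = 0 := ha.apply_apply_eq_zero _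
    rw [h2, LinearMap.zero_apply] at h1
    rw [h1]
    refine Finset.sum_congr rfl fun i _ => mul_comm _ _

end exact


section retract

theorem exists_retract {P Q : Type*} [AddCommGroup P] [Module B P] [AddCommGroup Q] [Module B Q]
    (h : P →ₗ[B] Q) (Y : Q →ₗ[B] P) (s : B) (hs : h ∘ₗ Y ∘ₗ h = s • h) :
    ∃ τ : (Q ⧸ LinearMap.range h) →ₗ[B] Q, ∀ z, (LinearMap.range h).mkQ (τ z) = s • z := by
  let ρ : Q →ₗ[B] Q := s • LinearMap.id - h ∘ₗ Y
  have hρ : LinearMap.range h ≤ LinearMap.ker ρ := by
    rintro _ ⟨x, rfl⟩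
    rw [LinearMap.mem_ker]
    show s • h x - h (Y (h x)) = 0
    have := LinearMap.congr_fun hs x
    simp only [LinearMap.comp_apply, LinearMap.smul_apply] at this
    rw [this, sub_self]
  refine ⟨Submodule.liftQ _ ρ hρ, ?_⟩
  intro z
  obtain ⟨y, rfl⟩ := Submodule.Quotient.mk_surjective _ z
  show (LinearMap.range h).mkQ (s • y - h (Y y)) = _
  rw [map_sub, map_smul]
  have : (LinearMap.range h).mkQ (h (Y y)) = 0 := by
    rw [Submodule.mkQ_apply, Submodule.Quotient.mk_eq_zero]; exact ⟨_, rfl⟩
  rw [this, sub_zero]; rfl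

theorem projective_localized {G Q : Type*} [AddCommGroup G] [Module B G] [AddCommGroup Q] [Module B Q]
    (S : Submonoid B) (p : Q →ₗ[B] G) (τ : G →ₗ[B] Q) (s : B) (hsS : s ∈ S)
    (hτ : ∀ z, p (τ z) = s • z)
    [Module.Projective (Localization S) (LocalizedModule S Q)] :
    Module.Projective (Localization S) (LocalizedModule S G) := by
  have hu : IsUnit (algebraMap B (Localization S) s) := IsLocalization.map_units _ ⟨s, hsS⟩
  refine Module.Projective.of_split ((hu.unit⁻¹ : (Localization S)ˣ).1 • LocalizedModule.map S τ)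
    (LocalizedModule.map S p) ?_
  ext x
  induction x using LocalizedModule.induction_on with
  | h y t =>
    simp only [LinearMap.comp_apply, LinearMap.smul_apply, LinearMap.id_apply, map_smul,
      LocalizedModule.map_mk, hτ]
    have : (LocalizedModule.mk (s • y) t : LocalizedModule S G) =
        algebraMap B (Localization S) s • LocalizedModule.mk y t := by
      rw [algebraMap_smul, LocalizedModule.smul'_mk]
    rw [this, smul_smul, IsUnit.val_inv_mul, one_smul]

end retract


section regular

theorem exists_regular {n m : ℕ} {D : Type*} [AddCommGroup D] [Module B D]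
    [Module.FinitePresentation B D]
    (S : Submonoid B) (π : (Fin n → B) →ₗ[B] D) (hπ : Surjective π)
    (a : (Fin m → B) →ₗ[B] (Fin n → B)) (ha : Exact a π)
    [Module.Projective (Localization S) (LocalizedModule S D)] :
    ∃ (Y : (Fin n → B) →ₗ[B] (Fin m → B)) (s : B), s ∈ S ∧ a ∘ₗ Y ∘ₗ a = s • a := by
  obtain ⟨σS, hσS⟩ := Module.projective_lifting_property (LocalizedModule.map S π) LinearMap.id
    (LocalizedModule.map_surjective S π hπ)
  let g : D →ₗ[B] LocalizedModule S (Fin n → B) :=
    (σS.restrictScalars B) ∘ₗ LocalizedModule.mkLinearMap S D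
  obtain ⟨σ, s, hσ⟩ := Module.FinitePresentation.exists_lift_of_isLocalizedModule S
    (LocalizedModule.mkLinearMap S (Fin n → B)) g
  have h1 : LocalizedModule.mkLinearMap S D ∘ₗ (π ∘ₗ σ) =
      LocalizedModule.mkLinearMap S D ∘ₗ (s.1 • LinearMap.id) := by
    ext d
    have e1 : LocalizedModule.mkLinearMap S (Fin n → B) (σ d) = s • g d := by
      have := LinearMap.congr_fun hσ d
      simpa using this
    have e2 : LocalizedModule.map S π (LocalizedModule.mkLinearMap S (Fin n → B) (σ d)) =
        LocalizedModule.mkLinearMap S D (π (σ d)) := by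
      rw [LocalizedModule.mkLinearMap_apply, LocalizedModule.map_mk, LocalizedModule.mkLinearMap_apply]
    have e3 : LocalizedModule.map S π (g d) = LocalizedModule.mkLinearMap S D d := by
      have := LinearMap.congr_fun hσS (LocalizedModule.mkLinearMap S D d)
      simpa [g] using this
    simp only [LinearMap.comp_apply, LinearMap.smul_apply, LinearMap.id_apply]
    rw [← e2, e1]
    have e4 : LocalizedModule.map S π (s • g d) = s • LocalizedModule.map S π (g d) := by
      rw [Submonoid.smul_def, ← algebraMap_smul (Localization S) (s : B) (g d), map_smul,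
        algebraMap_smul, Submonoid.smul_def]
    rw [e4, e3, Submonoid.smul_def, map_smul]
  obtain ⟨t, ht⟩ := Module.Finite.exists_smul_of_comp_eq_of_isLocalizedModule S
    (LocalizedModule.mkLinearMap S D) (π ∘ₗ σ) (s.1 • LinearMap.id) h1
  have hπσ : ∀ d, π ((t.1 • σ) d) = (t.1 * s.1) • d := by
    intro d
    have := LinearMap.congr_fun ht d
    simp only [LinearMap.smul_apply, LinearMap.comp_apply, LinearMap.id_apply, Submonoid.smul_def] at this
    rw [LinearMap.smul_apply, map_smul, this, mul_smul]
  let ρ : (Fin n → B) →ₗ[B] (Fin n → B) := (t.1 * s.1) • LinearMap.id - (t.1 • σ) ∘ₗ π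
  have hρ : ∀ w, ρ w ∈ LinearMap.range a := by
    intro w
    apply (ha _).1
    show π ((t.1 * s.1) • w - (t.1 • σ) (π w)) = 0
    rw [map_sub, hπσ, map_smul, sub_self]
  obtain ⟨Y, hY⟩ := Module.projective_lifting_property a.rangeRestrict
    (ρ.codRestrict (LinearMap.range a) hρ) a.surjective_rangeRestrict
  have hY' : ∀ w, a (Y w) = ρ w := fun w => congrArg Subtype.val (LinearMap.congr_fun hY w)
  refine ⟨Y, t.1 * s.1, S.mul_mem t.2 s.2, ?_⟩
  refine LinearMap.ext fun w => ?_
  rw [LinearMap.comp_apply, LinearMap.comp_apply, LinearMap.smul_apply, hY']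
  show (t.1 * s.1) • a w - (t.1 • σ) (π (a w)) = _
  rw [ha.apply_apply_eq_zero, map_zero, sub_zero]

end regular


section dual

theorem projective_dual_localized [IsNoetherianRing B] {F : Type*} [AddCommGroup F] [Module B F]
    [Module.Finite B F] (S : Submonoid B) [Module.Free (Localization S) (LocalizedModule S F)] :
    Module.Projective (Localization S) (LocalizedModule S (Module.Dual B F)) := by
  haveI : Module.FinitePresentation B F := Module.finitePresentation_of_finite B F
  let e := Module.FinitePresentation.linearEquivMapExtendScalars (N := B) S (M := F)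
  let e' := e.extendScalarsOfIsLocalization S (Localization S)
  haveI : Module.Free (Localization S) (LocalizedModule S B) :=
    (inferInstance : Module.Free (Localization S) (Localization S))
  haveI : Module.Finite (Localization S) (LocalizedModule S F) := inferInstance
  exact Module.Projective.of_equiv e'.symm

end dual


section final
universe u

theorem main18709 (B : Type u) [CommRing B] [IsNoetherianRing B]
    (J : Ideal B) (F : Type u) [AddCommGroup F] [Module B F] [Module.Finite B F] [Module.IsReflexive B F]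
    (hU : ∀ q : PrimeSpectrum B, ¬ J ≤ q.asIdeal →
      Module.Free (Localization.AtPrime q.asIdeal) (LocalizedModule q.asIdeal.primeCompl F)) :
    ∃ (n m : ℕ) (g : F →ₗ[B] (Fin n → B)) (h : (Fin n → B) →ₗ[B] (Fin m → B)),
      Function.Injective g ∧ Function.Exact g h ∧
      ∀ q : PrimeSpectrum B, ¬ J ≤ q.asIdeal →
        Module.Free (Localization.AtPrime q.asIdeal)
          (LocalizedModule q.asIdeal.primeCompl ((Fin m → B) ⧸ LinearMap.range h)) := by
  obtain ⟨n, π, hπ⟩ := Module.Finite.exists_fin' B (Module.Dual B F)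
  have hfin : Module.Finite B (LinearMap.ker π) := inferInstance
  obtain ⟨m, f, hf⟩ := Module.Finite.exists_fin' B (LinearMap.ker π)
  let a : (Fin m → B) →ₗ[B] (Fin n → B) := (LinearMap.ker π).subtype ∘ₗ f
  have ha : Exact a π := by
    intro w
    constructor
    · intro hw
      obtain ⟨v, hv⟩ := hf ⟨w, hw⟩
      exact ⟨v, by show ((f v : LinearMap.ker π) : Fin n → B) = w; rw [hv]⟩
    · rintro ⟨v, rfl⟩
      exact (f v).2
  refine ⟨n, m, gmap π, tr a, gmap_injective π hπ, gmap_exact π hπ a ha, fun q hq => ?_⟩
  have hfree := hU q hq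
  have hD : Module.Projective (Localization q.asIdeal.primeCompl)
      (LocalizedModule q.asIdeal.primeCompl (Module.Dual B F)) :=
    projective_dual_localized (F := F) q.asIdeal.primeCompl
  have hfp : Module.FinitePresentation B (Module.Dual B F) := Module.finitePresentation_of_finite B _
  obtain ⟨Y, s, hs, hY⟩ := exists_regular q.asIdeal.primeCompl π hπ a ha
  have hY' : tr a ∘ₗ tr Y ∘ₗ tr a = s • tr a := by
    rw [← tr_smul, ← hY, tr_comp, tr_comp, LinearMap.comp_assoc]
  obtain ⟨τ, hτ⟩ := exists_retract (tr a) (tr Y) s hY'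
  have hproj : Module.Projective (Localization q.asIdeal.primeCompl)
      (LocalizedModule q.asIdeal.primeCompl ((Fin m → B) ⧸ LinearMap.range (tr a))) :=
    projective_localized q.asIdeal.primeCompl (LinearMap.range (tr a)).mkQ τ s hs hτ
  exact Module.free_of_flat_of_isLocalRing

end final

end Groth.Agent.Lib.Helper93.ReflexiveDual
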