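import Mathlib

namespace Groth.Agent.Lib.Helper93.SSRedA
open Polynomial Matrix

theorem charpoly_smul_comp {R : Type*} [CommRing R] {g : ℕ} (c : R)
    (B : Matrix (Fin g) (Fin g) R) :
    (c • B).charpoly.comp (C c * X) = C c ^ g * B.charpoly := by
  have h1 : (c • B).charpoly.comp (C c * X)
      = ((Polynomial.compRingHom (C c * X)).mapMatrix (charmatrix (c • B))).det := by
    rw [← RingHom.map_det]; rfl
  have h2 : (Polynomial.compRingHom (C c * X)).mapMatrix (charmatrix (c • B))
      = (C c) • charmatrix B := by
    refine Matrix.ext fun i j => ?_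
    simp only [RingHom.mapMatrix_apply, Matrix.map_apply, charmatrix_apply, Matrix.smul_apply,
      coe_compRingHom_apply, smul_eq_mul, Matrix.diagonal_apply]
    by_cases hij : i = j
    · subst hij
      simp only [if_true, sub_comp, X_comp, C_comp, map_mul, mul_comp]
      ring
    · simp only [if_neg hij, zero_sub, neg_comp, C_comp, zero_comp, map_mul, mul_comp]
      ring
  rw [h1, h2, Matrix.det_smul, Fintype.card_fin]
  rfl

theorem charpoly_sq_expand {R : Type*} [CommRing R] {g : ℕ} (N : Matrix (Fin g) (Fin g) R) :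
    Polynomial.expand R 2 (N ^ 2).charpoly = (-1) ^ g * (N.charpoly * N.charpoly.comp (-X)) := by
  have h1 : Polynomial.expand R 2 (N ^ 2).charpoly
      = (((Polynomial.expand R 2 : R[X] →ₐ[R] R[X]) : R[X] →+* R[X]).mapMatrix
          (charmatrix (N ^ 2))).det := by
    rw [← RingHom.map_det]; rfl
  have h3 : N.charpoly.comp (-X)
      = ((Polynomial.compRingHom (-X)).mapMatrix (charmatrix N)).det := by
    rw [← RingHom.map_det]; rfl
  have h2 : ((Polynomial.expand R 2 : R[X] →ₐ[R] R[X]) : R[X] →+* R[X]).mapMatrix
      (charmatrix (N ^ 2))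
      = charmatrix N * (- ((Polynomial.compRingHom (-X)).mapMatrix (charmatrix N))) := by
    have e1 : ((Polynomial.expand R 2 : R[X] →ₐ[R] R[X]) : R[X] →+* R[X]).mapMatrix
      (charmatrix (N ^ 2)) = Matrix.scalar (Fin g) (X ^ 2) - (C : R →+* R[X]).mapMatrix (N ^ 2) := by
      refine Matrix.ext fun i j => ?_
      simp only [RingHom.mapMatrix_apply, Matrix.map_apply, charmatrix_apply, Matrix.sub_apply,
        Matrix.diagonal_apply, Matrix.scalar_apply]
      by_cases hij : i = j
      · simp [hij]
      · simp [hij]
    have e2 : - ((Polynomial.compRingHom (-X)).mapMatrix (charmatrix N))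
        = Matrix.scalar (Fin g) X + (C : R →+* R[X]).mapMatrix N := by
      refine Matrix.ext fun i j => ?_
      simp only [RingHom.mapMatrix_apply, Matrix.map_apply, charmatrix_apply, Matrix.neg_apply,
        Matrix.add_apply, Matrix.diagonal_apply, Matrix.scalar_apply, coe_compRingHom_apply]
      by_cases hij : i = j
      · simp [hij]; ring
      · simp [hij]
    rw [e1, e2, charmatrix, map_pow]
    have hc : Commute (Matrix.scalar (Fin g) (X : R[X])) ((C : R →+* R[X]).mapMatrix N) :=
      Matrix.scalar_commute _ (fun _ => Commute.all _ _) _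
    rw [map_pow]
    noncomm_ring
    rw [hc.eq]
    abel
  rw [h1, h2, Matrix.det_mul, Matrix.det_neg, Fintype.card_fin, ← h3]
  rw [Matrix.charpoly]
  ring

end Groth.Agent.Lib.Helper93.SSRedA
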