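import Mathlib
import Groth.Agent.Lib.Helper93.SSRedA

namespace Groth.Agent.Lib.Helper93.SSRedB
open Polynomial Matrix

/-- the even polynomial `H = (-1)^d F(X) F(-X)` with `F = f(X+1)` -/
noncomputable def Hpoly (f : ℤ[X]) : ℤ[X] :=
  (-1) ^ f.natDegree * ((f.comp (X + 1)) * (f.comp (X + 1)).comp (-X))

noncomputable def hpoly (f : ℤ[X]) : ℤ[X] := contract 2 (Hpoly f)

theorem Hpoly_comp_neg (f : ℤ[X]) : (Hpoly f).comp (-X) = Hpoly f := by
  unfold Hpoly
  rw [mul_comp, mul_comp, comp_neg_X_comp_neg_X, pow_comp, neg_comp, one_comp]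
  ring

theorem Hpoly_coeff_odd (f : ℤ[X]) (k : ℕ) (hk : ¬ 2 ∣ k) : (Hpoly f).coeff k = 0 := by
  have h1 : ((Hpoly f).comp (-X)).coeff k = (Hpoly f).coeff k := by rw [Hpoly_comp_neg]
  have h2 : (-X : ℤ[X]) = C (-1) * X := by simp
  rw [h2, comp_C_mul_X_coeff] at h1
  have hodd : Odd k := by
    rcases Nat.even_or_odd k with h | h
    · exact absurd h.two_dvd hk
    · exact h
  rw [hodd.neg_one_pow] at h1
  linarith

theorem expand_hpoly (f : ℤ[X]) : expand ℤ 2 (hpoly f) = Hpoly f := by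
  ext n
  rw [coeff_expand (by norm_num : 0 < 2), hpoly, coeff_contract (by norm_num)]
  split_ifs with h
  · rw [Nat.div_mul_cancel h]
  · exact (Hpoly_coeff_odd f n h).symm

theorem Hpoly_monic (f : ℤ[X]) (hf : f.Monic) : (Hpoly f).Monic := by
  have hF : (f.comp (X + 1)).Monic := by
    have : (X + 1 : ℤ[X]) = X + C 1 := by simp
    rw [this]
    exact hf.comp_X_add_C 1
  have hd : (f.comp (X + 1)).natDegree = f.natDegree := by
    have : (X + 1 : ℤ[X]) = X + C 1 := by simp
    rw [this, natDegree_comp, natDegree_X_add_C, mul_one]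
  have := hF.neg_one_pow_natDegree_mul_comp_neg_X
  rw [hd] at this
  have h2 : Hpoly f = (f.comp (X + 1)) * ((-1) ^ f.natDegree * (f.comp (X + 1)).comp (-X)) := by
    unfold Hpoly; ring
  rw [h2]
  exact hF.mul this

theorem hpoly_monic (f : ℤ[X]) (hf : f.Monic) : (hpoly f).Monic := by
  rw [← monic_expand_iff (by norm_num : 0 < 2), expand_hpoly]
  exact Hpoly_monic f hf

theorem Hpoly_natDegree (f : ℤ[X]) (hf : f.Monic) : (Hpoly f).natDegree = f.natDegree * 2 := by
  have hF : (f.comp (X + 1)).Monic := by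
    have : (X + 1 : ℤ[X]) = X + C 1 := by simp
    rw [this]
    exact hf.comp_X_add_C 1
  have hd : (f.comp (X + 1)).natDegree = f.natDegree := by
    have : (X + 1 : ℤ[X]) = X + C 1 := by simp
    rw [this, natDegree_comp, natDegree_X_add_C, mul_one]
  have hm := hF.neg_one_pow_natDegree_mul_comp_neg_X
  rw [hd] at hm
  have h2 : Hpoly f = (f.comp (X + 1)) * ((-1) ^ f.natDegree * (f.comp (X + 1)).comp (-X)) := by
    unfold Hpoly; ring
  rw [h2, hF.natDegree_mul hm, hd]
  have h3 : ((-1) ^ f.natDegree * (f.comp (X + 1)).comp (-X) : ℤ[X]).natDegree = f.natDegree := by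
    have : ((-1 : ℤ[X]) ^ f.natDegree) = C ((-1) ^ f.natDegree) := by simp
    rw [this, natDegree_C_mul (by simp), natDegree_comp, hd, natDegree_neg, natDegree_X, mul_one]
  rw [h3]; ring

theorem hpoly_natDegree (f : ℤ[X]) (hf : f.Monic) : (hpoly f).natDegree = f.natDegree := by
  have := natDegree_expand 2 (hpoly f)
  rw [expand_hpoly, Hpoly_natDegree f hf] at this
  omega

end Groth.Agent.Lib.Helper93.SSRedB
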