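import Mathlib
import Groth.Agent.Lib.Helper93.SSRedB

namespace Groth.Agent.Lib.Helper93.SSRedC
open Polynomial Matrix Groth.Agent.Lib.Helper93.SSRedA Groth.Agent.Lib.Helper93.SSRedB

/-- local divisibility of coefficients -/
theorem local_dvd (n : ℕ) (hn : 0 < n) (g : ℕ) (f : ℤ[X]) (hf : f.Monic)
    (ℓ : ℕ) [Fact ℓ.Prime]
    (A : Matrix (Fin g) (Fin g) ℤ_[ℓ]) (hA : A.charpoly = f.map (Int.castRingHom ℤ_[ℓ]))
    (B : Matrix (Fin g) (Fin g) ℤ_[ℓ]) (hB : (A - 1) ^ 2 = (n : ℤ_[ℓ]) • B)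
    (j : ℕ) (hj : j ≤ f.natDegree) :
    ((ℓ : ℤ) ^ (n.factorization ℓ * (f.natDegree - j))) ∣ (hpoly f).coeff j := by
  set φ := Int.castRingHom ℤ_[ℓ] with hφ
  have hg : g = f.natDegree := by
    have h1 := Matrix.charpoly_natDegree_eq_dim A
    rw [hA, hf.natDegree_map, Fintype.card_fin] at h1
    exact h1.symm
  -- charpoly of N = A - 1
  have hN : (A - 1).charpoly = (f.comp (X + 1)).map φ := by
    have : (A - 1) = A - Matrix.scalar (Fin g) (1 : ℤ_[ℓ]) := by simp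
    rw [this, charpoly_sub_scalar, hA, Polynomial.map_comp]
    simp
  have hN2 : ((A - 1) ^ 2).charpoly = (hpoly f).map φ := by
    apply expand_injective (by norm_num : 0 < 2)
    rw [charpoly_sq_expand, hN, ← map_expand, expand_hpoly, Hpoly, hg]
    simp only [Polynomial.map_mul, Polynomial.map_pow, Polynomial.map_neg, Polynomial.map_one,
      Polynomial.map_comp, Polynomial.map_X]
  rw [hB] at hN2
  have hc := charpoly_smul_comp (n : ℤ_[ℓ]) B
  rw [hN2] at hc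
  have hcj := congrArg (fun p => p.coeff j) hc
  simp only [comp_C_mul_X_coeff, ← C_pow, coeff_C_mul, coeff_map] at hcj
  -- cancel `n^j`
  have hn0 : (n : ℤ_[ℓ]) ≠ 0 := Nat.cast_ne_zero.mpr hn.ne'
  have hjg : j ≤ g := hg ▸ hj
  have hcj2 : φ ((hpoly f).coeff j) = (n : ℤ_[ℓ]) ^ (g - j) * B.charpoly.coeff j := by
    have : (n : ℤ_[ℓ]) ^ g = (n : ℤ_[ℓ]) ^ (g - j) * (n : ℤ_[ℓ]) ^ j := by
      rw [← pow_add, Nat.sub_add_cancel hjg]
    rw [this] at hcj
    have h3 : (n : ℤ_[ℓ]) ^ j ≠ 0 := pow_ne_zero _ hn0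
    apply mul_right_cancel₀ h3
    rw [hcj]; ring
  -- ℓ-adic divisibility
  have hdv : ((ℓ : ℤ_[ℓ]) ^ (n.factorization ℓ * (f.natDegree - j))) ∣ φ ((hpoly f).coeff j) := by
    rw [hcj2, ← hg, pow_mul]
    apply Dvd.dvd.mul_right
    apply pow_dvd_pow_of_dvd
    have := Nat.ordProj_dvd n ℓ
    obtain ⟨m, hm⟩ := this
    refine ⟨(m : ℤ_[ℓ]), ?_⟩
    conv_lhs => rw [hm]
    push_cast; ring
  have := (PadicInt.pow_p_dvd_int_iff (p := ℓ) _ _).mp hdv
  exact_mod_cast this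


theorem global_dvd (n : ℕ) (hn : 0 < n) (g : ℕ) (f : ℤ[X]) (hf : f.Monic)
    (hA : ∀ (ℓ : ℕ) [Fact ℓ.Prime], ℓ ∣ n → ∃ A : Matrix (Fin g) (Fin g) ℤ_[ℓ],
      A.charpoly = f.map (Int.castRingHom ℤ_[ℓ]) ∧
        ∃ B : Matrix (Fin g) (Fin g) ℤ_[ℓ], (A - 1) ^ 2 = (n : ℤ_[ℓ]) • B)
    (j : ℕ) (hj : j ≤ f.natDegree) :
    ((n : ℤ) ^ (f.natDegree - j)) ∣ (hpoly f).coeff j := by
  set a := (hpoly f).coeff j with ha
  by_cases ha0 : a = 0
  · rw [ha0]; exact dvd_zero _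
  have hm : a.natAbs ≠ 0 := Int.natAbs_ne_zero.mpr ha0
  have key : n ^ (f.natDegree - j) ∣ a.natAbs := by
    rw [← Nat.factorization_prime_le_iff_dvd (pow_ne_zero _ hn.ne') hm]
    intro p hp
    rw [Nat.factorization_pow]
    simp only [Finsupp.smul_apply, smul_eq_mul]
    by_cases hpn : p ∣ n
    · haveI : Fact p.Prime := ⟨hp⟩
      obtain ⟨A, hA1, B, hB⟩ := hA p hpn
      have h1 := local_dvd n hn g f hf p A hA1 B hB j hj
      rw [← ha] at h1
      have h2 : p ^ (n.factorization p * (f.natDegree - j)) ∣ a.natAbs := by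
        have := Int.natAbs_dvd_natAbs.mpr h1
        rwa [Int.natAbs_pow, Int.natAbs_natCast] at this
      have h3 := (hp.pow_dvd_iff_le_factorization hm).mp h2
      rw [mul_comm]; exact h3
    · rw [Nat.factorization_eq_zero_of_not_dvd hpn, mul_zero]; exact Nat.zero_le _
  have : ((n ^ (f.natDegree - j) : ℕ) : ℤ) ∣ a := Int.natCast_dvd.mpr key
  exact_mod_cast this

theorem main (n : ℕ) (hn : 0 < n) (g : ℕ) (f : Polynomial ℤ)
    (hf : f.Monic)
    (hA : ∀ (ℓ : ℕ) [Fact ℓ.Prime], ℓ ∣ n → ∃ A : Matrix (Fin g) (Fin g) ℤ_[ℓ],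
      A.charpoly = f.map (Int.castRingHom ℤ_[ℓ]) ∧
        ∃ B : Matrix (Fin g) (Fin g) ℤ_[ℓ], (A - 1) ^ 2 = (n : ℤ_[ℓ]) • B)
    (K : Type*) [Field K] [CharZero K] (α s : K) (hα : Polynomial.aeval α f = 0)
    (hs : s ^ 2 = (n : K)) :
    IsIntegral ℤ ((α - 1) / s) := by
  set d := f.natDegree with hd
  have hnK : (n : K) ≠ 0 := Nat.cast_ne_zero.mpr hn.ne'
  have hs0 : s ≠ 0 := by
    rintro rfl
    apply hnK; rw [← hs]; ring
  -- the scaled polynomial
  set h' := (hpoly f).comp (C (n : ℤ) * X) with hh'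
  have hdvd : C ((n : ℤ) ^ d) ∣ h' := by
    rw [C_dvd_iff_dvd_coeff]
    intro j
    rw [hh', comp_C_mul_X_coeff]
    by_cases hj : j ≤ d
    · obtain ⟨c, hc⟩ := global_dvd n hn g f hf hA j hj
      refine ⟨c, ?_⟩
      rw [hc]
      have : (n : ℤ) ^ d = (n : ℤ) ^ (d - j) * (n : ℤ) ^ j := by
        rw [← pow_add, Nat.sub_add_cancel hj]
      rw [this]; ring
    · rw [coeff_eq_zero_of_natDegree_lt (by rw [hpoly_natDegree f hf]; omega), zero_mul]
      exact dvd_zero _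
  obtain ⟨P, hP⟩ := hdvd
  have hnZ : (n : ℤ) ≠ 0 := Nat.cast_ne_zero.mpr hn.ne'
  have hPmonic : P.Monic := by
    have h1 : h'.leadingCoeff = (n : ℤ) ^ d := by
      rw [hh', leadingCoeff_comp (by rw [natDegree_C_mul_X _ hnZ]; norm_num),
        (hpoly_monic f hf).leadingCoeff, one_mul, hpoly_natDegree f hf,
        leadingCoeff_mul, leadingCoeff_C, leadingCoeff_X, mul_one]
    rw [hP, leadingCoeff_mul, leadingCoeff_C] at h1
    have h2 : (n : ℤ) ^ d ≠ 0 := pow_ne_zero _ hnZ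
    exact mul_left_cancel₀ h2 (h1.trans (mul_one _).symm)
  -- γ is a root of P
  set γ : K := (α - 1) ^ 2 / n with hγ
  have hroot : aeval γ P = 0 := by
    have h1 : aeval γ h' = 0 := by
      rw [hh', aeval_comp]
      have : aeval γ (C (n : ℤ) * X) = (α - 1) ^ 2 := by
        simp only [map_mul, aeval_C, aeval_X, hγ]
        simp only [eq_intCast, Int.cast_natCast]
        field_simp
      rw [this, ← expand_aeval, expand_hpoly, Hpoly]
      simp only [map_mul, map_pow, map_neg, map_one, aeval_comp, map_add, aeval_X]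
      rw [sub_add_cancel, hα]; ring
    rw [hP, map_mul, aeval_C] at h1
    have h2 : (algebraMap ℤ K) ((n : ℤ) ^ d) ≠ 0 := by
      simp only [eq_intCast, Int.cast_pow, Int.cast_natCast]
      exact pow_ne_zero _ hnK
    exact (mul_eq_zero.mp h1).resolve_left h2
  have hγint : IsIntegral ℤ γ := ⟨P, hPmonic, by rwa [← aeval_def]⟩
  have hsq : ((α - 1) / s) ^ 2 = γ := by
    rw [div_pow, hs]
  exact IsIntegral.of_pow (by norm_num : 0 < 2) (hsq ▸ hγint)

end Groth.Agent.Lib.Helper93.SSRedC
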