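import Mathlib
import Groth.Agent.Lib.Helper83.FlatLocalDim

namespace Groth.Agent.Lib.Helper93.SemiLocalDim

open Ideal

section quot

variable {A B : Type*} [CommRing A] [CommRing B] [Algebra A B] (𝔞 : Ideal A)

local notation "A'" => A ⧸ 𝔞
local notation "B'" => B ⧸ 𝔞.map (algebraMap A B)

theorem comp_eq :
    (algebraMap (A ⧸ 𝔞) (B ⧸ 𝔞.map (algebraMap A B))).comp (Ideal.Quotient.mk 𝔞) =
      (Ideal.Quotient.mk (𝔞.map (algebraMap A B))).comp (algebraMap A B) := rfl

theorem comap_comap_quot (Q' : Ideal (B ⧸ 𝔞.map (algebraMap A B))) :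
    (Q'.comap (algebraMap (A ⧸ 𝔞) (B ⧸ 𝔞.map (algebraMap A B)))).comap (Ideal.Quotient.mk 𝔞) =
      (Q'.comap (Ideal.Quotient.mk (𝔞.map (algebraMap A B)))).comap (algebraMap A B) := by
  rw [Ideal.comap_comap, Ideal.comap_comap, comp_eq]

/-- a prime of `B` whose contraction contains `𝔞` descends to `B'` with the expected contraction -/
theorem descend_prime (P : Ideal B) [hP : P.IsPrime] (p' : Ideal (A ⧸ 𝔞))
    (hp : P.comap (algebraMap A B) = p'.comap (Ideal.Quotient.mk 𝔞)) :
    (P.map (Ideal.Quotient.mk (𝔞.map (algebraMap A B)))).IsPrime ∧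
    (P.map (Ideal.Quotient.mk (𝔞.map (algebraMap A B)))).comap
      (algebraMap (A ⧸ 𝔞) (B ⧸ 𝔞.map (algebraMap A B))) = p' ∧
    (P.map (Ideal.Quotient.mk (𝔞.map (algebraMap A B)))).comap
      (Ideal.Quotient.mk (𝔞.map (algebraMap A B))) = P := by
  have hker : RingHom.ker (Ideal.Quotient.mk (𝔞.map (algebraMap A B))) ≤ P := by
    rw [Ideal.mk_ker, Ideal.map_le_iff_le_comap, hp]
    intro x hx
    rw [Ideal.mem_comap, Ideal.Quotient.eq_zero_iff_mem.mpr hx]
    exact zero_mem _
  have hcm : (P.map (Ideal.Quotient.mk (𝔞.map (algebraMap A B)))).comap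
      (Ideal.Quotient.mk (𝔞.map (algebraMap A B))) = P := by
    rw [Ideal.comap_map_of_surjective _ Ideal.Quotient.mk_surjective, ← RingHom.ker_eq_comap_bot]
    exact sup_eq_left.mpr hker
  refine ⟨Ideal.map_isPrime_of_surjective Ideal.Quotient.mk_surjective hker, ?_, hcm⟩
  apply Ideal.comap_injective_of_surjective (Ideal.Quotient.mk 𝔞) Ideal.Quotient.mk_surjective
  rw [comap_comap_quot, hcm, hp]

instance hasGoingDown_quot [Algebra.HasGoingDown A B] :
    Algebra.HasGoingDown (A ⧸ 𝔞) (B ⧸ 𝔞.map (algebraMap A B)) := by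
  constructor
  intro p' hp' Q' hQ' hlt
  -- lift
  let p := p'.comap (Ideal.Quotient.mk 𝔞)
  let Q := Q'.comap (Ideal.Quotient.mk (𝔞.map (algebraMap A B)))
  haveI : p.IsPrime := Ideal.comap_isPrime _ _
  haveI : Q.IsPrime := Ideal.comap_isPrime _ _
  have hle : p ≤ Q.under A := by
    show p'.comap _ ≤ Q.comap (algebraMap A B)
    rw [← comap_comap_quot]
    exact Ideal.comap_mono hlt.le
  haveI : Q.LiesOver (Q.under A) := ⟨rfl⟩
  haveI : (Q.under A).IsPrime := Ideal.comap_isPrime _ _
  obtain ⟨P, hPQ, hPprime, hPlo⟩ := Ideal.exists_ideal_le_liesOver_of_le (p := p) (q := Q.under A) Q hle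
  have hPp : P.comap (algebraMap A B) = p'.comap (Ideal.Quotient.mk 𝔞) := (hPlo.over).symm
  obtain ⟨h1, h2, h3⟩ := descend_prime 𝔞 P p' hPp
  refine ⟨P.map (Ideal.Quotient.mk (𝔞.map (algebraMap A B))), ?_, h1, ⟨h2.symm⟩⟩
  have : Q.map (Ideal.Quotient.mk (𝔞.map (algebraMap A B))) = Q' :=
    Ideal.map_comap_of_surjective _ Ideal.Quotient.mk_surjective Q'
  rw [← this]
  exact Ideal.map_mono hPQ

end quot


/-- dimension is preserved by a going-down map whose maximal ideals are extended from below. -/
theorem ringKrullDim_eq_of_goingDown {A' B' : Type*} [CommRing A'] [CommRing B'] [Algebra A' B']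
    [IsNoetherianRing A'] [IsNoetherianRing B'] [Algebra.HasGoingDown A' B']
    (hb : ∀ n' : Ideal B', n'.IsMaximal → (n'.comap (algebraMap A' B')).map (algebraMap A' B') = n')
    (hc : ∀ m' : Ideal A', m'.IsMaximal → ∃ P' : Ideal B', P'.IsPrime ∧
      P'.comap (algebraMap A' B') = m') :
    ringKrullDim B' = ringKrullDim A' := by
  rcases subsingleton_or_nontrivial A' with hA | hA
  · haveI : Subsingleton B' := by
      refine ⟨fun x y => ?_⟩
      have h1 : (1 : B') = 0 := by
        rw [← map_one (algebraMap A' B'), Subsingleton.elim (1 : A') 0, map_zero]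
      rw [← mul_one x, ← mul_one y, h1, mul_zero, mul_zero]
    rw [ringKrullDim_eq_bot_of_subsingleton, ringKrullDim_eq_bot_of_subsingleton]
  haveI : Nontrivial B' := by
    obtain ⟨m', hm'⟩ := Ideal.exists_maximal A'
    obtain ⟨P', hP', -⟩ := hc m' hm'
    exact ⟨⟨0, 1, fun h => hP'.ne_top ((Ideal.eq_top_iff_one _).mpr (h ▸ zero_mem _))⟩⟩
  apply le_antisymm
  · rw [← Ideal.sup_isMaximal_height_eq_ringKrullDim (R := B')]
    rw [WithBot.coe_iSup ⟨⊤, fun _ _ => le_top⟩]
    refine iSup_le fun n' => ?_
    by_cases hn' : n'.IsMaximal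
    · simp only [hn', iSup_pos]
      haveI := hn'
      let m' := n'.comap (algebraMap A' B')
      haveI : m'.IsPrime := Ideal.comap_isPrime _ _
      haveI : n'.LiesOver m' := ⟨rfl⟩
      have h1 := Ideal.height_le_height_add_of_liesOver m' n'
      have h2 : (n'.map (Ideal.Quotient.mk (m'.map (algebraMap A' B')))).height = 0 := by
        rw [hb n' hn', Ideal.map_quotient_self]
        letI := Ideal.Quotient.field n'
        exact Ideal.height_bot
      rw [h2, add_zero] at h1
      exact (WithBot.coe_le_coe.mpr h1).trans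
        (Ideal.height_le_ringKrullDim_of_ne_top (Ideal.IsPrime.ne_top inferInstance))
    · simp only [hn', iSup_false, ENat.iSup_zero, bot_eq_zero', WithBot.coe_zero]
      exact ringKrullDim_nonneg_of_nontrivial
  · rw [← Ideal.sup_isMaximal_height_eq_ringKrullDim (R := A')]
    rw [WithBot.coe_iSup ⟨⊤, fun _ _ => le_top⟩]
    refine iSup_le fun m' => ?_
    by_cases hm' : m'.IsMaximal
    · simp only [hm', iSup_pos]
      haveI := hm'
      obtain ⟨P', hP', hPm⟩ := hc m' hm'
      haveI := hP'
      haveI : P'.LiesOver m' := ⟨hPm.symm⟩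
      have h1 := Ideal.height_eq_height_add_of_liesOver_of_hasGoingDown m' P'
      have h2 : m'.height ≤ P'.height := by rw [h1]; exact le_self_add
      exact (WithBot.coe_le_coe.mpr h2).trans
        (Ideal.height_le_ringKrullDim_of_ne_top hP'.ne_top)
    · simp only [hm', iSup_false, ENat.iSup_zero, bot_eq_zero', WithBot.coe_zero]
      exact ringKrullDim_nonneg_of_nontrivial


open Groth.Agent.Lib.Helper83

section semilocal

variable {A : Type*} [CommRing A]

theorem isMaximal_of_jacobson_le [Finite (MaximalSpectrum A)] (p : Ideal A) [hp : p.IsPrime]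
    (h : Ring.jacobson A ≤ p) : p.IsMaximal := by
  classical
  have hfin : {m : Ideal A | m.IsMaximal}.Finite := by
    have : {m : Ideal A | m.IsMaximal} = Set.range (fun x : MaximalSpectrum A => x.asIdeal) := by
      ext m; constructor
      · intro hm; exact ⟨⟨m, hm⟩, rfl⟩
      · rintro ⟨x, rfl⟩; exact x.isMaximal
    rw [this]; exact Set.finite_range _
  have hj : Ring.jacobson A = hfin.toFinset.inf id := by
    rw [← Ideal.jacobson_bot, Ideal.jacobson]
    apply le_antisymm
    · apply Finset.le_inf
      intro m hm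
      exact sInf_le ⟨bot_le, by simpa using hm⟩
    · apply le_sInf
      rintro m ⟨-, hm⟩
      exact Finset.inf_le (f := id) (by simpa using hm)
  rw [hj, Ideal.IsPrime.inf_le' hp] at h
  obtain ⟨m, hm, hmp⟩ := h
  have hm' : m.IsMaximal := by simpa using hm
  have := hm'.eq_of_le hp.ne_top hmp
  exact this ▸ hm'

theorem jac_le_of_isMaximal (m : Ideal A) [hm : m.IsMaximal] : Ring.jacobson A ≤ m := by
  rw [← Ideal.jacobson_bot]; exact sInf_le ⟨bot_le, hm⟩

variable [IsNoetherianRing A]

local notation "B" => AdicCompletion (Ring.jacobson A) A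

theorem map_isMaximal (m : Ideal A) [m.IsMaximal] :
    (m.map (algebraMap A B)).IsMaximal :=
  AdicCompletion.isMaximal_map_of_le _ m (jac_le_of_isMaximal m)
    (Ring.jacobson A).fg_of_isNoetherianRing

theorem comap_map_eq (m : Ideal A) [hm : m.IsMaximal] :
    (m.map (algebraMap A B)).comap (algebraMap A B) = m := by
  have h1 : m ≤ (m.map (algebraMap A B)).comap (algebraMap A B) := Ideal.le_comap_map
  have h2 : (m.map (algebraMap A B)).comap (algebraMap A B) ≠ ⊤ := by
    haveI := map_isMaximal m
    exact (Ideal.comap_isPrime (algebraMap A B) (m.map (algebraMap A B))).ne_top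
  exact (hm.eq_of_le h2 h1).symm

theorem maximal_of_completion [Finite (MaximalSpectrum A)] (n : Ideal B) [hn : n.IsMaximal] :
    (n.comap (algebraMap A B)).IsMaximal ∧
      (n.comap (algebraMap A B)).map (algebraMap A B) = n := by
  have hc := AdicCompletion.isAdicComplete_self (Ring.jacobson A)
    (Ring.jacobson A).fg_of_isNoetherianRing
  have h1 : (Ring.jacobson A).map (algebraMap A B) ≤ n :=
    (IsAdicComplete.le_jacobson_bot _).trans (sInf_le ⟨bot_le, hn⟩)
  have h2 : Ring.jacobson A ≤ n.comap (algebraMap A B) := Ideal.map_le_iff_le_comap.mp h1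
  haveI : (n.comap (algebraMap A B)).IsPrime := Ideal.comap_isPrime _ _
  have h3 := isMaximal_of_jacobson_le _ h2
  refine ⟨h3, ?_⟩
  haveI := h3
  have h4 := map_isMaximal (n.comap (algebraMap A B))
  exact h4.eq_of_le hn.ne_top Ideal.map_comap_le

theorem ringKrullDim_quot_map_eq [Finite (MaximalSpectrum A)] (𝔞 : Ideal A) :
    ringKrullDim (B ⧸ 𝔞.map (algebraMap A B)) = ringKrullDim (A ⧸ 𝔞) := by
  haveI : IsNoetherianRing B := isNoetherianRing_adicCompletion _
  haveI : Module.Flat A B := AdicCompletion.flat_of_isNoetherian _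
  haveI : Algebra.HasGoingDown A B := inferInstance
  apply ringKrullDim_eq_of_goingDown
  · intro n' hn'
    haveI := hn'
    let n := n'.comap (Ideal.Quotient.mk (𝔞.map (algebraMap A B)))
    haveI hn : n.IsMaximal := Ideal.comap_isMaximal_of_surjective _ Ideal.Quotient.mk_surjective
    obtain ⟨hm, hmn⟩ := maximal_of_completion n
    set m' := n'.comap (algebraMap (A ⧸ 𝔞) (B ⧸ 𝔞.map (algebraMap A B))) with hm'
    have e1 : m'.comap (Ideal.Quotient.mk 𝔞) = n.comap (algebraMap A B) := comap_comap_quot 𝔞 n'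
    have e2 : m' = (n.comap (algebraMap A B)).map (Ideal.Quotient.mk 𝔞) := by
      rw [← e1, Ideal.map_comap_of_surjective _ Ideal.Quotient.mk_surjective]
    rw [e2, Ideal.map_map, comp_eq, ← Ideal.map_map, hmn,
      Ideal.map_comap_of_surjective _ Ideal.Quotient.mk_surjective]
  · intro m' hm'
    haveI := hm'
    let m := m'.comap (Ideal.Quotient.mk 𝔞)
    haveI hm : m.IsMaximal := Ideal.comap_isMaximal_of_surjective _ Ideal.Quotient.mk_surjective
    haveI hP := map_isMaximal m
    haveI : (m.map (algebraMap A B)).IsPrime := hP.isPrime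
    obtain ⟨h1, h2, -⟩ := descend_prime 𝔞 (m.map (algebraMap A B)) m' (comap_map_eq m)
    exact ⟨_, h1, h2⟩


end semilocal

open TensorProduct

theorem map_annihilator_le {A B M : Type*} [CommRing A] [CommRing B] [Algebra A B]
    [AddCommGroup M] [Module A M] :
    (Module.annihilator A M).map (algebraMap A B) ≤ Module.annihilator B (B ⊗[A] M) := by
  rw [Ideal.map_le_iff_le_comap]
  intro a ha
  rw [Ideal.mem_comap, Module.mem_annihilator]
  intro t
  induction t using TensorProduct.induction_on with
  | zero => simp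
  | tmul b m =>
    rw [TensorProduct.smul_tmul', smul_eq_mul, ← Algebra.smul_def,
      TensorProduct.smul_tmul, Module.mem_annihilator.mp ha m, TensorProduct.tmul_zero]
  | add x y hx hy => rw [smul_add, hx, hy, add_zero]

theorem annihilator_baseChange_le {A B M : Type*} [CommRing A] [CommRing B] [Algebra A B]
    [Module.Flat A B] [AddCommGroup M] [Module A M] [Module.Finite A M] :
    Module.annihilator B (B ⊗[A] M) ≤ (Module.annihilator A M).map (algebraMap A B) := by
  classical
  obtain ⟨n, s, hs⟩ := Module.Finite.exists_fin (R := A) (M := M)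
  let f : A →ₗ[A] (Fin n → M) := LinearMap.pi (fun i => LinearMap.toSpanSingleton A M (s i))
  have hker : ∀ a : A, a ∈ LinearMap.ker f → a ∈ Module.annihilator A M := by
    intro a ha
    rw [LinearMap.mem_ker] at ha
    rw [Module.mem_annihilator]
    intro m
    have hm : m ∈ Submodule.span A (Set.range s) := hs ▸ Submodule.mem_top
    induction hm using Submodule.span_induction with
    | mem x hx =>
      obtain ⟨i, rfl⟩ := hx
      have := congrFun ha i
      simpa [f] using this
    | zero => simp
    | add x y _ _ hx hy => rw [smul_add, hx, hy, add_zero]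
    | smul c x _ hx => rw [smul_comm, hx, smul_zero]
  intro b hb
  rw [Module.mem_annihilator] at hb
  have h0 : AlgebraTensorModule.lTensor B B f (b ⊗ₜ[A] (1 : A)) = 0 := by
    rw [AlgebraTensorModule.lTensor_tmul]
    have hf1 : f 1 = ∑ i, Pi.single i (s i) := by
      ext j
      simp [f, Finset.sum_apply, Pi.single_apply]
    rw [hf1, TensorProduct.tmul_sum]
    apply Finset.sum_eq_zero
    intro i _
    have : b ⊗ₜ[A] (Pi.single i (s i) : Fin n → M) =
        AlgebraTensorModule.lTensor B B (LinearMap.single A (fun _ => M) i) (b • ((1 : B) ⊗ₜ[A] s i)) := by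
      rw [TensorProduct.smul_tmul', smul_eq_mul, mul_one, AlgebraTensorModule.lTensor_tmul]
      rfl
    rw [this, hb, map_zero]
  have h1 : b ⊗ₜ[A] (1 : A) ∈ LinearMap.ker (AlgebraTensorModule.lTensor B B f) := h0
  rw [Module.Flat.ker_lTensor_eq] at h1
  obtain ⟨u, hu⟩ := h1
  let ψ : B ⊗[A] A →ₗ[B] B := (AlgebraTensorModule.rid A B B).toLinearMap
  have hψ : ψ (b ⊗ₜ[A] (1 : A)) = b := by simp [ψ]
  rw [← hψ, ← hu]
  clear hu
  induction u using TensorProduct.induction_on with
  | zero => simp
  | tmul c a =>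
    rw [AlgebraTensorModule.lTensor_tmul]
    have : ψ (c ⊗ₜ[A] ((LinearMap.ker f).subtype a)) = algebraMap A B a.1 * c := by
      simp [ψ, Algebra.smul_def]
    rw [this]
    exact Ideal.mul_mem_right _ _ (Ideal.mem_map_of_mem _ (hker _ a.2))
  | add x y hx hy =>
    rw [map_add, map_add]
    exact Ideal.add_mem _ hx hy


universe u

theorem main (A : Type u) [CommRing A] [IsNoetherianRing A]
    [Finite (MaximalSpectrum A)] (M : Type u) [AddCommGroup M] [Module A M] [Module.Finite A M] :
    Module.supportDim (AdicCompletion (Ring.jacobson A) A) (AdicCompletion (Ring.jacobson A) M) =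
      Module.supportDim A M := by
  haveI : Module.Flat A (AdicCompletion (Ring.jacobson A) A) := AdicCompletion.flat_of_isNoetherian _
  rw [← Module.supportDim_eq_of_equiv
    (AdicCompletion.ofTensorProductEquivOfFiniteNoetherian (Ring.jacobson A) M)]
  rw [Module.supportDim_eq_ringKrullDim_quotient_annihilator,
    Module.supportDim_eq_ringKrullDim_quotient_annihilator]
  have h : Module.annihilator (AdicCompletion (Ring.jacobson A) A)
      (AdicCompletion (Ring.jacobson A) A ⊗[A] M) =
      (Module.annihilator A M).map (algebraMap A (AdicCompletion (Ring.jacobson A) A)) :=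
    le_antisymm annihilator_baseChange_le map_annihilator_le
  rw [h]
  exact ringKrullDim_quot_map_eq _

end Groth.Agent.Lib.Helper93.SemiLocalDim
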