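import Mathlib
import Groth.Agent.S0559
import Groth.Agent.S0561
import Groth.Agent.Lib.Helper29.RegSeqPow
/-!
# Parameters with the annihilator condition (Popescu smoothing input)

`Λ` Noetherian, `Λ_q` regular of dimension `d`: choose generators of `qΛ_q` in `Λ` with `n`-th powers in `I`,
then successively replace `π_k` by `u^m π_k` (`u ∉ q`) so that `Ann(π_k) = Ann(π_k²)` modulo
`(π_1^e, …, π_{k-1}^e)`; uses that powers of a regular system of parameters form a regular sequence.
-/
set_option autoImplicit false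
set_option linter.unusedSectionVars false
set_option linter.style.haveILetI false
universe u
open IsLocalRing RingTheory.Sequence

namespace Groth.Agent.Lib.Helper93.SmoothParam

/-- the ideal generated by the `e`-th powers of the first `i` entries. -/
def K {R : Type u} [CommRing R] {d : ℕ} (e : ℕ) (π : Fin d → R) (i : Fin d) : Ideal R :=
  Ideal.span (Set.range fun j : {j : Fin d // (j : ℕ) < (i : ℕ)} => π j ^ e)

theorem K_congr {R : Type u} [CommRing R] {d : ℕ} (e : ℕ) (π π' : Fin d → R) (i : Fin d)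
    (h : ∀ j : Fin d, (j : ℕ) < (i : ℕ) → π' j = π j) : K e π' i = K e π i := by
  unfold K
  congr 1
  ext r
  simp only [Set.mem_range]
  constructor
  · rintro ⟨j, rfl⟩; exact ⟨j, by rw [h j.1 j.2]⟩
  · rintro ⟨j, rfl⟩; exact ⟨j, by rw [h j.1 j.2]⟩

theorem map_K {R S : Type u} [CommRing R] [CommRing S] (φ : R →+* S) {d : ℕ} (e : ℕ) (π : Fin d → R)
    (i : Fin d) : (K e π i).map φ = K e (fun j => φ (π j)) i := by
  unfold K
  rw [Ideal.map_span]
  congr 1
  ext r
  simp only [Set.mem_image, Set.mem_range]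
  constructor
  · rintro ⟨_, ⟨j, rfl⟩, rfl⟩; exact ⟨j, by rw [map_pow]⟩
  · rintro ⟨j, rfl⟩; exact ⟨_, ⟨j, rfl⟩, by rw [map_pow]⟩

section regular
variable {A : Type u} [CommRing A] [IsRegularLocalRing A]

theorem mem_K_of_mul_mem (d : ℕ) (hd : ringKrullDim A = d) (x : Fin d → A)
    (hx : Ideal.span (Set.range x) = maximalIdeal A) (e : ℕ) (he : 0 < e) (k : Fin d) (z : A)
    (hz : x k * z ∈ K e x k) : z ∈ K e x k := by
  have hreg : IsRegular A (List.ofFn x) := Groth.Agent.S0559.result A d hd x hx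
  set v : Fin d → ℕ := fun j => if (j : ℕ) < (k : ℕ) then e else 1 with hv
  have hv1 : ∀ j, 1 ≤ v j := fun j => by
    simp only [hv]; split_ifs <;> omega
  have hw := Groth.Agent.Lib.Helper29.isWeaklyRegular_ofFn_pow d x v hv1 hreg.toIsWeaklyRegular
  rw [isWeaklyRegular_iff_Fin] at hw
  have hlen : (k : ℕ) < (List.ofFn fun i => x i ^ v i).length := by simp
  have hk := hw ⟨k, hlen⟩
  have hget : (List.ofFn fun i => x i ^ v i)[(⟨k, hlen⟩ : Fin _)] = x k := by
    simp [hv]
  have hI : Ideal.ofList ((List.ofFn fun i => x i ^ v i).take k) = K e x k := by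
    unfold Ideal.ofList K
    congr 1
    ext r
    simp only [Set.mem_ofPred_eq, Set.mem_range, List.mem_take_iff_getElem]
    constructor
    · rintro ⟨j, hj, rfl⟩
      have hj1 : j < (k : ℕ) := (lt_min_iff.mp hj).1
      have hj2 : j < d := by omega
      refine ⟨⟨⟨j, hj2⟩, hj1⟩, ?_⟩
      rw [List.getElem_ofFn]
      simp only [hv]
      rw [if_pos (show ((⟨j, _⟩ : Fin d) : ℕ) < (k : ℕ) from hj1)]
    · rintro ⟨⟨j, hj⟩, rfl⟩
      refine ⟨j, ?_, ?_⟩
      · simp; omega
      · rw [List.getElem_ofFn]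
        simp only [hv]
        rw [if_pos (show ((⟨(j : ℕ), _⟩ : Fin d) : ℕ) < (k : ℕ) from hj)]
  rw [hget, hI, smul_eq_mul, Ideal.mul_top] at hk
  exact (isSMulRegular_quotient_iff_mem_of_smul_mem (K e x k) (x k)).mp hk z hz

end regular


section transfer
variable {Λ : Type u} [CommRing Λ] [IsNoetherianRing Λ] (q : Ideal Λ) [q.IsPrime]

theorem exists_mul_mem_of_map_mem (K₀ : Ideal Λ) (a : Λ)
    (ha : algebraMap Λ (Localization.AtPrime q) a ∈ K₀.map (algebraMap Λ (Localization.AtPrime q))) :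
    ∃ u : Λ, u ∉ q ∧ u * a ∈ K₀ := by
  obtain ⟨⟨b, s⟩, hbs⟩ := (IsLocalization.mem_map_algebraMap_iff q.primeCompl _).mp ha
  simp only at hbs
  rw [← map_mul, IsLocalization.eq_iff_exists q.primeCompl] at hbs
  obtain ⟨c, hc⟩ := hbs
  refine ⟨c * s, q.primeCompl.mul_mem c.2 s.2, ?_⟩
  have : (c : Λ) * s * a = c * (a * s) := by ring
  rw [this, hc]
  exact Ideal.mul_mem_left _ _ b.2

/-- a single `u ∉ q` killing, modulo `K₀`, all `y` with `π^m y ∈ K₀`, given that this holds
elementwise. -/
theorem exists_uniform (K₀ : Ideal Λ) (p : Λ)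
    (h : ∀ (y : Λ) (m : ℕ), p ^ m * y ∈ K₀ → ∃ u : Λ, u ∉ q ∧ u * y ∈ K₀) :
    ∃ u : Λ, u ∉ q ∧ ∀ (y : Λ) (m : ℕ), p ^ m * y ∈ K₀ → u * y ∈ K₀ := by
  classical
  let c : ℕ →o Ideal Λ :=
    { toFun := fun m => K₀.colon {p ^ m}
      monotone' := by
        intro m m' hmm' y hy
        rw [Submodule.mem_colon_singleton] at hy ⊢
        obtain ⟨r, rfl⟩ := Nat.exists_eq_add_of_le hmm'
        rw [smul_eq_mul] at hy ⊢
        have : y * p ^ (m + r) = (y * p ^ m) * p ^ r := by rw [pow_add, mul_assoc]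
        rw [this]
        exact Ideal.mul_mem_right _ _ hy }
  obtain ⟨m₀, hm₀⟩ := monotone_stabilizes_iff_noetherian.mpr (inferInstance : IsNoetherian Λ Λ) c
  obtain ⟨S, hS⟩ := (IsNoetherian.noetherian (c m₀) : (c m₀).FG)
  have hmem : ∀ s ∈ S, p ^ m₀ * s ∈ K₀ := by
    intro s hs
    have : s ∈ c m₀ := hS ▸ Submodule.subset_span hs
    change s ∈ K₀.colon {p ^ m₀} at this
    rw [Submodule.mem_colon_singleton, smul_eq_mul, mul_comm] at this
    exact this
  have hex : ∀ s : Λ, ∃ u : Λ, s ∈ S → (u ∉ q ∧ u * s ∈ K₀) := by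
    intro s
    by_cases hs : s ∈ S
    · obtain ⟨u, hu⟩ := h s m₀ (hmem s hs)
      exact ⟨u, fun _ => hu⟩
    · exact ⟨0, fun h => absurd h hs⟩
  choose us hus using hex
  refine ⟨∏ s ∈ S, us s, ?_, ?_⟩
  · rw [Ideal.IsPrime.prod_mem_iff]
    rintro ⟨s, hs, hsq⟩
    exact (hus s hs).1 hsq
  · intro y m hy
    have hyc : y ∈ c m₀ := by
      have h1 : y ∈ c m := by
        change y ∈ K₀.colon {p ^ m}
        rw [Submodule.mem_colon_singleton, smul_eq_mul, mul_comm]
        exact hy
      rcases le_total m m₀ with hle | hle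
      · exact c.monotone hle h1
      · rw [hm₀ m hle]; exact h1
    rw [← hS] at hyc
    refine Submodule.span_induction ?_ ?_ ?_ ?_ hyc
    · intro s hs
      rw [← Finset.mul_prod_erase S us hs, mul_comm (us s), mul_assoc]
      exact Ideal.mul_mem_left _ _ (hus s hs).2
    · rw [mul_zero]; exact Submodule.zero_mem _
    · intro a b _ _ ha hb
      rw [mul_add]; exact Submodule.add_mem _ ha hb
    · intro r a _ ha
      rw [smul_eq_mul, mul_left_comm]
      exact Ideal.mul_mem_left _ _ ha


theorem exists_stable (K₀ : Ideal Λ) (u : Λ) :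
    ∃ k₀ : ℕ, ∀ (x : Λ) (m : ℕ), k₀ ≤ m → u ^ m * x ∈ K₀ → u ^ k₀ * x ∈ K₀ := by
  let c : ℕ →o Ideal Λ :=
    { toFun := fun m => K₀.colon {u ^ m}
      monotone' := by
        intro m m' hmm' y hy
        rw [Submodule.mem_colon_singleton] at hy ⊢
        obtain ⟨r, rfl⟩ := Nat.exists_eq_add_of_le hmm'
        rw [smul_eq_mul] at hy ⊢
        have : y * u ^ (m + r) = (y * u ^ m) * u ^ r := by rw [pow_add, mul_assoc]
        rw [this]
        exact Ideal.mul_mem_right _ _ hy }
  obtain ⟨m₀, hm₀⟩ := monotone_stabilizes_iff_noetherian.mpr (inferInstance : IsNoetherian Λ Λ) c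
  refine ⟨m₀, fun x m hm hx => ?_⟩
  have h1 : x ∈ c m := by
    change x ∈ K₀.colon {u ^ m}
    rw [Submodule.mem_colon_singleton, smul_eq_mul, mul_comm]
    exact hx
  rw [← hm₀ m hm] at h1
  change x ∈ K₀.colon {u ^ m₀} at h1
  rw [Submodule.mem_colon_singleton, smul_eq_mul, mul_comm] at h1
  exact h1

variable [IsRegularLocalRing (Localization.AtPrime q)] (d : ℕ)
  (hd : ringKrullDim (Localization.AtPrime q) = d)

include hd in
theorem exists_kill (π : Fin d → Λ)
    (hgen : Ideal.span (Set.range fun i => algebraMap Λ (Localization.AtPrime q) (π i)) =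
      maximalIdeal (Localization.AtPrime q)) (e : ℕ) (he : 0 < e) (k : Fin d) :
    ∃ u : Λ, u ∉ q ∧ ∀ (y : Λ) (m : ℕ), π k ^ m * y ∈ K e π k → u * y ∈ K e π k := by
  apply exists_uniform q
  intro y m hy
  apply exists_mul_mem_of_map_mem q
  rw [map_K]
  have hy' : algebraMap Λ (Localization.AtPrime q) (π k ^ m * y) ∈
      (K e π k).map (algebraMap Λ (Localization.AtPrime q)) := Ideal.mem_map_of_mem _ hy
  rw [map_K, map_mul, map_pow] at hy'
  clear hy
  induction m with
  | zero => simpa using hy'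
  | succ m ih =>
    apply ih
    rw [pow_succ', mul_assoc] at hy'
    exact mem_K_of_mul_mem d hd _ hgen e he k _ hy'


/-- the annihilator condition at `i`, upstairs. -/
def Cond {Λ : Type u} [CommRing Λ] {d : ℕ} (e : ℕ) (π : Fin d → Λ) (i : Fin d) : Prop :=
  ∀ x : Λ, π i ^ 2 * x ∈ K e π i → π i * x ∈ K e π i

theorem span_update_eq (π : Fin d → Λ) (k : Fin d) (w : Λ) (hw : w ∉ q) :
    Ideal.span (Set.range fun i => algebraMap Λ (Localization.AtPrime q)
      (Function.update π k (w * π k) i)) =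
    Ideal.span (Set.range fun i => algebraMap Λ (Localization.AtPrime q) (π i)) := by
  have hu : IsUnit (algebraMap Λ (Localization.AtPrime q) w) :=
    IsLocalization.map_units (Localization.AtPrime q) (⟨w, hw⟩ : q.primeCompl)
  apply le_antisymm
  · rw [Ideal.span_le]
    rintro _ ⟨i, rfl⟩
    by_cases hik : i = k
    · subst hik
      simp only [Function.update_self, map_mul]
      exact Ideal.mul_mem_left _ _ (Ideal.subset_span ⟨i, rfl⟩)
    · simp only [Function.update_of_ne hik]
      exact Ideal.subset_span ⟨i, rfl⟩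
  · rw [Ideal.span_le]
    rintro _ ⟨i, rfl⟩
    by_cases hik : i = k
    · subst hik
      have hmem : algebraMap Λ (Localization.AtPrime q) (w * π i) ∈
          Ideal.span (Set.range fun j => algebraMap Λ (Localization.AtPrime q)
            (Function.update π i (w * π i) j)) :=
        Ideal.subset_span ⟨i, by simp⟩
      rw [map_mul] at hmem
      exact (Ideal.unit_mul_mem_iff_mem _ hu).mp hmem
    · exact Ideal.subset_span ⟨i, by simp [Function.update_of_ne hik]⟩

include hd in
theorem step (I : Ideal Λ) (n e : ℕ) (he : 0 < e) (π : Fin d → Λ)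
    (hgen : Ideal.span (Set.range fun i => algebraMap Λ (Localization.AtPrime q) (π i)) =
      maximalIdeal (Localization.AtPrime q))
    (hpow : ∀ i, π i ^ n ∈ I) (k : Fin d) :
    ∃ π' : Fin d → Λ,
      Ideal.span (Set.range fun i => algebraMap Λ (Localization.AtPrime q) (π' i)) =
        maximalIdeal (Localization.AtPrime q) ∧
      (∀ i, π' i ^ n ∈ I) ∧ (∀ j, j ≠ k → π' j = π j) ∧ Cond e π' k := by
  obtain ⟨u, huq, hu⟩ := exists_kill q d hd π hgen e he k
  obtain ⟨k₀, hk₀⟩ := exists_stable (K e π k) u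
  have hw : u ^ k₀ ∉ q := fun h => huq (Ideal.IsPrime.mem_of_pow_mem ‹_› _ h)
  refine ⟨Function.update π k (u ^ k₀ * π k), ?_, ?_, ?_, ?_⟩
  · rw [span_update_eq q d π k _ hw, hgen]
  · intro i
    by_cases hik : i = k
    · subst hik
      rw [Function.update_self, mul_pow]
      exact Ideal.mul_mem_left _ _ (hpow i)
    · rw [Function.update_of_ne hik]; exact hpow i
  · intro j hj
    exact Function.update_of_ne hj _ _
  · intro x hx
    have hK : K e (Function.update π k (u ^ k₀ * π k)) k = K e π k :=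
      K_congr e _ _ k fun j hj => Function.update_of_ne (fun h => by rw [h] at hj; exact lt_irrefl _ hj) _ _
    rw [hK, Function.update_self] at hx ⊢
    have h1 : π k ^ 2 * (u ^ (2 * k₀) * x) ∈ K e π k := by
      have : π k ^ 2 * (u ^ (2 * k₀) * x) = (u ^ k₀ * π k) ^ 2 * x := by ring
      rw [this]; exact hx
    have h2 := hu _ 2 h1
    have h3 : u ^ (2 * k₀ + 1) * x ∈ K e π k := by
      have : u ^ (2 * k₀ + 1) * x = u * (u ^ (2 * k₀) * x) := by ring
      rw [this]; exact h2
    have h4 := hk₀ x (2 * k₀ + 1) (by omega) h3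
    have : u ^ k₀ * π k * x = π k * (u ^ k₀ * x) := by ring
    rw [this]
    exact Ideal.mul_mem_left _ _ h4


include hd in
theorem exists_initial (I : Ideal Λ) (n : ℕ) (hn : 0 < n)
    (hpow : (q ^ n).map (algebraMap Λ (Localization.AtPrime q)) ≤
      I.map (algebraMap Λ (Localization.AtPrime q))) :
    ∃ π : Fin d → Λ,
      Ideal.span (Set.range fun i => algebraMap Λ (Localization.AtPrime q) (π i)) =
        maximalIdeal (Localization.AtPrime q) ∧ (∀ i, π i ^ n ∈ I) := by
  have hsf : (maximalIdeal (Localization.AtPrime q)).spanFinrank = d := by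
    have h5 : ((maximalIdeal (Localization.AtPrime q)).spanFinrank : WithBot ℕ∞) =
        ringKrullDim (Localization.AtPrime q) := IsRegularLocalRing.spanFinrank_maximalIdeal
    rw [hd] at h5
    exact_mod_cast h5
  obtain ⟨y, hy⟩ := Groth.Agent.S0561.exists_generators (Localization.AtPrime q) d hsf
  have hsurj : ∀ i, ∃ (a : Λ) (s : Λ), s ∉ q ∧
      y i * algebraMap Λ (Localization.AtPrime q) s = algebraMap Λ (Localization.AtPrime q) a := by
    intro i
    obtain ⟨⟨a, s⟩, has⟩ := IsLocalization.surj q.primeCompl (y i)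
    exact ⟨a, s.1, s.2, has⟩
  choose a s hs has using hsurj
  have hymem : ∀ i, y i ∈ maximalIdeal (Localization.AtPrime q) := fun i =>
    hy ▸ Ideal.subset_span ⟨i, rfl⟩
  have haq : ∀ i, a i ∈ q := by
    intro i
    rw [← IsLocalization.AtPrime.to_map_mem_maximal_iff (Localization.AtPrime q) q, ← has i]
    exact Ideal.mul_mem_right _ _ (hymem i)
  have hw : ∀ i, ∃ w : Λ, w ∉ q ∧ w * a i ^ n ∈ I := by
    intro i
    apply exists_mul_mem_of_map_mem q
    apply hpow
    exact Ideal.mem_map_of_mem _ (Ideal.pow_mem_pow (haq i) n)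
  choose w hwq hwI using hw
  have hunit : ∀ i, IsUnit (algebraMap Λ (Localization.AtPrime q) (w i) *
      algebraMap Λ (Localization.AtPrime q) (s i)) := fun i =>
    (IsLocalization.map_units (Localization.AtPrime q) (⟨w i, hwq i⟩ : q.primeCompl)).mul
      (IsLocalization.map_units (Localization.AtPrime q) (⟨s i, hs i⟩ : q.primeCompl))
  have hval : ∀ i, algebraMap Λ (Localization.AtPrime q) (w i * a i) =
      (algebraMap Λ (Localization.AtPrime q) (w i) * algebraMap Λ (Localization.AtPrime q) (s i)) * y i := by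
    intro i
    rw [map_mul, ← has i]; ring
  refine ⟨fun i => w i * a i, ?_, ?_⟩
  · apply le_antisymm
    · rw [Ideal.span_le]
      rintro _ ⟨i, rfl⟩
      change algebraMap Λ (Localization.AtPrime q) (w i * a i) ∈ _
      rw [hval]
      exact Ideal.mul_mem_left _ _ (hymem i)
    · rw [← hy, Ideal.span_le]
      rintro _ ⟨i, rfl⟩
      have hmem : algebraMap Λ (Localization.AtPrime q) (w i * a i) ∈
          Ideal.span (Set.range fun j => algebraMap Λ (Localization.AtPrime q) (w j * a j)) :=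
        Ideal.subset_span ⟨i, rfl⟩
      rw [hval] at hmem
      exact (Ideal.unit_mul_mem_iff_mem _ (hunit i)).mp hmem
  · intro i
    obtain ⟨n', rfl⟩ : ∃ n', n = n' + 1 := ⟨n - 1, by omega⟩
    have : (w i * a i) ^ (n' + 1) = w i ^ n' * (w i * a i ^ (n' + 1)) := by ring
    rw [this]
    exact Ideal.mul_mem_left _ _ (hwI i)

include hd in
theorem main (I : Ideal Λ) (n e : ℕ) (hn : 0 < n) (he : 0 < e)
    (hpow : (q ^ n).map (algebraMap Λ (Localization.AtPrime q)) ≤
      I.map (algebraMap Λ (Localization.AtPrime q))) :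
    ∃ (N : ℕ) (π : Fin d → Λ), 0 < N ∧
      Ideal.span (Set.range fun i => algebraMap Λ (Localization.AtPrime q) (π i)) =
        q.map (algebraMap Λ (Localization.AtPrime q)) ∧
      (∀ i, π i ^ N ∈ I) ∧
      ∀ i : Fin d, ∀ x : Λ ⧸ Ideal.span (Set.range fun j : {j : Fin d // (j : ℕ) < (i : ℕ)} => π j ^ e),
        Ideal.Quotient.mk _ (π i) ^ 2 * x = 0 → Ideal.Quotient.mk _ (π i) * x = 0 := by
  have key : ∀ k : ℕ, k ≤ d → ∃ π : Fin d → Λ,
      Ideal.span (Set.range fun i => algebraMap Λ (Localization.AtPrime q) (π i)) =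
        maximalIdeal (Localization.AtPrime q) ∧ (∀ i, π i ^ n ∈ I) ∧
      ∀ i : Fin d, (i : ℕ) < k → Cond e π i := by
    intro k
    induction k with
    | zero =>
      intro _
      obtain ⟨π, h1, h2⟩ := exists_initial q d hd I n hn hpow
      exact ⟨π, h1, h2, fun i hi => absurd hi (Nat.not_lt_zero _)⟩
    | succ k ih =>
      intro hk
      obtain ⟨π, h1, h2, h3⟩ := ih (by omega)
      obtain ⟨π', h1', h2', h3', h4'⟩ := step q d hd I n e he π h1 h2 ⟨k, by omega⟩
      refine ⟨π', h1', h2', fun i hi => ?_⟩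
      by_cases hik : (i : ℕ) = k
      · have : i = ⟨k, by omega⟩ := Fin.ext hik
        rw [this]; exact h4'
      · have hlt : (i : ℕ) < k := by omega
        have hne : i ≠ ⟨k, by omega⟩ := fun h => hik (by rw [h])
        have hK : K e π' i = K e π i := K_congr e _ _ i fun j hj =>
          h3' j (fun h => by rw [h] at hj; simp at hj; omega)
        intro x hx
        rw [hK, h3' i hne] at hx ⊢
        exact h3 i hlt x hx
  obtain ⟨π, h1, h2, h3⟩ := key d le_rfl
  refine ⟨n, π, hn, ?_, h2, ?_⟩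
  · rw [h1, Localization.AtPrime.map_eq_maximalIdeal]
  · intro i x hx
    obtain ⟨x, rfl⟩ := Ideal.Quotient.mk_surjective x
    rw [← map_pow, ← map_mul, Ideal.Quotient.eq_zero_iff_mem] at hx
    rw [← map_mul, Ideal.Quotient.eq_zero_iff_mem]
    exact h3 i i.2 x hx

end transfer

end Groth.Agent.Lib.Helper93.SmoothParam
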