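import Mathlib

set_option autoImplicit false
universe u
namespace Groth.Agent.Lib.Helper93.Sop

variable {A : Type u} [CommRing A]

/-- avoidance -/
theorem avoid (s : Finset (Ideal A)) (hs : ∀ p ∈ s, p.IsPrime) (J : Ideal A)
    (hJ : ∀ p ∈ s, ¬ J ≤ p) : ∃ z ∈ J, ∀ p ∈ s, z ∉ p := by
  by_contra hcon
  push Not at hcon
  have hsub : (J : Set A) ⊆ ⋃ i ∈ (↑s : Set (Ideal A)), (i : Set A) := by
    intro z hz
    obtain ⟨p, hp, hzp⟩ := hcon z hz
    exact Set.mem_biUnion hp hzp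
  obtain ⟨p, hp, hJp⟩ := (Ideal.subset_union_prime (f := fun i : Ideal A => i) ⊥ ⊥
    (fun i hi _ _ => hs i hi)).1 hsub
  exact hJ p hp hJp

/-- the Jacobson radical of a semilocal ring is not contained in a non-maximal prime -/
theorem jac_not_le [Finite (MaximalSpectrum A)] (p : Ideal A) [hp : p.IsPrime]
    (hmax : ¬ p.IsMaximal) : ¬ Ring.jacobson A ≤ p := by
  classical
  haveI := Fintype.ofFinite (MaximalSpectrum A)
  intro hle
  have h1 : ∀ m : MaximalSpectrum A, ∃ t : A, t ∈ m.asIdeal ∧ t ∉ p := by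
    intro m
    by_contra hcon
    push Not at hcon
    have hmp : m.asIdeal ≤ p := fun t ht => hcon t ht
    have := m.isMaximal.eq_of_le hp.ne_top hmp
    exact hmax (this ▸ m.isMaximal)
  choose t ht htp using h1
  have hprod : ∏ m, t m ∈ Ring.jacobson A := by
    rw [Ring.jacobson_eq_sInf_isMaximal, Ideal.mem_sInf]
    rintro M hM
    exact Ideal.prod_mem M (i := (⟨M, hM⟩ : MaximalSpectrum A)) (Finset.mem_univ _) (ht ⟨M, hM⟩)
  obtain ⟨m, -, hm⟩ := (hp.prod_mem_iff).1 (hle hprod)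
  exact htp m hm

def Inv1 (d : ℕ) (I : Ideal A) (n : ℕ) : Prop :=
  ∀ p : PrimeSpectrum A, I ≤ p.asIdeal → Order.coheight p + n ≤ (d : ℕ∞)

def Inv2 (q : Ideal A) (I : Ideal A) (n : ℕ) : Prop :=
  ∀ p : PrimeSpectrum A, I ≤ p.asIdeal → p.asIdeal ≤ q → (n : ℕ∞) ≤ p.asIdeal.height

theorem step1 (d : ℕ) (I : Ideal A) (n : ℕ) (h : Inv1 d I n) (z : A)
    (hz : ∀ p : PrimeSpectrum A, p.asIdeal ∈ I.minimalPrimes →
      Order.coheight p + n = (d : ℕ∞) → z ∉ p.asIdeal) :
    Inv1 d (I ⊔ Ideal.span {z}) (n + 1) := by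
  intro p₀ hp₀
  have hI : I ≤ p₀.asIdeal := le_sup_left.trans hp₀
  have hzp₀ : z ∈ p₀.asIdeal := hp₀ (Ideal.mem_sup_right (Ideal.subset_span rfl))
  obtain ⟨p, hpmin, hpp₀⟩ := Ideal.exists_minimalPrimes_le hI
  let pp : PrimeSpectrum A := ⟨p, hpmin.1.1⟩
  have hpp : pp ≤ p₀ := hpp₀
  rcases hpp.lt_or_eq with hlt | heq
  · have h1 := Order.coheight_add_one_le hlt
    have h2 := h pp hpmin.1.2
    calc Order.coheight p₀ + ((n + 1 : ℕ) : ℕ∞) = Order.coheight p₀ + 1 + n := by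
          push_cast; ring
      _ ≤ Order.coheight pp + n := by gcongr
      _ ≤ d := h2
  · have h2 := h pp hpmin.1.2
    have hne : Order.coheight pp + n ≠ (d : ℕ∞) := by
      intro heq'
      apply hz pp hpmin heq'
      rw [heq]; exact hzp₀
    have hlt : Order.coheight pp + n < (d : ℕ∞) := lt_of_le_of_ne h2 hne
    rw [← heq]
    calc Order.coheight pp + ((n + 1 : ℕ) : ℕ∞) = Order.coheight pp + n + 1 := by
          push_cast; ring
      _ ≤ d := Order.add_one_le_of_lt hlt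

theorem step2 (q : Ideal A) (I : Ideal A) (n : ℕ) (h : Inv2 q I n) (z : A)
    (hz : ∀ p : PrimeSpectrum A, p.asIdeal ∈ I.minimalPrimes → p.asIdeal ≤ q →
      p.asIdeal.height = (n : ℕ∞) → z ∉ p.asIdeal) :
    Inv2 q (I ⊔ Ideal.span {z}) (n + 1) := by
  intro p₀ hp₀ hp₀q
  have hI : I ≤ p₀.asIdeal := le_sup_left.trans hp₀
  have hzp₀ : z ∈ p₀.asIdeal := hp₀ (Ideal.mem_sup_right (Ideal.subset_span rfl))
  obtain ⟨p, hpmin, hpp₀⟩ := Ideal.exists_minimalPrimes_le hI
  haveI : p.IsPrime := hpmin.1.1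
  let pp : PrimeSpectrum A := ⟨p, hpmin.1.1⟩
  have h1 : (n : ℕ∞) ≤ p.height := h pp hpmin.1.2 (hpp₀.trans hp₀q)
  rcases h1.lt_or_eq with hlt | heq
  · calc ((n + 1 : ℕ) : ℕ∞) = (n : ℕ∞) + 1 := by push_cast; rfl
      _ ≤ p.height := Order.add_one_le_of_lt hlt
      _ ≤ p₀.asIdeal.height := Ideal.height_mono hpp₀
  · have hzp : z ∉ p := hz pp hpmin (hpp₀.trans hp₀q) heq.symm
    have hlt : p < p₀.asIdeal := lt_of_le_of_ne hpp₀ (fun h => hzp (h ▸ hzp₀))
    calc ((n + 1 : ℕ) : ℕ∞) = (n : ℕ∞) + 1 := by push_cast; rfl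
      _ = p.height + 1 := by rw [heq]
      _ ≤ p₀.asIdeal.height := Ideal.height_add_one_le_of_lt_of_isPrime hlt


theorem choose_z [IsNoetherianRing A] (I J : Ideal A) :
    ∃ z ∈ J, ∀ p ∈ I.minimalPrimes, ¬ J ≤ p → z ∉ p := by
  classical
  have hfin := Ideal.finite_minimalPrimes_of_isNoetherianRing A I
  obtain ⟨z, hzJ, hz⟩ := avoid (hfin.toFinset.filter (fun p => ¬ J ≤ p))
    (fun p hp => by
      rw [Finset.mem_filter, Set.Finite.mem_toFinset] at hp
      exact hp.1.1.1)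
    J (fun p hp => by
      rw [Finset.mem_filter] at hp
      exact hp.2)
  refine ⟨z, hzJ, fun p hp hJp => hz p ?_⟩
  rw [Finset.mem_filter, Set.Finite.mem_toFinset]
  exact ⟨hp, hJp⟩

theorem krull_list [IsNoetherianRing A] (xs : List A) (p : Ideal A)
    (hp : p ∈ (Ideal.ofList xs).minimalPrimes) : p.height ≤ (xs.length : ℕ∞) := by
  classical
  have h1 : Ideal.ofList xs = Ideal.span ((xs.toFinset : Finset A) : Set A) := by
    unfold Ideal.ofList
    congr 1
    ext r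
    simp
  rw [h1] at hp
  refine (Ideal.height_le_card_of_mem_minimalPrimes_span_finset hp).trans ?_
  exact_mod_cast List.toFinset_card_le xs

theorem exists_dim [IsNoetherianRing A] [Nontrivial A] [Finite (MaximalSpectrum A)] :
    ∃ d : ℕ, ringKrullDim A = ((d : ℕ∞) : WithBot ℕ∞) := by
  obtain ⟨d₀, hd₀⟩ := Finite.exists_le (fun m : MaximalSpectrum A => m.asIdeal.height.toNat)
  have hle : ringKrullDim A ≤ ((d₀ : ℕ∞) : WithBot ℕ∞) := by
    rw [ringKrullDim_le_iff_isMaximal_height_le]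
    intro m hm
    haveI := hm
    have h1 : m.height ≠ ⊤ := Ideal.height_ne_top hm.ne_top
    have h2 : m.height.toNat ≤ d₀ := hd₀ ⟨m, hm⟩
    have h3 : m.height ≤ (d₀ : ℕ∞) := by
      calc m.height = ((m.height.toNat : ℕ) : ℕ∞) := (ENat.coe_toNat h1).symm
        _ ≤ (d₀ : ℕ∞) := by exact_mod_cast h2
    exact_mod_cast h3
  have hnn : (0 : WithBot ℕ∞) ≤ ringKrullDim A := ringKrullDim_nonneg_of_nontrivial
  cases hd : ringKrullDim A with
  | bot => rw [hd] at hnn; simp at hnn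
  | coe e =>
    rw [hd] at hle
    have hle' : e ≤ (d₀ : ℕ∞) := by exact_mod_cast hle
    have hne : e ≠ ⊤ := ne_top_of_le_ne_top (ENat.coe_ne_top d₀) hle'
    exact ⟨e.toNat, by rw [ENat.coe_toNat hne]⟩


/-- phase 1 -/
theorem phase1 [IsNoetherianRing A] [Finite (MaximalSpectrum A)] (a q : Ideal A) [q.IsPrime]
    (haq : a ≤ q) (h d : ℕ) (hh : a.height = h) (hq : q.height = h)
    (hd : ringKrullDim A = ((d : ℕ∞) : WithBot ℕ∞)) (n : ℕ) (hn : n ≤ h) :
    ∃ xs : List A, xs.length = n ∧ (∀ x ∈ xs, x ∈ a ∧ x ∈ Ring.jacobson A) ∧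
      Inv1 d (Ideal.ofList xs) n ∧ Inv2 q (Ideal.ofList xs) n := by
  have hhd : h ≤ d := by
    have h1 := Ideal.height_le_ringKrullDim_of_ne_top (I := q) (Ideal.IsPrime.ne_top ‹_›)
    rw [hq, hd] at h1
    exact_mod_cast h1
  induction n with
  | zero =>
    refine ⟨[], rfl, by simp, ?_, ?_⟩
    · intro p _
      have h1 := Order.coheight_le_krullDim p
      have h2 : ((Order.coheight p : ℕ∞) : WithBot ℕ∞) ≤ ((d : ℕ∞) : WithBot ℕ∞) := by
        rw [← hd]; exact h1
      have h3 : Order.coheight p ≤ (d : ℕ∞) := WithBot.coe_le_coe.1 h2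
      simpa using h3
    · intro p _ _
      simp
  | succ n ih =>
    obtain ⟨xs, hlen, hmem, hI1, hI2⟩ := ih (by omega)
    obtain ⟨z, hzJ, hz⟩ := choose_z (Ideal.ofList xs) (a * Ring.jacobson A)
    have hza : z ∈ a := (Ideal.mul_le_left (I := a) (J := Ring.jacobson A)) hzJ
    have hzj : z ∈ Ring.jacobson A := (Ideal.mul_le_right (I := a) (J := Ring.jacobson A)) hzJ
    -- key: the bad primes do not contain a * jac
    have key : ∀ p : PrimeSpectrum A, p.asIdeal ∈ (Ideal.ofList xs).minimalPrimes →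
        (Order.coheight p + n = (d : ℕ∞) ∨ (p.asIdeal ≤ q ∧ p.asIdeal.height = (n : ℕ∞))) →
        ¬ a * Ring.jacobson A ≤ p.asIdeal := by
      intro p hpmin hbad hle
      have hkr : p.asIdeal.height ≤ (n : ℕ∞) := hlen ▸ krull_list xs p.asIdeal hpmin
      rcases (p.2.mul_le).1 hle with hap | hjp
      · have h1 : a.height ≤ p.asIdeal.height := Ideal.height_mono hap
        rw [hh] at h1
        have h2 : (h : ℕ∞) ≤ n := h1.trans hkr
        have h3 : h ≤ n := by exact_mod_cast h2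
        omega
      · have hmax : p.asIdeal.IsMaximal := by
          by_contra hcon
          exact jac_not_le p.asIdeal hcon hjp
        rcases hbad with hb | ⟨hpq, hpn⟩
        · have h0 : Order.coheight p = 0 := Order.coheight_eq_zero.2 (PrimeSpectrum.isMax_iff.2 hmax)
          rw [h0, zero_add] at hb
          have : n = d := by exact_mod_cast hb
          omega
        · have heq : p.asIdeal = q := hmax.eq_of_le (Ideal.IsPrime.ne_top ‹_›) hpq
          rw [heq, hq] at hpn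
          have : h = n := by exact_mod_cast hpn
          omega
    refine ⟨z :: xs, by simp [hlen], ?_, ?_, ?_⟩
    · intro x hx
      rcases List.mem_cons.1 hx with rfl | hx
      · exact ⟨hza, hzj⟩
      · exact hmem x hx
    · rw [Ideal.ofList_cons, sup_comm]
      exact step1 d _ n hI1 z (fun p hpmin hco => hz p.asIdeal hpmin (key p hpmin (Or.inl hco)))
    · rw [Ideal.ofList_cons, sup_comm]
      exact step2 q _ n hI2 z
        (fun p hpmin hpq hpn => hz p.asIdeal hpmin (key p hpmin (Or.inr ⟨hpq, hpn⟩)))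

/-- phase 2 -/
theorem phase2 [IsNoetherianRing A] [Finite (MaximalSpectrum A)] (I₀ : Ideal A) (h d : ℕ)
    (hI₀ : Inv1 d I₀ h) (m : ℕ) (hm : h + m ≤ d) :
    ∃ ys : List A, ys.length = m ∧ (∀ y ∈ ys, y ∈ Ring.jacobson A) ∧
      Inv1 d (I₀ ⊔ Ideal.ofList ys) (h + m) := by
  induction m with
  | zero =>
    refine ⟨[], rfl, by simp, ?_⟩
    simpa using hI₀
  | succ m ih =>
    obtain ⟨ys, hlen, hmem, hI1⟩ := ih (by omega)
    obtain ⟨z, hzJ, hz⟩ := choose_z (I₀ ⊔ Ideal.ofList ys) (Ring.jacobson A)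
    refine ⟨z :: ys, by simp [hlen], ?_, ?_⟩
    · intro x hx
      rcases List.mem_cons.1 hx with rfl | hx
      · exact hzJ
      · exact hmem x hx
    · rw [Ideal.ofList_cons, sup_comm (Ideal.span {z}), ← sup_assoc, ← add_assoc]
      refine step1 d _ (h + m) hI1 z (fun p hpmin hco => hz p.asIdeal hpmin ?_)
      intro hjp
      have hmax : p.asIdeal.IsMaximal := by
        by_contra hcon
        exact jac_not_le p.asIdeal hcon hjp
      have h0 : Order.coheight p = 0 := Order.coheight_eq_zero.2 (PrimeSpectrum.isMax_iff.2 hmax)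
      rw [h0, zero_add] at hco
      have : h + m = d := by exact_mod_cast hco
      omega


theorem finlen [IsNoetherianRing A] (I : Ideal A) (d : ℕ) (hI : Inv1 d I d) :
    IsFiniteLength A (A ⧸ I) := by
  have hmax : ∀ J ∈ I.minimalPrimes, J.IsMaximal := by
    intro J hJ
    have h1 := hI ⟨J, hJ.1.1⟩ hJ.1.2
    have h0 : Order.coheight (⟨J, hJ.1.1⟩ : PrimeSpectrum A) = 0 := by
      by_contra hne
      have h2 : 1 ≤ Order.coheight (⟨J, hJ.1.1⟩ : PrimeSpectrum A) :=
        Order.one_le_iff_pos.2 (pos_iff_ne_zero.2 hne)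
      have h3 : (1 : ℕ∞) + d ≤ d := (add_le_add_left h2 _).trans h1
      have h4 : 1 + d ≤ d := by exact_mod_cast h3
      omega
    exact PrimeSpectrum.isMax_iff.1 (Order.coheight_eq_zero.1 h0)
  haveI : Ring.KrullDimLE 0 (A ⧸ I) :=
    Ideal.krullDimLE_zero_quotient_iff_forall_minimalPrimes_isMaximal.2 hmax
  haveI : IsArtinianRing (A ⧸ I) := isArtinianRing_iff_krullDimLE_zero.2 inferInstance
  haveI : IsArtinian A (A ⧸ I) :=
    isArtinian_of_surjective_algebraMap (R := A ⧸ I) (S := A) (M := A ⧸ I)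
      Ideal.Quotient.mk_surjective
  exact isFiniteLength_iff_isNoetherian_isArtinian.2 ⟨inferInstance, inferInstance⟩

theorem ht0 [IsNoetherianRing A] (a q I : Ideal A) [hqp : q.IsPrime] (haq : a ≤ q) (hIq : I ≤ q)
    (h : ℕ) (hq : q.height = h) (hI2 : Inv2 q I h) :
    (a.map (Ideal.Quotient.mk I)).height = 0 := by
  have hqmin : q ∈ I.minimalPrimes := by
    refine ⟨⟨hqp, hIq⟩, fun p hp hpq => ?_⟩
    by_contra hnot
    haveI := hp.1
    have hlt : p < q := lt_of_le_of_ne hpq (fun heq => hnot (heq ▸ le_rfl))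
    have h1 : p.height + 1 ≤ q.height := Ideal.height_add_one_le_of_lt_of_isPrime hlt
    have h2 : (h : ℕ∞) ≤ p.height := hI2 ⟨p, hp.1⟩ hp.2 hpq
    rw [hq] at h1
    have h3 : (h : ℕ∞) + 1 ≤ h := (add_le_add_left h2 _).trans h1
    have h4 : h + 1 ≤ h := by exact_mod_cast h3
    omega
  rw [Ideal.minimalPrimes_eq_comap] at hqmin
  obtain ⟨P, hP, hPq⟩ := hqmin
  haveI : P.IsPrime := hP.1.1
  have hle : a.map (Ideal.Quotient.mk I) ≤ P := by
    rw [Ideal.map_le_iff_le_comap, hPq]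
    exact haq
  have h0 : P.height = 0 := Ideal.height_eq_zero_iff.2 hP
  exact le_antisymm ((Ideal.height_mono hle).trans h0.le) zero_le

theorem main [IsNoetherianRing A] [Finite (MaximalSpectrum A)] (a : Ideal A) (ha : a ≠ ⊤) (h : ℕ)
    (hh : a.height = h) (hpos : 0 < h) :
    ∃ x : Fin h → A, (∀ i, x i ∈ a) ∧ (∀ i, x i ∈ Ring.jacobson A) ∧
      (∃ ys : List A, (∀ y ∈ ys, y ∈ Ring.jacobson A) ∧
        (((h + ys.length : ℕ) : ℕ∞) : WithBot ℕ∞) = ringKrullDim A ∧
        IsFiniteLength A (A ⧸ (Ideal.span (Set.range x) ⊔ Ideal.ofList ys))) ∧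
      (a.map (Ideal.Quotient.mk (Ideal.span (Set.range x)))).height = 0 := by
  haveI : Nontrivial A := by
    by_contra hcon
    rw [not_nontrivial_iff_subsingleton] at hcon
    exact ha (Subsingleton.elim _ _)
  obtain ⟨d, hd⟩ := exists_dim (A := A)
  obtain ⟨q, hqprime, haq, hqh⟩ := Ideal.exists_isPrime_height_eq hh
  haveI := hqprime
  have hhd : h ≤ d := by
    have h1 := Ideal.height_le_ringKrullDim_of_ne_top (I := q) (Ideal.IsPrime.ne_top ‹_›)
    rw [hqh, hd] at h1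
    exact_mod_cast h1
  obtain ⟨xs, hlen, hmem, hI1, hI2⟩ := phase1 a q haq h d hh hqh hd h le_rfl
  obtain ⟨ys, hylen, hymem, hJ1⟩ := phase2 (Ideal.ofList xs) h d hI1 (d - h) (by omega)
  have hdd : h + (d - h) = d := by omega
  rw [hdd] at hJ1
  let x : Fin h → A := fun i => xs.get (i.cast hlen.symm)
  have hrange : Ideal.span (Set.range x) = Ideal.ofList xs := by
    unfold Ideal.ofList
    congr 1
    ext r
    constructor
    · rintro ⟨i, rfl⟩
      exact List.get_mem _ _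
    · intro hr
      obtain ⟨n, rfl⟩ := List.mem_iff_get.1 hr
      exact ⟨n.cast hlen, by simp [x]⟩
  have hxs_q : Ideal.ofList xs ≤ q := by
    unfold Ideal.ofList
    rw [Ideal.span_le]
    intro r hr
    exact haq (hmem r hr).1
  refine ⟨x, fun i => (hmem _ (List.get_mem _ _)).1, fun i => (hmem _ (List.get_mem _ _)).2,
    ⟨ys, hymem, ?_, ?_⟩, ?_⟩
  · rw [hd, hylen, hdd]
  · apply finlen _ d
    rw [hrange]
    exact hJ1
  · apply ht0 a q _ haq _ h hqh
    · rw [hrange]; exact hI2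
    · rw [hrange]; exact hxs_q

end Groth.Agent.Lib.Helper93.Sop
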