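import Mathlib

set_option autoImplicit false
set_option linter.style.haveILetI false
namespace Groth.Agent.Lib.Helper93.TraceLocal
open Function

section add
variable {k : Type*} [Field k] {V₁ V₂ V₃ : Type*} [AddCommGroup V₁] [Module k V₁]
  [AddCommGroup V₂] [Module k V₂] [AddCommGroup V₃] [Module k V₃] [FiniteDimensional k V₂]

theorem trace_add_of_exact (f : V₁ →ₗ[k] V₂) (g : V₂ →ₗ[k] V₃) (hf : Injective f) (hg : Surjective g)
    (hex : Exact f g) (φ₁ : V₁ →ₗ[k] V₁) (φ₂ : V₂ →ₗ[k] V₂) (φ₃ : V₃ →ₗ[k] V₃)
    (c₁ : f ∘ₗ φ₁ = φ₂ ∘ₗ f) (c₂ : g ∘ₗ φ₂ = φ₃ ∘ₗ g) :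
    LinearMap.trace k V₂ φ₂ = LinearMap.trace k V₁ φ₁ + LinearMap.trace k V₃ φ₃ := by
  have : FiniteDimensional k V₁ := FiniteDimensional.of_injective f hf
  have : FiniteDimensional k V₃ := FiniteDimensional.of_surjective g hg
  obtain ⟨s, hs⟩ := g.exists_rightInverse_of_surjective (LinearMap.range_eq_top.2 hg)
  have hs' : ∀ z, g (s z) = z := fun z => LinearMap.congr_fun hs z
  have hbij : Bijective (f.coprod s) := by
    constructor
    · rw [injective_iff_map_eq_zero]
      rintro ⟨x, z⟩ h
      rw [LinearMap.coprod_apply] at h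
      have hz : z = 0 := by
        have := congrArg g h
        rw [map_add, hex.apply_apply_eq_zero, zero_add, hs', map_zero] at this
        exact this
      subst hz
      rw [map_zero, add_zero] at h
      have hx : x = 0 := hf (by rw [h, map_zero])
      rw [hx]; rfl
    · intro y
      have : g (y - s (g y)) = 0 := by rw [map_sub, hs', sub_self]
      obtain ⟨x, hx⟩ := (hex _).1 this
      exact ⟨(x, g y), by rw [LinearMap.coprod_apply, hx]; abel⟩
  let e : (V₁ × V₃) ≃ₗ[k] V₂ := LinearEquiv.ofBijective (f.coprod s) hbij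
  have he : ∀ x z, e (x, z) = f x + s z := fun x z => LinearMap.coprod_apply f s (x, z)
  let ψ : (V₁ × V₃) →ₗ[k] (V₁ × V₃) := e.symm.conj φ₂
  have hψ : ∀ w, ψ w = e.symm (φ₂ (e w)) := fun w => by
    simp [ψ, LinearEquiv.conj_apply]
  have htr : LinearMap.trace k V₂ φ₂ = LinearMap.trace k (V₁ × V₃) ψ :=
    (LinearMap.trace_conj' φ₂ e.symm).symm
  have hsplit : ψ = (ψ ∘ₗ LinearMap.inl k V₁ V₃) ∘ₗ LinearMap.fst k V₁ V₃ +
      (ψ ∘ₗ LinearMap.inr k V₁ V₃) ∘ₗ LinearMap.snd k V₁ V₃ := by
    refine LinearMap.ext fun w => ?_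
    obtain ⟨x, z⟩ := w
    simp only [LinearMap.add_apply, LinearMap.comp_apply, LinearMap.fst_apply, LinearMap.snd_apply,
      LinearMap.inl_apply, LinearMap.inr_apply]
    rw [← map_add]
    simp
  have h1 : LinearMap.fst k V₁ V₃ ∘ₗ (ψ ∘ₗ LinearMap.inl k V₁ V₃) = φ₁ := by
    ext x
    simp only [LinearMap.comp_apply, LinearMap.inl_apply, LinearMap.fst_apply, hψ]
    have : φ₂ (e (x, 0)) = e (φ₁ x, 0) := by
      rw [he, he, map_zero, add_zero, add_zero]
      exact (LinearMap.congr_fun c₁ x).symm
    rw [this, LinearEquiv.symm_apply_apply]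
  have h3 : LinearMap.snd k V₁ V₃ ∘ₗ (ψ ∘ₗ LinearMap.inr k V₁ V₃) = φ₃ := by
    ext z
    simp only [LinearMap.comp_apply, LinearMap.inr_apply, LinearMap.snd_apply, hψ]
    have hge : ∀ w, g (e w) = w.2 := by
      rintro ⟨x, z⟩
      rw [he, map_add, hex.apply_apply_eq_zero, zero_add, hs']
    have : (e.symm (φ₂ (e (0, z)))).2 = g (φ₂ (e (0, z))) := by
      rw [← hge (e.symm _), LinearEquiv.apply_symm_apply]
    rw [this]
    have h4 := LinearMap.congr_fun c₂ (e (0, z))
    simp only [LinearMap.comp_apply] at h4
    rw [h4, hge]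
  rw [htr, hsplit, map_add, LinearMap.trace_comp_comm' (LinearMap.fst k V₁ V₃),
    LinearMap.trace_comp_comm' (LinearMap.snd k V₁ V₃), h1, h3]

end add


section main
universe u
open IsLocalRing
variable {k A : Type u} [Field k] [CommRing A] [Algebra k A] [FiniteDimensional k A] [IsLocalRing A]

theorem key (N : Type u) [AddCommGroup N] [Module A N] [Module.Finite A N] :
    ∀ (_ : Module k N) (_ : IsScalarTower k A N) (a : A),
      LinearMap.trace k N (Algebra.lsmul k k N a) =
        (Module.length A N).toNat • Algebra.trace k (ResidueField A) (residue A a) := by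
  have hNoeth : IsNoetherianRing A := isNoetherian_of_tower k (inferInstance : IsNoetherian k A)
  have hArt : IsArtinianRing A := IsArtinianRing.of_finite k A
  have hfin : ∀ (E : Type u) [AddCommGroup E] [Module A E] [Module.Finite A E],
      Module.length A E ≠ ⊤ := by
    intro E _ _ _
    rw [Module.length_ne_top_iff, isFiniteLength_iff_isNoetherian_isArtinian]
    exact ⟨inferInstance, inferInstance⟩
  refine IsNoetherianRing.induction_on_isQuotientEquivQuotientPrime A (M := N) inferInstance
    (motive := fun N _ _ _ => ∀ (_ : Module k N) (_ : IsScalarTower k A N) (a : A),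
      LinearMap.trace k N (Algebra.lsmul k k N a) =
        (Module.length A N).toNat • Algebra.trace k (ResidueField A) (residue A a)) ?_ ?_ ?_
  · intro N _ _ _ _ _ _ a
    rw [Module.length_eq_zero_iff.mpr inferInstance, ENat.toNat_zero, zero_smul,
      Subsingleton.elim (Algebra.lsmul k k N a) 0, map_zero]
  · intro N _ _ _ p e _ _ a
    have hp : p = closedPoint A := by
      apply PrimeSpectrum.ext
      have : p.asIdeal.IsMaximal := IsArtinianRing.isMaximal_of_isPrime p.asIdeal
      exact IsLocalRing.eq_maximalIdeal this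
    subst hp
    have hlen : Module.length A N = 1 := by
      rw [e.length_eq]
      have : IsSimpleModule A (A ⧸ maximalIdeal A) :=
        isSimpleModule_iff_quot_maximal.2 ⟨maximalIdeal A, inferInstance, ⟨LinearEquiv.refl _ _⟩⟩
      exact Module.length_eq_one_iff.mpr this
    rw [hlen, ENat.toNat_one, one_smul]
    let e' : N ≃ₗ[k] (A ⧸ maximalIdeal A) := e.restrictScalars k
    have h1 := LinearMap.trace_conj' (Algebra.lsmul k k N a) e'
    rw [← h1, Algebra.trace_apply]
    congr 1
    refine LinearMap.ext fun x => ?_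
    obtain ⟨y, rfl⟩ := e'.surjective x
    rw [LinearEquiv.conj_apply_apply, LinearEquiv.symm_apply_apply]
    have h2 : e' (Algebra.lsmul k k N a y) = a • e y := by
      show e (a • y) = a • e y
      rw [map_smul]
    rw [h2]
    show a • e y = (Algebra.lmul k (ResidueField A) (residue A a)) (e y)
    generalize e y = z
    obtain ⟨b, rfl⟩ := Ideal.Quotient.mk_surjective z
    rfl
  · intro N₁ _ _ _ N₂ _ _ _ N₃ _ _ _ f g hf hg hex ih1 ih3 _ _ a
    letI m1 : Module k N₁ := Module.compHom N₁ (algebraMap k A)
    letI m3 : Module k N₃ := Module.compHom N₃ (algebraMap k A)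
    haveI t1 : IsScalarTower k A N₁ := ⟨fun c b x => by
      show (c • b) • x = algebraMap k A c • (b • x)
      rw [smul_smul, Algebra.smul_def]⟩
    haveI t3 : IsScalarTower k A N₃ := ⟨fun c b x => by
      show (c • b) • x = algebraMap k A c • (b • x)
      rw [smul_smul, Algebra.smul_def]⟩
    let fk : N₁ →ₗ[k] N₂ :=
      { toFun := f
        map_add' := f.map_add
        map_smul' := fun c x => by
          show f (algebraMap k A c • x) = c • f x
          rw [map_smul, algebraMap_smul] }
    let gk : N₂ →ₗ[k] N₃ :=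
      { toFun := g
        map_add' := g.map_add
        map_smul' := fun c y => by
          show g (c • y) = algebraMap k A c • g y
          rw [← algebraMap_smul A c y, map_smul] }
    haveI : FiniteDimensional k N₂ := Module.Finite.trans A N₂
    have hadd := trace_add_of_exact fk gk hf hg hex (Algebra.lsmul k k N₁ a) (Algebra.lsmul k k N₂ a)
      (Algebra.lsmul k k N₃ a)
      (by ext x; show f (a • x) = a • f x; rw [map_smul])
      (by ext x; show g (a • x) = a • g x; rw [map_smul])
    rw [hadd, ih1 m1 t1 a, ih3 m3 t3 a, Module.length_eq_add_of_exact f g hf hg hex,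
      ENat.toNat_add (hfin N₁) (hfin N₃), add_smul]


theorem main2219 (k A : Type u) [Field k] [CommRing A] [Algebra k A] [FiniteDimensional k A]
    [IsLocalRing A] :
    Algebra.trace k A ≠ 0 ↔
      (Algebra.IsSeparable k (IsLocalRing.ResidueField A) ∧
        ∀ p : ℕ, p.Prime → CharP k p → ¬ p ∣ (Module.length A A).toNat) := by
  have hform : ∀ a : A, Algebra.trace k A a =
      ((Module.length A A).toNat : k) * Algebra.trace k (ResidueField A) (residue A a) := by
    intro a
    rw [← nsmul_eq_mul, ← key A inferInstance inferInstance a, Algebra.trace_apply]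
    rfl
  have hfd : FiniteDimensional k (ResidueField A) :=
    Module.Finite.of_surjective ((Ideal.Quotient.mkₐ k (maximalIdeal A)).toLinearMap)
      Ideal.Quotient.mk_surjective
  have hsep : Algebra.IsSeparable k (ResidueField A) ↔ Algebra.trace k (ResidueField A) ≠ 0 :=
    (traceForm_nondegenerate_tfae k (ResidueField A)).out 0 1
  have hpos : (Module.length A A).toNat ≠ 0 := by
    have hNoeth : IsNoetherianRing A := isNoetherian_of_tower k (inferInstance : IsNoetherian k A)
    have hArt : IsArtinianRing A := IsArtinianRing.of_finite k A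
    have h1 : Module.length A A ≠ ⊤ := by
      rw [Module.length_ne_top_iff, isFiniteLength_iff_isNoetherian_isArtinian]
      exact ⟨inferInstance, inferInstance⟩
    have h0 : Module.length A A ≠ 0 := by
      rw [Ne, Module.length_eq_zero_iff]
      exact not_subsingleton A
    intro h
    rcases (ENat.toNat_eq_zero.1 h) with h | h
    · exact h0 h
    · exact h1 h
  constructor
  · intro hne
    have hex : ∃ a, Algebra.trace k A a ≠ 0 := by
      by_contra hcon
      push Not at hcon
      exact hne (LinearMap.ext hcon)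
    obtain ⟨a, ha⟩ := hex
    rw [hform] at ha
    have hl : ((Module.length A A).toNat : k) ≠ 0 := left_ne_zero_of_mul ha
    have ht : Algebra.trace k (ResidueField A) (residue A a) ≠ 0 := right_ne_zero_of_mul ha
    refine ⟨hsep.2 (fun h => ht (by rw [h]; rfl)), ?_⟩
    intro p _ hp hdvd
    exact hl ((CharP.cast_eq_zero_iff k p _).2 hdvd)
  · rintro ⟨hs, hp⟩
    have ht := hsep.1 hs
    have hex : ∃ z, Algebra.trace k (ResidueField A) z ≠ 0 := by
      by_contra hcon
      push Not at hcon
      exact ht (LinearMap.ext hcon)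
    obtain ⟨z, hz⟩ := hex
    obtain ⟨a, rfl⟩ := Ideal.Quotient.mk_surjective z
    have hl : ((Module.length A A).toNat : k) ≠ 0 := by
      obtain ⟨p, hchar⟩ := CharP.exists k
      rcases CharP.char_is_prime_or_zero k p with hpr | hp0
      · intro h0
        exact hp p hpr hchar ((CharP.cast_eq_zero_iff k p _).1 h0)
      · subst hp0
        haveI : CharZero k := CharP.charP_to_charZero k
        exact Nat.cast_ne_zero.2 hpos
    intro h
    have := hform a
    rw [h, LinearMap.zero_apply] at this
    exact (mul_ne_zero hl hz) this.symm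

end main

end Groth.Agent.Lib.Helper93.TraceLocal
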