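import Mathlib

namespace Groth.Agent.Lib.Helper93.ZetaRatA

section A
open PowerSeries Polynomial

/-- Step A: rationality of `exp (∑ a_v t^v / v)` forces a linear recurrence on `a`. -/
theorem recurrence (a : ℕ → ℚ) (P Q : Polynomial ℚ) (hQ : Q ≠ 0)
    (h : (PowerSeries.exp ℚ).subst
        (PowerSeries.mk fun v : ℕ => if v = 0 then (0:ℚ) else a v / (v : ℚ)) *
          (Q : PowerSeries ℚ) = (P : PowerSeries ℚ)) :
    ∃ (C R : Polynomial ℚ), C ≠ 0 ∧ ∀ n, R.natDegree < n →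
      ∑ ij ∈ Finset.HasAntidiagonal.antidiagonal n, a (ij.1 + 1) * C.coeff ij.2 = 0 := by
  set g : PowerSeries ℚ := PowerSeries.mk fun v : ℕ => if v = 0 then (0:ℚ) else a v / (v : ℚ)
    with hg_def
  have hg : HasSubst g := HasSubst.of_constantCoeff_zero' (by simp [hg_def])
  set Z := (PowerSeries.exp ℚ).subst g with hZ_def
  have hZunit : IsUnit Z := by
    have := (isUnit_exp ℚ).map (substAlgHom hg)
    rwa [coe_substAlgHom] at this
  have hZ' : d⁄dX ℚ Z = Z * d⁄dX ℚ g := by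
    rw [hZ_def, derivative_subst hg, derivative_exp]
  have hP : P ≠ 0 := by
    intro hP
    rw [hP, Polynomial.coe_zero] at h
    rcases mul_eq_zero.mp h with h1 | h1
    · exact hZunit.ne_zero h1
    · exact hQ (Polynomial.coe_injective ℚ (by simpa using h1))
  have hd : d⁄dX ℚ (Z * (Q : PowerSeries ℚ)) = d⁄dX ℚ (P : PowerSeries ℚ) := by rw [h]
  rw [Derivation.leibniz, derivative_coe, derivative_coe, hZ', smul_eq_mul, smul_eq_mul] at hd
  refine ⟨P * Q, derivative P * Q - P * derivative Q, mul_ne_zero hP hQ, ?_⟩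
  have key : d⁄dX ℚ g * ((P * Q : Polynomial ℚ) : PowerSeries ℚ) =
      ((derivative P * Q - P * derivative Q : Polynomial ℚ) : PowerSeries ℚ) := by
    rw [Polynomial.coe_mul, Polynomial.coe_sub, Polynomial.coe_mul, Polynomial.coe_mul, ← hd, ← h]
    ring
  intro n hn
  have := congrArg (PowerSeries.coeff n) key
  rw [PowerSeries.coeff_mul, Polynomial.coeff_coe,
    Polynomial.coeff_eq_zero_of_natDegree_lt hn] at this
  rw [← this]
  apply Finset.sum_congr rfl
  intro ij _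
  rw [PowerSeries.coeff_derivative, Polynomial.coeff_coe, hg_def, PowerSeries.coeff_mk]
  simp only [Nat.succ_ne_zero, if_false]
  congr 1
  have : ((ij.1 : ℚ) + 1) ≠ 0 := by positivity
  push_cast
  field_simp


theorem recurrence' (a : ℕ → ℚ) (C R : Polynomial ℚ) (hC : C ≠ 0)
    (h : ∀ n, R.natDegree < n →
      ∑ ij ∈ Finset.HasAntidiagonal.antidiagonal n, a (ij.1 + 1) * C.coeff ij.2 = 0) :
    ∃ (r : ℕ) (d : ℕ → ℚ) (w0 : ℕ), d 0 ≠ 0 ∧
      ∀ w, w0 ≤ w → ∑ k ∈ Finset.range (r + 1), d k * a (w + k + 1) = 0 := by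
  refine ⟨C.natDegree, fun k => C.coeff (C.natDegree - k), R.natDegree + 1, ?_, ?_⟩
  · simpa using hC
  · intro w hw
    have h1 := h (w + C.natDegree) (by omega)
    rw [Finset.Nat.sum_antidiagonal_eq_sum_range_succ_mk] at h1
    have h2 : w + C.natDegree + 1 = w + (C.natDegree + 1) := by ring
    rw [Nat.succ_eq_add_one, h2, Finset.sum_range_add] at h1
    have h3 : ∑ x ∈ Finset.range w, a (x + 1) * C.coeff (w + C.natDegree - x) = 0 := by
      apply Finset.sum_eq_zero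
      intro x hx
      rw [Finset.mem_range] at hx
      rw [Polynomial.coeff_eq_zero_of_natDegree_lt (by omega), mul_zero]
    simp only at h1
    rw [h3, zero_add] at h1
    rw [← h1]
    apply Finset.sum_congr rfl
    intro k hk
    rw [Finset.mem_range] at hk
    rw [mul_comm]
    have e1 : w + C.natDegree - (w + k) = C.natDegree - k := by omega
    rw [e1]


end A

section B
open Polynomial

/-- Step B: the recurrence forces a polynomial identity. -/
theorem poly_identity (q : ℚ) (hq : 1 < q) (G E : ℚ[X]) (a : ℕ → ℚ)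
    (hE : ∀ v, 1 ≤ v → E.eval (q ^ v) ≠ 0)
    (ha : ∀ v, 1 ≤ v → a v = G.eval (q ^ v) / E.eval (q ^ v))
    (r : ℕ) (d : ℕ → ℚ) (w0 : ℕ)
    (hrec : ∀ w, w0 ≤ w → ∑ k ∈ Finset.range (r + 1), d k * a (w + k + 1) = 0) :
    ∑ k ∈ Finset.range (r + 1), C (d k) * G.comp (C (q ^ k) * X) *
      ∏ l ∈ (Finset.range (r + 1)).erase k, E.comp (C (q ^ l) * X) = 0 := by
  apply Polynomial.eq_zero_of_infinite_isRoot
  have hq0 : (0 : ℚ) < q := by linarith
  apply Set.infinite_of_injective_forall_mem (f := fun n : ℕ => q ^ (w0 + n + 1))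
  · intro m n hmn
    have := pow_right_injective₀ hq0 hq.ne' hmn
    omega
  · intro n
    simp only [Set.mem_setOf_eq, IsRoot.def]
    set x := q ^ (w0 + n + 1) with hx
    have hxk : ∀ k, q ^ k * x = q ^ (w0 + n + k + 1) := by
      intro k; rw [hx, ← pow_add]; congr 1; ring
    rw [Polynomial.eval_finset_sum]
    have h1 := hrec (w0 + n) (by omega)
    have h2 : ∀ k ∈ Finset.range (r + 1),
        (C (d k) * G.comp (C (q ^ k) * X) *
          ∏ l ∈ (Finset.range (r + 1)).erase k, E.comp (C (q ^ l) * X)).eval x =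
        (∏ l ∈ Finset.range (r + 1), E.eval (q ^ (w0 + n + l + 1))) *
          (d k * a (w0 + n + k + 1)) := by
      intro k hk
      rw [← Finset.mul_prod_erase _ _ hk, ha _ (by omega)]
      simp only [eval_mul, eval_C, eval_comp, eval_X, Polynomial.eval_prod, hxk]
      have := hE (w0 + n + k + 1) (by omega)
      field_simp
    rw [Finset.sum_congr rfl h2, ← Finset.mul_sum, h1, mul_zero]


/-- generators of the "cyclotomic-type" monoid -/
noncomputable def gen (R : Type*) [CommRing R] (m : ℕ) : R[X] := X ^ (m + 1) - 1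

noncomputable def M0 (R : Type*) [CommRing R] : Submonoid R[X] := Submonoid.closure (Set.range (gen R))

noncomputable def M1 (R : Type*) [CommRing R] : Submonoid R[X] :=
  Submonoid.closure (insert (X : R[X]) (Set.range (gen R)))

theorem coprime_gen_X (q : ℚ) (hq : 1 < q) (m l : ℕ) :
    IsCoprime (gen ℚ m) ((X : ℚ[X]).comp (C (q ^ l) * X)) := by
  have hq0 : q ^ l ≠ 0 := pow_ne_zero _ (by linarith)
  refine ⟨-1, C ((q ^ l)⁻¹) * X ^ m, ?_⟩
  rw [X_comp, gen]
  have : C ((q ^ l)⁻¹) * X ^ m * (C (q ^ l) * X) = C ((q ^ l)⁻¹ * q ^ l) * X ^ (m + 1) := by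
    rw [C_mul]; ring
  rw [this, inv_mul_cancel₀ hq0, C_1]
  ring

theorem coprime_gen_gen (q : ℚ) (hq : 1 < q) (m m' l : ℕ) (hl : 1 ≤ l) :
    IsCoprime (gen ℚ m) ((gen ℚ m').comp (C (q ^ l) * X)) := by
  set N := (m + 1) * (m' + 1) with hN
  have hNpos : 1 ≤ N := Nat.succ_le_of_lt (Nat.mul_pos (Nat.succ_pos _) (Nat.succ_pos _))
  have hqN : (q ^ l) ^ N ≠ 1 := by
    have : 1 < (q ^ l) ^ N := one_lt_pow₀ (one_lt_pow₀ hq (by omega)) (by omega)
    exact this.ne'
  have h1 : gen ℚ m ∣ (X : ℚ[X]) ^ N - 1 := by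
    have := sub_dvd_pow_sub_pow ((X : ℚ[X]) ^ (m + 1)) 1 (m' + 1)
    rwa [← pow_mul, one_pow] at this
  have h2 : (gen ℚ m').comp (C (q ^ l) * X) ∣ (C (q ^ l) * (X : ℚ[X])) ^ N - 1 := by
    have := sub_dvd_pow_sub_pow ((C (q ^ l) * (X : ℚ[X])) ^ (m' + 1)) 1 (m + 1)
    rw [← pow_mul, one_pow, mul_comm (m' + 1) (m + 1)] at this
    simpa [gen] using this
  have h3 : IsCoprime ((X : ℚ[X]) ^ N - 1) ((C (q ^ l) * (X : ℚ[X])) ^ N - 1) := by
    have hc : (q ^ l) ^ N - 1 ≠ 0 := sub_ne_zero.mpr hqN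
    refine ⟨C (-((q ^ l) ^ N / ((q ^ l) ^ N - 1))), C (1 / ((q ^ l) ^ N - 1)), ?_⟩
    rw [mul_pow, ← C_pow]
    have : C (-((q ^ l) ^ N / ((q ^ l) ^ N - 1))) * ((X : ℚ[X]) ^ N - 1) +
        C (1 / ((q ^ l) ^ N - 1)) * (C ((q ^ l) ^ N) * X ^ N - 1) =
        C (-((q ^ l) ^ N / ((q ^ l) ^ N - 1)) + (1 / ((q ^ l) ^ N - 1)) * (q ^ l) ^ N) * X ^ N +
        C (((q ^ l) ^ N / ((q ^ l) ^ N - 1)) - 1 / ((q ^ l) ^ N - 1)) := by
      simp only [C_add, C_mul, C_neg, C_sub]
      ring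
    rw [this]
    have e1 : -((q ^ l) ^ N / ((q ^ l) ^ N - 1)) + (1 / ((q ^ l) ^ N - 1)) * (q ^ l) ^ N = 0 := by
      field_simp; ring
    have e2 : ((q ^ l) ^ N / ((q ^ l) ^ N - 1)) - 1 / ((q ^ l) ^ N - 1) = 1 := by
      field_simp
    rw [e1, e2]
    simp
  exact IsCoprime.of_isCoprime_of_dvd_right (IsCoprime.of_isCoprime_of_dvd_left h3 h1) h2

theorem coprime_M0_M1 (q : ℚ) (hq : 1 < q) (l : ℕ) (hl : 1 ≤ l) (A : ℚ[X]) (hA : A ∈ M0 ℚ)
    (B : ℚ[X]) (hB : B ∈ M1 ℚ) : IsCoprime A (B.comp (C (q ^ l) * X)) := by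
  induction hA using Submonoid.closure_induction with
  | mem x hx =>
    obtain ⟨m, rfl⟩ := hx
    induction hB using Submonoid.closure_induction with
    | mem y hy =>
      rcases hy with rfl | ⟨m', rfl⟩
      · exact coprime_gen_X q hq m l
      · exact coprime_gen_gen q hq m m' l hl
    | one => rw [one_comp]; exact isCoprime_one_right
    | mul y z _ _ hy hz => rw [mul_comp]; exact IsCoprime.mul_right hy hz
  | one => exact isCoprime_one_left
  | mul x y _ _ hx hy => exact IsCoprime.mul_left hx hy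

theorem M0_le_M1 (R : Type*) [CommRing R] : M0 R ≤ M1 R :=
  Submonoid.closure_mono (Set.subset_insert _ _)

theorem X_pow_mul_mem_M1 (R : Type*) [CommRing R] (a : ℕ) (A : R[X]) (hA : A ∈ M0 R) :
    X ^ a * A ∈ M1 R :=
  (M1 R).mul_mem ((M1 R).pow_mem (Submonoid.subset_closure (Set.mem_insert _ _)) a)
    (M0_le_M1 R hA)

theorem eval_ne_zero_of_mem_M1 (q : ℚ) (hq : 1 < q) (B : ℚ[X]) (hB : B ∈ M1 ℚ) (v : ℕ)
    (hv : 1 ≤ v) : B.eval (q ^ v) ≠ 0 := by
  have hqv : 1 < q ^ v := one_lt_pow₀ hq (by omega)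
  induction hB using Submonoid.closure_induction with
  | mem y hy =>
    rcases hy with rfl | ⟨m, rfl⟩
    · rw [eval_X]; linarith
    · simp only [gen, eval_sub, eval_pow, eval_X, eval_one]
      have : 1 < (q ^ v) ^ (m + 1) := one_lt_pow₀ hqv (by omega)
      linarith
  | one => simp
  | mul y z _ _ hy hz => rw [eval_mul]; exact mul_ne_zero hy hz

theorem monic_of_mem_M0 (R : Type*) [CommRing R] [Nontrivial R] (A : R[X]) (hA : A ∈ M0 R) :
    A.Monic := by
  induction hA using Submonoid.closure_induction with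
  | mem y hy =>
    obtain ⟨m, rfl⟩ := hy
    have := monic_X_pow_sub_C (1 : R) (Nat.succ_ne_zero m)
    simpa [gen] using this
  | one => exact monic_one
  | mul y z _ _ hy hz => exact hy.mul hz

theorem map_mem_M0 (A : ℤ[X]) (hA : A ∈ M0 ℤ) : A.map (Int.castRingHom ℚ) ∈ M0 ℚ := by
  induction hA using Submonoid.closure_induction with
  | mem y hy =>
    obtain ⟨m, rfl⟩ := hy
    apply Submonoid.subset_closure
    exact ⟨m, by simp [gen]⟩
  | one => rw [Polynomial.map_one]; exact (M0 ℚ).one_mem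
  | mul y z _ _ hy hz => rw [Polynomial.map_mul]; exact (M0 ℚ).mul_mem hy hz

/-- Step C -/
theorem dvd_of_identity (q : ℚ) (hq : 1 < q) (G E0 : ℚ[X]) (a : ℕ) (hE0 : E0 ∈ M0 ℚ)
    (r : ℕ) (d : ℕ → ℚ) (hd : d 0 ≠ 0)
    (hid : ∑ k ∈ Finset.range (r + 1), C (d k) * G.comp (C (q ^ k) * X) *
      ∏ l ∈ (Finset.range (r + 1)).erase k, (X ^ a * E0).comp (C (q ^ l) * X) = 0) :
    E0 ∣ G := by
  classical
  have h0 : 0 ∈ Finset.range (r + 1) := Finset.mem_range.mpr (Nat.succ_pos r)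
  rw [← Finset.add_sum_erase _ _ h0] at hid
  have hcomp0 : ∀ p : ℚ[X], p.comp (C (q ^ 0) * X) = p := by
    intro p; rw [pow_zero, C_1, one_mul, comp_X]
  rw [hcomp0] at hid
  -- every other term is divisible by E0
  have hdiv : E0 ∣ ∑ k ∈ (Finset.range (r + 1)).erase 0, C (d k) * G.comp (C (q ^ k) * X) *
      ∏ l ∈ (Finset.range (r + 1)).erase k, (X ^ a * E0).comp (C (q ^ l) * X) := by
    apply Finset.dvd_sum
    intro k hk
    have hk0 : k ≠ 0 := (Finset.mem_erase.mp hk).1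
    have h0k : 0 ∈ (Finset.range (r + 1)).erase k := Finset.mem_erase.mpr ⟨hk0.symm, h0⟩
    apply Dvd.dvd.mul_left
    rw [← Finset.mul_prod_erase _ _ h0k, hcomp0]
    exact Dvd.dvd.mul_right (Dvd.intro_left _ rfl) _
  have hdiv2 : E0 ∣ C (d 0) * G * ∏ l ∈ (Finset.range (r + 1)).erase 0,
      (X ^ a * E0).comp (C (q ^ l) * X) := by
    have := eq_neg_of_add_eq_zero_left hid
    rw [this]
    exact (dvd_neg).mpr hdiv
  have hcop : IsCoprime E0 (∏ l ∈ (Finset.range (r + 1)).erase 0,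
      (X ^ a * E0).comp (C (q ^ l) * X)) := by
    apply IsCoprime.prod_right
    intro l hl
    have hl0 : l ≠ 0 := (Finset.mem_erase.mp hl).1
    exact coprime_M0_M1 q hq l (Nat.one_le_iff_ne_zero.mpr hl0) E0 hE0 _
      (X_pow_mul_mem_M1 ℚ a E0 hE0)
  have h3 := hcop.dvd_of_dvd_mul_right hdiv2
  have hu : IsUnit (C (d 0) : ℚ[X]) := Polynomial.isUnit_C.mpr (IsUnit.mk0 _ hd)
  exact (hu.dvd_mul_left).mp h3


/-- Step E: evaluating a rational function written as `G / E`. -/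
theorem eval_of_mul_eq (F : RatFunc ℚ) (G E : ℚ[X])
    (h : F * algebraMap ℚ[X] (RatFunc ℚ) E = algebraMap ℚ[X] (RatFunc ℚ) G) (x : ℚ)
    (hx : E.eval x ≠ 0) : F.eval (RingHom.id ℚ) x = G.eval x / E.eval x := by
  have h1 : F.num * E = G * F.denom := by
    apply RatFunc.algebraMap_injective ℚ
    rw [map_mul, map_mul, ← h]
    have hd : algebraMap ℚ[X] (RatFunc ℚ) F.denom ≠ 0 := RatFunc.algebraMap_ne_zero F.denom_ne_zero
    have e := (div_eq_iff hd).mp (RatFunc.num_div_denom F)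
    rw [e]
    ring
  have h2 := congrArg (Polynomial.eval x) h1
  rw [eval_mul, eval_mul] at h2
  have hden : F.denom.eval x ≠ 0 := by
    intro h0
    rw [h0, mul_zero] at h2
    have hnum : F.num.eval x = 0 := (mul_eq_zero.mp h2).resolve_right hx
    obtain ⟨s, t, hst⟩ := RatFunc.isCoprime_num_denom F
    have := congrArg (Polynomial.eval x) hst
    simp [hnum, h0] at this
  rw [RatFunc.eval, Polynomial.eval₂_id, Polynomial.eval₂_id]
  field_simp
  rw [h2, mul_comm]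


end B

end Groth.Agent.Lib.Helper93.ZetaRatA
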