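import Mathlib
import Groth.Agent.Lib.Helper93.ZetaRatA

namespace Groth.Agent.Lib.Helper93.ZetaRatB
open Polynomial Groth.Agent.Lib.Helper93.ZetaRatA

/-- the comparison map `ℤ[X] → ℚ(X)` -/
noncomputable def ι : ℤ[X] →+* RatFunc ℚ :=
  (algebraMap ℚ[X] (RatFunc ℚ)).comp (mapRingHom (Int.castRingHom ℚ))

theorem ι_apply (p : ℤ[X]) : ι p = algebraMap ℚ[X] (RatFunc ℚ) (p.map (Int.castRingHom ℚ)) := rfl

theorem ι_X : ι X = RatFunc.X := by simp [ι_apply]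

theorem ι_injective : Function.Injective ι := by
  intro p p' h
  rw [ι_apply, ι_apply] at h
  exact Polynomial.map_injective _ Int.cast_injective (RatFunc.algebraMap_injective ℚ h)

theorem ι_gen (n : ℕ) : ι (gen ℤ n) = RatFunc.X ^ (n + 1) - 1 := by
  rw [gen, map_sub, map_pow, ι_X, map_one]

theorem exists_rep (F : RatFunc ℚ)
    (hF : F ∈ Subring.closure
      (({RatFunc.X, (RatFunc.X : RatFunc ℚ)⁻¹} : Set (RatFunc ℚ)) ∪
        Set.range fun n : ℕ => ((RatFunc.X : RatFunc ℚ) ^ (n + 1) - 1)⁻¹)) :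
    ∃ (a : ℕ) (E0 G : ℤ[X]), E0 ∈ M0 ℤ ∧ F * (RatFunc.X ^ a * ι E0) = ι G := by
  induction hF using Subring.closure_induction with
  | mem x hx =>
    rcases hx with (rfl | rfl) | ⟨n, rfl⟩
    · exact ⟨0, 1, X, (M0 ℤ).one_mem, by simp [ι_X]⟩
    · refine ⟨1, 1, 1, (M0 ℤ).one_mem, ?_⟩
      simp only [pow_one, map_one, mul_one]
      exact inv_mul_cancel₀ RatFunc.X_ne_zero
    · refine ⟨0, gen ℤ n, 1, Submonoid.subset_closure ⟨n, rfl⟩, ?_⟩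
      have hne : ι (gen ℤ n) ≠ 0 := by
        rw [Ne, ← map_zero ι]
        intro h
        exact (monic_of_mem_M0 ℤ _ (Submonoid.subset_closure ⟨n, rfl⟩)).ne_zero (ι_injective h)
      rw [pow_zero, one_mul, map_one]
      show (RatFunc.X ^ (n + 1) - 1)⁻¹ * ι (gen ℤ n) = 1
      rw [← ι_gen]
      exact inv_mul_cancel₀ hne
  | zero => exact ⟨0, 1, 0, (M0 ℤ).one_mem, by simp⟩
  | one => exact ⟨0, 1, 1, (M0 ℤ).one_mem, by simp⟩
  | add x y _ _ hx hy =>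
    obtain ⟨a1, E1, G1, hE1, h1⟩ := hx
    obtain ⟨a2, E2, G2, hE2, h2⟩ := hy
    refine ⟨a1 + a2, E1 * E2, G1 * X ^ a2 * E2 + G2 * X ^ a1 * E1, (M0 ℤ).mul_mem hE1 hE2, ?_⟩
    simp only [map_add, map_mul, map_pow, ι_X, ← h1, ← h2]
    ring
  | neg x _ hx =>
    obtain ⟨a1, E1, G1, hE1, h1⟩ := hx
    exact ⟨a1, E1, -G1, hE1, by rw [map_neg, ← h1]; ring⟩
  | mul x y _ _ hx hy =>
    obtain ⟨a1, E1, G1, hE1, h1⟩ := hx
    obtain ⟨a2, E2, G2, hE2, h2⟩ := hy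
    refine ⟨a1 + a2, E1 * E2, G1 * G2, (M0 ℤ).mul_mem hE1 hE2, ?_⟩
    simp only [map_mul, ← h1, ← h2]
    ring

theorem main (q : ℤ) (hq : 1 < q) (F : RatFunc ℚ)
    (hF : F ∈ Subring.closure
      (({RatFunc.X, (RatFunc.X : RatFunc ℚ)⁻¹} : Set (RatFunc ℚ)) ∪
        Set.range fun n : ℕ => ((RatFunc.X : RatFunc ℚ) ^ (n + 1) - 1)⁻¹))
    (hrat : ∃ P Q : Polynomial ℚ, Q ≠ 0 ∧
      (PowerSeries.exp ℚ).subst
          (PowerSeries.mk fun v : ℕ => if v = 0 then (0 : ℚ)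
            else F.eval (RingHom.id ℚ) ((q : ℚ) ^ v) / (v : ℚ))
        * (Q : PowerSeries ℚ) = (P : PowerSeries ℚ)) :
    ∃ (P : Polynomial ℤ) (a : ℕ),
      F * RatFunc.X ^ a = algebraMap (Polynomial ℚ) (RatFunc ℚ) (P.map (Int.castRingHom ℚ)) := by
  obtain ⟨a, E0, G, hE0, hFG⟩ := exists_rep F hF
  have hq' : (1 : ℚ) < (q : ℚ) := by exact_mod_cast hq
  have hE0q := map_mem_M0 E0 hE0
  have hE1 := X_pow_mul_mem_M1 ℚ a _ hE0q
  have hFG' : F * algebraMap ℚ[X] (RatFunc ℚ) (X ^ a * E0.map (Int.castRingHom ℚ)) =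
      algebraMap ℚ[X] (RatFunc ℚ) (G.map (Int.castRingHom ℚ)) := by
    rw [map_mul, map_pow, RatFunc.algebraMap_X]; exact hFG
  have hEne : ∀ v, 1 ≤ v → (X ^ a * E0.map (Int.castRingHom ℚ)).eval ((q : ℚ) ^ v) ≠ 0 :=
    fun v hv => eval_ne_zero_of_mem_M1 q hq' _ hE1 v hv
  have ha : ∀ v, 1 ≤ v → F.eval (RingHom.id ℚ) ((q : ℚ) ^ v) =
      (G.map (Int.castRingHom ℚ)).eval ((q : ℚ) ^ v) /
        (X ^ a * E0.map (Int.castRingHom ℚ)).eval ((q : ℚ) ^ v) :=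
    fun v hv => eval_of_mul_eq F _ _ hFG' _ (hEne v hv)
  obtain ⟨P, Q, hQ, hPQ⟩ := hrat
  obtain ⟨C, R, hC, hCR⟩ := recurrence (fun v => F.eval (RingHom.id ℚ) ((q : ℚ) ^ v)) P Q hQ hPQ
  obtain ⟨r, d, w0, hd0, hrec⟩ :=
    recurrence' (fun v => F.eval (RingHom.id ℚ) ((q : ℚ) ^ v)) C R hC hCR
  have hid := poly_identity q hq' (G.map (Int.castRingHom ℚ)) (X ^ a * E0.map (Int.castRingHom ℚ))
    _ hEne ha r d w0 hrec
  have hdvd : E0.map (Int.castRingHom ℚ) ∣ G.map (Int.castRingHom ℚ) :=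
    dvd_of_identity q hq' _ _ a hE0q r d hd0 hid
  have hmon := monic_of_mem_M0 ℤ E0 hE0
  have hdvdZ : E0 ∣ G := (Polynomial.map_dvd_map _ Int.cast_injective hmon).mp hdvd
  obtain ⟨H, rfl⟩ := hdvdZ
  refine ⟨H, a, ?_⟩
  have hne : ι E0 ≠ 0 := by
    rw [Ne, ← map_zero ι]
    intro h
    exact hmon.ne_zero (ι_injective h)
  apply mul_right_cancel₀ hne
  rw [← ι_apply, mul_assoc, hFG, map_mul, mul_comm]

end Groth.Agent.Lib.Helper93.ZetaRatB
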